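/-
3-local recognition of `A₉`, part 2: weak closure of `J` and the centralisers of elements of weight two and three.
-/
import Cfsg.Agent.Rec.A9M
import Cfsg.Agent.Rec.Gen2
import Cfsg.Agent.Rec.A8C
import Cfsg.Agent.Fgs.STMain
import Cfsg.Agent.S0117
import Cfsg.Agent.Even.Amb

set_option autoImplicit false
set_option maxRecDepth 100000

namespace CL.A9R

open Subgroup Equiv Cfsg CL.Perm CL.Perm.A9N CL.Grp CL.Rec
open scoped Pointwise

variable {G : Type*} [Group G]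

theorem mem_cent {z x : G} : x ∈ centralizer ({z} : Set G) ↔ x * z = z * x := mem_centralizer_singleton_iff

theorem cent_conj {H : Subgroup G} {x h : G} (hx : centralizer {x} ≤ H) (hh : h ∈ H) :
    centralizer {h * x * h⁻¹} ≤ H := fun c hc =>
  (mul_mem_cancel_left (inv_mem hh)).1 ((mul_mem_cancel_right hh).1 (hx (mem_cent.2 (by
    calc _ = h⁻¹ * (c * (h * x * h⁻¹)) * h := by group
      _ = _ := by rw [mem_cent.1 hc]; group))))

/-- the hypotheses -/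
structure Hy (f : K0 →* G) : Prop where
  inj : Function.Injective f
  nJ : normalizer (J0.map f : Set G) = f.range
  ca : pPrimeCoreOf 3 (centralizer {f a0}) = ⊥
  cy : pPrimeCoreOf 3 (centralizer {f y0}) = ⊥

namespace Hy

variable {f : K0 →* G} (h : Hy f)
include h

theorem eq_iff {k l : K0} : f k = f l ↔ k = l := h.inj.eq_iff

theorem mJ {k : K0} : f k ∈ J0.map f ↔ k ∈ J0 := mem_map_iff_mem h.inj

theorem comm_iff {k l : K0} : f k * f l = f l * f k ↔ k * l = l * k := by rw [← map_mul, ← map_mul, h.eq_iff]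

theorem cube_iff {k : K0} {n : ℕ} : f k ^ n = 1 ↔ k ^ n = 1 := by rw [← map_pow, map_eq_one_iff f h.inj]

theorem conj_iff {v k l : K0} : f v * f k * (f v)⁻¹ = f l ↔ v * k * v⁻¹ = l := by
  rw [← map_inv, ← map_mul, ← map_mul, h.eq_iff]

omit h in
theorem J_comm {a b : G} (ha : a ∈ J0.map f) (hb : b ∈ J0.map f) : a * b = b * a := by
  obtain ⟨a, ha, rfl⟩ := ha
  obtain ⟨b, hb, rfl⟩ := hb
  exact ((J0_comm ha hb).map f).eq

omit h in
theorem J_cube {a : G} (ha : a ∈ J0.map f) : a ^ 3 = 1 := by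
  obtain ⟨a, ha, rfl⟩ := ha
  rw [← map_pow, J0_cube ha, map_one]

omit h in
theorem J_three : IsPGroup 3 (J0.map f) := J0_three.map f

omit h in
theorem J_cent {a : G} (ha : a ∈ J0.map f) : J0.map f ≤ centralizer {a} := fun _ hb => mem_cent.2 (J_comm hb ha)

theorem card_J : Nat.card (J0.map f) = 27 := (card_map_of_injective h.inj).trans card_J0

theorem ord {k : K0} (hk : k ∈ J0) (h1 : k ≠ 1) : orderOf (f k) = 3 :=
  haveI := Fact.mk Nat.prime_three
  (orderOf_injective f h.inj k).trans (orderOf_eq_prime (J0_cube hk) h1)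

theorem conj_J {g j : G} (hg : g ∈ f.range) (hj : j ∈ J0.map f) : g * j * g⁻¹ ∈ J0.map f :=
  (mem_normalizer_iff.1 (h.nJ ▸ hg) j).1 hj

theorem card_cent {k : K0} (hk : centralizer {f k} ≤ f.range) :
    Nat.card (centralizer ({f k} : Set G)) = Nat.card (centralizer ({k} : Set K0)) := by
  refine Eq.trans ?_ (card_map_of_injective h.inj)
  congr 2
  refine le_antisymm (fun g hg => ?_) (map_le_iff_le_comap.2 fun l hl => mem_cent.2 (h.comm_iff.2 (mem_cent.1 hl)))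
  obtain ⟨l, rfl⟩ := hk hg
  exact mem_map_of_mem f (mem_cent.2 (h.comm_iff.1 (mem_cent.1 hg)))

variable [Finite G]

theorem le_or_card {B : Subgroup G} (hB : B ≤ f.range) (h3 : ∀ b ∈ B, b ^ 3 = 1)
    (hc : ∀ a ∈ B, ∀ b ∈ B, a * b = b * a) : B ≤ J0.map f ∨ Nat.card B ≤ 9 := by
  refine or_iff_not_imp_left.2 fun hn => ?_
  obtain ⟨b, hb, hbJ⟩ := SetLike.not_le_iff_exists.1 hn
  obtain ⟨k, rfl⟩ := hB hb
  rw [h.mJ] at hbJ
  have h9 : Nat.card (centralizer ({k} : Set K0)) = 9 := by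
    rcases cls3 k (h.cube_iff.1 (h3 _ hb)) with rfl | e | e | ⟨-, e | ⟨-, v, rfl⟩⟩
    · exact absurd (one_mem _) hbJ
    · exact absurd e.2.1 hbJ
    · exact absurd e.2.1 hbJ
    · exact absurd e.1 hbJ
    · exact (RecA8.card_cent_conj _ _).trans (k6 (y := [1]) (by simp)).2.2.2.1
  rw [← h9, ← card_map_of_injective h.inj]
  refine card_le_of_le fun c hc' => ?_
  obtain ⟨l, rfl⟩ := hB hc'
  exact mem_map_of_mem f (mem_cent.2 (h.comm_iff.1 (hc _ hc' _ hb)))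

theorem wc {g : G} (hg : ∀ j ∈ J0.map f, g * j * g⁻¹ ∈ f.range) : g ∈ f.range := by
  have m : ∀ b ∈ MulAut.conj g • J0.map f, ∃ j ∈ J0.map f, b = g * j * g⁻¹ := fun b hb =>
    ⟨_, (mem_conj_smul_iff _ _ _).1 hb, by group⟩
  rcases h.le_or_card (B := MulAut.conj g • J0.map f) (fun b hb => by
      obtain ⟨j, hj, rfl⟩ := m b hb; exact hg j hj) (fun b hb => by
      obtain ⟨j, hj, rfl⟩ := m b hb; rw [conj_pow, J_cube hj]; group) (fun a ha b hb => by
      obtain ⟨j, hj, rfl⟩ := m b hb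
      obtain ⟨i, hi, rfl⟩ := m a ha
      rw [conj_mul, conj_mul, J_comm hi hj]) with e | e
  · exact h.nJ ▸ mem_normalizer_fintype fun j hj => e (conj_mem_conj_smul g hj)
  · rw [card_conj_smul, h.card_J] at e; omega

theorem le_H {P : Subgroup G} (hP : IsPGroup 3 P) (hJ : J0.map f ≤ P) : P ≤ f.range := by
  have := Fact.mk Nat.prime_three
  by_contra hn
  obtain ⟨k, hk, h1, h2⟩ := CL.Inv.exists_mem_normalizer_of_lt_pgroup hP
    (lt_of_le_of_ne inf_le_left fun e : P ⊓ f.range = P => hn (e ▸ inf_le_right))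
  exact h1 ⟨hk, h.wc fun j hj => ((mem_normalizer_iff.1 h2 j).1 ⟨hJ hj, map_le_range _ _ hj⟩).2⟩

theorem fus {C : Subgroup G} {g : G} (hJ : J0.map f ≤ C) (hg : ∀ j ∈ J0.map f, g * j * g⁻¹ ∈ C) :
    ∃ c ∈ C, c * g ∈ f.range := by
  have := Fact.mk Nat.prime_three
  obtain ⟨P, hP, hJP⟩ := exists_isSylowIn_ge J_three hJ
  obtain ⟨c, hc, e⟩ := hP.exists_conj_le (U := MulAut.conj g • J0.map f) (J_three.conj_smul g) fun b hb => by
    simpa [mul_assoc] using hg _ ((mem_conj_smul_iff _ _ _).1 hb)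
  refine ⟨c, hc, h.wc fun j hj => h.le_H hP.isPGroup hJP ?_⟩
  simpa [mul_assoc] using e (conj_mem_conj_smul c (conj_mem_conj_smul g hj))

theorem fus' {g x : G} (hx : x ∈ J0.map f) (hg : g * x * g⁻¹ ∈ J0.map f) :
    ∃ c ∈ centralizer {g * x * g⁻¹}, c * g ∈ f.range :=
  h.fus (J_cent hg) fun j hj => mem_cent.2 (by rw [conj_mul, conj_mul, J_comm hj hx])

theorem mem_of_conj {g x : G} (hx : x ∈ J0.map f) (hg : g * x * g⁻¹ ∈ J0.map f)
    (hc : centralizer {g * x * g⁻¹} ≤ f.range) : g ∈ f.range :=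
  h.wc fun j hj => hc (mem_cent.2 (by rw [conj_mul, conj_mul, J_comm hj hx]))

theorem isConj {k l : K0} (hk : k ∈ J0) (hl : l ∈ J0) (e : IsConj (f k) (f l)) : ∃ v, v * k * v⁻¹ = l := by
  obtain ⟨g, e⟩ := isConj_iff.1 e
  obtain ⟨c, hc, v, hv⟩ := h.fus' (h.mJ.2 hk) (e ▸ h.mJ.2 hl)
  refine ⟨v, h.conj_iff.1 ?_⟩
  rw [e] at hc
  calc _ = c * (g * f k * g⁻¹) * c⁻¹ := by rw [hv]; group
    _ = _ := by rw [e, mem_cent.1 hc]; group

theorem not_zy : ¬ IsConj (f z3) (f y0) := fun e =>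
  let ⟨v, hv⟩ := h.isConj A9R.mJ.2.2.1 A9R.mJ.2.2.2.1 e; (not_conj v).1 hv

theorem not_za : ¬ IsConj (f z3) (f a0) := fun e =>
  let ⟨v, hv⟩ := h.isConj A9R.mJ.2.2.1 A9R.mJ.2.2.2.2.1 e; (not_conj v).2.1 hv

theorem not_ya : ¬ IsConj (f y0) (f a0) := fun e =>
  let ⟨v, hv⟩ := h.isConj A9R.mJ.2.2.2.1 A9R.mJ.2.2.2.2.1 e; (not_conj v).2.2 hv

theorem cent_a : centralizer {f a0} ≤ f.range := by
  have := Fact.mk Nat.prime_three
  have hJ : J0.map f ≤ centralizer {f a0} := J_cent (h.mJ.2 A9R.mJ.2.2.2.2.1)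
  have hc := h.ca
  have ha : ∀ g ∈ centralizer ({f a0} : Set G), g ∈ f.range → g ^ 9 = 1 := by
    rintro _ hg ⟨k, rfl⟩
    exact h.cube_iff.2 (m_a k (h.comm_iff.1 (mem_cent.1 hg)))
  generalize centralizer ({f a0} : Set G) = C at *
  obtain ⟨P, hP⟩ : ∃ P : Sylow 3 C, (J0.map f).subgroupOf C ≤ P := (J_three.comap_subtype (K := C)).exists_le_sylow
  have h1 := h.le_H (P.isPGroup'.map C.subtype) fun j hj => ⟨⟨j, hJ hj⟩, hP hj, rfl⟩
  have cJ : Nat.card ((J0.map f).subgroupOf C) = 27 :=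
    (Nat.card_congr (subgroupOfEquivOfLe hJ).toEquiv).trans h.card_J
  have key : ∀ B : Subgroup C, B ≤ P → IsElementaryAbelian 3 B → B ≤ (J0.map f).subgroupOf C ∨ Nat.card B ≤ 9 :=
    fun B h2 h3 => (h.le_or_card ((map_mono h2).trans h1) (by
      rintro _ ⟨b, hb, rfl⟩; exact congrArg Subtype.val (h3.2 b hb)) (by
      rintro _ ⟨a, ha, rfl⟩ _ ⟨b, hb, rfl⟩
      exact congrArg (fun x : B => ((x : C) : G)) (h3.1.1.1 ⟨a, ha⟩ ⟨b, hb⟩))).imp map_le_iff_le_comap.1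
      fun e => card_map_subtype B ▸ e
  have hE : IsElementaryAbelian 3 ((J0.map f).subgroupOf C) :=
    ⟨⟨⟨fun a b => Subtype.ext (Subtype.ext (J_comm a.2 b.2))⟩⟩, fun a ha => Subtype.ext (J_cube ha)⟩
  have hT : thompsonSubgroupOf 3 (P : Subgroup C) = (J0.map f).subgroupOf C :=
    le_antisymm (CL.Loc.thompsonSubgroupOf_le_iff.2 fun A hA => (key A hA.1 hA.2.1).resolve_right fun e => by
      have := hA.2.2 _ hP hE
      omega) (CL.Loc.le_thompsonSubgroupOf ⟨hP, hE, fun B h2 h3 => (key B h2 h3).elim card_le_of_le fun e => by omega⟩)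
  have hZ : centerThompsonOf 3 (P : Subgroup C) = (J0.map f).subgroupOf C := by
    rw [centerThompsonOf, hT]
    exact inf_eq_left.2 fun a ha b hb => Subtype.ext (J_comm hb ha)
  obtain ⟨N, hN, h2, k, h3⟩ := hasNormalPComplement_iff_exists_normal.1 ((Cfsg.Agent.S0117.result (by decide) P).2
    (hZ ▸ hasNormalPComplement_of_isPGroup fun n => ⟨2, Subtype.ext (Subtype.ext (ha _ n.1.2 (h.wc fun j hj =>
      map_le_range _ _ ((mem_normalizer_iff.1 n.2 ⟨j, hJ hj⟩).1 hj))))⟩))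
  obtain rfl : N = ⊥ := le_bot_iff.1 ((map_eq_bot_iff_of_injective _ C.subtype_injective).1 hc ▸ le_pPrimeCore h2)
  exact h.le_H (IsPGroup.of_card (index_bot.symm.trans h3)) hJ

omit [Finite G] in
theorem mem_J_of_y {k : K0} (e : f k ∈ centralizer {f y0}) {j : ℕ} (hj : f k ^ 3 ^ j = 1) : f k ∈ J0.map f := by
  have e2 : s0 * s0 = 1 := by simp only [ck_inj, ck_mul, ck_one, s0, ck_wd]; decide +kernel
  refine h.mJ.2 (((m_y k (h.comm_iff.1 (mem_cent.1 e))).1).elim id fun e => ?_)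
  refine CL.Even.mem_of_pow_mem_of_coprime (n := 2) (Nat.Coprime.coprime_dvd_left
    (orderOf_dvd_of_pow_eq_one (h.cube_iff.1 hj)) (Nat.Coprime.pow_left j (by decide))) ?_
  have := mul_mem (J0_normal.conj_mem _ e s0) e
  rwa [← mul_assoc s0, e2, one_mul, inv_eq_of_mul_eq_one_right e2, mul_assoc, ← mul_assoc s0, e2, one_mul,
    ← pow_two] at this

theorem cent_y : centralizer {f y0} ≤ f.range := by
  have := Fact.mk Nat.prime_three
  have yJ := h.mJ.2 A9R.mJ.2.2.2.1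
  have hJ : J0.map f ≤ centralizer {f y0} := J_cent yJ
  have e1 : s0 * y0 = y0 * s0 ∧ s0 * s0 = 1 ∧ s0 * z3 * s0⁻¹ = z3⁻¹ ∧ s0 * (z1 * z2⁻¹) * s0⁻¹ = (z1 * z2⁻¹)⁻¹ ∧
      z3 ≠ 1 ∧ z1 * z2⁻¹ ≠ 1 ∧ z3 ≠ z1 * z2⁻¹ ∧ z3 ≠ (z1 * z2⁻¹)⁻¹ := by
    simp only [ck_inj, ne_eq, ck_mul, ck_inv, ck_one, y0, s0, z1, z2, z3, ck_wd]; decide +kernel
  obtain ⟨e1, e2, e3, e4, e5, e6, e7, e8⟩ := e1
  have sD : f s0 ∈ centralizer {f y0} := mem_cent.2 (h.comm_iff.2 e1)
  obtain ⟨L, h1, h2, h3, h4, h5, h6⟩ := exists_ker hJ (fun _ => J_cube) (fun _ h _ => J_comm h) fun n hn hN j hj => by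
    obtain ⟨k, rfl⟩ := h.nJ ▸ hN
    exact h.mem_J_of_y hn hj
  have inL : ∀ k ∈ J0, s0 * k * s0⁻¹ = k⁻¹ → f k ∈ L := fun k hk e =>
    h4 _ (h.mJ.2 hk) _ sD (by rw [← map_inv f k, h.conj_iff, e])
  have dec : ∀ j ∈ J0.map f, ∃ i : ℕ, f y0 ^ i * j ∈ L ∧ f s0 * (f y0 ^ i * j) * (f s0)⁻¹ = (f y0 ^ i * j)⁻¹ := by
    rintro _ ⟨k, hk, rfl⟩
    obtain ⟨i, hi⟩ := (m_J k hk).1
    refine ⟨i, ?_⟩
    rw [← map_pow, ← map_mul, ← map_inv f (_ * _), h.conj_iff]
    exact ⟨inL _ (mul_mem (pow_mem A9R.mJ.2.2.2.1 _) hk) hi, hi⟩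
  have inv : ∀ j ∈ J0.map f, j ∈ L → f s0 * j * (f s0)⁻¹ = j⁻¹ := fun j hj hL => by
    obtain ⟨i, a1, a2⟩ := dec j hj
    rwa [h5 _ (pow_mem yJ i) ((mul_mem_cancel_right hL).1 a1) fun n hn _ =>
      (Commute.pow_right (mem_cent.1 hn) i).eq, one_mul] at a2
  have nH : ∀ n ∈ L, n ∈ normalizer ((J0.map f ⊓ L : Subgroup G) : Set G) → n ∈ f.range := fun n hn hN =>
    h.wc fun j hj => by
      obtain ⟨i, a1, -⟩ := dec j hj
      have a2 := (mem_inf.1 ((mem_normalizer_iff.1 hN _).1 ⟨mul_mem (pow_mem yJ i) hj, a1⟩)).1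
      rw [← mul_assoc, (Commute.pow_right (mem_cent.1 (h1 hn)) i).eq, mul_assoc, mul_assoc,
        mul_mem_cancel_left (pow_mem yJ i), ← mul_assoc] at a2
      exact map_le_range _ _ a2
  have hS : IsSylowIn 3 (J0.map f ⊓ L) L := isSylowIn_of_loc inf_le_right (J_three.to_le inf_le_left)
    fun n hn hN j hj => by
      obtain ⟨k, rfl⟩ := nH n hn hN
      exact ⟨h.mem_J_of_y (h1 hn) hj, hn⟩
  have sL : f s0 ∈ L := h3 _ sD (h.cube_iff.2 (by rw [pow_mul s0 2 2, pow_two s0, e2, one_pow]))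
  have nP : ∀ n : L, n ∈ normalizer ((hS.toSylow : Subgroup L) : Set L) → (n : G) ∈ f.range := fun n hn =>
    nH n n.2 (mem_normalizer_fintype fun x hx => (mem_normalizer_iff.1 hn ⟨x, hx.2⟩).1 hx)
  have hy : CL.ST.Hyp hS.toSylow :=
    { comm := ⟨⟨fun a b => Subtype.ext (Subtype.ext (J_comm a.2.1 b.2.1))⟩⟩
      ncyc := fun ⟨g, hg⟩ => by
        have m : ∀ k ∈ J0, s0 * k * s0⁻¹ = k⁻¹ → k ≠ 1 → f k ∈ zpowers ((g : L) : G) := fun k hk e _ => by
          obtain ⟨n, hn⟩ := hg ⟨⟨f k, inL k hk e⟩, h.mJ.2 hk, inL k hk e⟩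
          exact ⟨n, congrArg (fun x : (hS.toSylow : Subgroup L) => ((x : L) : G)) hn⟩
        have m1 := m _ A9R.mJ.2.2.1 e3 e5
        have m2 := m _ (mul_mem A9R.mJ.1 (inv_mem A9R.mJ.2.1)) e4 e6
        have o : orderOf ((g : L) : G) = 3 := orderOf_eq_prime (J_cube g.2.1) fun e => by
          rw [e, zpowers_one_eq_bot, mem_bot, map_eq_one_iff f h.inj] at m1; exact e5 m1
        rw [mem_zpowers_three o, map_eq_one_iff f h.inj] at m1 m2
        rcases m1.resolve_left e5 with a | a <;> rcases m2.resolve_left e6 with b | b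
        · exact e7 (h.inj (a.trans b.symm))
        · exact e8 (h.inj (by rw [map_inv, b, inv_inv, a]))
        · exact e8 (h.inj (by rw [map_inv, b, a]))
        · exact e7 (h.inj (a.trans b.symm))
      cases := fun n hn => by
        obtain ⟨k, e⟩ := nP n hn
        have a0 : f k ∈ centralizer {f y0} := by rw [e]; exact h1 n.2
        rcases (m_y k (h.comm_iff.1 (mem_cent.1 a0))).1 with a | a
        · rw [← h.mJ, e] at a
          exact .inl fun x hx => Subtype.ext (mul_inv_eq_iff_eq_mul.2 (J_comm a hx.1))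
        · rw [← h.mJ, map_mul, e] at a
          refine .inr fun x hx => Subtype.ext ?_
          have b := J_comm a hx.1
          have c := inv _ hx.1 hx.2
          have d : (f s0)⁻¹ = f s0 := inv_eq_of_mul_eq_one_right (by rw [← map_mul, e2, map_one])
          simp only [coe_mul, coe_inv, coe_subtype] at b c ⊢
          calc (n : G) * x * (n : G)⁻¹ = (f s0)⁻¹ * (f s0 * n * x * (f s0 * n)⁻¹) * f s0 := by group
            _ = _ := by rw [b, mul_inv_cancel_right, d, ← c, d]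
      inv := ⟨⟨_, sL⟩, mem_normalizer_fintype fun x hx => ⟨h.conj_J ⟨_, rfl⟩ hx.1, (_ * x * _ : L).2⟩,
        fun x hx => Subtype.ext (inv _ hx.1 hx.2)⟩ }
  have hn := hy.normal (by decide) fun N hN h3 => le_bot_iff.1 ((map_eq_bot_iff_of_injective _ L.subtype_injective).1
    (le_bot_iff.1 (h.cy ▸ pPrimeCoreOf_le_of_le_normalizer h1 h2)) ▸ le_pPrimeCore_of_not_dvd h3)
  intro d hd
  obtain ⟨l, hl, v, hv, rfl⟩ := h6 d hd
  exact mul_mem (nP ⟨l, hl⟩ (le_normalizer_of_normal (mem_top _))) (map_le_range _ _ hv)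

theorem not_seven : ¬ 3 ^ 5 ∣ Nat.card G := fun e => by
  have := Fact.mk Nat.prime_three
  obtain ⟨P, hP⟩ := J_three (f := f).exists_le_sylow
  have h1 := card_dvd_of_le (h.le_H P.isPGroup' hP)
  rw [Nat.card_congr (MonoidHom.ofInjective h.inj).symm.toEquiv, card_K0] at h1
  have h2 : 3 ^ 5 ∣ Nat.card P := by
    rw [P.card_eq_multiplicity]
    exact pow_dvd_pow _ ((Nat.prime_three.pow_dvd_iff_le_factorization Nat.card_pos.ne').1 e)
  exact absurd (h2.trans h1) (by decide)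

end Hy

end CL.A9R
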