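/-
3-local recognition of `A₉`, part 3: arithmetic of nine columns of a character table.
-/
import Cfsg.Agent.Base

set_option autoImplicit false
set_option maxRecDepth 100000

namespace CL.A9R

open Finset

/-- Bessel's inequality -/
theorem bessel {ι κ : Type*} [Fintype ι] [Fintype κ] [DecidableEq κ] (F : κ → ι → ℝ) (N : κ → ℝ)
    (h : ∀ k l, ∑ i, F k i * F l i = if k = l then N k else 0) (hN : ∀ k, 0 < N k) (i : ι) :
    ∑ k, F k i ^ 2 / N k ≤ 1 := by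
  have h1 : ∑ j, (∑ k, F k i / N k * F k j) ^ 2 = ∑ k, F k i ^ 2 / N k := by
    simp only [sq, sum_mul_sum]
    rw [sum_comm]
    refine sum_congr rfl fun k _ => ?_
    rw [sum_comm]
    have : ∀ l, ∑ j, F k i / N k * F k j * (F l i / N l * F l j) =
        if k = l then F k i * F k i / N k else 0 := fun l => by
      rw [show (∑ j, F k i / N k * F k j * (F l i / N l * F l j)) = F k i / N k * (F l i / N l) *
        ∑ j, F k j * F l j by rw [mul_sum]; exact sum_congr rfl fun j _ => by ring, h]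
      split_ifs with e
      · subst e; field_simp [(hN k).ne']
      · exact mul_zero _
    simp only [this, sum_ite_eq, mem_univ, if_true]
  have h2 := single_le_sum (f := fun j => (∑ k, F k i / N k * F k j) ^ 2) (fun j _ => sq_nonneg _) (mem_univ i)
  rw [h1, show ∑ k, F k i / N k * F k i = ∑ k, F k i ^ 2 / N k from sum_congr rfl fun k _ => by ring] at h2
  nlinarith

/-- the cubic form -/
def Lam (z y a : ℤ) : ℤ := z * a * z + a * a * z - 2 * (y * a * y) - 2 * (a * a * y) - 2 * (z * z * y) -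
  2 * (z * y * y) + 6 * (z * a * y)

/-- the quadratic form -/
def Phi (z e k l y n a t u : ℤ) : ℤ := 85 * (z * z) + 234 * (z * e) + 288 * (z * k) - 4 * (z * y) + 180 * (z * n) -
  76 * (z * a) - 72 * (z * t) - 324 * (z * u) + 81 * (e * e) + 1296 * (e * k) + 504 * (e * y) + 1296 * (e * n) -
  468 * (e * a) + 1188 * (e * u) + 612 * (y * k) + 1620 * (n * k) - 144 * (a * k) + 216 * (t * k) - 4212 * (l * l) -
  8 * (y * y) + 288 * (y * n) + 128 * (y * a) + 720 * (y * t) + 648 * (n * n) + 288 * (n * a) + 432 * (n * t) +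
  432 * (n * u) + 64 * (a * a) + 576 * (a * t) - 144 * (a * u) + 288 * (t * t) + 1440 * (t * u)

/-- an interval -/
def iv (n : ℕ) : List ℤ := (List.range (2 * n + 1)).map fun i : ℕ => (i : ℤ) - n

theorem mem_iv {n : ℕ} {z : ℤ} (h : z * z < (n + 1) * (n + 1)) : z ∈ iv n := by
  have h1 : -(n + 1 : ℤ) < z ∧ z < n + 1 := abs_lt.1 (abs_lt_of_sq_lt_sq (by nlinarith) (by positivity))
  exact List.mem_map.2 ⟨(z + n).toNat, List.mem_range.2 (by omega), by omega⟩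

theorem row_aux : ∀ z ∈ iv 10, ∀ e ∈ iv 3, ∀ k ∈ iv 2, (z + e + 2 * k) % 4 = 0 → ∀ l ∈ iv 1,
    (z - e + 2 * l) % 4 = 0 → 3 * (z * z) + 27 * (e * e) + 54 * (k * k) + 162 * (l * l) < 324 → ∀ y ∈ iv 7,
    (y - z) % 3 = 0 → ∀ n ∈ iv 2, (y + n) % 2 = 0 → 3 * (z * z) + 27 * (e * e) + 54 * (k * k) + 162 * (l * l) +
      6 * (y * y) + 54 * (n * n) < 324 → ∀ a ∈ iv 8, (2 * a - z - y) % 9 = 0 → ∀ t ∈ iv 2, (t - a) % 3 = 0 →
    ∀ u ∈ iv 2, (u - a) % 3 = 0 → 3 * (z * z) + 27 * (e * e) + 54 * (k * k) + 162 * (l * l) + 6 * (y * y) +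
      54 * (n * n) + 4 * (a * a) + 36 * (t * t) + 36 * (u * u) < 324 → 0 ≤ Phi z e k l y n a t u ∧
      (Lam z y a = 0 ∨ 1296 ≤ Phi z e k l y n a t u ∧ (Lam z y a = 108 ∨ Lam z y a = -108 ∨
        1296 < Phi z e k l y n a t u)) := by
  decide +kernel

theorem row {z e k l y n a t u : ℤ} (h1 : (z + e + 2 * k) % 4 = 0) (h2 : (z - e + 2 * l) % 4 = 0)
    (h3 : (y - z) % 3 = 0) (h4 : (y + n) % 2 = 0) (h5 : (2 * a - z - y) % 9 = 0) (h6 : (t - a) % 3 = 0)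
    (h7 : (u - a) % 3 = 0) (h : 3 * (z * z) + 27 * (e * e) + 54 * (k * k) + 162 * (l * l) + 6 * (y * y) +
      54 * (n * n) + 4 * (a * a) + 36 * (t * t) + 36 * (u * u) < 324) : 0 ≤ Phi z e k l y n a t u ∧
      (Lam z y a = 0 ∨ 1296 ≤ Phi z e k l y n a t u ∧ (Lam z y a = 108 ∨ Lam z y a = -108 ∨
        1296 < Phi z e k l y n a t u)) := by
  have := mul_self_nonneg z; have := mul_self_nonneg e; have := mul_self_nonneg k; have := mul_self_nonneg l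
  have := mul_self_nonneg y; have := mul_self_nonneg n; have := mul_self_nonneg a; have := mul_self_nonneg t
  have := mul_self_nonneg u
  exact row_aux z (mem_iv (by push_cast; omega)) e (mem_iv (by push_cast; omega)) k (mem_iv (by push_cast; omega)) h1
    l (mem_iv (by push_cast; omega)) h2 (by omega) y (mem_iv (by push_cast; omega)) h3 n
    (mem_iv (by push_cast; omega)) h4 (by omega) a (mem_iv (by push_cast; omega)) h5 t
    (mem_iv (by push_cast; omega)) h6 u (mem_iv (by push_cast; omega)) h7 h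

/-- the end of the argument -/
theorem final {ι : Type*} [Fintype ι] {o : ι} {P L d : ι → ℤ} {g : ℕ} (hP : ∑ i, P i = 1296 + P o) (ho : L o = 0)
    (h : ∀ i, 0 ≤ P i ∧ (L i = 0 ∨ 1296 ≤ P i ∧ (L i = 108 ∨ L i = -108 ∨ 1296 < P i))) (hd : ∀ i, d i ≠ 0)
    (e : (g : ℚ) * ∑ i, (L i : ℚ) / d i = -472392) : 3 ^ 5 ∣ g := by
  classical
  rw [← add_sum_erase _ _ (mem_univ o), add_comm, add_left_inj] at hP
  obtain ⟨i, hi⟩ : ∃ i, L i ≠ 0 := by
    by_contra hn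
    push Not at hn
    simp [hn] at e
  have hio : i ∈ univ.erase o := mem_erase.2 ⟨fun e => hi (e ▸ ho), mem_univ _⟩
  obtain ⟨h1, h2⟩ := (h i).2.resolve_left hi
  rw [← add_sum_erase _ _ hio] at hP
  have h3 := sum_nonneg (s := (univ.erase o).erase i) fun j _ => (h j).1
  rw [sum_eq_single i (fun j _ hj => ?_) (by simp)] at e
  · have h4 := hd i
    have h5 : (g : ℤ) * L i = -472392 * d i := by
      have : (d i : ℚ) ≠ 0 := by exact_mod_cast h4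
      field_simp at e
      have e' : (g : ℚ) * L i = -(472392 * d i) := by linear_combination e
      rw [neg_mul]
      exact_mod_cast e'
    rcases h2 with h2 | h2 | h2
    · rw [h2] at h5; omega
    · rw [h2] at h5; omega
    · omega
  · by_cases e : j = o
    · rw [e, ho]; simp
    have h4 := single_le_sum (s := (univ.erase o).erase i) (fun j _ => (h j).1)
      (mem_erase.2 ⟨hj, mem_erase.2 ⟨e, mem_univ j⟩⟩)
    rw [((h j).2.resolve_right fun h5 => by omega)]; simp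

/-- inversion of the Fourier sums of length 12 -/
theorem twelve {x : ℕ → ℂ} (hx : ∀ k ≤ 12, x (12 - k) = x k) (e7 : x 7 = x 5) {z e : ℤ} (h4 : x 4 = z) (h2 : x 2 = e)
    (h : ∀ w : ℂ, w ^ 12 = 1 → ∃ m : ℕ, ∑ k ∈ range 12, x k * w ^ k = 12 * m) :
    ∃ k l : ℤ, x 1 = k + l * (√3 : ℝ) ∧ x 5 = k - l * (√3 : ℝ) ∧ (z + e + 2 * k) % 4 = 0 ∧
      (z - e + 2 * l) % 4 = 0 := by
  have s3 : ((√3 : ℝ) : ℂ) ^ 2 = 3 := by rw [← Complex.ofReal_pow, Real.sq_sqrt (by norm_num)]; simp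
  generalize ((√3 : ℝ) : ℂ) = s at *
  have i2 := Complex.I_sq
  generalize Complex.I = i at i2
  have e11 := hx 1 (by omega); have e10 := hx 2 (by omega); have e9 := hx 3 (by omega); have e8 := hx 4 (by omega)
  simp only [sum_range_succ, sum_range_zero, show 12 - 1 = 11 from rfl, show 12 - 2 = 10 from rfl,
    show 12 - 3 = 9 from rfl, show 12 - 4 = 8 from rfl] at *
  rw [e11, e10, e9, e8, e7, h4, h2] at h
  have a6 : ∀ w : ℂ, 1 - w + w ^ 2 = 0 → ∃ m : ℕ,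
      x 0 + x 1 - e - 2 * x 3 - z + x 5 + x 6 = 12 * m := fun w hw => by
    obtain ⟨m, hm⟩ := h w (by linear_combination (-1 - w + w ^ 3 + w ^ 4 - w ^ 6 - w ^ 7 + w ^ 9 + w ^ 10) * hw)
    exact ⟨m, by linear_combination hm + (x 1 * (1 - w ^ 2 - w ^ 3 + w ^ 5 + w ^ 6 - w ^ 8 - w ^ 9) + e * (-1 - w - w ^ 2 +
      w ^ 4 + w ^ 5 - w ^ 7 - w ^ 8) + x 3 * (-2 - 2 * w + w ^ 3 + w ^ 4 - w ^ 6 - w ^ 7) + z * (-1 - w + w ^ 3 - w
      ^ 5 - w ^ 6) + x 5 * (1 + w - w ^ 3 - w ^ 4 - w ^ 5) + x 6 * (1 + w - w ^ 3 - w ^ 4)) * hw⟩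
  have a3 : ∀ w : ℂ, 1 + w + w ^ 2 = 0 → ∃ m : ℕ,
      x 0 - x 1 - e + 2 * x 3 - z - x 5 + x 6 = 12 * m := fun w hw => by
    obtain ⟨m, hm⟩ := h w (by linear_combination (-1 + w - w ^ 3 + w ^ 4 - w ^ 6 + w ^ 7 - w ^ 9 + w ^ 10) * hw)
    exact ⟨m, by linear_combination hm + (x 1 * (-1 + w ^ 2 - w ^ 3 + w ^ 5 - w ^ 6 + w ^ 8 - w ^ 9) + e * (-1 + w - w ^ 2 +
      w ^ 4 - w ^ 5 + w ^ 7 - w ^ 8) + x 3 * (2 - 2 * w + w ^ 3 - w ^ 4 + w ^ 6 - w ^ 7) + z * (-1 + w - w ^ 3 + w ^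
      5 - w ^ 6) + x 5 * (-1 + w - w ^ 3 + w ^ 4 - w ^ 5) + x 6 * (1 - w + w ^ 3 - w ^ 4)) * hw⟩
  have a4 : ∀ w : ℂ, 1 + w ^ 2 = 0 → ∃ m : ℕ,
      x 0 - 2 * e + 2 * z - x 6 = 12 * m := fun w hw => by
    obtain ⟨m, hm⟩ := h w (by linear_combination (-1 + w ^ 2 - w ^ 4 + w ^ 6 - w ^ 8 + w ^ 10) * hw)
    exact ⟨m, by linear_combination hm + (x 1 * (-w + w ^ 3 - w ^ 5 + w ^ 7 - w ^ 9) + e * (-2 + w ^ 2 - w ^ 4 + w ^ 6 - w ^
      8) + x 3 * (-w ^ 3 + w ^ 5 - w ^ 7) + z * (2 - 2 * w ^ 2 + w ^ 4 - w ^ 6) + x 5 * (-w ^ 5) + x 6 * (-1 + w ^ 2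
      - w ^ 4)) * hw⟩
  have a12 : ∀ w : ℂ, 1 - w ^ 2 + w ^ 4 = 0 → ∃ m : ℕ,
      x 0 + (2 * w - w ^ 3) * (x 1 - x 5) + e - z - x 6 = 12 * m := fun w hw => by
    obtain ⟨m, hm⟩ := h w (by linear_combination (-1 - w ^ 2 + w ^ 6 + w ^ 8) * hw)
    exact ⟨m, by linear_combination hm + (x 1 * (w - w ^ 5 - w ^ 7) + e * (1 - w ^ 4 - w ^ 6) + x 3 * (-w ^ 3 - w ^ 5) + z *
      (-1 - w ^ 2 - w ^ 4) + x 5 * (-2 * w - w ^ 3) + x 6 * (-1 - w ^ 2)) * hw⟩
  have w6 : 1 - (1 + s * i) / 2 + ((1 + s * i) / 2) ^ 2 = 0 := by linear_combination (i ^ 2 / 4) * s3 + (3 / 4) * i2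
  have w2 : ((s + i) / 2) ^ 2 = (1 + s * i) / 2 := by linear_combination (1 / 4) * s3 + (1 / 4) * i2
  have w12 : 1 - ((s + i) / 2) ^ 2 + ((s + i) / 2) ^ 4 = 0 := by
    rw [show 4 = 2 * 2 from rfl, pow_mul, w2, w6]
  have w3 : 2 * ((s + i) / 2) - ((s + i) / 2) ^ 3 = s := by
    rw [pow_succ, w2]; linear_combination (-i / 4) * s3 + (-s / 4) * i2
  obtain ⟨n0, b0⟩ := h 1 (by simp)
  obtain ⟨n6, b6⟩ := h (-1) (by norm_num)
  obtain ⟨n2, b2⟩ := a6 _ w6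
  obtain ⟨n4, b4⟩ := a3 (-((1 + s * i) / 2)) (by linear_combination w6)
  obtain ⟨n3, b3⟩ := a4 i (by linear_combination i2)
  obtain ⟨n1, b1⟩ := a12 _ w12
  obtain ⟨n5, b5⟩ := a12 (-((s + i) / 2)) (by linear_combination w12)
  rw [show 2 * -((s + i) / 2) - (-((s + i) / 2)) ^ 3 = -s by linear_combination -w3] at b5
  rw [w3] at b1
  have c1 : x 1 + x 5 = 2 * (n0 - n6 + n2 - n4) := by linear_combination (b0 - b6 + b2 - b4) / 6
  have c2 : x 1 - x 5 = 2 * s * (n1 - n5) := by linear_combination (s / 6) * (b1 - b5) - ((x 1 - x 5) / 3) * s3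
  have c3 : (z + e : ℂ) = 2 * (n0 + n6 - n2 - n4) := by linear_combination (b0 + b6 - b2 - b4) / 6
  have c4 : (z - e : ℂ) = 2 * (2 * n3 - n1 - n5) := by linear_combination (2 * b3 - b1 - b5) / 6
  have d3 : z + e = 2 * (n0 + n6 - n2 - n4) := by exact_mod_cast c3
  have d4 : z - e = 2 * (2 * n3 - n1 - n5) := by exact_mod_cast c4
  exact ⟨n0 - n6 + n2 - n4, n1 - n5, by push_cast; linear_combination (c1 + c2) / 2,
    by push_cast; linear_combination (c1 - c2) / 2, by omega, by omega⟩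

end CL.A9R
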