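/-
3-local recognition of `A₉`, part 4: the character theoretic case.
-/
import Cfsg.Agent.Rec.A9H
import Cfsg.Agent.Rec.A9X
import Cfsg.Agent.Spor.CharTools

set_option autoImplicit false
set_option maxRecDepth 100000

namespace CL.A9R

open Subgroup Equiv Cfsg CL.Perm CL.Perm.A9N CL.Grp CL.Rec CL.Char
open scoped ComplexConjugate

variable {G : Type*} [Group G]

/-- the integer value -/
noncomputable def val (χ : IrrCharacter G) (g : G) : ℤ := ⌊((χ : G → ℂ) g).re⌋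

theorem val_eq {g : G} (h : RatAt g) (χ : IrrCharacter G) : (χ : G → ℂ) g = val χ g := by
  obtain ⟨a, ha⟩ := h χ
  rw [val, ha]; simp

theorem val_conj (χ : IrrCharacter G) {g k : G} (h : IsConj g k) : val χ k = val χ g := by
  rw [val, val, χ.2.isClassFunction.apply_eq_of_isConj h]

variable [Finite G]

theorem card_pairs_val [Fintype (IrrCharacter G)] {a b c : G} (ha : RatAt a) (hb : RatAt b) (hc : RatAt c) :
    (Nat.card {p : G × G // IsConj a p.1 ∧ IsConj b p.2 ∧ p.1 * p.2 = c} : ℚ) *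
      Nat.card (centralizer ({a} : Set G)) * Nat.card (centralizer ({b} : Set G)) =
      Nat.card G * ∑ χ : IrrCharacter G, (val χ a * val χ b * val χ c : ℚ) / val χ 1 := by
  rw [card_pairs_eq (B := Finset.univ) ha hb hc (by simp)]
  refine congrArg _ (Finset.sum_congr rfl fun χ _ => ?_)
  simp only [sv3, val]
  rcases sg3_cases χ with e | e <;> simp [e, neg_div, div_neg]

theorem exists_k {a b : G} (ha : a ^ 3 = 1) (hb : b ^ 3 = 1) (hab : (a * b) ^ 3 = 1)
    (h : ¬ IsConj a b ∨ ¬ IsConj a⁻¹ (a * b)) : ∃ k : G, k ≠ 1 ∧ k ^ 3 = 1 ∧ Commute k a ∧ Commute k (a * b) := by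
  rcases h with h | h
  · obtain ⟨k, h1, h2, h3, h4⟩ := (isConj_or_exists_cent ha hb hab).resolve_left h
    exact ⟨k, h1, h2, inv_mul_cancel_left (a * b) a ▸ h3.inv_right.mul_right h4, h3⟩
  · obtain ⟨k, h1, h2, h3, h4⟩ := (isConj_or_exists_cent (a := a⁻¹) (by rw [inv_pow, ha, inv_one]) hab
      (by rwa [inv_mul_cancel_left])).resolve_left h
    rw [inv_mul_cancel_left] at h3 h4
    have h5 : Commute k a := by simpa using h3.inv_right.mul_right h4
    exact ⟨k, h1, h2, h5, h5.mul_right h3⟩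

omit [Finite G] in
theorem sum_nine (χ : IrrCharacter G) {x w : G} (hx : x ^ 3 = 1) (hw : w ^ 3 = 1) (hc : Commute x w) :
    ∃ m : ℕ, ∑ i : Fin 3, ∑ j : Fin 3, (χ : G → ℂ) (x ^ i.1 * w ^ j.1) = 9 * m := by
  have key : ∀ y : G, y ^ 3 = 1 → ∀ i j : Fin 3, y ^ (i + j).1 = y ^ i.1 * y ^ j.1 := fun y hy i j => by
    rw [Fin.val_add, ← pow_add, ← pow_eq_pow_mod _ hy]
  let ψ : Multiplicative (Fin 3 × Fin 3) →* G := MonoidHom.mk' (fun p => x ^ p.toAdd.1.1 * w ^ p.toAdd.2.1)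
    fun p q => by
      rw [toAdd_mul, Prod.fst_add, Prod.snd_add, key x hx, key w hw]
      exact ((hc.pow_pow _ _).mul_mul_mul_comm _ _)
  obtain ⟨m, hm⟩ := (χ.2.isCharacter.comp ψ).exists_nat_classInner isCharacter_one
  rw [classInner_one_right] at hm
  refine ⟨m, ?_⟩
  rw [← hm, ← Fintype.sum_prod_type', Nat.card_eq_fintype_card]
  simp only [Fintype.card_multiplicative, Fintype.card_prod, Fintype.card_fin]
  rw [show ((3 * 3 : ℕ) : ℂ) = 9 by norm_num, mul_inv_cancel_left₀ (by norm_num)]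
  rfl

/-- the three classes -/
def rp (i : ℕ) : K0 := if i = 6 then z3 else if i = 3 then y0 else a0

theorem m_col : wd (col 2) ^ 12 = 1 ∧ s0 * wd (col 2) * s0⁻¹ = (wd (col 2))⁻¹ ∧ wd (col 2) ^ 4 = z3 ∧
    s0 * wd (col 1) * s0⁻¹ = wd (col 2) ^ 2 ∧ wd (col 2) ^ 7 = wd (col 3) ∧ wd (col 5) ^ 2 = y0 ^ 2 ∧
    wd (col 7) ^ 3 ^ 2 = a0 ^ 3 ^ 2 ∧ wd (col 8) ^ 3 ^ 2 = a0 ^ 3 ^ 2 ∧ y0 ^ 3 ^ 1 = z3 ^ 3 ^ 1 ∧ fx c1 = 9 ∧
    (∀ i ∈ [0, 1, 4, 5, 6], wd (col i) ^ 6 = 1 ∧ ∃ v ∈ W0, v * wd (col i) * v⁻¹ = (wd (col i))⁻¹) ∧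
    ∀ i j : Fin 3, fx (ck (z1 ^ i.1 * z2 ^ j.1)) = ![![9, 6, 6], ![6, 3, 3], ![6, 3, 3]] i j ∧
      fx (ck (z1 ^ i.1 * (z2 * z3) ^ j.1)) = ![![9, 3, 3], ![6, 0, 0], ![6, 0, 0]] i j := by
  simp only [ex, ck_el, exists_prop, ck_inj, ck_mul, ck_pow, ck_inv, ck_one, mem_W0, z1, z2, z3, y0, a0, s0, ck_wd]
  decide +kernel

namespace Hy

variable {f : K0 →* G} (h : Hy f) (hz : centralizer {f z3} ≤ f.range)
include h hz

theorem cent_J {k : K0} (hk : k ∈ J0) (h1 : k ≠ 1) : centralizer {f k} ≤ f.range := by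
  rcases cls3 k (J0_cube hk) with e | ⟨-, -, v, -, rfl⟩ | ⟨-, -, v, -, rfl⟩ | ⟨-, ⟨-, v, -, rfl⟩ | e⟩
  · exact absurd e h1
  · rw [map_mul, map_mul, map_inv]; exact cent_conj hz ⟨v, rfl⟩
  · rw [map_mul, map_mul, map_inv]; exact cent_conj h.cent_y ⟨v, rfl⟩
  · rw [map_mul, map_mul, map_inv]; exact cent_conj h.cent_a ⟨v, rfl⟩
  · exact absurd hk e.1

theorem card_col (i : Fin 9) : Nat.card (centralizer ({f (wd (col i))} : Set G)) = cN i := by
  obtain ⟨n, -, h1, h2⟩ := col_pow i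
  exact (h.card_cent fun g hg => h.cent_J hz h1 h2 (mem_cent.2 (by
    rw [map_pow]; exact (Commute.pow_right (mem_cent.1 hg) n).eq))).trans (A9R.card_col i)

theorem col_ne {i j : Fin 9} (hij : i ≠ j) : ¬ IsConj (f (wd (col i))) (f (wd (col j))) := fun e => by
  obtain ⟨g, e⟩ := isConj_iff.1 e
  rcases (A9R.col_ne i j).resolve_left hij with ⟨m, -, h1⟩ | ⟨n, -, h1, h2, h3, h4⟩
  · exact h1 (by rw [← h.cube_iff, ← h.cube_iff, ← e, conj_pow, conj_eq_one_iff])
  · have e' : g * f (wd (col i) ^ n) * g⁻¹ = f (wd (col j) ^ n) := by rw [map_pow, map_pow, ← e, conj_pow]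
    obtain ⟨v, rfl⟩ := h.mem_of_conj (h.mJ.2 h1) (e' ▸ h.mJ.2 h2) (e' ▸ h.cent_J hz h2 h3)
    exact h4 v (mul_inv_eq_iff_eq_mul.1 (h.conj_iff.1 e))

variable (hσ : IsConj (f a0) (f sg))
include hσ

omit h hz [Finite G] in
theorem cls {u : K0} (h3 : u ^ 3 = 1) (h1 : fx (ck u) ≠ 9) :
    fx (ck u) ∈ [6, 3, 0] ∧ IsConj (f (rp (fx (ck u)))) (f u) := by
  rcases cls3 u h3 with rfl | ⟨e, -, v, -, hv⟩ | ⟨e, -, v, -, hv⟩ | ⟨e, ⟨-, v, -, hv⟩ | ⟨-, v, hv⟩⟩
  · exact absurd (ck_one ▸ m_col.2.2.2.2.2.2.2.2.2.1) h1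
  all_goals rw [e]
  · exact ⟨by simp, f.map_isConj (isConj_iff.2 ⟨v, hv⟩)⟩
  · exact ⟨by simp, f.map_isConj (isConj_iff.2 ⟨v, hv⟩)⟩
  · exact ⟨by simp, f.map_isConj (isConj_iff.2 ⟨v, hv⟩)⟩
  · exact ⟨by simp, hσ.trans (f.map_isConj (isConj_iff.2 ⟨v, hv⟩))⟩

omit hz hσ in
theorem rp_inj {i j : ℕ} (hi : i ∈ [6, 3, 0]) (hj : j ∈ [6, 3, 0]) (e : IsConj (f (rp i)) (f (rp j))) : i = j := by
  simp only [List.mem_cons, List.not_mem_nil, or_false] at hi hj
  rcases hi with rfl | rfl | rfl <;> rcases hj with rfl | rfl | rfl <;> try rfl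
  exacts [absurd e h.not_zy, absurd e h.not_za, absurd e.symm h.not_zy, absurd e h.not_ya, absurd e.symm h.not_za,
    absurd e.symm h.not_ya]

omit h hz hσ [Finite G] in
theorem rp_mem (i : ℕ) : rp i ∈ J0 ∧ rp i ≠ 1 ∧ IsConj (rp i) (rp i)⁻¹ := by
  have := fun i hi => isConj_iff.2 ((m_col.2.2.2.2.2.2.2.2.2.2.1 i hi).2.imp fun _ h => h.2)
  unfold rp
  split_ifs
  · exact ⟨A9R.mJ.2.2.1, by rw [ne_eq, ck_inj, z3, ck_wd, ck_one]; decide +kernel, this 0 (by simp)⟩
  · exact ⟨A9R.mJ.2.2.2.1, by rw [ne_eq, ck_inj, y0, ck_wd, ck_one]; decide +kernel, this 4 (by simp)⟩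
  · exact ⟨A9R.mJ.2.2.2.2.1, by rw [ne_eq, ck_inj, a0, ck_wd, ck_one]; decide +kernel, this 6 (by simp)⟩

omit hz in
theorem cls_iff {i : ℕ} (hi : i ∈ [6, 3, 0]) {u : K0} :
    IsConj (f (rp i)) (f u) ↔ pc (ck u) 3 = c1 ∧ fx (ck u) = i := by
  rw [← ck_pow, ← ck_one, ← ck_inj]
  refine ⟨fun e => ?_, fun e => e.2 ▸ (cls hσ e.1 (by rw [e.2]; rintro rfl; simp at hi)).2⟩
  obtain ⟨g, hg⟩ := isConj_iff.1 e
  have h3 : u ^ 3 = 1 := h.cube_iff.1 (by rw [← hg, conj_pow, J_cube (h.mJ.2 (rp_mem i).1)]; group)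
  rcases cls3 u h3 with rfl | e'
  · exact absurd (h.cube_iff (n := 1).1 (by simpa using hg)) (by simpa using (rp_mem i).2.1)
  have := cls hσ h3 (by rcases e' with e' | e' | e' <;> rw [e'.1] <;> decide)
  exact ⟨h3, h.rp_inj this.1 hi (this.2.trans e.symm)⟩

theorem card_pairs {i j l : ℕ} (hi : i ∈ [6, 3, 0]) (hj : j ∈ [6, 3, 0]) (hl : l ∈ [6, 3, 0]) (hn : i ≠ j ∨ i ≠ l)
    {c : List (Fin 4)} (e : wd c = rp l) (hc : ∀ k, Commute k (wd c) → k ^ 3 = 1 → k ∈ J0) :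
    Nat.card {p : G × G // IsConj (f (rp i)) p.1 ∧ IsConj (f (rp j)) p.2 ∧ p.1 * p.2 = f (wd c)} = np i j c := by
  rw [np, ← card_eq fun u => (pc u 3 = c1 ∧ fx u = i) ∧ pc (mc (ic u) (cw c)) 3 = c1 ∧ fx (mc (ic u) (cw c)) = j]
  simp only [← ck_inv, ← ck_wd, ← ck_mul, ← h.cls_iff hσ hi, ← h.cls_iff hσ hj]
  refine (Nat.card_eq_of_bijective (fun u => ⟨(f u.1, f (u.1⁻¹ * wd c)), u.2.1, u.2.2, by simp⟩)
    ⟨fun u v e => Subtype.ext (h.inj (congrArg (fun p => p.1.1) e)), fun ⟨⟨p, q⟩, h1, h2, h3⟩ => ?_⟩).symm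
  have cube : ∀ i x, IsConj (f (rp i)) x → x ^ 3 = 1 := fun i x hx => by
    obtain ⟨g, rfl⟩ := isConj_iff.1 hx
    rw [conj_pow, J_cube (h.mJ.2 (rp_mem i).1)]; group
  simp only at h1 h2 h3
  obtain ⟨k, k1, k3, k4, k5⟩ := exists_k (cube _ _ h1) (cube _ _ h2) (cube l _ (by rw [h3, e])) (hn.imp
    (fun hn e' => hn (h.rp_inj hi hj ((h1.trans e').trans h2.symm))) fun hn e' => hn (h.rp_inj hi hl (by
      rw [← e, ← h3]
      refine ((f.map_isConj (rp_mem i).2.2).trans ?_).trans e'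
      obtain ⟨g, rfl⟩ := isConj_iff.1 h1
      exact isConj_iff.2 ⟨g, by rw [map_inv, conj_inv]⟩)))
  rw [h3] at k5
  obtain ⟨k, rfl⟩ := h.cent_J hz (e ▸ (rp_mem l).1) (e ▸ (rp_mem l).2.1) (mem_cent.2 k5.eq)
  obtain ⟨u, rfl⟩ := h.cent_J hz (hc k (h.comm_iff.1 k5.eq) (h.cube_iff.1 k3)) (fun e => k1 (by rw [e, map_one]))
    (mem_cent.2 k4.symm.eq)
  obtain rfl : q = f (u⁻¹ * wd c) := by rw [map_mul, map_inv, ← h3, inv_mul_cancel_left]
  exact ⟨⟨u, h1, h2⟩, rfl⟩

theorem not_fused : False := by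
  classical
  have := Fintype.ofFinite G
  obtain ⟨m1, m2, m3, m4, m5, m6, m7, m8, m9, -, m10, m11⟩ := m_col
  have d648 : 648 ∣ Nat.card G := card_K0 ▸ card_dvd_of_injective f h.inj
  have r6 : ∀ i ∈ [0, 1, 4, 5, 6], RatAt (f (wd (col i))) := fun i hi χ => by
    obtain ⟨a, v, -, b⟩ := m10 i hi
    exact exists_int_of_six χ (h.cube_iff.2 a) (even_iff_two_dvd.2 (Dvd.dvd.trans (by decide) d648))
      (Dvd.dvd.trans (by decide) d648) (map_inv f _ ▸ f.map_isConj (isConj_iff.2 ⟨v, b⟩))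
  have r9 : ∀ y ∈ [[1], [1, 0], [1, 0, 0]], RatAt (f (wd y)) := fun y hy =>
    ratAt_of_nine (Dvd.dvd.trans (by decide) d648) (h.cube_iff.2 (k6 hy).2.1)
      (map_pow f _ 2 ▸ f.map_isConj (k6 hy).2.2.1)
  have rz : RatAt (f z3) := r6 0 (by simp)
  have re : RatAt (f (wd (col 1))) := r6 1 (by simp)
  have ry : RatAt (f y0) := r6 4 (by simp)
  have rn : RatAt (f (wd (col 5))) := r6 5 (by simp)
  have ra : RatAt (f a0) := r6 6 (by simp)
  have rt : RatAt (f (wd (col 7))) := r9 [1, 0] (by simp)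
  have ru : RatAt (f (wd (col 8))) := r9 [1, 0, 0] (by simp)
  have tw := fun χ : IrrCharacter G => twelve (x := fun k => (χ : G → ℂ) (f (wd (col 2)) ^ k)) (z := val χ (f z3))
    (e := val χ (f (wd (col 1)))) (fun k hk => by
      rw [← χ.2.isClassFunction (f (wd (col 2)) ^ k) (f s0), ← conj_pow, h.conj_iff.2 m2, map_inv, inv_pow,
        inv_eq_of_mul_eq_one_left (by rw [← pow_add, Nat.sub_add_cancel hk, h.cube_iff.2 m1])])
    (by rw [← χ.2.isClassFunction (f (wd (col 2)) ^ 5) (f s0), ← conj_pow, h.conj_iff.2 m2, map_inv, inv_pow,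
        inv_eq_of_mul_eq_one_left (by rw [← pow_add, h.cube_iff.2 m1])])
    (by rw [← map_pow, m3, val_eq rz]) (by rw [← map_pow, ← m4, ← h.conj_iff.2 rfl, χ.2.isClassFunction, val_eq re])
    fun w hw => (CL.Spor.fourier_nat χ.2.isCharacter (h.cube_iff.2 m1) hw).imp fun _ h => h.2
  choose k l t1 t2 t3 t4 using tw
  have t5 : ∀ χ : IrrCharacter G, (χ : G → ℂ) (f (wd (col 3))) = k χ - l χ * (√3 : ℝ) := fun χ => by
    rw [← t2, ← χ.2.isClassFunction (f (wd (col 2)) ^ 5) (f s0), ← conj_pow, h.conj_iff.2 m2, map_inv, inv_pow,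
      inv_eq_of_mul_eq_one_left (show f (wd (col 2)) ^ 7 * _ = 1 by rw [← pow_add, h.cube_iff.2 m1]), ← map_pow, m5]
  simp only [pow_one] at t1
  let X : Option (Fin 9) → G := fun o => o.elim 1 fun i => f (wd (col i))
  let R : Option (Fin 9) → IrrCharacter G → ℝ := fun o χ => o.elim (val χ 1) ![val χ (f z3), val χ (f (wd (col 1))),
    k χ + l χ * √3, k χ - l χ * √3, val χ (f y0), val χ (f (wd (col 5))), val χ (f a0), val χ (f (wd (col 7))),
    val χ (f (wd (col 8)))]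
  have hR : ∀ o (χ : IrrCharacter G), (χ : G → ℂ) (X o) = R o χ := fun o χ => by
    rcases o with _ | i
    · exact (val_eq ratAt_one χ).trans (Complex.ofReal_intCast _).symm
    fin_cases i
    exacts [(val_eq rz χ).trans (Complex.ofReal_intCast _).symm, (val_eq re χ).trans (Complex.ofReal_intCast _).symm,
      (t1 χ).trans (by simp [R]), (t5 χ).trans (by simp [R]), (val_eq ry χ).trans (Complex.ofReal_intCast _).symm,
      (val_eq rn χ).trans (Complex.ofReal_intCast _).symm, (val_eq ra χ).trans (Complex.ofReal_intCast _).symm,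
      (val_eq rt χ).trans (Complex.ofReal_intCast _).symm, (val_eq ru χ).trans (Complex.ofReal_intCast _).symm]
  have n1 : ∀ i, f (wd (col i)) ≠ 1 := fun i e => by
    obtain ⟨n, -, -, h2⟩ := col_pow i
    exact h2 (h.cube_iff.1 (by rw [e, one_pow]))
  have orth : ∀ o p, ∑ χ, R o χ * R p χ = if o = p then (Nat.card (centralizer ({X o} : Set G)) : ℝ) else 0 :=
    fun o p => by
      apply Complex.ofReal_injective
      have : ((∑ χ, R o χ * R p χ : ℝ) : ℂ) = ∑ χ : IrrCharacter G, (χ : G → ℂ) (X o) * conj ((χ : G → ℂ) (X p)) := by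
        simp only [hR, Complex.conj_ofReal, Complex.ofReal_sum, Complex.ofReal_mul]
      rw [this]
      split_ifs with e
      · rw [← e, sum_irr_mul_conj_self]; simp
      · refine sum_irr_mul_conj_of_not_isConj fun c => ?_
        rcases o with _ | i <;> rcases p with _ | j
        exacts [e rfl, n1 j (isConj_one_right.1 c), n1 i (isConj_one_left.1 c),
          h.col_ne hz (fun e' => e (congrArg _ e')) c]
  have d0 : ∀ χ : IrrCharacter G, val χ 1 ≠ 0 := fun χ e => sv3_one_ne_zero χ (by rw [sv3, ← val, e, mul_zero])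
  have s3 : √3 * √3 = (3 : ℝ) := Real.mul_self_sqrt (by norm_num)
  have md : ∀ (χ : IrrCharacter G) {p n : ℕ} {g x : G}, p.Prime → RatAt g → RatAt x → g ^ p ^ n = x ^ p ^ n →
      (p : ℤ) ∣ val χ x - val χ g := fun χ _ _ _ _ hp hg hx e =>
    (isGenChar_intModEq χ.2.isGeneralizedCharacter hp e (val_eq hg χ) (val_eq hx χ)).dvd
  have rows := fun χ : IrrCharacter G => row (t3 χ) (t4 χ) (y := val χ (f y0)) (n := val χ (f (wd (col 5))))
    (a := val χ (f a0)) (t := val χ (f (wd (col 7)))) (u := val χ (f (wd (col 8))))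
    (by have := md χ Nat.prime_three ry rz (n := 1) (by rw [← map_pow, m9, map_pow]); omega)
    (by have := md χ Nat.prime_two rn ry (n := 1) (by rw [pow_one, ← map_pow, m6, map_pow]); omega)
    (by
      have c : ∀ u ∈ J0, (χ : G → ℂ) (f u) = if fx (ck u) = 9 then val χ 1 else val χ (f (rp (fx (ck u)))) :=
        fun u hu => by
          split_ifs with e
          · rcases cls3 u (J0_cube hu) with rfl | e' | e' | e'
            · rw [map_one, val_eq ratAt_one]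
            all_goals omega
          · rw [← χ.2.isClassFunction.apply_eq_of_isConj (cls hσ (J0_cube hu) e).2]
            refine val_eq ?_ χ
            unfold rp; split_ifs; exacts [rz, ry, ra]
      obtain ⟨j1, j2, j3, -⟩ := A9R.mJ
      obtain ⟨p, hp⟩ := sum_nine χ (J_cube (h.mJ.2 j1)) (J_cube (h.mJ.2 j2)) (J_comm (h.mJ.2 j1) (h.mJ.2 j2))
      obtain ⟨q, hq⟩ := sum_nine χ (J_cube (h.mJ.2 j1)) (J_cube (h.mJ.2 (mul_mem j2 j3)))
        (J_comm (h.mJ.2 j1) (h.mJ.2 (mul_mem j2 j3)))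
      simp only [← map_pow, ← map_mul, c _ (mul_mem (pow_mem j1 _) (pow_mem j2 _)),
        c _ (mul_mem (pow_mem j1 _) (pow_mem (mul_mem j2 j3) _)), m11] at hp hq
      simp [Fin.sum_univ_three, rp] at hp hq
      norm_cast at hp hq
      omega)
    (by have := md χ Nat.prime_three rt ra (n := 2) (by rw [← map_pow, m7, map_pow]); omega)
    (by have := md χ Nat.prime_three ru ra (n := 2) (by rw [← map_pow, m8, map_pow]); omega)
    (by
      have b := bessel R _ orth (fun _ => Nat.cast_pos.2 Nat.card_pos) χ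
      have b0 : 0 < R none χ ^ 2 / Nat.card (centralizer ({X none} : Set G)) :=
        div_pos (sq_pos_of_ne_zero (Int.cast_ne_zero.2 (d0 χ))) (Nat.cast_pos.2 Nat.card_pos)
      simp only [Fintype.sum_option, X, Option.elim, h.card_col hz] at b b0
      simp only [Fin.sum_univ_succ, R, cN, Option.elim, Matrix.cons_val_zero, Matrix.cons_val_succ, Fin.sum_univ_zero,
        Nat.cast_ofNat] at b b0
      rify
      nlinarith)
  have O : ∀ i j : Fin 9, ∑ χ, R (some i) χ * R (some j) χ = if i = j then (cN i : ℝ) else 0 := fun i j => by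
    simp only [orth, X, Option.elim, h.card_col hz, Option.some.injEq]
  have o1 : ∀ g, val (irrOne G) g = 1 := fun g => by simp [val, irrOne_apply]
  have ok : k (irrOne G) = 1 ∧ l (irrOne G) = 0 := by
    have a := t1 (irrOne G)
    have b := t5 (irrOne G)
    rw [irrOne_apply] at a b
    have c : (l (irrOne G) : ℂ) * (√3 : ℝ) = 0 := by linear_combination (b - a) / 2
    have d : (k (irrOne G) : ℂ) = 1 := by linear_combination -(a + b) / 2
    exact ⟨by exact_mod_cast d, by simpa using c⟩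
  refine h.not_seven (final (o := irrOne G) ?_ (by simp [o1, Lam]) rows d0 ?_)
  · apply Int.cast_injective (α := ℝ)
    have key : ∀ χ, (Phi (val χ (f z3)) (val χ (f (wd (col 1)))) (k χ) (l χ) (val χ (f y0)) (val χ (f (wd (col 5))))
        (val χ (f a0)) (val χ (f (wd (col 7)))) (val χ (f (wd (col 8)))) : ℝ) =
        85 * (R (some 0) χ * R (some 0) χ) + 234 * (R (some 0) χ * R (some 1) χ) +
        -4 * (R (some 0) χ * R (some 4) χ) + 180 * (R (some 0) χ * R (some 5) χ) +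
        -76 * (R (some 0) χ * R (some 6) χ) + -72 * (R (some 0) χ * R (some 7) χ) +
        -324 * (R (some 0) χ * R (some 8) χ) + 81 * (R (some 1) χ * R (some 1) χ) +
        504 * (R (some 1) χ * R (some 4) χ) + 1296 * (R (some 1) χ * R (some 5) χ) +
        -468 * (R (some 1) χ * R (some 6) χ) + 1188 * (R (some 1) χ * R (some 8) χ) +
        -8 * (R (some 4) χ * R (some 4) χ) + 288 * (R (some 4) χ * R (some 5) χ) +
        128 * (R (some 4) χ * R (some 6) χ) + 720 * (R (some 4) χ * R (some 7) χ) +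
        648 * (R (some 5) χ * R (some 5) χ) + 288 * (R (some 5) χ * R (some 6) χ) +
        432 * (R (some 5) χ * R (some 7) χ) + 432 * (R (some 5) χ * R (some 8) χ) +
        64 * (R (some 6) χ * R (some 6) χ) + 576 * (R (some 6) χ * R (some 7) χ) +
        -144 * (R (some 6) χ * R (some 8) χ) + 288 * (R (some 7) χ * R (some 7) χ) +
        1440 * (R (some 7) χ * R (some 8) χ) + 144 * (R (some 0) χ * R (some 2) χ) +
        144 * (R (some 0) χ * R (some 3) χ) + 648 * (R (some 1) χ * R (some 2) χ) +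
        648 * (R (some 1) χ * R (some 3) χ) + 306 * (R (some 4) χ * R (some 2) χ) +
        306 * (R (some 4) χ * R (some 3) χ) + 810 * (R (some 5) χ * R (some 2) χ) +
        810 * (R (some 5) χ * R (some 3) χ) + -72 * (R (some 6) χ * R (some 2) χ) +
        -72 * (R (some 6) χ * R (some 3) χ) + 108 * (R (some 7) χ * R (some 2) χ) +
        108 * (R (some 7) χ * R (some 3) χ) + -351 * (R (some 2) χ * R (some 2) χ) +
        -351 * (R (some 3) χ * R (some 3) χ) + 702 * (R (some 2) χ * R (some 3) χ) := fun χ => by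
      simp only [Phi, R, Option.elim]
      push_cast
      linear_combination (1404 * l χ ^ 2) * s3
    simp only [Int.cast_sum, key, Finset.sum_add_distrib, ← Finset.mul_sum, O, o1, ok]
    simp [cN, Phi]
    norm_num
  · have cz : Nat.card (centralizer ({f (rp 6)} : Set G)) = 108 := h.card_col hz 0
    have cy : Nat.card (centralizer ({f (rp 3)} : Set G)) = 54 := h.card_col hz 4
    have ca : Nat.card (centralizer ({f (rp 0)} : Set G)) = 81 := h.card_col hz 6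
    have kz : ∀ k, Commute k (wd [1, 1, 0, 1]) → k ^ 3 = 1 → k ∈ J0 := fun _ => k5
    have ky : ∀ k, Commute k (wd [0, 3, 0, 3]) → k ^ 3 = 1 → k ∈ J0 := fun k hk => (m_y k hk).2.1
    have p1 := card_pairs_val (a := f (rp 6)) (b := f (rp 0)) (c := f (wd [1, 1, 0, 1])) rz ra rz
    have p2 := card_pairs_val (a := f (rp 0)) (b := f (rp 0)) (c := f (wd [1, 1, 0, 1])) ra ra rz
    have p3 := card_pairs_val (a := f (rp 3)) (b := f (rp 0)) (c := f (wd [0, 3, 0, 3])) ry ra ry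
    have p4 := card_pairs_val (a := f (rp 0)) (b := f (rp 0)) (c := f (wd [0, 3, 0, 3])) ra ra ry
    have p5 := card_pairs_val (a := f (rp 6)) (b := f (rp 6)) (c := f (wd [0, 3, 0, 3])) rz rz ry
    have p6 := card_pairs_val (a := f (rp 6)) (b := f (rp 3)) (c := f (wd [0, 3, 0, 3])) rz ry ry
    have p7 := card_pairs_val (a := f (rp 6)) (b := f (rp 0)) (c := f (wd [0, 3, 0, 3])) rz ra ry
    rw [h.card_pairs hz hσ (l := 6) (by simp) (by simp) (by simp) (by simp) rfl kz] at p1 p2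
    rw [h.card_pairs hz hσ (l := 3) (by simp) (by simp) (by simp) (by simp) rfl ky] at p3 p4 p5 p6 p7
    simp only [np_z, np_y, cz, cy, ca] at p1 p2 p3 p4 p5 p6 p7
    simp only [Lam, Int.cast_add, Int.cast_sub, Int.cast_mul, Int.cast_ofNat, add_div, sub_div, mul_div_assoc (2 : ℚ),
      mul_div_assoc (6 : ℚ), Finset.sum_add_distrib, Finset.sum_sub_distrib, ← Finset.mul_sum]
    change _ = _ * ∑ χ, (val χ (f z3) * val χ (f a0) * val χ (f z3) : ℚ) / _ at p1
    change _ = _ * ∑ χ, (val χ (f a0) * val χ (f a0) * val χ (f z3) : ℚ) / _ at p2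
    change _ = _ * ∑ χ, (val χ (f y0) * val χ (f a0) * val χ (f y0) : ℚ) / _ at p3
    change _ = _ * ∑ χ, (val χ (f a0) * val χ (f a0) * val χ (f y0) : ℚ) / _ at p4
    change _ = _ * ∑ χ, (val χ (f z3) * val χ (f z3) * val χ (f y0) : ℚ) / _ at p5
    change _ = _ * ∑ χ, (val χ (f z3) * val χ (f y0) * val χ (f y0) : ℚ) / _ at p6
    change _ = _ * ∑ χ, (val χ (f z3) * val χ (f a0) * val χ (f y0) : ℚ) / _ at p7
    linear_combination -p1 - p2 + 2 * p3 + 2 * p4 + 2 * p5 + 2 * p6 - 6 * p7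

end Hy

end CL.A9R
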