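/-
3-local recognition of `A₉`, part 5: the normaliser of a subgroup of order 3 of weight one.
-/
import Cfsg.Agent.Rec.A9Ch
import Cfsg.Agent.Rec.H43E
import Cfsg.Agent.Rec.S6Norm
import Cfsg.Agent.S3702

set_option autoImplicit false
set_option maxRecDepth 100000

namespace CL.A9R

open Subgroup Equiv Cfsg CL.Perm CL.Perm.A9N CL.Grp CL.Rec

/-- `(0 1)(4 5)` -/
def e1 : K0 := wd [2, 3, 0, 3]
/-- `(0 1)(6 7)` -/
def e3 : K0 := wd [1, 1, 2, 1]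
/-- `(0 1)(7 8)` -/
def e4 : K0 := wd [1, 1, 2, 0, 1]
/-- `(0 1)(3 6)(4 7)(5 8)` -/
def sp : K0 := wd [3, 1, 2]
/-- a triple transposition -/
def q6 : S6 := swap 0 3 * swap 1 4 * swap 2 5

theorem m_N : ∀ k ∈ [z1, z2, z3, r0, e1, e3, e4, sp, wd [3, 1]], k * z1 * k⁻¹ = z1 ∨ k * z1 * k⁻¹ = z1⁻¹ := by
  simp only [List.forall_mem_cons, ck_inj, ck_mul, ck_inv, z1, z2, z3, r0, e1, e3, e4, sp, ck_wd]
  decide +kernel

theorem m_inv : ∀ k ∈ [r0, e1, e3, e4], k * z1 * k⁻¹ = z1⁻¹ ∧ k * k = 1 := by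
  simp only [List.forall_mem_cons, ck_inj, ck_mul, ck_inv, ck_one, z1, r0, e1, e3, e4, ck_wd]
  decide +kernel

theorem m_e : (sg * z3 * sg⁻¹ = z1 ∧ z1 ≠ 1 ∧ wd [3, 1] * wd [3, 1] ∉ J0 ∧ wd [3, 1] * wd [3, 1] * (wd [3, 1] * wd [3, 1]) ∈ J0 ∧
    r0 ∉ J0 ∧ r0 * r0 ∈ J0 ∧ (wd [3, 1] * wd [3, 1])⁻¹ * r0 ∉ J0 ∧ a0 * sg = sg * a0) ∧
    (z3 * z2 = z2 * z3 ∧ z3 * z3 * z3 = 1 ∧ r0 * z2 = z2⁻¹ * r0 ∧ r0 * z3 = z3 * r0 ∧ e3 * z2 = z2 * e3 ∧
      e3 * z3 = z3⁻¹ * e3 ∧ e1 = r0 * z2 ∧ e4 = e3 * z3 ∧ sp * z2 = z3 * sp ∧ sp * r0 = e3 * sp ∧ sp * z3 = z2 * sp ∧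
      sp * e3 = r0 * sp) ∧
    (∀ k ∈ [z2, z3, z2⁻¹ * z3, z2 * z3], ¬ (k = 1 ∨ k = z1 ∨ k = z1⁻¹)) ∧
    (r0 * e1) ^ 3 = 1 ∧ (r0 * e3) ^ 2 = 1 ∧ (r0 * e4) ^ 2 = 1 ∧ (e1 * e3) ^ 2 = 1 ∧ (e1 * e4) ^ 2 = 1 ∧
      (e3 * e4) ^ 3 = 1 := by
  simp only [List.forall_mem_cons, ck_inj, ne_eq, ck_mul, ck_inv, ck_pow, ck_one, mem_J0, z1, z2, z3, r0, e1, e3, e4, sp,
    sg, a0, ck_wd]
  decide +kernel

theorem s6_q : ∀ q : S6, q * z6 = w6 * q → q * swap 0 1 = swap 3 4 * q → q * w6 = z6 * q →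
    q * swap 3 4 = swap 0 1 * q → q = q6 := by
  decide +kernel

variable {G : Type*} [Group G]

theorem pow_swap {a b : G} {n : ℕ} (h : (a * b) ^ n = 1) : (b * a) ^ n = 1 := by
  rw [show b * a = b * (a * b) * b⁻¹ by group, conj_pow, h, mul_one, mul_inv_cancel]

theorem two_of_cent {x a b : G} (hx : x * x = 1) (ha : a * a = 1) (hb : b * b = 1) (h1 : (x * a) ^ 2 = 1)
    (h2 : (a * b) ^ 2 = 1) (h3 : x * a * (x * b) ^ 2 = (x * b) ^ 2 * (x * a)) (h4 : ((x * b) ^ 2) ^ 3 = 1) :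
    (x * b) ^ 2 = 1 := by
  have e : x * b = x * a * (a * b) := by rw [mul_assoc, ← mul_assoc a, ha, one_mul]
  rw [e] at h3 h4 ⊢
  generalize x * a = u at *
  generalize a * b = v at *
  rw [pow_two] at h1 h2
  refine eq_one_of_odd (by decide) h4 ?_
  calc _ = (u * v) ^ 2 * (u * (u * (u * v) ^ 2)) := by rw [← mul_assoc u u, h1, one_mul]
    _ = (u * v) ^ 2 * (u * ((u * v) ^ 2 * u)) := by rw [h3]
    _ = u * (v * (u * (v * (u * u) * v) * u) * v) * u := by simp only [pow_two, mul_assoc]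
    _ = 1 := by simp only [h1, h2, mul_one]

/-- the structure of the normaliser -/
structure Fr (f : K0 →* G) (θ : S6 →* G) : Prop where
  t0 : θ (swap 0 1) = f r0
  t1 : θ (swap 1 2) = f e1
  t3 : θ (swap 3 4) = f e3
  t4 : θ (swap 4 5) = f e4
  tq : θ q6 = f sp
  act : ∀ p, θ p * f z1 * (θ p)⁻¹ = if Perm.sign p = 1 then f z1 else (f z1)⁻¹
  ind : ∀ p, θ p ∈ zpowers (f z1) → p = 1
  dec : ∀ n, n * f z1 * n⁻¹ = f z1 ∨ n * f z1 * n⁻¹ = (f z1)⁻¹ → ∃ u ∈ zpowers (f z1), ∃ p, n = u * θ p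

namespace Hy

variable {f : K0 →* G} (h : Hy f) [Finite G]
include h

theorem top_of_le (hz : centralizer {f z3} ≤ f.range) : f.range = ⊤ := by
  have cJ : ∀ j ∈ J0.map f, j ≠ 1 → centralizer {j} ≤ f.range := by
    rintro _ ⟨k, hk, rfl⟩ h1
    exact h.cent_J hz hk fun e => h1 (by rw [e, map_one])
  refine Cfsg.Agent.S3702.result _ ⟨(MonoidHom.ofInjective h.inj).symm⟩ (J0.map f) (by
    rw [← k3, ← map_pCore_equiv (MonoidHom.ofInjective h.inj), map_map]; rfl) cJ ⟨map_le_range _ _, ?_⟩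
  rintro _ ⟨k, hk, rfl⟩ g ⟨l, hl⟩
  rw [← hl, h.mJ]
  rcases cls3 l (h.cube_iff.1 (by rw [hl, conj_pow, J_cube (h.mJ.2 hk)]; group)) with rfl | e | e | ⟨-, e | ⟨e, v, hv⟩⟩
  iterate 4 first | exact one_mem _ | exact e.2.1 | exact e.1
  have key : ∀ x ∈ J0, x ≠ 1 → (∀ c, c * x = x * c → c ^ 3 = 1 → c ∈ J0) → ∀ w, w * x * w⁻¹ = k → False :=
    fun x hx x1 hc w hw => by
      obtain ⟨d, hd⟩ : ∃ d, d * f x * d⁻¹ = f sg := ⟨(f v)⁻¹ * g * f w, by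
        calc _ = (f v)⁻¹ * (g * (f w * f x * (f w)⁻¹) * g⁻¹) * f v := by group
          _ = _ := by rw [h.conj_iff.2 hw, ← hl, ← h.conj_iff.2 hv]; group⟩
      have c1 : d⁻¹ * f a0 * d * f x = f x * (d⁻¹ * f a0 * d) := by
        calc _ = d⁻¹ * (f a0 * (d * f x * d⁻¹)) * d := by group
          _ = _ := by rw [hd, h.comm_iff.2 m_e.1.2.2.2.2.2.2.2, ← hd]; group
      obtain ⟨c, e⟩ := h.cent_J hz hx x1 (mem_cent.2 c1)
      have c2 : d⁻¹ * f a0 * d ∈ J0.map f := e ▸ h.mJ.2 (hc c (h.comm_iff.1 (e ▸ c1)) (h.cube_iff.1 (by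
        rw [e, show d⁻¹ * f a0 * d = d⁻¹ * f a0 * d⁻¹⁻¹ by rw [inv_inv], conj_pow, J_cube (h.mJ.2 A9R.mJ.2.2.2.2.1)]
        group)))
      have c3 : d * (d⁻¹ * f a0 * d) * d⁻¹ = f a0 := by group
      have := h.conj_J (h.mem_of_conj c2 (c3.symm ▸ h.mJ.2 A9R.mJ.2.2.2.2.1) (c3.symm ▸ h.cent_a)) (h.mJ.2 hx)
      exact A9R.mJ.2.2.2.2.2.1 (h.mJ.1 (hd ▸ this))
  rcases cls3 k (J0_cube hk) with rfl | ⟨-, -, w, -, hw⟩ | ⟨-, -, w, -, hw⟩ | ⟨-, ⟨-, w, -, hw⟩ | e'⟩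
  · rw [map_one, mul_one, mul_inv_cancel, map_eq_one_iff f h.inj] at hl
    exact hl ▸ one_mem _
  · exact (key _ (rp_mem 6).1 (rp_mem 6).2.1 (fun _ => k5) w hw).elim
  · exact (key _ (rp_mem 3).1 (rp_mem 3).2.1 (fun c hc => (m_y c hc).2.1) w hw).elim
  · exact (h.not_fused hz (((f.map_isConj (isConj_iff.2 ⟨w, hw⟩)).trans (isConj_iff.2 ⟨g, hl.symm⟩)).trans
      (f.map_isConj (isConj_iff.2 ⟨v, hv⟩)).symm)).elim
  · exact absurd hk e'.1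

omit [Finite G] in
theorem oz : orderOf (f z1) = 3 := h.ord A9R.mJ.1 m_e.1.2.1

omit [Finite G] in
theorem mem_N {k : K0} : f k ∈ normalizer (zpowers (f z1) : Set G) ↔ k * z1 * k⁻¹ = z1 ∨ k * z1 * k⁻¹ = z1⁻¹ := by
  rw [mem_normalizer_zpowers_three h.oz, ← map_inv f z1, h.conj_iff, h.conj_iff]

omit [Finite G] in
theorem mem_Z {k : K0} : f k ∈ zpowers (f z1) ↔ k = 1 ∨ k = z1 ∨ k = z1⁻¹ := by
  rw [mem_zpowers_three h.oz, ← map_inv, map_eq_one_iff f h.inj, h.eq_iff, h.eq_iff]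

omit [Finite G] in
theorem J_of_pow {k : K0} (hk : f k ∈ normalizer (zpowers (f z1) : Set G)) {j : ℕ} (hj : f k ^ 3 ^ j ∈ J0.map f) :
    k ∈ J0 := by
  rw [← map_pow, h.mJ] at hj
  obtain ⟨a, b, e⟩ : IsCoprime (4 : ℤ) (3 ^ j) := (show IsCoprime (4 : ℤ) 3 from ⟨1, -1, by norm_num⟩).pow_right
  rw [← zpow_one k, ← e, zpow_add, mul_comm a, mul_comm b, zpow_mul, zpow_mul]
  exact mul_mem (zpow_mem (by exact_mod_cast (m_z1 k (h.mem_N.1 hk)).1) _) (zpow_mem (by exact_mod_cast hj) _)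

theorem split : centralizer {f z1} ≤ f.range ∨ ∃ π : normalizer (zpowers (f z1) : Set G) →* S6,
    Function.Surjective π ∧ ∀ g, π g = 1 ↔ (g : G) ∈ zpowers (f z1) := by
  have := Fact.mk Nat.prime_three
  have zJ := h.mJ.2 A9R.mJ.1
  have hT : zpowers (f z1) ≤ J0.map f := zpowers_le.2 zJ
  have hM := fun g => mem_normalizer_zpowers_three (n := g) h.oz
  have hC : centralizer {f z1} ≤ normalizer (zpowers (f z1) : Set G) := fun g hg =>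
    (hM g).2 (.inl (mul_inv_eq_iff_eq_mul.2 (mem_cent.1 hg)))
  have hJM := (J_cent zJ).trans hC
  have mN := fun {k} => h.mem_N (k := k)
  have mZ := fun {k} => h.mem_Z (k := k)
  have mP := @h.J_of_pow _ _ _
  have hn : ((zpowers (f z1)).subgroupOf (normalizer (zpowers (f z1) : Set G))).Normal := inferInstance
  have cT : Nat.card ((zpowers (f z1)).subgroupOf (normalizer (zpowers (f z1) : Set G))) = 3 := by
    rw [Nat.card_congr (subgroupOfEquivOfLe le_normalizer).toEquiv, Nat.card_zpowers, h.oz]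
  generalize normalizer (zpowers (f z1) : Set G) = M at *
  generalize hT' : zpowers (f z1) = T at *
  obtain ⟨S, hS⟩ : ∃ S, S = ((J0.map f).subgroupOf M).map (QuotientGroup.mk' (T.subgroupOf M)) := ⟨_, rfl⟩
  have cS : S.comap (QuotientGroup.mk' (T.subgroupOf M)) = (J0.map f).subgroupOf M := by
    rw [hS, comap_map_eq_self (by rw [QuotientGroup.ker_mk']; exact fun x hx => hT hx)]
  have mS : ∀ g : M, (g : M ⧸ T.subgroupOf M) ∈ S ↔ (g : G) ∈ J0.map f := fun g => SetLike.ext_iff.1 cS g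
  have nS : ∀ g : M, (g : M ⧸ T.subgroupOf M) ∈ normalizer (S : Set (M ⧸ T.subgroupOf M)) ↔ (g : G) ∈ f.range :=
    fun g => ⟨fun e => h.wc fun j hj => map_le_range _ _ ((mS (g * (⟨j, hJM hj⟩ : M) * g⁻¹)).1
      ((mem_normalizer_iff.1 e _).1 ((mS ⟨j, hJM hj⟩).2 hj))), fun e => mem_normalizer_fintype fun s hs => by
      obtain ⟨s, rfl⟩ := QuotientGroup.mk_surjective s
      exact (mS (g * s * g⁻¹)).2 (h.conj_J e ((mS s).1 hs))⟩
  have cube : ∀ s ∈ S, s ^ 3 = 1 := fun s hs => by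
    obtain ⟨s, rfl⟩ := QuotientGroup.mk_surjective s
    exact (Rec.mk_eq_one (s ^ 3)).2 (by rw [coe_pow, J_cube ((mS s).1 hs)]; exact one_mem _)
  have card : Nat.card S = 9 := by
    have := card_comap_mk' _ S
    rw [cS, Nat.card_congr (subgroupOfEquivOfLe hJM).toEquiv, h.card_J, cT] at this
    omega
  have sc : SC9 S := SC9.of_loc (isSylowIn_of_loc le_top (fun v => ⟨1, Subtype.ext (by simpa using cube v v.2)⟩)
    fun n _ hN j hj => by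
      obtain ⟨⟨n, hn⟩, rfl⟩ := QuotientGroup.mk_surjective n
      obtain ⟨k, rfl⟩ := (nS _).1 hN
      exact (mS _).2 (h.mJ.2 (mP hn (hT ((Rec.mk_eq_one ((⟨_, hn⟩ : M) ^ 3 ^ j)).1 hj)))))
    card cube (fun n hc => by
      obtain ⟨⟨n, hn⟩, rfl⟩ := QuotientGroup.mk_surjective n
      obtain ⟨k, rfl⟩ := (nS _).1 (centralizer_le_normalizer _ hc)
      have key : ∀ m ∈ J0, m⁻¹ * (k * m * k⁻¹) = 1 ∨ m⁻¹ * (k * m * k⁻¹) = z1 ∨ m⁻¹ * (k * m * k⁻¹) = z1⁻¹ :=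
        fun m hm => mZ.1 (by
          simp only [map_mul, map_inv]
          exact (Rec.mk_eq_one ((⟨_, hJM (h.mJ.2 hm)⟩ : M)⁻¹ * ((⟨_, hn⟩ : M) * (⟨_, hJM (h.mJ.2 hm)⟩ : M) * (⟨_, hn⟩ : M)⁻¹))).1
            (inv_mul_eq_one.2 (eq_mul_inv_iff_mul_eq.2 (hc _ ((mS ⟨_, hJM (h.mJ.2 hm)⟩).2 (h.mJ.2 hm))))))
      exact (mS _).2 (h.mJ.2 ((m_z1 k (mN.1 hn)).2 (key _ A9R.mJ.2.1) (key _ A9R.mJ.2.2.1))))
    fun s hs h1 n hc => by
      obtain ⟨n, rfl⟩ := QuotientGroup.mk_surjective n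
      obtain ⟨⟨s, sM⟩, rfl⟩ := QuotientGroup.mk_surjective s
      obtain ⟨m, hm, rfl⟩ := (mS _).1 hs
      obtain ⟨i, j, v, -, hv⟩ := (m_J m hm).2.resolve_left fun e => h1 ((Rec.mk_eq_one _).2 (mZ.2 e))
      have c1 : (n : G)⁻¹ * f (z1 ^ i.1 * m ^ j.1) * (n : G)⁻¹⁻¹ ∈ J0.map f := by
        rw [map_mul, map_pow, map_pow, ← conj_mul, ← conj_pow, ← conj_pow]
        refine mul_mem (pow_mem ?_ _) (pow_mem ((mS (n⁻¹ * ⟨_, sM⟩ * n⁻¹⁻¹)).1 ?_) _)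
        · rcases (hM _).1 (inv_mem n.2) with e | e <;> rw [e]
          exacts [zJ, inv_mem zJ]
        · rwa [inv_inv, QuotientGroup.mk_mul, QuotientGroup.mk_mul, QuotientGroup.mk_inv, mul_assoc, ← mem_cent.1 hc,
            inv_mul_cancel_left]
      have c3 : (n : G) * ((n : G)⁻¹ * f (z1 ^ i.1 * m ^ j.1) * (n : G)⁻¹⁻¹) * (n : G)⁻¹ = f (z1 ^ i.1 * m ^ j.1) := by
        group
      refine (nS n).2 (h.mem_of_conj c1 (c3.symm ▸ h.mJ.2 (mul_mem (pow_mem A9R.mJ.1 _) (pow_mem hm _))) ?_)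
      rw [c3, ← hv, map_mul, map_mul, map_inv]
      exact cent_conj h.cent_y ⟨v, rfl⟩
  have cN : Nat.card (normalizer (S : Set (M ⧸ T.subgroupOf M))) = 72 := by
    have := card_comap_mk' _ (normalizer (S : Set (M ⧸ T.subgroupOf M)))
    rw [cT, ← Nat.card_eq_of_bijective (fun k : {k : K0 // k * z1 * k⁻¹ = z1 ∨ k * z1 * k⁻¹ = z1⁻¹} =>
      (⟨⟨f k, mN.2 k.2⟩, (nS _).2 ⟨_, rfl⟩⟩ : (normalizer (S : Set (M ⧸ T.subgroupOf M))).comap
        (QuotientGroup.mk' (T.subgroupOf M)))) ⟨fun a b e => Subtype.ext (h.inj (congrArg (fun x => x.1.1) e)),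
      fun ⟨⟨g, hg⟩, hg'⟩ => by
        obtain ⟨k, rfl⟩ := (nS _).1 hg'
        exact ⟨⟨k, mN.1 hg⟩, rfl⟩⟩, card_z1] at this
    omega
  obtain ⟨-, -, b1, b2, b3, b4, b5, -⟩ := m_e.1
  obtain ⟨u, hu⟩ : ∃ u : M, (u : G) = f (wd [3, 1]) := ⟨⟨_, mN.2 (m_N _ (by simp))⟩, rfl⟩
  obtain ⟨t, ht⟩ : ∃ t : M, (t : G) = f r0 := ⟨⟨_, mN.2 (m_N _ (by simp))⟩, rfl⟩
  rw [← h.mJ] at b1 b2 b3 b4 b5
  simp only [map_mul, map_inv, ← hu, ← ht] at b1 b2 b3 b4 b5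
  rcases sc.normal_or_sym cN ((nS u).2 ⟨_, hu.symm⟩) ((nS t).2 ⟨_, ht.symm⟩) (mt (mS (u * u)).1 b1)
    ((mS (u * u * (u * u))).2 b2) (mt (mS t).1 b3) ((mS (t * t)).2 b4) (mt (mS ((u * u)⁻¹ * t)).1 b5) with e | ⟨⟨e⟩⟩
  · exact .inl fun c hc => (nS ⟨c, hC hc⟩).1 (le_normalizer_of_normal (mem_top _))
  · exact .inr ⟨e.toMonoidHom.comp (QuotientGroup.mk' _), e.surjective.comp (QuotientGroup.mk'_surjective _),
      fun g => e.map_eq_one_iff.trans (Rec.mk_eq_one g)⟩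

theorem cube_of_nine {g : G} (hg : g * f z1 = f z1 * g) (h9 : g ^ 3 ∈ zpowers (f z1)) : g ^ 3 = 1 := by
  have := Fact.mk Nat.prime_three
  have zJ := h.mJ.2 A9R.mJ.1
  have hS : IsSylowIn 3 (J0.map f) (centralizer {f z1}) := isSylowIn_of_loc (J_cent zJ) J_three fun n hn hN j hj => by
    obtain ⟨k, rfl⟩ := h.nJ ▸ hN
    exact h.mJ.2 (h.J_of_pow ((mem_normalizer_zpowers_three h.oz).2 (.inl (mul_inv_eq_iff_eq_mul.2 (mem_cent.1 hn))))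
      (hj ▸ one_mem _))
  obtain ⟨c, -, e⟩ := hS.exists_conj_le (U := zpowers g) (IsPGroup.of_card_dvd_pow (n := 2) (by
    rw [Nat.card_zpowers]
    exact orderOf_dvd_of_pow_eq_one ((pow_mul g 3 3).trans (J_cube (zpowers_le.2 zJ h9))))) (zpowers_le.2 (mem_cent.2 hg))
  have := J_cube (e (conj_mem_conj_smul c (mem_zpowers g)))
  rwa [conj_pow, conj_eq_one_iff] at this

theorem exists_fr (π : normalizer (zpowers (f z1) : Set G) →* S6) (hs : Function.Surjective π)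
    (hk : ∀ g, π g = 1 ↔ (g : G) ∈ zpowers (f z1)) : ∃ θ, Fr f θ := by
  have hM := fun g => mem_normalizer_zpowers_three (n := g) h.oz
  have mN := fun {k} => h.mem_N (k := k)
  have c9 := @h.cube_of_nine _ _ _ _
  have z3' : ∀ t ∈ zpowers (f z1), t ^ 3 = 1 := fun t ht => J_cube (zpowers_le.2 (h.mJ.2 A9R.mJ.1) ht)
  generalize normalizer (zpowers (f z1) : Set G) = M at *
  let ι : K0 → M := fun k => if e : k * z1 * k⁻¹ = z1 ∨ k * z1 * k⁻¹ = z1⁻¹ then ⟨f k, mN.2 e⟩ else 1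
  have hι : ∀ k ∈ [z1, z2, z3, r0, e1, e3, e4, sp, wd [3, 1]], (ι k : G) = f k := fun k hk => by
    simp only [ι, dif_pos (m_N k hk)]
  have i2 := hι z2 (by simp); have i3 := hι z3 (by simp); have j0 := hι r0 (by simp); have j1 := hι e1 (by simp)
  have j3 := hι e3 (by simp); have j4 := hι e4 (by simp); have js := hι sp (by simp)
  generalize ι z2 = a at i2; generalize ι z3 = b at i3; generalize ι r0 = c0 at j0; generalize ι e1 = c1 at j1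
  generalize ι e3 = c3 at j3; generalize ι e4 = c4 at j4; generalize ι sp = s at js
  clear hι ι
  obtain ⟨-, ⟨a1, a2, a3, a4, a5, a6, a7, a8, a9, a10, a11, a12⟩, bb, b1, b2, b3, b4, b5, b6⟩ := m_e
  simp only [List.forall_mem_cons, ← h.mem_Z] at bb
  obtain ⟨⟨d0, f0⟩, ⟨d1, f1⟩, ⟨d3, f3⟩, ⟨d4, f4⟩, -⟩ : _ ∧ _ ∧ _ ∧ _ ∧ _ := by
    simpa only [List.forall_mem_cons] using m_inv
  simp only [← h.eq_iff, map_mul, map_inv, map_pow, map_one, ← i2, ← i3, ← j0, ← j1, ← j3, ← j4, ← js] at a1 a2 a3 a4 a5 a6 a7 a8 a9 a10 a11 a12 bb b1 b2 b3 b4 b5 b6 d0 d1 d3 d4 f0 f1 f3 f4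
  norm_cast at a1 a2 a3 a4 a5 a6 a7 a8 a9 a10 a11 a12 bb b1 b2 b3 b4 b5 b6 f0 f1 f3 f4
  simp only [← hk, map_mul, map_inv] at bb
  obtain ⟨β, β1, β2, β3, β4⟩ := s6_norm (z := π a) (w := π b) (s := π c0) (u := π c3)
    (by rw [← map_pow, show a ^ 3 = 1 from Subtype.ext (by rw [coe_pow, i2]; exact J_cube (h.mJ.2 A9R.mJ.2.1)), map_one]) bb.1
    (by simpa using congrArg π a1) (by simpa using congrArg π a2) bb.2.1 (fun e => bb.2.2.1 (by rw [e, inv_mul_cancel]))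
    (fun e => bb.2.2.2.1 (by rw [e, mul_inv_cancel])) (by simpa using congrArg π a3) (by simpa using congrArg π a4)
    (by simpa using congrArg π f0) (by simpa using congrArg π a5) (by simpa using congrArg π a6)
    (by simpa using congrArg π f3)
  obtain ⟨ρ, hρ⟩ : ∃ ρ : M →* S6, ∀ g, ρ g = β (π g) := ⟨β.toMonoidHom.comp π, fun _ => rfl⟩
  have sρ : Function.Surjective ρ := (funext hρ : ρ = fun g => β (π g)) ▸ β.surjective.comp hs
  have kρ : ∀ g, ρ g = 1 ↔ (g : G) ∈ zpowers (f z1) := fun g => by rw [hρ, β.map_eq_one_iff, hk]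
  rw [← hρ] at β1 β2 β3 β4
  clear hρ hs hk bb β π
  have β5 : ρ c1 = swap 1 2 := by rw [a7, map_mul, β1, β3]; decide +kernel
  have β6 : ρ c4 = swap 4 5 := by rw [a8, map_mul, β2, β4]; decide +kernel
  have β7 : ρ s = q6 := s6_q _ (by simpa [β1, β2] using congrArg ρ a9) (by simpa [β3, β4] using congrArg ρ a10)
    (by simpa [β1, β2] using congrArg ρ a11) (by simpa [β3, β4] using congrArg ρ a12)
  have cz : ∀ t ∈ zpowers (f z1), ∀ g : G, g * f z1 * g⁻¹ = (f z1)⁻¹ → g * t * g⁻¹ = t⁻¹ := by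
    rintro _ ⟨n, rfl⟩ g e
    simp only [← conj_zpow, e, inv_zpow]
  have cm : ∀ t ∈ zpowers (f z1), ∀ g k : G, g * f z1 * g⁻¹ = (f z1)⁻¹ → k * f z1 * k⁻¹ = (f z1)⁻¹ →
      g * k * t = t * (g * k) := fun t ht g k e e' => by
    rw [← mul_inv_eq_iff_eq_mul, show g * k * t * (g * k)⁻¹ = g * (k * t * k⁻¹) * g⁻¹ by group, cz t ht k e',
      cz _ (inv_mem ht) g e, inv_inv]
  obtain ⟨x, x1, x2, x3, x4⟩ : ∃ x : M, ρ x = swap 2 3 ∧ x * x = 1 ∧ x * f z1 * (x : G)⁻¹ = (f z1)⁻¹ ∧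
      (x * c0) ^ 2 = 1 := by
    obtain ⟨g, hg⟩ := sρ (swap 0 2 * swap 1 3)
    obtain ⟨x, x1, x2, x3⟩ : ∃ x : M, ρ x = swap 2 3 ∧ x * x = 1 ∧ x * f z1 * (x : G)⁻¹ = (f z1)⁻¹ := by
      refine ⟨g * c0 * g⁻¹, by rw [map_mul, map_mul, map_inv, hg, β3]; decide +kernel, by rw [conj_mul, f0]; simp, ?_⟩
      have := (hM _).1 (inv_mem g.2)
      push_cast
      rw [show (g : G) * c0 * (g : G)⁻¹ * f z1 * ((g : G) * c0 * (g : G)⁻¹)⁻¹ =
        g * (c0 * ((g : G)⁻¹ * f z1 * (g : G)⁻¹⁻¹) * (c0 : G)⁻¹) * (g : G)⁻¹ by group]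
      rcases this with e | e
      · rw [e, d0]
        calc _ = (g : G) * ((g : G)⁻¹ * f z1 * (g : G)⁻¹⁻¹)⁻¹ * (g : G)⁻¹ := by rw [e]
          _ = _ := by group
      · rw [e, ← conj_inv (b := (c0 : G)), d0]
        calc _ = (g : G) * ((g : G)⁻¹ * f z1 * (g : G)⁻¹⁻¹)⁻¹ * (g : G)⁻¹ := by rw [e]
          _ = _ := by group
    have t1 := (kρ ((x * c0) ^ 2)).1 (by rw [map_pow, map_mul, x1, β3]; decide +kernel)
    have t2 := cz _ t1 _ x3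
    have t3 := z3' _ t1
    have t4 := cm _ t1 _ _ x3 d0
    generalize ht : (x * c0) ^ 2 = t at *
    refine ⟨t * x, by rw [map_mul, (kρ t).2 t1, one_mul, x1], Subtype.ext ?_, ?_, Subtype.ext ?_⟩
    · push_cast
      rw [show (t : G) * x * (t * x) = t * (x * t * (x : G)⁻¹) * ((x * x : M) : G) by push_cast; group, t2, x2]; simp
    · push_cast
      rw [show (t : G) * x * f z1 * ((t : G) * x)⁻¹ = t * (x * f z1 * (x : G)⁻¹) * (t : G)⁻¹ by group, x3,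
        mul_inv_eq_iff_eq_mul]
      obtain ⟨n, e⟩ := t1
      rw [← e]
      exact ((Commute.refl (f z1)).zpow_left n).inv_right.eq
    · push_cast
      rw [mul_assoc, (Commute.symm t4).mul_pow, ← coe_mul, ← coe_pow M (x * c0), ht, ← pow_succ, t3]
  have x5 : ∀ c : M, c * f z1 * (c : G)⁻¹ = (f z1)⁻¹ → (swap 2 3 * ρ c) ^ 3 = 1 → (x * c) ^ 3 = 1 := fun c e e' =>
    Subtype.ext (c9 (cm _ (mem_zpowers _) _ _ x3 e) ((kρ ((x * c) ^ 3)).1 (by rw [map_pow, map_mul, x1, e'])))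
  have x6 : (x * c4) ^ 2 = 1 := by
    have t1 := (kρ ((x * c4) ^ 2)).1 (by rw [map_pow, map_mul, x1, β6]; decide +kernel)
    have t2 : x * c0 * (x * c4) ^ 2 = (x * c4) ^ 2 * (x * c0) := Subtype.ext (cm _ t1 _ _ x3 d0)
    have t3 : ((x * c4) ^ 2) ^ 3 = 1 := Subtype.ext (z3' _ t1)
    exact two_of_cent x2 f0 f4 x4 b3 t2 t3
  obtain ⟨ψ, -, hψ⟩ := exists_hom_of_coxeter 5 (by decide) ![c0, c1, x, c3, c4] (fun i j => by
    have y1 := x5 c1 d1 (by rw [β5]; decide +kernel)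
    have y3 := x5 c3 d3 (by rw [β4]; decide +kernel)
    fin_cases i <;> fin_cases j
    exacts [(pow_one _).trans f0, b1, pow_swap x4, b2, b3, pow_swap b1, (pow_one _).trans f1, pow_swap y1, b4, b5,
      x4, y1, (pow_one _).trans x2, y3, x6, pow_swap b2, pow_swap b4, pow_swap y3, (pow_one _).trans f3, b6,
      pow_swap b3, pow_swap b5, pow_swap x6, pow_swap b6, (pow_one _).trans f4]) fun e => by
    have := congrArg ρ e
    rw [map_mul, map_one] at this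
    exact absurd ((β3 ▸ β5 ▸ this :) : swap (0 : Fin 6) 1 * swap 1 2 = 1) (by decide +kernel)
  have hi : ∀ p, ρ (ψ p) = p ∧ ψ p * f z1 * (ψ p : G)⁻¹ = if Perm.sign p = 1 then f z1 else (f z1)⁻¹ := fun p => by
    have hp : p ∈ Submonoid.closure (Set.range fun i : Fin 5 => swap i.castSucc i.succ) :=
      Perm.mclosure_swap_castSucc_succ 5 ▸ Submonoid.mem_top p
    induction hp using Submonoid.closure_induction with
    | mem _ hp =>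
      obtain ⟨i, rfl⟩ := hp
      simp only [hψ, Perm.sign_swap (Fin.castSucc_lt_succ (i := i)).ne, if_neg (show (-1 : ℤˣ) ≠ 1 by decide)]
      fin_cases i
      exacts [⟨β3, d0⟩, ⟨β5, d1⟩, ⟨x1, x3⟩, ⟨β4, d3⟩, ⟨β6, d4⟩]
    | one => simp
    | mul p q _ _ hp hq =>
      refine ⟨by rw [map_mul, map_mul, hp.1, hq.1], ?_⟩
      rw [map_mul, coe_mul, show (ψ p : G) * ψ q * f z1 * ((ψ p : G) * ψ q)⁻¹ =
        ψ p * (ψ q * f z1 * (ψ q : G)⁻¹) * (ψ p : G)⁻¹ by group, hq.2, Perm.sign_mul]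
      have := hp.2
      rcases Int.units_eq_one_or (Perm.sign p) with e | e <;> rcases Int.units_eq_one_or (Perm.sign q) with e' | e' <;>
        simp only [e, e', show (-1 : ℤˣ) ≠ 1 by decide, if_true, if_false, mul_one, one_mul, neg_mul_neg,
          ← conj_inv] at this ⊢ <;> simp only [this, inv_inv]
  have dec : ∀ n : M, ((n * (ψ (ρ n))⁻¹ : M) : G) ∈ zpowers (f z1) := fun n =>
    (kρ _).1 (by rw [map_mul, map_inv, (hi _).1, mul_inv_cancel])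
  have p0 : ψ (swap 0 1) = c0 := hψ 0
  have p3 : ψ (swap 3 4) = c3 := hψ 3
  refine ⟨M.subtype.comp ψ, (congrArg _ p0).trans j0, (congrArg _ (hψ 1)).trans j1, (congrArg _ p3).trans j3,
    (congrArg _ (hψ 4)).trans j4, ?_, fun p => (hi p).2, fun p hp => (hi p).1.symm.trans ((kρ _).2 hp),
    fun n hn => ⟨_, dec ⟨n, (hM n).2 hn⟩, ρ ⟨n, (hM n).2 hn⟩, by simp⟩⟩
  have t1 := dec s
  rw [β7] at t1
  have t2 : ψ q6 * c0 = c3 * ψ q6 := by rw [← p0, ← p3, ← map_mul, ← map_mul]; exact congrArg ψ (by decide +kernel)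
  have t3 : c3 * (s * (ψ q6)⁻¹) * c3⁻¹ = (s * (ψ q6)⁻¹)⁻¹ := Subtype.ext (cz _ t1 _ d3)
  have t4 : (s * (ψ q6)⁻¹) ^ 3 = 1 := Subtype.ext (z3' _ t1)
  rw [← mul_assoc, ← a10, mul_assoc, mul_assoc, ← mul_inv_rev, ← t2, mul_inv_rev, mul_inv_cancel_left,
    eq_inv_iff_mul_eq_one] at t3
  exact js ▸ congrArg Subtype.val (mul_inv_eq_one.1 (eq_one_of_odd (by decide) t4 t3)).symm

end Hy

end CL.A9R
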