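/-
3-local recognition of `S₉`, part 2: coordinates; the normaliser of `J` acts monomially.
-/
import Cfsg.Agent.Rec.S9A

set_option autoImplicit false
set_option synthInstance.maxSize 4096

namespace CL.S9R

open Subgroup Cfsg CL.Grp CL.Rec CL.Perm CL.G23 CL.McL3.C27 Equiv
open scoped Pointwise

abbrev V3 := Fin 3 → Fin 3

def lin (M : Fin 3 → V3) (v : V3) : V3 := fun j => v 0 * M 0 j + v 1 * M 1 j + v 2 * M 2 j
def cp (M N : Fin 3 → V3) : Fin 3 → V3 := fun i => lin M (N i)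
def mτ : Mo := (swap 0 1, ![1, 1, 1])
def sg (s : ℤˣ) (v : V3) : V3 := if s = 1 then v else -v
def mx (a : Mo) : Fin 3 → V3 := fun i => sg (a.2 i) (Pi.single (a.1 i) 1)
/-- the action of a monomial matrix -/
def av (a : Mo) (v : V3) : V3 := lin (mx a) v
def fr (β i : Fin 3) : V3 := Pi.single i 1 + fun _ => β
def Mb (β : Fin 3) (M : Fin 3 → V3) (a : Mo) : Prop := ∀ i, lin M (fr β i) = sg (a.2 i) (fr β (a.1 i))
instance (β : Fin 3) (M : Fin 3 → V3) (a : Mo) : Decidable (Mb β M a) := inferInstanceAs (Decidable (∀ _, _))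
def ev (M N : Fin 3 → V3) (w : List (Fin 4)) : Fin 3 → V3 := w.foldr (fun i => cp (![M, mx mr, mx mτ, N] i)) (mx m1)
def dl : Fin 3 → Fin 3 → V3 := ![![![2, 0, 0], ![0, 2, 0], ![0, 0, 1]], ![![0, 1, 2], ![1, 0, 2], ![0, 0, 2]],
  ![![0, 1, 0], ![1, 0, 0], ![2, 2, 2]]]
def Bad (M : Fin 3 → V3) : Prop := lin M 1 = 1 ∧ ∀ a : Mo, M ≠ mx a
instance : DecidablePred Bad := fun _ => inferInstanceAs (Decidable (_ ∧ _))
def nm (a b c d f : Fin 3) : Fin 3 → V3 := ![![a, b, d], ![b, a, d], ![c, c, f]]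

theorem cert1 : ∀ a b c d f : Fin 3, (∃ v, v ≠ 0 ∧ lin (nm a b c d f) v = 0) ∨
    (∃ w ∈ [[0, 0, 1, 0, 1, 0], [0, 1, 0, 1, 0, 0], [0, 1, 1, 0, 1, 0, 0], [0, 0, 1, 2, 0, 1, 0],
      [0, 1, 1, 0, 1, 0, 1, 0], [0, 1, 0, 1, 0, 1, 1, 0]], Bad (ev (nm a b c d f) (nm a b c d f) w)) ∨
    (∃ k : Mo, ∀ β, Mb β (nm a b c d f) k) ∨ ∃ β, (∃ k, Mb β (nm a b c d f) k) ∧
      ∃ w ∈ [[0], [1, 0, 1, 1, 0, 1], [1, 0, 1, 0, 1]], ev (nm a b c d f) (nm a b c d f) w = dl β := by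
  intro a
  fin_cases a <;> decide +kernel

theorem cert2 : ∀ β γ, β = γ ∨ ∃ w ∈ [[0, 3, 0], [3, 0, 3]], Bad (ev (dl β) (dl γ) w) := by decide +kernel

theorem c_av : (∀ a b : Mo, mx a = mx b → a = b) ∧ (∀ a : Mo, av a 1 = 1 → (∀ β, Mb β (mx a) a) ∧
    (mm a a = m1 → a = m1 ∨ ∃ p ∈ [m1, mr, mm mr mr], mm a p = mm p mτ)) ∧
    (∀ v : V3, ∃ p ∈ [m1, mr, mm mr mr], av mτ (av p v) = av p v ∨ av mτ (av p v) = -av p v) ∧
    (∀ a : Mo, av a 1 = -1 → ∀ v w : V3, av a v = v → av a w = w → v = 0 ∨ w = 0 ∨ v = w ∨ v = -w) ∧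
    (∀ β, ∀ v : V3, lin (fr (-β)) (lin (fr β) v) = v) ∧ (∀ β, lin (fr β) 1 = 1) ∧
    ∀ a : Mo, a ≠ m1 → mm a (mm a a) = m1 → (∃ w : V3, ∀ v, av a v = v → ∃ i : Fin 3, v = i.1 • w) ∧
      ∀ b : Mo, mm a b = mm b a → mm b (mm b b) = m1 → b = m1 ∨ b = a ∨ b = mm a a := by
  refine ⟨?_, ?_, ?_, ?_, ?_, ?_, ?_⟩ <;> decide +kernel

variable {G : Type*} [Group G] {e : Fin 3 → G} {g h : G} {a b : Mo} {M N : Fin 3 → V3}

/-- `g` acts on the `e i` as the matrix `M` -/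
def Ac (e : Fin 3 → G) (g : G) (M : Fin 3 → V3) : Prop := ∀ i, g * e i * g⁻¹ = mon e (M i)

/-- the data in the centraliser of `x = e 0 * e 1 * e 2` -/
structure S0 (J : Subgroup G) (e : Fin 3 → G) (r τ : G) : Prop where
  card : Nat.card J = 27
  gen : J = closure (Set.range e)
  cube : ∀ a ∈ J, a ^ 3 = 1
  comm : ∀ a ∈ J, ∀ b ∈ J, Commute a b
  cent : centralizer (J : Set G) ≤ J
  ar : Act e r mr
  aτ : Act e τ mτ
  t2 : τ * τ = 1
  cx : ∀ g, g * mon e 1 = mon e 1 * g → ∃ a, Act e g a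

/-- a twisted frame -/
def tw (e : Fin 3 → G) (β : Fin 3) (i : Fin 3) : G := mon e (fr β i)

namespace S0

variable {J : Subgroup G} {r τ : G} (F : S0 J e r τ)
include F

theorem xm (i : Fin 3) : e i ∈ J := F.gen ▸ subset_closure (Set.mem_range_self _)

theorem mJ (v : V3) : mon e v ∈ J := mon_mem F.xm v

theorem add (v w : V3) : mon e (v + w) = mon e v * mon e w :=
  mon_add (fun i => F.cube _ (F.xm i)) (fun i j => F.comm _ (F.xm i) _ (F.xm j)) v w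

theorem exm (hg : g ∈ J) : ∃ v, mon e v = g :=
  ex_mon (fun i => F.cube _ (F.xm i)) (fun i j => F.comm _ (F.xm i) _ (F.xm j)) (F.gen ▸ hg)

theorem inj : Function.Injective (mon e) := by
  have h : Function.Surjective fun v => (⟨mon e v, F.mJ v⟩ : J) := fun t => (F.exm t.2).imp fun _ e => Subtype.ext e
  exact fun v w e => (h.bijective_of_nat_card_le (by rw [F.card]; simp)).1 (Subtype.ext e)

theorem eq_iff {v w : V3} : mon e v = mon e w ↔ v = w := F.inj.eq_iff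

theorem one_iff {v : V3} : mon e v = 1 ↔ v = 0 := by rw [← mon_zero (x := e), F.eq_iff]

theorem neg (v : V3) : mon e (-v) = (mon e v)⁻¹ := eq_inv_of_mul_eq_one_left (by rw [← F.add, neg_add_cancel, mon_zero])

theorem smul (v : V3) : ∀ n : ℕ, mon e (n • v) = mon e v ^ n
  | 0 => by rw [zero_smul, pow_zero, mon_zero]
  | n + 1 => by rw [succ_nsmul, F.add, smul v n, pow_succ]

theorem msg (s : ℤˣ) (v : V3) : mon e (sg s v) = mon e v ^ (s : ℤ) := by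
  rcases Int.units_eq_one_or s with rfl | rfl
  · simp [sg]
  · rw [sg, if_neg (by decide), F.neg]; simp

theorem mlin (M : Fin 3 → V3) (v : V3) : mon e (lin M v) = mon (fun i => mon e (M i)) v := by
  have k : ∀ i j : Fin 3, i * j = i.1 • j := by decide
  rw [show lin M v = (v 0).1 • M 0 + (v 1).1 • M 1 + (v 2).1 • M 2 from funext fun j => by simp only [lin, k]; rfl,
    F.add, F.add, F.smul, F.smul, F.smul]
  rfl

theorem app' (h1 : Ac e g M) (v : V3) : g * mon e v * g⁻¹ = mon e (lin M v) := by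
  rw [F.mlin, ← funext h1]
  simp only [mon, conj_pow, conj_mul]

theorem ac : Act e g a ↔ Ac e g (mx a) := forall_congr' fun i => by rw [mx, F.msg, mon_single]

theorem app (h1 : Act e g a) (v : V3) : g * mon e v * g⁻¹ = mon e (av a v) := F.app' (F.ac.1 h1) v

theorem fix (h1 : Act e g a) {v : V3} : g * mon e v = mon e v * g ↔ av a v = v := by
  rw [← mul_inv_eq_iff_eq_mul, F.app h1, F.eq_iff]

theorem mul' (h1 : Ac e g M) (h2 : Ac e h N) : Ac e (g * h) (cp M N) := fun i => by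
  rw [cp, ← F.app' h1, ← h2]; group

theorem uniq' (h1 : Ac e g M) (h2 : Ac e g N) : M = N := funext fun i => F.inj ((h1 i).symm.trans (h2 i))

theorem uniq (h1 : Act e g a) (h2 : Act e g b) : a = b := c_av.1 _ _ (F.uniq' (F.ac.1 h1) (F.ac.1 h2))

theorem actJ (hg : g ∈ J) : Act e g m1 := .of_comm fun i => F.comm _ hg _ (F.xm i)

theorem memJ (h1 : Act e g a) (h2 : Act e h a) : h⁻¹ * g ∈ J := F.cent (by
  rw [F.gen, centralizer_closure]
  rintro _ ⟨i, rfl⟩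
  exact (h1.comm h2 i).symm)

theorem memJ1 (h1 : Act e g m1) : g ∈ J := by simpa using F.memJ h1 (F.actJ (one_mem _))

theorem J_iff (h1 : Act e g a) : g ∈ J ↔ a = m1 := ⟨fun e => F.uniq h1 (F.actJ e), fun e => F.memJ1 (e ▸ h1)⟩

omit F in
theorem cj (hg : g ∈ normalizer (J : Set G)) {j : G} (hj : j ∈ J) : g * j * g⁻¹ ∈ J := (mem_normalizer_iff.1 hg j).1 hj

theorem exAc (hg : g ∈ normalizer (J : Set G)) : ∃ M, Ac e g M := by
  choose M hM using fun i => F.exm (cj hg (F.xm i))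
  exact ⟨M, fun i => (hM i).symm⟩

theorem notBad (h1 : Ac e g M) : ¬ Bad M := fun k => by
  obtain ⟨a, h2⟩ := F.cx g (mul_inv_eq_iff_eq_mul.1 (by rw [F.app' h1, k.1]))
  exact k.2 a (F.uniq' h1 (F.ac.1 h2))

theorem exEv (h1 : Ac e g M) (h2 : Ac e h N) : ∀ w, ∃ k, Ac e k (ev M N w)
  | [] => ⟨1, F.ac.1 (F.actJ (one_mem _))⟩
  | i :: w => by
    obtain ⟨k, hk⟩ := exEv h1 h2 w
    fin_cases i
    exacts [⟨_, F.mul' h1 hk⟩, ⟨_, F.mul' (F.ac.1 F.ar) hk⟩, ⟨_, F.mul' (F.ac.1 F.aτ) hk⟩, ⟨_, F.mul' h2 hk⟩]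

theorem mb {β : Fin 3} (h1 : Ac e g M) (h2 : Mb β M a) : Act (tw e β) g a := fun i => by
  rw [tw, F.app' h1, h2, F.msg, tw]

theorem mb' (β : Fin 3) (h1 : Act e g a) (h2 : av a 1 = 1) : Act (tw e β) g a :=
  F.mb (F.ac.1 h1) ((c_av.2.1 a h2).1 β)

theorem twx (β : Fin 3) : mon (tw e β) 1 = mon e 1 := (F.mlin (fr β) 1).symm.trans (by rw [c_av.2.2.2.2.2.1])

theorem twist (β : Fin 3) : S0 J (tw e β) r τ := by
  refine ⟨F.card, le_antisymm (fun j hj => ?_) ((closure_le _).2 ?_), F.cube, F.comm, F.cent, F.mb' β F.ar (by decide),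
    F.mb' β F.aτ (by decide), F.t2, fun g hg => ?_⟩
  · obtain ⟨v, rfl⟩ := F.exm hj
    have := c_av.2.2.2.2.1 (-β) v
    rw [neg_neg] at this
    rw [← this, F.mlin]
    exact mon_mem (fun i => Subgroup.subset_closure (Set.mem_range_self i)) _
  · rintro _ ⟨i, rfl⟩
    exact F.mJ _
  · rw [F.twx] at hg
    exact (F.cx g hg).imp fun a h1 => F.mb' β h1 ((F.fix h1).1 hg)

theorem exR {p : Mo} (hp : p ∈ [m1, mr, mm mr mr]) : ∃ ρ, Act e ρ p ∧ ∀ β, Act (tw e β) ρ p := by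
  simp only [List.mem_cons, List.not_mem_nil, or_false] at hp
  rcases hp with rfl | rfl | rfl
  exacts [⟨1, F.actJ (one_mem _), fun β => (F.twist β).actJ (one_mem _)⟩, ⟨r, F.ar, fun β => (F.twist β).ar⟩,
    ⟨r * r, F.ar.mul F.ar, fun β => (F.twist β).ar.mul (F.twist β).ar⟩]

variable [Finite G]

theorem memH (h1 : Act e g a) : g ∈ normalizer (J : Set G) := F.gen ▸ h1.norm

omit [Finite G] in
theorem τ1 : τ ≠ 1 := fun k => absurd (F.uniq F.aτ (k ▸ F.actJ (one_mem _))) (by decide)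

theorem good1 (hg : g ∈ normalizer (J : Set G)) (hc : τ * (g * mon e 1 * g⁻¹) = g * mon e 1 * g⁻¹ * τ) :
    (∃ a, ∀ β, Act (tw e β) g a) ∨ ∃ β, (∃ a, Act (tw e β) g a) ∧ ∃ h, Ac e h (dl β) := by
  have c1 : g⁻¹ * τ * g * mon e 1 = mon e 1 * (g⁻¹ * τ * g) := by
    calc _ = g⁻¹ * (τ * (g * mon e 1 * g⁻¹)) * g := by group
      _ = _ := by rw [hc]; group
  have s2 : g⁻¹ * τ * g * (g⁻¹ * τ * g) = 1 := by simp [mul_assoc, ← mul_assoc τ τ, F.t2]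
  obtain ⟨a, ha⟩ := F.cx _ c1
  obtain ⟨p, hp, e1⟩ := ((c_av.2.1 a ((F.fix ha).1 c1)).2 (F.uniq (ha.mul ha) (s2 ▸ F.actJ (one_mem _)))).resolve_left
    fun k => F.τ1 (conj_eq_one_iff.1 (by
      rw [inv_inv g]; exact eq_one_of_two_three s2 (F.cube _ ((F.J_iff ha).2 k))))
  obtain ⟨ρ, h1, h2⟩ := F.exR hp
  obtain ⟨M, hM⟩ := F.exAc hg
  obtain ⟨M', hM'⟩ := F.exAc (mul_mem hg (F.memH h1))
  have e2 : cp (mx mτ) M' = cp M' (mx mτ) :=
    (F.uniq' (F.mul' (F.ac.1 F.aτ) hM') (by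
      simpa only [mul_assoc, mul_inv_cancel_left] using F.mul' hM (F.ac.1 (ha.mul h1)))).trans
    (F.uniq' (e1 ▸ F.mul' hM (F.ac.1 (h1.mul F.aτ))) (by simpa only [mul_assoc] using F.mul' hM' (F.ac.1 F.aτ)))
  have e3 : M' = nm (M' 0 0) (M' 0 1) (M' 2 0) (M' 0 2) (M' 2 2) := by
    have k := fun i j => congrFun (congrFun e2 i) j
    have k0 := k 0 0; have k1 := k 0 1; have k2 := k 0 2; have k3 := k 2 0
    simp [cp, lin, mx, mτ, sg, swap_apply_of_ne_of_ne] at k0 k1 k2 k3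
    funext i j
    fin_cases i <;> fin_cases j <;> simp [nm, k0, k1, k2, k3]
  have bk : ∀ β k, Mb β M' k → Act (tw e β) g (mm k (mi p)) := fun β k hk => by
    simpa using (F.mb hM' hk).mul (h2 β).inv
  have c := cert1 (M' 0 0) (M' 0 1) (M' 2 0) (M' 0 2) (M' 2 2)
  rw [← e3] at c
  rcases c with ⟨v, v0, k⟩ | ⟨w, -, k⟩ | ⟨k, hk⟩ | ⟨β, ⟨k, hk⟩, w, -, e4⟩
  · have := F.app' hM' v
    rw [k, mon_zero, conj_eq_one_iff, F.one_iff] at this
    exact absurd this v0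
  · exact (F.exEv hM' hM' w).elim fun _ e => absurd k (F.notBad e)
  · exact .inl ⟨_, fun β => bk β k (hk β)⟩
  · exact .inr ⟨β, ⟨_, bk β k hk⟩, e4 ▸ F.exEv hM' hM' w⟩

theorem good (hg : g ∈ normalizer (J : Set G)) :
    (∃ a, ∀ β, Act (tw e β) g a) ∨ ∃ β, (∃ a, Act (tw e β) g a) ∧ ∃ h, Ac e h (dl β) := by
  obtain ⟨v, hv⟩ := F.exm (cj hg (F.mJ 1))
  obtain ⟨p, hp, e1⟩ := c_av.2.2.1 v
  obtain ⟨ρ, h1, h2⟩ := F.exR hp
  have e2 : ρ * g * mon e 1 * (ρ * g)⁻¹ = mon e (av p v) := by rw [← F.app h1, hv]; group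
  have gH := mul_mem (F.memH h1) hg
  rcases e1 with e1 | e1
  · have bk : ∀ β k, Act (tw e β) (ρ * g) k → Act (tw e β) g (mm (mi p) k) := fun β k hk => by
      simpa using (h2 β).inv.mul hk
    exact (F.good1 gH (by rw [e2, F.fix F.aτ, e1])).imp (fun ⟨k, hk⟩ => ⟨_, fun β => bk β k (hk β)⟩)
      fun ⟨β, ⟨k, hk⟩, e⟩ => ⟨β, ⟨_, bk β k hk⟩, e⟩
  generalize ρ * g = k at e2 gH
  have e3 : k⁻¹ * τ * k * mon e 1 * (k⁻¹ * τ * k)⁻¹ = mon e (-1) := by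
    calc _ = k⁻¹ * (τ * (k * mon e 1 * k⁻¹) * τ⁻¹) * k := by group
      _ = _ := by rw [e2, F.app F.aτ, e1, F.neg, F.neg, ← e2]; group
  obtain ⟨β, a, ha⟩ : ∃ β a, Act (tw e β) (k⁻¹ * τ * k) a :=
    (F.good1 (mul_mem (mul_mem (inv_mem gH) (F.memH F.aτ)) gH) (by rw [e3, F.fix F.aτ]; decide)).elim
      (fun ⟨a, h⟩ => ⟨0, a, h 0⟩) fun ⟨β, h, _⟩ => ⟨β, h⟩
  have F' := F.twist β
  rw [F.neg, ← F.twx β, ← F'.neg, F'.app ha, F'.eq_iff] at e3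
  have key : ∀ u, av mτ u = u → ∃ w, mon (tw e β) u = k * mon (tw e β) w * k⁻¹ ∧ av a w = w := fun u hu => by
    obtain ⟨w, hw⟩ := F'.exm (cj (inv_mem gH) (F'.mJ u))
    refine ⟨w, by rw [hw]; group, (F'.fix ha).1 ?_⟩
    calc _ = k⁻¹ * (τ * mon (tw e β) u) * k := by rw [hw]; group
      _ = _ := by rw [(F'.fix F'.aτ).2 hu, hw]; group
  obtain ⟨v1, a1, b1⟩ := key ![1, 1, 0] (by decide)
  obtain ⟨v2, a2, b2⟩ := key ![0, 0, 1] (by decide)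
  rcases c_av.2.2.2.1 a e3 v1 v2 b1 b2 with rfl | rfl | rfl | rfl
  · exact absurd (F'.one_iff.1 (by simpa [mon_zero] using a1)) (by decide)
  · exact absurd (F'.one_iff.1 (by simpa [mon_zero] using a2)) (by decide)
  · exact absurd (F'.inj (a1.trans a2.symm)) (by decide)
  · rw [F'.neg, ← conj_inv, ← a2, ← F'.neg] at a1
    exact absurd (F'.inj a1) (by decide)

theorem mono : ∃ β, ∀ g ∈ normalizer (J : Set G), ∃ a, Act (tw e β) g a := by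
  by_cases h : ∃ β h, Ac e h (dl β)
  · obtain ⟨β, h, h1⟩ := h
    refine ⟨β, fun g hg => (F.good hg).elim (fun ⟨a, h⟩ => ⟨a, h β⟩) fun ⟨γ, h2, k, h3⟩ => ?_⟩
    rcases cert2 β γ with rfl | ⟨w, -, e⟩
    exacts [h2, (F.exEv h1 h3 w).elim fun _ e' => absurd e (F.notBad e')]
  · exact ⟨0, fun g hg => (F.good hg).elim (fun ⟨a, h⟩ => ⟨a, h 0⟩) fun ⟨γ, _, h3⟩ => absurd ⟨γ, h3⟩ h⟩

omit [Finite G] in
theorem le_or_card {B : Subgroup G} (hB : ∀ b ∈ B, ∃ a, Act e b a) (h3 : ∀ b ∈ B, b ^ 3 = 1)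
    (hc : ∀ a ∈ B, ∀ b ∈ B, a * b = b * a) : B ≤ J ∨ Nat.card B ≤ 9 := by
  refine or_iff_not_imp_left.2 fun hn => ?_
  obtain ⟨b, hb, bJ⟩ := SetLike.not_le_iff_exists.1 hn
  have c3 : ∀ {c a}, c ∈ B → Act e c a → mm a (mm a a) = m1 := fun hc h => F.uniq (h.mul (h.mul h)) (by
    rw [← pow_three, h3 _ hc]; exact F.actJ (one_mem _))
  obtain ⟨a, ha⟩ := hB b hb
  obtain ⟨⟨w, hw⟩, k⟩ := c_av.2.2.2.2.2.2 a (fun e => bJ ((F.J_iff ha).2 e)) (c3 hb ha)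
  refine le_trans (Nat.card_mono (Set.toFinite _) fun c hc' => ?_) ((Finite.card_range_le
    fun p : Fin 3 × Fin 3 => b ^ p.1.1 * mon e (p.2.1 • w)).trans (by simp))
  obtain ⟨i, hi⟩ : ∃ i : Fin 3, (b ^ i.1)⁻¹ * c ∈ J := by
    obtain ⟨a', h'⟩ := hB c hc'
    rcases k a' (F.uniq (ha.mul h') (hc _ hb _ hc' ▸ h'.mul ha)) (c3 hc' h') with rfl | rfl | rfl
    exacts [⟨0, by simpa using F.memJ1 h'⟩, ⟨1, by simpa using F.memJ h' ha⟩,
      ⟨2, by simpa [pow_two] using F.memJ h' (ha.mul ha)⟩]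
  obtain ⟨v, hv⟩ := F.exm hi
  obtain ⟨j, rfl⟩ := hw v ((F.fix ha).1 (hv ▸ hc _ hb _ (mul_mem (inv_mem (pow_mem hb _)) hc')))
  exact ⟨(i, j), by simp [hv]⟩

end S0

/-- the three `3`-cycles -/
def c9 : Fin 3 → Perm (Fin 9) := ![swap 0 1 * swap 1 2, swap 3 4 * swap 4 5, swap 6 7 * swap 7 8]
abbrev x9 : Perm (Fin 9) := swap 0 1 * swap 1 2 * swap 3 4 * swap 4 5 * swap 6 7 * swap 7 8
def r9 : Perm (Fin 9) := swap 0 3 * swap 3 6 * (swap 1 4 * swap 4 7) * (swap 2 5 * swap 5 8)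
def t9 : Perm (Fin 9) := swap 0 3 * swap 1 4 * swap 2 5
def F9 (a b c : Fin 9) : Fin 9 → Fin 9 := ![a, x9 a, x9 (x9 a), b, x9 b, x9 (x9 b), c, x9 c, x9 (x9 c)]

theorem c_F9 : ∀ a b c, Function.Injective (F9 a b c) → (∃ κ : Perm (Fin 3), ∀ i p, F9 a b c (c9 i p) =
    c9 (κ i) (F9 a b c p)) ∧ ((∀ i p, F9 a b c (c9 i p) = c9 i (F9 a b c p)) → ∃ v, ∀ p, F9 a b c p = mon c9 v p) := by
  decide +kernel

theorem c_x9 : (∀ i, c9 i * x9 = x9 * c9 i ∧ c9 i ^ 3 = 1 ∧ (∀ j, c9 i * c9 j = c9 j * c9 i) ∧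
    r9 * c9 i * r9⁻¹ = c9 (mr.1 i) ∧ t9 * c9 i * t9⁻¹ = c9 (mτ.1 i) ∧ mr.2 i = 1 ∧ mτ.2 i = 1) ∧ r9 * x9 = x9 * r9 ∧
    t9 * x9 = x9 * t9 ∧ t9 * t9 = 1 ∧ mon c9 1 = x9 ∧ ∀ v, (mon c9 v = 1 → v = 0) ∧
      (r9 * mon c9 v = mon c9 v * r9 → mon c9 v = 1 ∨ mon c9 v = x9 ∨ mon c9 v = x9⁻¹) := by decide +kernel

theorem model {k : Perm (Fin 9)} (h : k * x9 = x9 * k) : (∃ κ : Perm (Fin 3), ∀ i, k * c9 i = c9 (κ i) * k) ∧
    ((∀ i, k * c9 i = c9 i * k) → ∃ v, k = mon c9 v) := by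
  have h1 : ∀ p, k (x9 p) = x9 (k p) := fun p => congrArg (fun q : Perm (Fin 9) => q p) h
  have e : F9 (k 0) (k 3) (k 6) = k := funext fun p => by
    simp only [F9, ← h1]
    fin_cases p <;> exact congrArg k (by decide)
  obtain ⟨⟨κ, h2⟩, h3⟩ := c_F9 _ _ _ (e ▸ k.injective)
  rw [e] at h2 h3
  exact ⟨⟨κ, fun i => Equiv.ext (h2 i)⟩, fun h4 => (h3 fun i p => congrArg (fun q : Perm (Fin 9) => q p) (h4 i)).imp
    fun v hv => Equiv.ext hv⟩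

theorem exists_s0 [Finite G] {x : G} (hx : orderOf x = 3) (φ : centralizer ({x} : Set G) ≃* centralizer ({x9} : Set _))
    {J : Subgroup G} (hJ : J ≤ centralizer {x}) (hc : ∀ a ∈ J, ∀ b ∈ J, a * b = b * a) (h3 : ∀ j ∈ J, j ^ 3 = 1)
    (cJ : Nat.card J = 27) : ∃ e r τ, S0 J e r τ := by
  obtain ⟨k1, k2, k3, k4, k5, k6⟩ := c_x9
  let ψ : centralizer ({x9} : Set _) →* G := (centralizer {x}).subtype.comp φ.symm.toMonoidHom
  have hi : Function.Injective ψ := Subtype.val_injective.comp φ.symm.injective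
  have hs : ∀ g, g * x = x * g → ∃ k, ψ k = g := fun g hg => ⟨φ ⟨g, mc.2 hg⟩, by simp [ψ]⟩
  have hr : ∀ k, ψ k * x = x * ψ k := fun k => mc.1 (φ.symm k).2
  clear_value ψ
  let c : Fin 3 → centralizer ({x9} : Set (Perm (Fin 9))) := fun i => ⟨c9 i, mc.2 (k1 i).1⟩
  have mψ : ∀ v, mon (fun i => ψ (c i)) v = ψ (mon c v) := fun v => by simp [mon]
  have e3 : ∀ i, ψ (c i) ^ 3 = 1 := fun i => by rw [← map_pow, show c i ^ 3 = 1 from Subtype.ext (k1 i).2.1, map_one]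
  have ec : ∀ i j, Commute (ψ (c i)) (ψ (c j)) := fun i j => Commute.map (Subtype.ext ((k1 i).2.2.1 j)) ψ
  have cx : ∀ g, g * mon (fun i => ψ (c i)) 1 = mon (fun i => ψ (c i)) 1 * g ↔ g * x = x * g := fun g => by
    obtain ⟨k, rfl⟩ := hs x rfl
    have cm : ∀ l, l * k = k * l := fun l => hi (by rw [map_mul, map_mul, hr])
    obtain ⟨v, hv⟩ := (model (mc.1 k.2)).2 fun i => congrArg Subtype.val (cm (c i)).symm
    rcases (k6 v).2 (hv ▸ congrArg Subtype.val (cm ⟨r9, mc.2 k2⟩)) with e | e | e <;> rw [← hv] at e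
    · exact absurd (by rw [show k = 1 from Subtype.ext e, map_one]) (ne_one_of_ord3 hx)
    · rw [mψ, show mon c 1 = k from Subtype.ext (k5.trans e.symm)]
    · rw [mψ, show mon c 1 = k⁻¹ from Subtype.ext (k5.trans (by rw [coe_inv, e, inv_inv])), map_inv]
      exact Commute.inv_right_iff
  have ex := fun {g} => ex_mon (g := g) e3 ec
  have mm' := mon_mem (x := fun i => ψ (c i)) fun i => subset_closure (Set.mem_range_self i)
  have F : S0 (closure (Set.range fun i => ψ (c i))) (fun i => ψ (c i)) (ψ ⟨r9, mc.2 k2⟩) (ψ ⟨t9, mc.2 k3⟩) := by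
    refine ⟨?_, rfl, fun a ha => ?_, fun a ha b hb => ?_, fun g hg => ?_, fun i => ?_, fun i => ?_, ?_, fun g hg => ?_⟩
    · refine (Nat.card_eq_of_bijective (fun v => ⟨_, mm' v⟩) ⟨fun v w e => ?_, fun t =>
        (ex t.2).imp fun _ e => Subtype.ext e⟩).symm.trans (by simp)
      have e1 := mon_add e3 ec (v - w) w
      rw [sub_add_cancel, Subtype.mk_eq_mk.1 e, right_eq_mul, mψ, map_eq_one_iff ψ hi] at e1
      exact sub_eq_zero.1 ((k6 _).1 (congrArg Subtype.val e1))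
    · obtain ⟨v, rfl⟩ := ex ha
      rw [pow_three, ← mon_add e3 ec, ← mon_add e3 ec, (by decide : ∀ v : V3, v + (v + v) = 0), mon_zero]
    · obtain ⟨v, rfl⟩ := ex ha
      obtain ⟨w, rfl⟩ := ex hb
      exact (mon_add e3 ec v w).symm.trans (by rw [add_comm, mon_add e3 ec])
    · obtain ⟨k, rfl⟩ := hs g ((cx g).1 (hg _ (mm' 1)).symm)
      obtain ⟨v, hv⟩ := (model (mc.1 k.2)).2 fun i => congrArg Subtype.val (hi (a₁ := k * c i) (a₂ := c i * k) (by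
        rw [map_mul, map_mul]; exact (hg _ (subset_closure ⟨i, rfl⟩)).symm))
      rw [show k = mon c v from Subtype.ext hv, ← mψ]
      exact mm' v
    · rw [(k1 i).2.2.2.2.2.1, ← map_mul, ← map_inv, ← map_mul, Units.val_one, zpow_one]
      exact congrArg ψ (Subtype.ext (k1 i).2.2.2.1)
    · rw [(k1 i).2.2.2.2.2.2, ← map_mul, ← map_inv, ← map_mul, Units.val_one, zpow_one]
      exact congrArg ψ (Subtype.ext (k1 i).2.2.2.2.1)
    · rw [← map_mul, map_eq_one_iff ψ hi]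
      exact Subtype.ext k4
    · obtain ⟨k, rfl⟩ := hs g ((cx g).1 hg)
      obtain ⟨κ, hκ⟩ := (model (mc.1 k.2)).1
      refine ⟨(κ, 1), fun i => ?_⟩
      rw [← map_mul, show k * c i = c (κ i) * k from Subtype.ext (hκ i), map_mul]
      simp
  have e := (F.le_or_card (fun b hb => F.cx b ((cx b).2 (mc.1 (hJ hb)))) h3 hc).resolve_right (by omega)
  exact ⟨_, _, _, eq_of_le_of_card_ge e (by rw [F.card, cJ]) ▸ F⟩

end CL.S9R
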