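/-
3-local recognition of `S₉`, part 3: centralisers of elements of `J`.
-/
import Cfsg.Agent.Rec.S9B
import Cfsg.Agent.Rec.A9H
import Cfsg.Agent.Inv.ZStar
import Cfsg.Agent.S0205

set_option autoImplicit false
set_option synthInstance.maxSize 4096

namespace CL.S9R

open Subgroup Cfsg CL.Grp CL.Rec CL.Perm CL.G23 CL.McL3.C27 Equiv
open scoped Pointwise

def md : Mo := (1, ![-1, -1, 1])
def mι : Mo := (1, ![-1, -1, -1])
def pr (a : Mo) : ℤˣ := a.2 0 * a.2 1 * a.2 2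
def vz : V3 := ![0, 0, 1]
def vy : V3 := ![1, 1, 0]

theorem c_re : (∀ p : Perm (Fin 3), ∃ a ∈ [m1, mr, mm mr mr], (p, 1) = a ∨ (p, 1) = mm a mτ) ∧
    (∀ a : Mo, a.2 = 1 ∨ a.2 = -1 ∨ ∃ p q s : Perm (Fin 3), md = mm (p, 1) (mm a (mm (q, 1) (mm a (s, 1))))) ∧
    (∀ a : Mo, pr a = 1 ∨ ∃ p q : Perm (Fin 3), mι = mm a (p, 1) ∨ mι = mm a (mm (p, 1) (mm md (q, 1)))) ∧
    ∀ a : Mo, ∃ p q : Perm (Fin 3), ∃ d ∈ [m1, md], a = mm (p, 1) (mm d (q, 1)) ∨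
      pr a ≠ 1 ∧ a = mm mι (mm (p, 1) (mm d (q, 1))) := by
  refine ⟨?_, ?_, ?_, ?_⟩ <;> decide +kernel

theorem c_fix : ∀ (a : Mo) (v : V3), av a v = v → v ≠ 0 → (a.1 * a.1 ≠ 1 → (∃ b, pr b = 1 ∧ (v = av b 1 ∨ v = -av b 1)) ∧
    ((a.2 = 1 ∨ a.2 = -1) → v = 1 ∨ v = -1) ∧ ∀ w, av a w = w → w = 0 ∨ w = v ∨ w = -v) ∧
    ((∀ w, av a w = w ∨ av a w = v + w ∨ av a w = -v + w) → a = m1) ∧
    (a.1 * a.1 = 1 → mm a a = m1 ∨ pr a ≠ 1 ∧ a.2 ≠ 1 ∧ a.2 ≠ -1 ∧ ∃ b, v = av b vz) := by decide +kernel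

theorem c_four : (∀ a : Mo, a.1 * a.1 = 1 → mm a (mm a (mm a a)) = m1) ∧
    (∀ a : Mo, (∀ v, av a (av a v + -v) = av a v + -v) → a = m1) ∧
    (∀ v : V3, v = 0 ∨ ∃ w ∈ [v, av mr v + -v, av mr (av mr v + -v) + -(av mr v + -v)], w = 1 ∨ w = -1) ∧
    Fintype.card {a : Mo // av a vz = vz} = 8 := by
  refine ⟨?_, ?_, ?_, ?_⟩ <;> decide +kernel

variable {G : Type*} [Group G] {e : Fin 3 → G} {g h : G} {a b : Mo} {v w : V3}

/-- `a` is induced by an element -/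
def Re (e : Fin 3 → G) (a : Mo) : Prop := ∃ g, Act e g a

theorem Re.mul (h1 : Re e a) (h2 : Re e b) : Re e (mm a b) := let ⟨_, h⟩ := h1; let ⟨_, k⟩ := h2; ⟨_, h.mul k⟩

theorem mem_of_four {K : Subgroup G} {k : ℕ} (h4 : g ^ 4 ∈ K) (h3 : g ^ 3 ^ k ∈ K) : g ∈ K := by
  obtain ⟨a, b, e⟩ : IsCoprime (4 : ℤ) (3 ^ k) := (show IsCoprime (4 : ℤ) 3 from ⟨1, -1, by norm_num⟩).pow_right
  rw [← zpow_one g, ← e, zpow_add, mul_comm a, mul_comm b, zpow_mul, zpow_mul]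
  exact mul_mem (zpow_mem (by exact_mod_cast h4) _) (zpow_mem (by exact_mod_cast h3) _)

/-- the hypotheses, in coordinates -/
structure Sx (J : Subgroup G) (e : Fin 3 → G) (r τ : G) : Prop extends S0 J e r τ where
  mono : ∀ g ∈ normalizer (J : Set G), ∃ a, Act e g a
  sig : ∀ K : Subgroup G, (Nat.card K).Coprime 3 → J ≤ normalizer (K : Set G) → K = ⊥

namespace Sx

variable {J : Subgroup G} {r τ : G} (F : Sx J e r τ)
include F

theorem three : IsPGroup 3 J := fun j => ⟨1, Subtype.ext (by simpa using F.cube j j.2)⟩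

theorem Jc {j : G} (hj : j ∈ J) : J ≤ centralizer {j} := fun k hk => mc.2 (F.comm k hk j hj)

theorem ord (hv : v ≠ 0) : orderOf (mon e v) = 3 := ord3 (F.cube _ (F.mJ v)) (mt F.one_iff.1 hv)

theorem mzp (hv : v ≠ 0) : mon e w ∈ zpowers (mon e v) ↔ w = 0 ∨ w = v ∨ w = -v := by
  rw [mem_zpowers_three (F.ord hv), ← F.neg, F.one_iff, F.eq_iff, F.eq_iff]

theorem pr2 (hv : v ≠ 0) (h : ¬ (w = 0 ∨ w = v ∨ w = -v)) : Pr (mon e v) (mon e w) :=
  ⟨F.cube _ (F.mJ v), F.cube _ (F.mJ w), mt F.one_iff.1 hv, F.comm _ (F.mJ v) _ (F.mJ w), mt (F.mzp hv).1 h⟩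

theorem re1 : Re e m1 := ⟨1, F.actJ (one_mem _)⟩

theorem reP (p : Perm (Fin 3)) : Re e (p, 1) := by
  obtain ⟨a, ha, h⟩ := c_re.1 p
  obtain ⟨ρ, h1, -⟩ := F.exR ha
  rcases h with h | h <;> rw [h]
  exacts [⟨_, h1⟩, ⟨_, h1.mul F.aτ⟩]

theorem sgn (hd : ¬ Re e md) (h : Re e a) : a.2 = 1 ∨ a.2 = -1 := by
  rcases c_re.2.1 a with k | k | ⟨p, q, s, k⟩
  exacts [.inl k, .inr k, absurd (k ▸ (F.reP p).mul (h.mul ((F.reP q).mul (h.mul (F.reP s))))) hd]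

theorem pr1 (hd : Re e md) (hi : ¬ Re e mι) (h : Re e a) : pr a = 1 := by
  rcases c_re.2.2.1 a with k | ⟨p, q, k | k⟩
  exacts [k, absurd (k ▸ h.mul (F.reP p)) hi, absurd (k ▸ h.mul ((F.reP p).mul (hd.mul (F.reP q)))) hi]

theorem reD (hd : Re e md) (h : pr a = 1 ∨ Re e mι) : Re e a := by
  obtain ⟨p, q, d, h1, h2⟩ := c_re.2.2.2 a
  have : Re e (mm (p, 1) (mm d (q, 1))) := (F.reP p).mul (Re.mul (by
    simp only [List.mem_cons, List.not_mem_nil, or_false] at h1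
    rcases h1 with rfl | rfl
    exacts [F.re1, hd]) (F.reP q))
  rcases h2 with k | ⟨k1, k⟩ <;> rw [k]
  exacts [this, (h.resolve_left k1).mul this]

theorem sq (h1 : Act e g a) (h2 : mm a a = m1) : g * g ∈ J := F.memJ1 (h2 ▸ h1.mul h1)

theorem mem3 (h1 : Act e g a) (h2 : a.1 * a.1 = 1) {k : ℕ} (h3 : g ^ 3 ^ k ∈ J) : g ∈ J :=
  mem_of_four (by simpa [pow_succ, mul_assoc] using F.memJ1 (c_four.1 a h2 ▸ h1.mul (h1.mul (h1.mul h1)))) h3

theorem actL {j : G} (hj : j ∈ J) (h1 : Act e g a) : Act e (j * g) a := by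
  simpa [show ∀ a, mm m1 a = a by decide +kernel] using (F.actJ hj).mul h1

variable [Finite G]

/-- commuting lifts -/
theorem lift {s : G} (hs : Act e s a) (s2 : s * s = 1) (h : Re e b) (hc : mm a b = mm b a) :
    ∃ n, Act e n b ∧ n * s = s * n ∧ (mm b b = m1 → n * n = 1) := by
  obtain ⟨n, hn⟩ := h
  have k1 : n * s * n⁻¹ * s⁻¹ ∈ J := by
    have := S0.cj (F.memH (hs.mul hn)) (F.memJ (hn.mul hs) (hc ▸ hs.mul hn))
    rwa [mul_inv_cancel_left, mul_inv_rev, ← mul_assoc] at this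
  have k2 : n * s * n⁻¹ * s⁻¹ * n * s = s * (n * s * n⁻¹ * s⁻¹ * n) := by
    have si : s⁻¹ = s := inv_eq_of_mul_eq_one_right s2
    calc _ = (n * s * n⁻¹ * s⁻¹) ^ 3 * (s * n * s⁻¹ * n⁻¹ * s * n) := by rw [pow_three]; group
      _ = _ := by rw [F.cube _ k1, si]; group
  have k3 := F.actL k1 hn
  generalize n * s * n⁻¹ * s⁻¹ * n = m at k2 k3
  by_cases hb : mm b b = m1
  · refine ⟨m ^ 3, ?_, (show Commute m s from k2).pow_left 3, fun _ => ?_⟩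
    · rw [pow_three']
      exact F.actL (F.sq k3 hb) k3
    · rw [← F.cube _ (F.sq k3 hb), ← pow_two, ← pow_two, ← pow_mul, ← pow_mul]
  · exact ⟨m, k3, k2, fun k => absurd k hb⟩

theorem wc (hg : ∀ j ∈ J, g * j * g⁻¹ ∈ normalizer (J : Set G)) : g ∈ normalizer (J : Set G) := by
  have m : ∀ b ∈ MulAut.conj g • J, ∃ j ∈ J, b = g * j * g⁻¹ := fun b hb =>
    ⟨_, (mem_conj_smul_iff _ _ _).1 hb, by group⟩
  rcases F.le_or_card (B := MulAut.conj g • J) (fun b hb => by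
      obtain ⟨j, hj, rfl⟩ := m b hb; exact F.mono _ (hg j hj)) (fun b hb => by
      obtain ⟨j, hj, rfl⟩ := m b hb; rw [conj_pow, F.cube j hj]; group) (fun a ha b hb => by
      obtain ⟨j, hj, rfl⟩ := m b hb
      obtain ⟨i, hi, rfl⟩ := m a ha
      rw [conj_mul, conj_mul, F.comm i hi j hj]) with e | e
  · exact mem_normalizer_fintype fun j hj => e (conj_mem_conj_smul g hj)
  · rw [card_conj_smul, F.card] at e; omega

theorem le_H {P : Subgroup G} (hP : IsPGroup 3 P) (hJ : J ≤ P) : P ≤ normalizer (J : Set G) := by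
  have := Fact.mk Nat.prime_three
  by_contra hn
  obtain ⟨k, hk, h1, h2⟩ := CL.Inv.exists_mem_normalizer_of_lt_pgroup hP
    (lt_of_le_of_ne inf_le_left fun e : P ⊓ normalizer (J : Set G) = P => hn (e ▸ inf_le_right))
  exact h1 ⟨hk, F.wc fun j hj => ((mem_normalizer_iff.1 h2 j).1 ⟨hJ hj, le_normalizer hj⟩).2⟩

theorem fus {x : G} (hx : x ∈ J) (hg : g * x * g⁻¹ ∈ J) :
    ∃ c ∈ centralizer {g * x * g⁻¹}, c * g ∈ normalizer (J : Set G) := by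
  have := Fact.mk Nat.prime_three
  obtain ⟨P, hP, hJP⟩ := exists_isSylowIn_ge F.three (F.Jc hg)
  obtain ⟨c, hc, e⟩ := hP.exists_conj_le (U := MulAut.conj g • J) (F.three.conj_smul g) fun b hb => mc.2 (by
    rw [show b = g * (g⁻¹ * b * g) * g⁻¹ by group, conj_mul, conj_mul, F.comm _ ((mem_conj_smul_iff _ _ _).1 hb) _ hx])
  refine ⟨c, hc, F.wc fun j hj => F.le_H hP.isPGroup hJP ?_⟩
  simpa [mul_assoc] using e (conj_mem_conj_smul c (conj_mem_conj_smul g hj))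

theorem mem_of_conj {x : G} (hx : x ∈ J) (hc : centralizer {g * x * g⁻¹} ≤ normalizer (J : Set G)) :
    g ∈ normalizer (J : Set G) :=
  F.wc fun j hj => hc (mc.2 (by rw [conj_mul, conj_mul, F.comm j hj x hx]))

theorem conj_v (h : IsConj (mon e v) (mon e w)) : ∃ a, Re e a ∧ av a v = w := by
  obtain ⟨g, h⟩ := isConj_iff.1 h
  obtain ⟨c, hc, h1⟩ := F.fus (F.mJ v) (h ▸ F.mJ w)
  obtain ⟨a, ha⟩ := F.mono _ h1
  refine ⟨a, ⟨_, ha⟩, F.inj ?_⟩
  rw [h] at hc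
  calc _ = c * (g * mon e v * g⁻¹) * c⁻¹ := by rw [← F.app ha]; group
    _ = _ := by rw [h, mc.1 hc]; group

theorem cent_av (h1 : Re e a) (h : centralizer {mon e v} ≤ normalizer (J : Set G)) :
    centralizer {mon e (av a v)} ≤ normalizer (J : Set G) := by
  obtain ⟨g, h1⟩ := h1
  exact F.app h1 v ▸ A9R.cent_conj h (F.memH h1)

omit [Finite G] in
theorem cent_neg (h : centralizer {mon e v} ≤ normalizer (J : Set G)) :
    centralizer {mon e (-v)} ≤ normalizer (J : Set G) := fun _ hg =>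
  h (mc.2 (Commute.inv_right_iff.1 (F.neg v ▸ mc.1 hg)))

theorem cent_x : centralizer {mon e 1} ≤ normalizer (J : Set G) := fun g hg =>
  (F.cx g (mc.1 hg)).elim fun _ h => F.memH h

theorem wt3 (h : Re e a) (h1 : av a v = v) (hv : v ≠ 0) (h2 : a.1 * a.1 ≠ 1) :
    centralizer {mon e v} ≤ normalizer (J : Set G) := by
  obtain ⟨⟨b, k1, k2⟩, k3, -⟩ := (c_fix a v h1 hv).1 h2
  by_cases hd : Re e md
  · have := F.cent_av (F.reD hd (.inl k1)) F.cent_x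
    rcases k2 with rfl | rfl
    exacts [this, F.cent_neg this]
  · rcases k3 (F.sgn hd h) with rfl | rfl
    exacts [F.cent_x, F.cent_neg F.cent_x]

omit [Finite G] in
theorem sup_eq {A : Subgroup G} (hA : A ≤ J) (h9 : Nat.card A = 9) {u : G} (hu : u ∈ J) (uA : u ∉ A) :
    A ⊔ zpowers u = J := by
  have : Finite J := Nat.finite_of_card_ne_zero (by rw [F.card]; decide)
  have h1 : A ⊔ zpowers u ≤ J := sup_le hA (zpowers_le.2 hu)
  have : Finite ↥(A ⊔ zpowers u) := .of_injective _ (inclusion_injective h1)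
  obtain ⟨i, hi, e⟩ := (Nat.dvd_prime_pow (m := 3) Nat.prime_three).1 (F.card ▸ card_dvd_of_le h1)
  refine eq_of_le_of_card_ge h1 (by_contra fun k => uA (eq_of_le_of_card_ge (le_sup_left (a := A) (b := zpowers u)) ?_ ▸
    mem_sup_right (mem_zpowers u)))
  rw [F.card, e] at k
  rw [h9, e]
  interval_cases i <;> omega

/-- centralisers of subgroups of order 9 -/
theorem cent2 {x y : G} (hx : x ∈ J) (hy : y ∈ J) (hp : Pr x y) :
    centralizer {x} ⊓ centralizer {y} ≤ normalizer (J : Set G) := by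
  have := Fact.mk Nat.prime_three
  have JC := le_inf (F.Jc hx) (F.Jc hy)
  have hS : ∀ n ∈ centralizer {x} ⊓ centralizer {y}, n ∈ normalizer (J : Set G) → ∀ k : ℕ, n ^ 3 ^ k = 1 → n ∈ J :=
    fun n hn h k hk => by
      obtain ⟨a, ha⟩ := F.mono n h
      obtain ⟨v, rfl⟩ := F.exm hx
      obtain ⟨w, rfl⟩ := F.exm hy
      have v0 := mt F.one_iff.2 hp.x1
      exact F.mem3 ha (by_contra fun e => hp.ne ((F.mzp v0).2 (((c_fix a v ((F.fix ha).1 (mc.1 hn.1)) v0).1 e).2.2 w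
        ((F.fix ha).1 (mc.1 hn.2))))) (hk ▸ one_mem _)
  obtain ⟨L, k1, k2, -, -, k5, k6⟩ := exists_ker JC F.cube F.comm hS
  have AL : ∀ p ∈ zpowers x ⊔ zpowers y, p ∈ L → p = 1 := fun p h1 h2 =>
    k5 p (sup_le (zpowers_le.2 hx) (zpowers_le.2 hy) h1) h2 fun n hn _ => hp.fix (mc.1 hn.1) (mc.1 hn.2) h1
  suffices h : L ≤ normalizer (J : Set G) from fun d hd => by
    obtain ⟨l, hl, v, hv, rfl⟩ := k6 d hd
    exact mul_mem (h hl) (le_normalizer hv)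
  by_cases h3 : 3 ∣ Nat.card L
  swap
  · rw [F.sig L ((Nat.Prime.coprime_iff_not_dvd Nat.prime_three).2 h3).symm (JC.trans k2)]
    exact bot_le
  obtain ⟨u, uL, uJ, ou⟩ : ∃ u ∈ L, u ∈ J ∧ orderOf u = 3 := by
    obtain ⟨u, ou⟩ := exists_prime_orderOf_dvd_card' 3 h3
    rw [← orderOf_coe] at ou
    obtain ⟨c, hc, e⟩ := (isSylowIn_of_loc JC F.three hS).exists_conj_le (U := zpowers (u : G))
      (pg_zp (k := 1) (by simpa using cube_of_ord ou)) (zpowers_le.2 (k1 u.2))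
    exact ⟨_, (mem_normalizer_iff.1 (k2 hc) _).1 u.2, e (conj_mem_conj_smul c (mem_zpowers _)),
      ((MulAut.conj c).orderOf_eq _).trans ou⟩
  have e := F.sup_eq (sup_le (zpowers_le.2 hx) (zpowers_le.2 hy)) hp.card uJ fun k => ne_one_of_ord3 ou (AL u k uL)
  have dec : ∀ j ∈ J, ∃ p ∈ zpowers x ⊔ zpowers y, ∃ q ∈ zpowers u, j = p * q := fun j hj =>
    (CL.Odd.mem_sup_norm (zpowers_le.2 (centralizer_le_normalizer _ fun p h =>
      F.comm p (e.le (mem_sup_left h)) u uJ))).1 (e.ge hj)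
  have cA : ∀ l ∈ L, ∀ p ∈ zpowers x ⊔ zpowers y, l * p = p * l := fun l hl p h =>
    hp.fix (mc.1 (k1 hl).1) (mc.1 (k1 hl).2) h
  rcases sig3 uL ou (fun c hc h => by
      obtain ⟨p, h1, q, h2, rfl⟩ := dec c (F.cent fun j hj => by
        obtain ⟨p, h1, q, h2, rfl⟩ := dec j hj
        exact ((show Commute c p from cA c hc p h1).mul_right (cm_of_mem h2 h)).symm)
      rwa [AL p h1 ((mul_mem_cancel_right (zpowers_le.2 uL h2)).1 hc), one_mul]) with h | ⟨K, h1, h2, h4, h5⟩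
  · exact fun l hl => mem_normalizer_fintype fun j hj => by
      obtain ⟨p, h1, q, h2, rfl⟩ := dec j hj
      rw [← conj_mul, cA l hl p h1, mul_inv_cancel_right]
      exact e.le (mul_mem (mem_sup_left h1) (mem_sup_right ((mem_normalizer_iff.1 (h hl) q).1 h2)))
  · exact absurd (F.sig K h4 (e ▸ sup_le (fun p h => centralizer_le_normalizer _ fun k hk => cA k (h1 hk) p h)
      (zpowers_le.2 h5))) h2

theorem mem2 {x y : G} (hx : x ∈ J) (hy : y ∈ J) (hp : Pr x y) (h1 : g * x * g⁻¹ ∈ J) (h2 : g * y * g⁻¹ ∈ J) :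
    g ∈ normalizer (J : Set G) := by
  have k : ∀ {j z : G}, j ∈ J → g * z * g⁻¹ ∈ J → g⁻¹ * j * g⁻¹⁻¹ ∈ centralizer {z} := fun {j z} hj h => mc.2 (by
    calc _ = g⁻¹ * (j * (g * z * g⁻¹)) * g := by group
      _ = _ := by rw [F.comm _ hj _ h]; group)
  exact inv_mem_iff.1 (F.wc fun j hj => F.cent2 hx hy hp ⟨k hj h1, k hj h2⟩)

omit [Finite G] F in
theorem nzp (c : G) : ((zpowers c).subgroupOf (centralizer {c})).Normal :=
  ⟨fun n hn g => by rwa [mem_subgroupOf, coe_mul, coe_mul, coe_inv, cm_of_mem (p := (n : G)) hn (mc.1 g.2),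
    mul_inv_cancel_right]⟩

theorem qJ (hv : v ≠ 0) (hs : ∀ a, Re e a → av a v = v → a.1 * a.1 = 1) : Nat.card J = 9 * Nat.card (zpowers (mon e v)) ∧
    (∀ a ∈ J, a ^ 3 ∈ zpowers (mon e v)) ∧ (∀ n ∈ centralizer {mon e v}, n ∈ normalizer (J : Set G) → ∀ k,
      n ^ 3 ^ k ∈ zpowers (mon e v) → n ∈ J) ∧ (∀ g ∈ centralizer {mon e v},
      (∀ a ∈ J, g * a * g⁻¹ * a⁻¹ ∈ zpowers (mon e v)) → g ∈ J) ∧ ∀ a ∈ J, a ∉ zpowers (mon e v) →
      ∀ g ∈ centralizer {mon e v}, g * a * g⁻¹ * a⁻¹ ∈ zpowers (mon e v) → g ∈ normalizer (J : Set G) := by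
  have ZJ := zpowers_le.2 (F.mJ v)
  have k : ∀ {g a : G}, a ∈ J → g * a * g⁻¹ * a⁻¹ ∈ zpowers (mon e v) → g * a * g⁻¹ ∈ J := fun ha h =>
    (mul_mem_cancel_right (inv_mem ha)).1 (ZJ h)
  refine ⟨by rw [Nat.card_zpowers, F.ord hv, F.card], fun a ha => F.cube a ha ▸ one_mem _, fun n hn h k hk => ?_,
    fun g hg h => ?_, fun a ha h1 g hg h => F.mem2 (F.mJ v) ha ⟨F.cube _ (F.mJ v), F.cube a ha, mt F.one_iff.1 hv,
      F.comm _ (F.mJ v) a ha, h1⟩ (by rw [mc.1 hg, mul_inv_cancel_right]; exact F.mJ v) (k ha h)⟩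
  · obtain ⟨a, ha⟩ := F.mono n h
    exact F.mem3 ha (hs a ⟨n, ha⟩ ((F.fix ha).1 (mc.1 hn))) (ZJ hk)
  · obtain ⟨a, ha⟩ := F.mono g (mem_normalizer_fintype fun a ha => k ha (h a ha))
    refine (F.J_iff ha).2 ((c_fix a v ((F.fix ha).1 (mc.1 hg)) hv).2.1 fun w => ?_)
    have := h _ (F.mJ w)
    rw [F.app ha, ← F.neg, ← F.add, F.mzp hv] at this
    simpa only [← sub_eq_add_neg, sub_eq_iff_eq_add, zero_add] using this

theorem cent1 (hv : v ≠ 0) (h : ¬ Re e md ∨ ¬ Re e mι ∨ ∀ b, v ≠ av b vz) :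
    centralizer {mon e v} ≤ normalizer (J : Set G) := by
  by_cases hs : ∀ a, Re e a → av a v = v → a.1 * a.1 = 1
  swap
  · push Not at hs
    obtain ⟨a, h1, h2, h3⟩ := hs
    exact F.wt3 h1 h2 hv h3
  obtain ⟨k1, k2, k3, k4, k5⟩ := F.qJ hv hs
  have := nzp (mon e v)
  refine qle (zpowers_le.2 (F.mJ v)) (F.Jc (F.mJ v)) k1 k2 k3 k4 k5 fun n hn hN => ?_
  obtain ⟨a, ha⟩ := F.mono n hN
  have h1 := (F.fix ha).1 (mc.1 hn)
  refine F.sq ha (((c_fix a v h1 hv).2.2 (hs a ⟨n, ha⟩ h1)).resolve_right fun ⟨a1, a2, a3, b, a4⟩ => ?_)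
  by_cases hd : Re e md
  · exact ((h.resolve_left (not_not.2 hd)).resolve_left fun hi => a1 (F.pr1 hd hi ⟨n, ha⟩)) b a4
  · exact (F.sgn hd ⟨n, ha⟩).elim a2 a3

theorem centz (hd : Re e md) (hi : Re e mι) : centralizer {mon e vz} ≤ normalizer (J : Set G) ∨
    ∃ π : centralizer {mon e vz} →* S6, Function.Surjective π ∧ ∀ g, π g = 1 ↔ (g : G) ∈ zpowers (mon e vz) := by
  have hv : vz ≠ 0 := by decide
  obtain ⟨k1, k2, k3, k4, k5⟩ := F.qJ hv fun a _ =>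
    (by decide +kernel : ∀ a, av a vz = vz → a.1 * a.1 = 1) a
  have := nzp (mon e vz)
  choose f hf using fun a => F.reD (a := a) hd (.inr hi)
  have fC : ∀ a, av a vz = vz → f a ∈ centralizer {mon e vz} := fun a h => mc.2 ((F.fix (hf a)).2 h)
  have hu := hf (swap 0 1, ![1, -1, 1])
  have hu2 := hu.mul hu
  refine qsix (zpowers_le.2 (F.mJ vz)) (F.Jc (F.mJ vz)) k1 k2 k3 k4 k5 ?_ (fC _ (by decide)) (mc.2 ((F.fix F.aτ).2
    (by decide))) (F.memH hu) (F.memH F.aτ) (by rw [F.J_iff hu2]; decide) (F.sq hu2 (by decide))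
    (by rw [F.J_iff F.aτ]; decide) (F.t2 ▸ one_mem _) (by rw [F.J_iff (hu2.inv.mul F.aτ)]; decide)
  rw [Nat.card_zpowers, F.ord hv, ← Nat.card_eq_of_bijective (fun p : J × {a : Mo // av a vz = vz} =>
    (⟨p.1 * f p.2, mul_mem (F.Jc (F.mJ _) p.1.2) (fC _ p.2.2), mul_mem (le_normalizer p.1.2) (F.memH (hf _))⟩ :
      ↥(centralizer {mon e vz} ⊓ normalizer (J : Set G)))) ⟨fun p q k => ?_, fun n => ?_⟩, Nat.card_prod, F.card,
    Nat.card_eq_fintype_card, c_four.2.2.2]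
  · have k := Subtype.mk_eq_mk.1 k
    have k2 : p.2 = q.2 := Subtype.ext (F.uniq (F.actL p.1.2 (hf _)) (k ▸ F.actL q.1.2 (hf _)))
    rw [k2, mul_left_inj] at k
    exact Prod.ext (Subtype.ext k) k2
  · obtain ⟨a, ha⟩ := F.mono n n.2.2
    refine ⟨(⟨n * (f a)⁻¹, ?_⟩, ⟨a, (F.fix ha).1 (mc.1 n.2.1)⟩), Subtype.ext (by simp)⟩
    simpa [mul_assoc] using S0.cj (F.memH (hf a)) (F.memJ ha (hf a))

/-- elements of order 3 that centralise `s` -/
theorem cls3 {s : G} (hs : Act e s a) (h : ∀ n, n * s = s * n → n ∈ normalizer ((J ⊓ centralizer {s} : Subgroup G) : Set G) →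
    ∀ k : ℕ, n ^ 3 ^ k = 1 → n ∈ J) : IsSylowIn 3 (J ⊓ centralizer {s}) (centralizer {s}) ∧
    ∀ w, w ^ 3 = 1 → s * w = w * s → ∃ v, av a v = v ∧ IsConj w (mon e v) := by
  have := Fact.mk Nat.prime_three
  have hS : IsSylowIn 3 (J ⊓ centralizer {s}) (centralizer {s}) := isSylowIn_of_loc inf_le_right
    (F.three.to_le inf_le_left) fun n hn hN k hk => ⟨h n (mc.1 hn) hN k hk, hn⟩
  refine ⟨hS, fun w w3 hw => ?_⟩
  obtain ⟨c, -, k⟩ := hS.exists_conj_le (U := zpowers w) (pg_zp (k := 1) (by simpa using w3))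
    (zpowers_le.2 (mc.2 hw.symm))
  have k := k (conj_mem_conj_smul c (mem_zpowers w))
  obtain ⟨v, hv⟩ := F.exm k.1
  exact ⟨v, (F.fix hs).1 (hv ▸ (mc.1 k.2).symm), isConj_iff.2 ⟨c, hv.symm⟩⟩

theorem cls3' {s : G} (hs : Act e s a) (ha : ∀ b, mm a b = mm b a → b.1 * b.1 = 1)
    (h : normalizer ((J ⊓ centralizer {s} : Subgroup G) : Set G) ≤ normalizer (J : Set G)) :
    IsSylowIn 3 (J ⊓ centralizer {s}) (centralizer {s}) ∧
    ∀ w, w ^ 3 = 1 → s * w = w * s → ∃ v, av a v = v ∧ IsConj w (mon e v) :=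
  F.cls3 hs fun n hn hN k hk => by
    obtain ⟨b, hb⟩ := F.mono n (h hN)
    exact F.mem3 hb (ha b (F.uniq (hs.mul hb) (hn ▸ hb.mul hs))) (hk ▸ one_mem _)

theorem nrm2 {s : G} (hs : Act e s a) (h1 : av a v = v) (h2 : av a w = w) (hv : v ≠ 0) (h : ¬ (w = 0 ∨ w = v ∨ w = -v)) :
    normalizer ((J ⊓ centralizer {s} : Subgroup G) : Set G) ≤ normalizer (J : Set G) := fun g hg =>
  have k : ∀ u, av a u = u → g * mon e u * g⁻¹ ∈ J := fun u hu =>
    ((mem_normalizer_iff.1 hg _).1 ⟨F.mJ u, mc.2 ((F.fix hs).2 hu).symm⟩).1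
  F.mem2 (F.mJ v) (F.mJ w) (F.pr2 hv h) (k v h1) (k w h2)

theorem nrm1 {s : G} (hs : Act e s a) (h1 : av a v = v) (h : centralizer {mon e v} ≤ normalizer (J : Set G)) :
    normalizer ((J ⊓ centralizer {s} : Subgroup G) : Set G) ≤ normalizer (J : Set G) := fun g hg =>
  inv_mem_iff.1 (F.mem_of_conj ((mem_normalizer_iff.1 hg _).1 ⟨F.mJ v, mc.2 ((F.fix hs).2 h1).symm⟩).1
    (by simpa [mul_assoc] using h))

theorem normal_of_le {N : Subgroup G} [hN : N.Normal] (h1 : J ≤ N) (h2 : N ≤ normalizer (J : Set G)) : J.Normal :=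
  normalizer_eq_top_iff.1 (eq_top_iff.2 fun g _ => F.wc fun j hj => h2 (hN.conj_mem j (h1 hj) g))

theorem normal_of_iso {s : G} (hs : Act e s a) (a1 : a ≠ m1) (s2 : s * s = 1)
    (h : ∀ g, s * (g * s * g⁻¹) = g * s * g⁻¹ * s → g * s * g⁻¹ = s) : J.Normal := by
  have := Fact.mk Nat.prime_three
  have sJ := mt (F.J_iff hs).1 a1
  have := Cfsg.Agent.S0205.result (G := oddCore G) (Nat.coprime_two_right.1 (pPrimeCore_coprime 2 G))
  obtain ⟨p, M, hp, hM, -, M1, hc, h3⟩ := exists_abelian_normal_pgroup_le_of_isSolvable (oddCore G) fun k =>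
    sJ (F.cent fun j _ => (mul_inv_eq_iff_eq_mul.1 (mul_inv_eq_one.1 (mem_bot.1 (k ▸ CL.Inv.zstar_mem_oddCore
      ⟨ord2 s2 fun e => sJ (e ▸ one_mem _), h⟩ j)))).symm)
  have cm : ∀ x ∈ M, ∀ y ∈ M, x * y = y * x := fun x hx y hy => congrArg Subtype.val (hc.1.1 ⟨x, hx⟩ ⟨y, hy⟩)
  obtain rfl : p = 3 := by_contra fun k => M1 (F.sig M (by
    have := Fact.mk hp
    obtain ⟨n, hn⟩ := h3.exists_card_eq
    exact hn ▸ ((Nat.coprime_primes hp Nat.prime_three).2 k).pow_left n) le_normalizer_of_normal)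
  have cM : ∀ g, ∀ m ∈ M, m * g * m⁻¹ * g⁻¹ ∈ M := fun g m hm => by
    simpa [mul_assoc] using mul_mem hm (hM.conj_mem _ (inv_mem hm) g)
  have MJ : M ≤ J := fun m hm => by
    obtain ⟨b, hb⟩ := F.mono m (F.le_H (F.three.to_sup_of_normal_right h3) le_sup_left (mem_sup_right hm))
    refine (F.J_iff hb).2 (c_four.2.1 b fun v => (F.fix hb).1 ?_)
    rw [F.add, F.neg, ← F.app hb]
    exact cm _ hm _ (cM _ _ hm)
  obtain ⟨⟨m, hm⟩, m1⟩ := ne_bot_iff_exists_ne_one.1 M1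
  obtain ⟨v, rfl⟩ := F.exm (MJ hm)
  have st : ∀ v, mon e v ∈ M → mon e (av mr v + -v) ∈ M := fun v h => by
    rw [F.add, F.neg, ← F.app F.ar]
    exact mul_mem (hM.conj_mem _ h r) (inv_mem h)
  obtain ⟨w, h1, h2⟩ := (c_four.2.2.1 v).resolve_left fun k => m1 (Subtype.ext (F.one_iff.2 k))
  have wM : mon e w ∈ M := by
    simp only [List.mem_cons, List.not_mem_nil, or_false] at h1
    rcases h1 with rfl | rfl | rfl
    exacts [hm, st _ hm, st _ (st _ hm)]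
  refine F.normal_of_le (N := centralizer (M : Set G)) (fun j hj m hm => F.comm m (MJ hm) j hj) fun g hg => ?_
  rcases h2 with rfl | rfl
  exacts [F.cent_x (mc.2 (hg _ wM).symm), F.cent_neg F.cent_x (mc.2 (hg _ wM).symm)]

end Sx

end CL.S9R
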