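/-
3-local recognition of `S₉`, part 4: involutions; the cases in which `J` is a TI-subgroup.
-/
import Cfsg.Agent.Rec.S9C

set_option autoImplicit false
set_option synthInstance.maxSize 4096

namespace CL.S9R

open Subgroup Cfsg CL.Grp CL.Rec CL.Perm CL.G23 CL.McL3.C27 Equiv
open scoped Pointwise

def mu : Mo := mm mτ mι
def vb : V3 := ![1, 2, 0]

theorem c_tau : (∀ b, mm mτ b = mm b mτ → b.1 * b.1 = 1 ∧ mm b b = m1 ∧ (av b vz = vz ∨ av b vz = -vz) ∧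
    (av b vy = vy ∨ av b vy = -vy) ∧ ((b.2 = 1 ∨ b.2 = -1) → b = m1 ∨ b = mτ ∨ b = mι ∨ b = mu)) ∧
    (∀ b, av b vz = vz → av b vy = vy → b = m1 ∨ b = mτ) ∧
    (∀ v, av mτ v = v → ∃ i j : Fin 3, v = i.1 • vz + j.1 • vy) ∧
    (∀ b, mm mu b = mm b mu → b.1 * b.1 = 1 ∧ ((b.2 = 1 ∨ b.2 = -1) → b = m1 ∨ b = mτ ∨ b = mι ∨ b = mu)) ∧
    (∀ b, mm md b = mm b md → b.1 * b.1 = 1) ∧ (∀ b, vb ≠ av b vz ∧ av mu (av b vz) ≠ av b vz ∧ av md (av b vy) ≠ av b vy ∧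
      (av mτ (av b vz) = av b vz → av b vz = vz ∨ av b vz = -vz) ∧
      (av mτ (av b vy) = av b vy → av b vy = vy ∨ av b vy = -vy)) ∧ ∀ v, av mu v = v → v = 0 ∨ v = vb ∨ v = -vb := by
  refine ⟨?_, ?_, ?_, ?_, ?_, ?_, ?_⟩ <;> decide +kernel

theorem c_chi : (∀ a, Ok a → Perm.sign a.1 = 1 → ∃ p ∈ [m1, mr, mm mr mr], ∃ q ∈ [m1, mr, mm mr mr],
    a = mm p q ∨ a = mm p (mm md q)) ∧ (∀ p ∈ [m1, mr, mm mr mr], mm p (mm p p) = m1) ∧
    (∀ a, Ok a ∧ Perm.sign a.1 = 1 ∨ ¬ Ok a ∧ Ok (mm a mτ) ∧ Perm.sign (mm a mτ).1 = 1 ∨ pr a ≠ 1 ∧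
      (¬ Ok a ∧ Ok (mm a mι) ∧ Perm.sign (mm a mι).1 = 1 ∨ Ok a ∧ Ok (mm a mu) ∧ Perm.sign (mm a mu).1 = 1)) ∧
    ∀ a, a.1 * a.1 ≠ 1 → ∀ w, av a w = w → (∃ k, av a k = w + k) ∧ (w ≠ 0 → ∀ b, av b w = -w → pr b ≠ 1) := by
  refine ⟨?_, ?_, ?_, ?_⟩ <;> decide +kernel

theorem c_cube : ∀ a, mm a (mm a a) = m1 → a.1 * a.1 ≠ 1 → ∃ w, w ≠ 0 ∧ av a w = w := by decide +kernel

universe u

variable {G : Type u} [Group G] {e : Fin 3 → G} {g h : G} {a b : Mo} {v w : V3}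

namespace Sx

variable {J : Subgroup G} {r τ : G} (F : Sx J e r τ)
include F

theorem χJ (χ : G →* ℤˣ) (h1 : Act e g a) (h2 : mm a (mm a a) = m1) : χ g = 1 := by
  have := congrArg χ (F.cube _ (F.memJ1 (h2 ▸ h1.mul (h1.mul h1))))
  rw [map_pow, map_mul, map_mul, map_one] at this
  exact (by decide : ∀ s : ℤˣ, (s * (s * s)) ^ 3 = 1 → s = 1) _ this

theorem χeq (χ : G →* ℤˣ) (h1 : Act e g a) (h2 : Act e h a) : χ g = χ h := by
  have := F.χJ χ (F.actJ (F.memJ h1 h2)) (by decide)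
  rw [map_mul, map_inv, inv_mul_eq_one] at this
  exact this.symm

theorem χev (χ : G →* ℤˣ) (hd : Re e md) (h1 : Act e g a) (h2 : Ok a) (h3 : Perm.sign a.1 = 1) : χ g = 1 := by
  obtain ⟨p, hp, q, hq, k⟩ := c_chi.1 a h2 h3
  obtain ⟨ρ, k1, -⟩ := F.exR hp
  obtain ⟨σ, k2, -⟩ := F.exR hq
  obtain ⟨d, hd⟩ := hd
  have k3 : χ d = 1 := by
    have := F.χeq χ (hd.mul (F.ar.mul (hd.mul F.ar.inv))) (h := r⁻¹ * (d * r)) (by
      convert F.ar.inv.mul (hd.mul F.ar) using 1; decide)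
    simp only [map_mul, map_inv] at this
    exact (by decide : ∀ s t : ℤˣ, s * (t * (s * t⁻¹)) = t⁻¹ * (s * t) → s = 1) _ _ this
  rcases k with rfl | rfl
  · rw [F.χeq χ h1 (k1.mul k2), map_mul, F.χJ χ k1 (c_chi.2.1 p hp), F.χJ χ k2 (c_chi.2.1 q hq), one_mul]
  · rw [F.χeq χ h1 (k1.mul (hd.mul k2)), map_mul, map_mul, F.χJ χ k1 (c_chi.2.1 p hp), F.χJ χ k2 (c_chi.2.1 q hq), k3,
      one_mul, one_mul]

theorem χok (χ : G →* ℤˣ) (hd : Re e md) (h1 : χ τ ≠ 1) (h2 : ∀ i, Act e i mι → χ i ≠ 1) (h3 : Act e g a) :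
    χ g = 1 ↔ Ok a := by
  have k : ∀ s t : ℤˣ, t ≠ 1 → s * t = 1 → s ≠ 1 := by decide
  rcases c_chi.2.2.1 a with ⟨k1, k2⟩ | ⟨k1, k2, k3⟩ | ⟨k0, k1⟩
  · exact iff_of_true (F.χev χ hd h3 k1 k2) k1
  · exact iff_of_false (k _ _ h1 (map_mul χ g τ ▸ F.χev χ hd (h3.mul F.aτ) k2 k3)) k1
  obtain ⟨i, hi⟩ : Re e mι := by_contra fun hi => k0 (F.pr1 hd hi ⟨g, h3⟩)
  rcases k1 with ⟨k1, k2, k3⟩ | ⟨k1, k2, k3⟩
  · exact iff_of_false (k _ _ (h2 i hi) (map_mul χ g i ▸ F.χev χ hd (h3.mul hi) k2 k3)) k1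
  · have := F.χev χ hd (h3.mul (F.aτ.mul hi)) k2 k3
    rw [map_mul, map_mul] at this
    exact iff_of_true ((by decide : ∀ s t u : ℤˣ, t ≠ 1 → u ≠ 1 → s * (t * u) = 1 → s = 1) _ _ _ h1 (h2 i hi) this) k1

theorem eq_of_sq {s t : G} (hs : Act e s a) (ht : Act e t a) (s2 : s * s = 1) (t2 : t * t = 1) (c : s * t = t * s) :
    s = t := by
  refine (inv_mul_eq_one.1 (eq_one_of_two_three ?_ (F.cube _ (F.memJ hs ht)))).symm
  rw [inv_eq_of_mul_eq_one_right t2, mul_assoc, ← mul_assoc s, c, mul_assoc, s2, mul_one, t2]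

theorem Deq : J ⊓ centralizer {τ} = zpowers (mon e vz) ⊔ zpowers (mon e vy) := by
  refine le_antisymm (fun d hd => ?_) (sup_le (zpowers_le.2 ⟨F.mJ _, mc.2 ((F.fix F.aτ).2 (by decide)).symm⟩)
    (zpowers_le.2 ⟨F.mJ _, mc.2 ((F.fix F.aτ).2 (by decide)).symm⟩))
  obtain ⟨v, rfl⟩ := F.exm hd.1
  obtain ⟨i, j, rfl⟩ := c_tau.2.2.1 v ((F.fix F.aτ).1 (mc.1 hd.2).symm)
  rw [F.add, F.smul, F.smul]
  exact mul_mem (mem_sup_left (pow_mem (mem_zpowers _) _)) (mem_sup_right (pow_mem (mem_zpowers _) _))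

theorem przy : Pr (mon e vz) (mon e vy) := F.pr2 (by decide) (by decide)

theorem cτ (h1 : Act e g a) (h2 : g * τ = τ * g) : mm mτ a = mm a mτ := F.uniq (F.aτ.mul h1) (h2 ▸ h1.mul F.aτ)

theorem nzp' (h1 : Act e g a) (hv : v ≠ 0) (h : av a v = v ∨ av a v = -v) :
    g ∈ normalizer (zpowers (mon e v) : Set G) := by
  rw [mem_normalizer_zpowers_three (F.ord hv), F.app h1, ← F.neg, F.eq_iff, F.eq_iff]
  exact h

variable [Finite G]

theorem Pτ : IsSylowIn 3 (J ⊓ centralizer {τ}) (centralizer {τ}) ∧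
    ∀ w, w ^ 3 = 1 → τ * w = w * τ → ∃ v, av mτ v = v ∧ IsConj w (mon e v) :=
  F.cls3' F.aτ (fun b h => (c_tau.1 b h).1) (F.nrm2 (v := vz) (w := vy) F.aτ (by decide) (by decide) (by decide) (by decide))

theorem cent_b : centralizer {mon e vb} ≤ normalizer (J : Set G) :=
  F.cent1 (by decide) (.inr (.inr fun b => (c_tau.2.2.2.2.2.1 b).1))

theorem Pu {u : G} (hu : Act e u mu) : ∀ w, w ^ 3 = 1 → u * w = w * u → ∃ v, av mu v = v ∧ IsConj w (mon e v) :=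
  (F.cls3' hu (fun b h => (c_tau.2.2.2.1 b h).1) (F.nrm1 hu (by decide) F.cent_b)).2

theorem ti (hz : centralizer {mon e vz} ≤ normalizer (J : Set G)) {j : G} (hj : j ∈ J) (j1 : j ≠ 1) :
    centralizer {j} ≤ normalizer (J : Set G) := by
  obtain ⟨v, rfl⟩ := F.exm hj
  by_cases h : ¬ Re e md ∨ ¬ Re e mι ∨ ∀ b, v ≠ av b vz
  · exact F.cent1 (mt F.one_iff.2 j1) h
  · push Not at h
    obtain ⟨hd, hi, b, rfl⟩ := h
    exact F.cent_av (F.reD hd (.inr hi)) hz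

theorem memD (hg : g * τ = τ * g) (h1 : g * mon e vz = mon e vz * g) (h2 : g * mon e vy = mon e vy * g) :
    g ∈ J ⊓ centralizer {τ} ∨ τ⁻¹ * g ∈ J ⊓ centralizer {τ} := by
  obtain ⟨b, hb⟩ := F.mono g (F.mem2 (F.mJ _) (F.mJ _) F.przy (by rw [h1, mul_inv_cancel_right]; exact F.mJ _)
    (by rw [h2, mul_inv_cancel_right]; exact F.mJ _))
  rcases c_tau.2.1 b ((F.fix hb).1 h1) ((F.fix hb).1 h2) with rfl | rfl
  exacts [.inl ⟨F.memJ1 hb, mc.2 hg⟩, .inr (mem_inf.2 ⟨F.memJ hb F.aτ, mul_mem (inv_mem (mc.2 rfl)) (mc.2 hg)⟩)]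

theorem centτ (hz : centralizer {mon e vz} ≤ normalizer (J : Set G)) : centralizer {τ} ≤ normalizer (J : Set G) := by
  have := nzp τ
  have τ3 : τ ^ 3 = τ := by rw [pow_three, F.t2, mul_one]
  have nD : ∀ g ∈ normalizer (J : Set G), g * τ = τ * g → g ∈ normalizer ((J ⊓ centralizer {τ} : Subgroup G) : Set G) :=
    fun g h1 h2 => mem_normalizer_fintype fun d hd => mem_inf.2 ⟨S0.cj h1 hd.1,
      mul_mem (mul_mem (mc.2 h2) hd.2) (inv_mem (mc.2 h2))⟩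
  have τD := nD τ (F.memH F.aτ) rfl
  have mA : ∀ a ∈ J ⊓ centralizer {τ} ⊔ zpowers τ, ∃ d ∈ J ⊓ centralizer {τ}, a = d ∨ a = d * τ := fun a ha => by
    obtain ⟨d, hd, t, ht, rfl⟩ := (CL.Odd.mem_sup_norm (zpowers_le.2 τD)).1 ha
    exact ⟨d, hd, (eq_or_of_mem_zpowers F.t2 ht).imp (fun k => by rw [k, mul_one]) fun k => by rw [k]⟩
  have c3 : ∀ d ∈ J ⊓ centralizer {τ}, (d * τ) ^ 3 = τ := fun d hd => by
    rw [(show Commute d τ from mc.1 hd.2).mul_pow, F.cube d hd.1, τ3, one_mul]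
  have nH : ∀ g, g ∈ normalizer ((J ⊓ centralizer {τ} ⊔ zpowers τ : Subgroup G) : Set G) → g ∈ normalizer (J : Set G) :=
    fun g hg => by
      have k : ∀ v, av mτ v = v → g * mon e v * g⁻¹ ∈ J := fun v hv => by
        obtain ⟨d, hd, k | k⟩ := mA _ ((mem_normalizer_iff.1 hg _).1 (mem_sup_left ⟨F.mJ v, mc.2 ((F.fix F.aτ).2 hv).symm⟩))
        · exact k ▸ hd.1
        · refine absurd ?_ F.τ1
          rw [← c3 d hd, ← k, conj_pow, F.cube _ (F.mJ v), mul_one, mul_inv_cancel]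
      exact F.mem2 (F.mJ _) (F.mJ _) F.przy (k _ (by decide)) (k _ (by decide))
  have key : ∀ g, ∀ d ∈ J ⊓ centralizer {τ}, g * d * g⁻¹ * d⁻¹ ∈ zpowers τ → g * d = d * g := fun g d hd k => by
    rcases eq_or_of_mem_zpowers F.t2 k with k | k
    · exact mul_inv_eq_iff_eq_mul.1 (mul_inv_eq_one.1 k)
    · refine absurd ?_ F.τ1
      rw [← c3 d hd, mc.1 hd.2, ← mul_inv_eq_iff_eq_mul.1 k, conj_pow, F.cube _ hd.1, mul_one, mul_inv_cancel]
  have mD := fun {d} (h : d ∈ J ⊓ centralizer {τ}) => mem_sup_left (T := zpowers τ) h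
  have mτ' := mem_sup_right (S := J ⊓ centralizer {τ}) (mem_zpowers τ)
  refine (qle le_sup_right (sup_le inf_le_right (zpowers_le.2 (mc.2 rfl))) ?_ (fun a ha => ?_) (fun n hn hN k hk => ?_)
    (fun g hg h => ?_) (fun a ha h1 g hg h => ?_) fun n hn hN => ?_).trans nH
  · rw [sup_comm, card_sup_of_inf_eq_bot (zpowers_le.2 τD) (eq_bot_iff.2 fun t ht => ?_), F.Deq, F.przy.card, mul_comm]
    exact (eq_or_of_mem_zpowers F.t2 ht.1).resolve_right fun k =>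
      absurd ((F.J_iff F.aτ).1 (k ▸ ht.2.1)) (by decide)
  · obtain ⟨d, hd, rfl | rfl⟩ := mA a ha
    exacts [F.cube _ hd.1 ▸ one_mem _, (c3 d hd).symm ▸ mem_zpowers τ]
  · obtain ⟨b, hb⟩ := F.mono n (nH n hN)
    rcases eq_or_of_mem_zpowers F.t2 hk with k1 | k1
    · exact mD ⟨F.mem3 hb (c_tau.1 b (F.cτ hb (mc.1 hn))).1 (k1 ▸ one_mem _), hn⟩
    · have hn' := mul_mem hn (mc.2 rfl : τ ∈ centralizer {τ})
      refine (mul_mem_cancel_right mτ').1 (mD ⟨F.mem3 (k := k) (hb.mul F.aτ)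
        (c_tau.1 _ (F.cτ (hb.mul F.aτ) (mc.1 hn'))).1 ?_, hn'⟩)
      obtain ⟨m, hm⟩ : Odd (3 ^ k) := Odd.pow (by decide)
      rw [(show Commute n τ from mc.1 hn).mul_pow, k1, hm, pow_succ, pow_mul, pow_two, F.t2, one_pow, one_mul, F.t2]
      exact one_mem _
  · have k : ∀ v, av mτ v = v → g * mon e v = mon e v * g := fun v hv =>
      have k : mon e v ∈ J ⊓ centralizer {τ} := ⟨F.mJ v, mc.2 ((F.fix F.aτ).2 hv).symm⟩
      key g _ k (h _ (mD k))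
    rcases F.memD (mc.1 hg) (k _ (by decide)) (k _ (by decide)) with k | k
    exacts [mD k, (mul_mem_cancel_left (inv_mem mτ')).1 (mD k)]
  · obtain ⟨d, hd, k⟩ := mA a ha
    have k1 : g * d = d * g := key g d hd (by
      rcases k with rfl | rfl
      · exact h
      · rwa [← conj_mul, mc.1 hg, mul_inv_cancel_right, mul_inv_rev, ← mul_assoc, mul_inv_cancel_right] at h)
    refine norm_sup (nD g (F.ti hz hd.1 (fun k2 => h1 ?_) (mc.2 k1)) (mc.1 hg)) τD (by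
      rwa [mc.1 hg, mul_inv_cancel_right])
    rcases k with rfl | rfl <;> simp [k2]
  · obtain ⟨b, hb⟩ := F.mono n (nH n hN)
    exact mD ⟨F.sq hb (c_tau.1 b (F.cτ hb (mc.1 hn))).2.1, mul_mem hn hn⟩

theorem sign (hv : v ≠ 0) (hN : centralizer {τ} ≤ normalizer (zpowers (mon e v) : Set G)) (h0 : av mτ v = v)
    (h1 : ∀ b, av mτ (av b v) = av b v → av b v = v ∨ av b v = -v) (h2 : Re e b) (h3 : av b v = -v) {t : G}
    (t2 : t * t = 1) (h4 : ∀ w, w ^ 3 = 1 → t * w = w * t → ∃ v, av a v = v ∧ IsConj w (mon e v))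
    (h5 : ∀ b, av a (av b v) ≠ av b v) : ∃ ε : G →* ℤˣ, ε τ ≠ ε t := by
  have := Fact.mk Nat.prime_three
  have c3 : ∀ w, IsConj (mon e v) w → w ^ 3 = 1 := fun w hw => isConj_one_right.1 (F.cube _ (F.mJ v) ▸ hw.pow 3)
  obtain ⟨g, hg⟩ := h2
  refine sign_trick (z := mon e v) (fun k => hv ((by decide : ∀ v : V3, v = -v → v = 0) v (F.inj (k.trans (F.neg v).symm))))
    (isConj_iff.2 ⟨g, by rw [F.app hg, h3, F.neg]⟩) F.t2 t2 (fun w hw => ⟨fun k => ?_, fun k => ?_⟩) fun w hw k => ?_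
  · obtain ⟨c, hc, k1⟩ := F.Pτ.1.exists_conj_le (U := zpowers w) (pg_zp (k := 1) (by simpa using c3 w hw))
      (zpowers_le.2 (mc.2 k.symm))
    have k1 := k1 (conj_mem_conj_smul c (mem_zpowers w))
    obtain ⟨u, hu⟩ := F.exm k1.1
    obtain ⟨b, -, rfl⟩ := F.conj_v (hw.trans (isConj_iff.2 ⟨c, hu.symm⟩))
    have k2 := (mem_normalizer_iff.1 (hN hc) w).2 (hu ▸ (F.mzp hv).2 (.inr (h1 b ((F.fix F.aτ).1 (hu ▸ (mc.1 k1.2).symm)))))
    exact ((mem_zpowers_three (F.ord hv)).1 k2).resolve_left fun k3 => hv (F.one_iff.1 (isConj_one_left.1 (k3 ▸ hw)))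
  · have k1 : Commute τ (mon e v) := (F.fix F.aτ).2 h0
    rcases k with rfl | rfl
    exacts [k1, k1.inv_right]
  · obtain ⟨u, k1, k2⟩ := h4 w (c3 w hw) k
    obtain ⟨b, -, rfl⟩ := F.conj_v (hw.trans k2)
    exact h5 b k1

theorem signz (hN : centralizer {τ} ≤ normalizer (zpowers (mon e vz) : Set G)) {i : G} (hi : Act e i mι) (i2 : i * i = 1)
    (c : i * τ = τ * i) : ∃ ε : G →* ℤˣ, ε τ ≠ ε (τ * i) :=
  F.sign (by decide) hN (by decide) (fun b => (c_tau.2.2.2.2.2.1 b).2.2.2.1) ⟨i, hi⟩ (by decide)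
    (by rw [mul_assoc, ← mul_assoc i, c, mul_assoc, i2, mul_one, F.t2]) (F.Pu (F.aτ.mul hi))
    fun b => (c_tau.2.2.2.2.2.1 b).2.1

variable (hz : centralizer {mon e vz} ≤ normalizer (J : Set G))
include hz

theorem nzτ : centralizer {τ} ≤ normalizer (zpowers (mon e vz) : Set G) := fun g hg =>
  let ⟨b, hb⟩ := F.mono g (F.centτ hz hg)
  F.nzp' hb (by decide) (c_tau.1 b (F.cτ hb (mc.1 hg))).2.2.1

theorem signy (hd : Re e md) : ∃ ε : G →* ℤˣ, ε τ ≠ 1 := by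
  obtain ⟨d, h1, -, h2⟩ := F.lift F.aτ F.t2 hd (by decide)
  obtain ⟨ε, k⟩ := F.sign (v := vy) (by decide) (fun g hg =>
    let ⟨b, hb⟩ := F.mono g (F.centτ hz hg)
    F.nzp' hb (by decide) (c_tau.1 b (F.cτ hb (mc.1 hg))).2.2.2.1) (by decide)
    (fun b => (c_tau.2.2.2.2.2.1 b).2.2.2.2) hd (by decide) (h2 (by decide))
    (F.cls3' h1 c_tau.2.2.2.2.1 (F.nrm1 h1 (by decide) hz)).2 fun b => (c_tau.2.2.2.2.2.1 b).2.2.1
  exact ⟨ε, F.χev ε hd h1 (by decide) (by decide) ▸ k⟩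

theorem isoτ (hd : ¬ Re e md) (h : ∀ s, IsConj τ s → ¬ Act e s mι ∧ ¬ Act e s mu) : J.Normal := by
  refine F.normal_of_iso F.aτ (by decide) F.t2 fun g k => ?_
  have s2 : g * τ * g⁻¹ * (g * τ * g⁻¹) = 1 := by rw [conj_mul, F.t2, mul_one, mul_inv_cancel]
  obtain ⟨b, hb⟩ := F.mono _ (F.centτ hz (mc.2 k.symm))
  rcases (c_tau.1 b (F.cτ hb k.symm)).2.2.2.2 (F.sgn hd ⟨_, hb⟩) with rfl | rfl | rfl | rfl
  · exact absurd (conj_eq_one_iff.1 (eq_one_of_two_three s2 (F.cube _ (F.memJ1 hb)))) F.τ1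
  · exact F.eq_of_sq hb F.aτ s2 F.t2 k.symm
  · exact absurd hb (h _ (isConj_iff.2 ⟨g, rfl⟩)).1
  · exact absurd hb (h _ (isConj_iff.2 ⟨g, rfl⟩)).2

/-- the cases `S₃` and `2 × S₃` -/
theorem caseA (hd : ¬ Re e md) : J.Normal := by
  have := Fact.mk Nat.prime_three
  by_cases hi : Re e mι
  swap
  · exact F.isoτ hz hd fun s _ => ⟨fun k => hi ⟨s, k⟩, fun k => hi ⟨_, by
      convert F.aτ.mul k using 1; decide⟩⟩
  obtain ⟨i, h1, c, i2⟩ := F.lift F.aτ F.t2 hi (by decide)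
  have i2 := i2 (by decide)
  obtain ⟨ε, hε⟩ := F.signz (F.nzτ hz) h1 i2 c
  have hu : Act e (τ * i) mu := F.aτ.mul h1
  have εi : ε i ≠ 1 := fun k => hε (by rw [map_mul, k, mul_one])
  by_cases k : ε τ = 1
  · refine F.isoτ hz hd fun s hs => ?_
    have k1 : ε s = 1 := (isConj_iff_eq.1 (ε.map_isConj hs)).symm.trans k
    exact ⟨fun h => εi (F.χeq ε h1 h ▸ k1), fun h => hε (k.trans (F.χeq ε hu h ▸ k1.symm))⟩
  have εu : ε (τ * i) = 1 := (by decide : ∀ s t : ℤˣ, s ≠ 1 → s ≠ t → t = 1) _ _ k hε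
  have u2 : τ * i * (τ * i) = 1 := by rw [mul_assoc, ← mul_assoc i, c, mul_assoc, i2, mul_one, F.t2]
  have uτ : τ * (τ * i) = τ * i * τ := by rw [mul_assoc, c]
  generalize τ * i = u at hu εu u2 uτ
  have u1 : u ≠ 1 := fun k => absurd ((F.J_iff hu).1 (k ▸ one_mem _)) (by decide)
  have ub : u * mon e vb = mon e vb * u := (F.fix hu).2 (by decide)
  have ob := F.ord (v := vb) (by decide)
  have mH : ∀ n ∈ centralizer {u} ⊓ ε.ker, n ∈ normalizer (J : Set G) → n ∈ J ∨ Act e n mu := fun n hn h => by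
    obtain ⟨b, hb⟩ := F.mono n h
    rcases (c_tau.2.2.2.1 b (F.uniq (hu.mul hb) (mc.1 hn.1 ▸ hb.mul hu))).2 (F.sgn hd ⟨_, hb⟩) with rfl | rfl | rfl | rfl
    exacts [.inl (F.memJ1 hb), absurd (F.χeq ε hb F.aτ ▸ hn.2) k, absurd (F.χeq ε hb h1 ▸ hn.2) εi, .inr hb]
  obtain ⟨R, r1, r2, r3, r4, -⟩ := exists_compl (p := 3) (D := centralizer {u} ⊓ ε.ker) (V := zpowers (mon e vb))
    (zpowers_le.2 ⟨mc.2 ub.symm, F.χJ ε (F.actJ (F.mJ _)) (by decide)⟩) (pg_zp (k := 1) (by simpa using cube_of_ord ob))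
    (fun n hn h p hp => (cm_of_mem hp (by
      rcases mH n hn (inv_mem_iff.1 (F.mem_of_conj (zpowers_le.2 (F.mJ vb) (mem_nz.1 h))
        (by simpa [mul_assoc] using F.cent_b))) with k | k
      exacts [F.comm _ k _ (F.mJ _), (F.fix k).2 (by decide)])).symm) fun n hn h m hm => by
      obtain ⟨b, hb⟩ := F.mono n (F.cent_b (mc.2 (h _ (mem_zpowers _)).symm))
      obtain ⟨v, rfl⟩ := F.exm (F.mem3 hb (c_tau.2.2.2.1 b (F.uniq (hu.mul hb) (mc.1 hn.1 ▸ hb.mul hu))).1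
        (hm ▸ one_mem _))
      exact (F.mzp (by decide)).2 (c_tau.2.2.2.2.2.2 v ((F.fix hu).1 (mc.1 hn.1).symm))
  have o2 : ∀ x : G, x * x = 1 → (orderOf x).Coprime 3 := fun x hx =>
    Nat.Coprime.coprime_dvd_left (orderOf_dvd_of_pow_eq_one ((pow_two x).trans hx)) (by decide)
  have uR := r4 u ⟨mc.2 rfl, εu⟩ (o2 u u2)
  have RH : ∀ w ∈ R, w ∈ normalizer (J : Set G) → w = 1 ∨ w = u := fun w hw h =>
    (mH w (r1 hw) h).imp (fun k => one_of_cube r2 hw (F.cube w k)) fun k =>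
      (inv_mul_eq_one.1 (one_of_cube r2 (mul_mem (inv_mem uR) hw) (F.cube _ (F.memJ k hu)))).symm
  refine F.normal_of_iso hu (by decide) u2 fun g hg => ?_
  have v2 : g * u * g⁻¹ * (g * u * g⁻¹) = 1 := by rw [conj_mul, u2, mul_one, mul_inv_cancel]
  refine (cnt (cube_of_ord ob) F.t2 (by rw [F.app F.aτ, ← F.neg, F.eq_iff]; decide)
    (mem_normalizer_fintype (r3 _ ⟨mc.2 ub.symm, F.χJ ε (F.actJ (F.mJ _)) (by decide)⟩))
    (mem_normalizer_fintype fun w hw => r4 _ (mem_inf.2 ⟨mul_mem (mul_mem (mc.2 uτ) (r1 hw).1) (inv_mem (mc.2 uτ)),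
      (MonoidHom.normal_ker ε).conj_mem _ (r1 hw).2 τ⟩) (((MulAut.conj τ).orderOf_eq w).symm ▸
        r2.coprime_dvd_left (orderOf_dvd_natCard _ hw)))
    (fun w hw k => RH w hw (F.cent_b (mc.2 k.symm))) (fun w hw k => RH w hw (F.centτ hz (mc.2 k.symm))) uR u1 ub.symm
    (r4 _ ⟨mc.2 hg.symm, (MonoidHom.normal_ker ε).conj_mem _ εu g⟩ (o2 _ v2)) v2).resolve_left fun k =>
    u1 (conj_eq_one_iff.1 k)

omit hz [Finite G] in
theorem tv {s : G} (hs : Act e s a) (h : a.1 * a.1 ≠ 1) (hw : av a w = w) : IsConj s (mon e w * s) := by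
  obtain ⟨k, hk⟩ := (c_chi.2.2.2 a h w hw).1
  refine isConj_iff.2 ⟨(mon e k)⁻¹, ?_⟩
  calc _ = (mon e k)⁻¹ * (s * mon e k * s⁻¹) * s := by group
    _ = _ := by rw [F.app hs, hk, add_comm, F.add]; group

theorem sc (hd : Re e md) (hi : ¬ Re e mι) {j : G} (hj : j ∈ J) (hg : g * j * g⁻¹ ∈ normalizer (J : Set G)) :
    g * j * g⁻¹ ∈ J := by
  by_contra hn
  have j1 : j ≠ 1 := fun k => hn (by simp [k])
  have s3 : (g * j * g⁻¹) ^ 3 = 1 := by rw [conj_pow, F.cube j hj, mul_one, mul_inv_cancel]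
  obtain ⟨a, ha⟩ := F.mono _ hg
  have a2 : a.1 * a.1 ≠ 1 := fun k => hn (F.mem3 (k := 1) ha k (by rw [pow_one, s3]; exact one_mem _))
  obtain ⟨w, w0, hw⟩ := c_cube a (F.uniq (ha.mul (ha.mul ha)) (by rw [← pow_three, s3]; exact F.actJ (one_mem _))) a2
  have c1 : g⁻¹ * mon e w * g * j = j * (g⁻¹ * mon e w * g) := by
    calc _ = g⁻¹ * (mon e w * (g * j * g⁻¹)) * g := by group
      _ = _ := by rw [← (F.fix ha).2 hw]; group
  obtain ⟨b, hb⟩ := F.mono _ (F.ti hz hj j1 (mc.2 c1))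
  have b2 : b.1 * b.1 ≠ 1 := fun k => hn (S0.cj (F.mem_of_conj (F.mem3 (k := 1) hb k (by
    rw [pow_one, ← inv_inv g, inv_inv g⁻¹, conj_pow, F.cube _ (F.mJ w)]; simp)) (by
    simpa [mul_assoc] using F.ti hz (F.mJ w) (mt F.one_iff.1 w0))) hj)
  obtain ⟨v, rfl⟩ := F.exm hj
  have hv := (F.fix hb).1 c1
  have n1 : ∀ {a v}, av a v = v → av a (-v) = -v := by decide +kernel
  have cc : ∀ {u}, IsConj (g⁻¹ * mon e w * g) (u * (g⁻¹ * mon e w * g)) → IsConj (mon e w) (g * u * g⁻¹ * mon e w) :=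
    fun h => (isConj_iff.2 ⟨g⁻¹, by group⟩).trans (h.trans (isConj_iff.2 ⟨g, by group⟩))
  have ci : ∀ {x y : G}, IsConj x y → IsConj x⁻¹ y⁻¹ := fun h => (isConj_iff.1 h).elim fun c k =>
    isConj_iff.2 ⟨c, by rw [← k]; group⟩
  have k1 := cc (F.tv hb b2 hv)
  have k2 := cc (F.tv hb b2 (n1 hv))
  have k4 := ci (F.tv ha a2 (n1 hw))
  rw [(F.fix ha).2 hw] at k1
  rw [F.neg, ← conj_inv] at k2
  rw [F.neg, mul_inv_rev _ (g * _ * _), inv_inv] at k4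
  obtain ⟨c, h1, h2⟩ := F.conj_v (F.neg w ▸ (k2.trans k4.symm).trans (ci (k1.trans (F.tv ha a2 hw).symm)).symm)
  exact (c_chi.2.2.2 a a2 w hw).2 w0 c h2 (F.pr1 hd hi h1)

/-- the case `S₄` -/
theorem caseB (hd : Re e md) (hi : ¬ Re e mι) : J.Normal := by
  obtain ⟨χ, hχ⟩ := F.signy hz hd
  have ok := fun {g a} => F.χok (g := g) (a := a) χ hd hχ fun i h => absurd ⟨i, h⟩ hi
  have JN : J ≤ χ.ker := fun j hj => (ok (F.actJ hj)).2 (by decide)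
  obtain ⟨s, h1, -, s2⟩ := F.lift (F.actJ (one_mem _)) (one_mul 1) (F.reD (a := ma) hd (.inl (by decide))) (by decide)
  have s2 := s2 (by decide)
  obtain ⟨t, h2, c, t2⟩ := F.lift h1 s2 (F.reD (a := mb) hd (.inl (by decide))) (by decide)
  let x : Fin 3 → χ.ker := fun i => ⟨e i, JN (F.xm i)⟩
  have nN := fun g : χ.ker => SetLike.ext_iff.1 (subgroupOf_normalizer_eq JN) g
  refine F.normal_of_le JN ((normal_subgroupOf_iff_le_normalizer JN).1 (CL.McL3.c27Thm (x := x)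
    (ta := ⟨s, (ok h1).2 (by decide)⟩) (tb := ⟨t, (ok h2).2 (by decide)⟩) (ρ := ⟨r, (ok F.ar).2 (by decide)⟩)
    ⟨(Nat.card_congr (subgroupOfEquivOfLe JN).toEquiv).trans F.card, le_antisymm (fun j hj => ?_) ((closure_le _).2 ?_),
      fun a ha => Subtype.ext (F.cube _ ha), fun a ha b hb => Subtype.ext (F.comm _ ha _ hb),
      fun g hg => F.cent fun j hj => congrArg Subtype.val (hg ⟨j, JN hj⟩ hj), fun a ha a1 g hg => (nN g).1
        (F.ti hz ha (fun k => a1 (Subtype.ext k)) (mc.2 (congrArg Subtype.val (mc.1 hg)))),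
      fun a ha g hg => F.sc hz hd hi ha ((nN _).2 hg), Subtype.ext s2, Subtype.ext (t2 (by decide)), Subtype.ext c,
      Subtype.ext (by simpa [ma] using h1 0), Subtype.ext (by simpa [ma] using h1 1),
      Subtype.ext (by simpa [ma] using h1 2), Subtype.ext (by simpa [mb] using h2 0),
      Subtype.ext (by simpa [mb] using h2 1), Subtype.ext (by simpa [mb] using h2 2),
      fun i => Subtype.ext ?_, fun n hn => ?_⟩))
  · obtain ⟨v, hv⟩ := F.exm hj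
    rw [show j = mon x v from Subtype.ext hv.symm]
    exact mon_mem (fun i => Subgroup.subset_closure (Set.mem_range_self i)) v
  · rintro _ ⟨i, rfl⟩
    exact F.xm i
  · have := F.ar i
    rwa [(by decide : ∀ i, mr.1 i = i + 1), (by decide : ∀ i, mr.2 i = 1), Units.val_one, zpow_one] at this
  · obtain ⟨a, ha⟩ := F.mono n ((nN n).2 hn)
    exact ⟨a.1, a.2, (ok ha).1 n.2, fun i => Subtype.ext (ha i)⟩

/-- the character `det` in the case `2 × S₄` -/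
theorem exχ (hd : Re e md) (hi : Re e mι) : ∃ χ : G →* ℤˣ, χ τ ≠ 1 ∧ ∀ i, Act e i mι → χ i ≠ 1 := by
  obtain ⟨i, h1, c, i2⟩ := F.lift F.aτ F.t2 hi (by decide)
  obtain ⟨ε, hε⟩ := F.signz (F.nzτ hz) h1 (i2 (by decide)) c
  obtain ⟨χ, hχ⟩ := F.signy hz hd
  rw [map_mul, ne_eq, left_eq_mul] at hε
  suffices h : ∃ χ : G →* ℤˣ, χ τ ≠ 1 ∧ χ i ≠ 1 from h.imp fun χ h => ⟨h.1, fun j hj => F.χeq χ h1 hj ▸ h.2⟩
  by_cases k : ε τ = 1
  · by_cases k1 : χ i = 1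
    · exact ⟨ε * χ, by simpa [k] using hχ, by simpa [k1] using hε⟩
    · exact ⟨χ, hχ, k1⟩
  · exact ⟨ε, k, hε⟩

end Sx

end CL.S9R
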