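/-
3-local recognition of `S₉`, part 5: the case `C(z) = 3 × S₆`.
-/
import Cfsg.Agent.Rec.S9D
import Cfsg.Agent.Rec.A9S

set_option autoImplicit false
set_option maxRecDepth 100000
set_option synthInstance.maxSize 4096

namespace CL.S9R

open Subgroup Cfsg CL.Grp CL.Rec CL.Perm CL.G23 CL.McL3.C27 Equiv
open CL.A9R (q6 s6_q)
open scoped Pointwise

theorem c_s6a : ∀ p : S6, (p * p = 1 → p * swap 0 1 = swap 0 1 * p → p * swap 4 5 = swap 4 5 * p →
    (p * swap 1 2) ^ 3 = 1 → (p * swap 3 4) ^ 3 = 1 → p = swap 2 3) ∧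
    (p * (swap 0 1 * swap 3 4) = swap 0 1 * swap 3 4 * p → p ^ 4 = 1) := by decide +kernel

theorem c_s6b : ∀ p : S6, p * q6 = q6 * p → p ^ 12 = 1 ∧ (p * p = 1 → p = 1 ∨ ∃ v, v * p * v⁻¹ = swap 0 1 ∨
    v * p * v⁻¹ = swap 0 1 * swap 3 4 ∨ v * p * v⁻¹ = q6) ∧ (p * swap 0 3 = swap 0 3 * p → p * swap 1 4 = swap 1 4 * p →
      ∃ i j k : Fin 2, p = swap 0 3 ^ i.1 * swap 1 4 ^ j.1 * swap 2 5 ^ k.1) := by decide +kernel

theorem c_s6c : swap 1 2 = swap 0 1 * z6 ∧ swap 4 5 = swap 3 4 * w6 ∧ swap 0 3 * q6 = q6 * swap 0 3 ∧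
    swap 1 3 * swap 0 1 * (swap 1 3)⁻¹ = (swap 0 3 : S6) ∧
    (∃ v, v * (swap 0 1 * swap 3 4) * v⁻¹ = swap 0 3 * q6) ∧ z6 * w6 * swap 0 3 * (z6 * w6)⁻¹ = swap 1 4 ∧ z6 * w6 * swap 1 4 * (z6 * w6)⁻¹ = swap 2 5 ∧
    swap 2 3 * swap 0 1 = (swap 0 1 * swap 2 3 : S6) ∧ swap 2 3 * swap 4 5 = (swap 4 5 * swap 2 3 : S6) ∧
    (swap 2 3 * swap 1 2 : S6) ^ 3 = 1 ∧ (swap 2 3 * swap 3 4 : S6) ^ 3 = 1 := by decide +kernel

def σ0 : Mo := (1, ![-1, 1, 1])
def σ1 : Mo := (1, ![1, -1, 1])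
def σ2 : Mo := (1, ![1, 1, -1])

theorem c_sig : (∀ b, mm σ2 b = mm b σ2 → b.1 * b.1 = 1) ∧ (∀ b, av σ2 (av b 1) ≠ av b 1 ∧ av md (av b 1) ≠ av b 1 ∧
    av mu (av b 1) ≠ av b 1) ∧ (∀ v, av md v = v → v = 0 ∨ v = vz ∨ v = -vz) ∧ (∀ v, av mι v = v → v = 0) ∧
    (∀ a, mm mι a = mm a mι) ∧ ∀ v, v = vz ∨ v = -vz ∨ av mτ v ≠ v ∨ ∀ b, v ≠ av b vz := by
  refine ⟨?_, ?_, ?_, ?_, ?_, ?_⟩ <;> decide +kernel

universe u

variable {G : Type u} [Group G] {e : Fin 3 → G} {g h : G} {a b : Mo} {v w : V3}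

/-- a complement to `J` in its normaliser -/
structure Lf (e : Fin 3 → G) (τ : G) (l : Mo → G) : Prop where
  act : ∀ a, Act e (l a) a
  mul : ∀ a b, l (mm a b) = l a * l b
  one : l m1 = 1
  tau : l mτ = τ

/-- a complement to `⟨z⟩` in its centraliser -/
structure Th (e : Fin 3 → G) (l : Mo → G) (θ : S6 →* G) : Prop where
  cm : ∀ p, θ p * mon e vz = mon e vz * θ p
  ind : ∀ p, θ p ∈ zpowers (mon e vz) → p = 1
  dec : ∀ g, g * mon e vz = mon e vz * g → ∃ u ∈ zpowers (mon e vz), ∃ p, g = u * θ p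
  t0 : θ z6 = e 0
  t1 : θ w6 = e 1
  s0 : θ (swap 0 1) = l σ0
  s1 : θ (swap 3 4) = l σ1
  tq : θ q6 = l mτ

namespace Lf

variable {τ : G} {l : Mo → G} (L : Lf e τ l)
include L

theorem sq (h : mm a a = m1) : l a * l a = 1 := by rw [← L.mul, h, L.one]

theorem cm (h : mm a b = mm b a) : l a * l b = l b * l a := by rw [← L.mul, h, L.mul]

theorem conj (c : Mo) (h : mm c a = mm b c) : IsConj (l a) (l b) :=
  isConj_iff.2 ⟨l c, mul_inv_eq_iff_eq_mul.2 (by rw [← L.mul, h, L.mul])⟩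

end Lf

namespace Sx

variable {J : Subgroup G} {r τ : G} (F : Sx J e r τ) [Finite G]
include F

theorem exLf (hd : Re e md) (hi : Re e mι) : ∃ l, Lf e τ l := by
  obtain ⟨i, h1, c, i2⟩ := F.lift F.aτ F.t2 hi (by decide)
  choose l k1 k2 k3 using fun a => F.lift h1 (i2 (by decide)) (F.reD (a := a) hd (.inr hi)) (c_sig.2.2.2.2.1 a)
  have u : ∀ {g a}, Act e g a → g * i = i * g → l a = g := fun {g a} h hc => by
    obtain ⟨v, hv⟩ := F.exm (F.memJ (k1 a) h)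
    rw [c_sig.2.2.2.1 v ((F.fix h1).1 (hv ▸ ((show Commute g i from hc).inv_left.mul_left (k2 a)).symm)), mon_zero] at hv
    exact (inv_mul_eq_one.1 hv.symm).symm
  exact ⟨l, k1, fun a b => u ((k1 a).mul (k1 b)) ((show Commute (l a) i from k2 a).mul_left (k2 b)),
    u (F.actJ (one_mem _)) (by simp), u F.aτ c.symm⟩

theorem exTh {l : Mo → G} (L : Lf e τ l) (π : centralizer {mon e vz} →* S6) (hs : Function.Surjective π)
    (hk : ∀ g, π g = 1 ↔ (g : G) ∈ zpowers (mon e vz)) : ∃ θ, Th e l θ := by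
  have hv : vz ≠ 0 := by decide
  obtain ⟨-, -, q3, -⟩ := F.qJ hv fun a _ => (by decide +kernel : ∀ a, av a vz = vz → a.1 * a.1 = 1) a
  obtain ⟨K, k1, -, k3, k4, k5, k6⟩ := exists_ker (F.Jc (F.mJ vz)) F.cube F.comm fun n hn hN k hk =>
    q3 n hn hN k (hk ▸ one_mem _)
  have lC : ∀ a, av a vz = vz → l a ∈ centralizer {mon e vz} := fun a h => mc.2 ((F.fix (L.act a)).2 h)
  have lK : ∀ a, av a vz = vz → mm a a = m1 → l a ∈ K := fun a h h2 => k3 _ (lC a h) (by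
    rw [show 4 = 2 * 2 from rfl, pow_mul, pow_two (l a), L.sq h2, one_pow])
  have e0 : e 0 ∈ K := k4 _ (F.xm 0) _ (lC md (by decide)) (by simpa [md] using L.act md 0)
  have e1 : e 1 ∈ K := k4 _ (F.xm 1) _ (lC md (by decide)) (by simpa [md] using L.act md 1)
  have ZK : ∀ u ∈ zpowers (mon e vz), u ∈ K → u = 1 := fun u hu h =>
    k5 u (zpowers_le.2 (F.mJ _) hu) h fun n hn _ => cm_of_mem hu (mc.1 hn)
  have dec : ∀ g ∈ centralizer {mon e vz}, ∃ u ∈ zpowers (mon e vz), ∃ k ∈ K, g = u * k := fun g hg => by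
    obtain ⟨k, hk, j, hj, rfl⟩ := k6 g hg
    obtain ⟨v, rfl⟩ := F.exm hj
    have m : e 2 ^ (v 2).1 ∈ zpowers (mon e vz) := pow_mem (by simp [mon, vz]) _
    have m' := mul_mem hk (mul_mem (pow_mem e0 (v 0).1) (pow_mem e1 (v 1).1))
    exact ⟨_, m, _, m', by rw [← cm_of_mem m (mc.1 (k1 m')), mon, ← mul_assoc k]⟩
  obtain ⟨ρ, hρ⟩ : ∃ ρ : K →* S6, ∀ g, ρ g = π ⟨g, k1 g.2⟩ := ⟨π.comp (inclusion k1), fun _ => rfl⟩
  have bρ : Function.Bijective ρ := ⟨(injective_iff_map_eq_one ρ).2 fun g h =>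
    Subtype.ext (ZK _ ((hk _).1 (hρ g ▸ h)) g.2), fun p => by
      obtain ⟨g, rfl⟩ := hs p
      obtain ⟨u, hu, k, h1, h2⟩ := dec g g.2
      refine ⟨⟨k, h1⟩, ?_⟩
      rw [hρ, show g = ⟨u, F.Jc (F.mJ _) (zpowers_le.2 (F.mJ _) hu)⟩ * ⟨k, k1 h1⟩ from Subtype.ext h2, map_mul,
        (hk ⟨u, _⟩).2 hu, one_mul]⟩
  obtain ⟨φ⟩ : Nonempty (K ≃* S6) := ⟨MulEquiv.ofBijective ρ bρ⟩
  clear bρ hρ ρ hk hs π
  obtain ⟨a, ha⟩ : ∃ a : K, (a : G) = e 0 := ⟨⟨_, e0⟩, rfl⟩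
  obtain ⟨b, hb⟩ : ∃ a : K, (a : G) = e 1 := ⟨⟨_, e1⟩, rfl⟩
  obtain ⟨s, hs⟩ : ∃ a : K, (a : G) = l σ0 := ⟨⟨_, lK _ (by decide) (by decide)⟩, rfl⟩
  obtain ⟨u, hu⟩ : ∃ a : K, (a : G) = l σ1 := ⟨⟨_, lK _ (by decide) (by decide)⟩, rfl⟩
  obtain ⟨t, ht⟩ : ∃ a : K, (a : G) = l mτ := ⟨⟨_, lK _ (by decide) (by decide)⟩, rfl⟩
  have tr : ∀ {x y : K}, φ x = φ y ↔ (x : G) = y := φ.injective.eq_iff.trans Subtype.ext_iff
  have m0 : mon e ![1, 0, 0] = e 0 := by simp [mon]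
  have m1' : mon e ![0, 1, 0] = e 1 := by simp [mon]
  have ac : ∀ a i, l a * e i = e (a.1 i) ^ (a.2 i : ℤ) * l a := fun a i => mul_inv_eq_iff_eq_mul.1 (L.act a i)
  obtain ⟨β, β1, β2, β3, β4⟩ := s6_norm (z := φ a) (w := φ b) (s := φ s) (u := φ u)
    (by rw [← map_pow, ← map_one φ, tr, coe_pow, ha]; exact F.cube _ (F.xm 0))
    (by rw [← map_one φ, Ne, tr, ha, ← m0, coe_one, F.one_iff]; decide)
    (by rw [← map_mul, ← map_mul, tr, coe_mul, coe_mul, ha, hb]; exact F.comm _ (F.xm _) _ (F.xm _))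
    (by rw [← pow_three', ← map_pow, ← map_one φ, tr, coe_pow, hb]; exact F.cube _ (F.xm 1))
    (by rw [← map_one φ, Ne, tr, hb, ← m1', coe_one, F.one_iff]; decide)
    (by rw [Ne, tr, ha, hb, ← m0, ← m1', F.eq_iff]; decide)
    (by rw [← map_inv, Ne, tr, coe_inv, ha, hb, ← m0, ← m1', ← F.neg, F.eq_iff]; decide)
    (by rw [← map_inv, ← map_mul, ← map_mul, tr, coe_mul, coe_mul, coe_inv, ha, hs, ac]; simp [σ0])
    (by rw [← map_mul, ← map_mul, tr, coe_mul, coe_mul, hb, hs, ac]; simp [σ0])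
    (by rw [← map_mul, ← map_one φ, tr, coe_mul, hs]; exact L.sq (by decide))
    (by rw [← map_mul, ← map_mul, tr, coe_mul, coe_mul, ha, hu, ac]; simp [σ1])
    (by rw [← map_inv, ← map_mul, ← map_mul, tr, coe_mul, coe_mul, coe_inv, hb, hu, ac]; simp [σ1])
    (by rw [← map_mul, ← map_one φ, tr, coe_mul, hu]; exact L.sq (by decide))
  have β5 : β (φ t) = q6 := s6_q _
    (by rw [← β1, ← β2, ← map_mul, ← map_mul, ← map_mul, ← map_mul, β.injective.eq_iff, tr, coe_mul, coe_mul, ha, hb, ht,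
      ac]; simp [mτ])
    (by rw [← β3, ← β4, ← map_mul, ← map_mul, ← map_mul, ← map_mul, β.injective.eq_iff, tr, coe_mul, coe_mul, hs, hu, ht,
      ← L.mul, ← L.mul]; exact congrArg l (by decide))
    (by rw [← β1, ← β2, ← map_mul, ← map_mul, ← map_mul, ← map_mul, β.injective.eq_iff, tr, coe_mul, coe_mul, ha, hb, ht,
      ac]; simp [mτ])
    (by rw [← β3, ← β4, ← map_mul, ← map_mul, ← map_mul, ← map_mul, β.injective.eq_iff, tr, coe_mul, coe_mul, hs, hu, ht,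
      ← L.mul, ← L.mul]; exact congrArg l (by decide))
  have key : ∀ k : K, K.subtype.comp (φ.trans β).symm.toMonoidHom (β (φ k)) = k := fun k => by simp
  refine ⟨K.subtype.comp (φ.trans β).symm.toMonoidHom, fun p => mc.1 (k1 ((φ.trans β).symm p).2), fun p h => ?_,
    fun g hg => ?_, β1 ▸ (key a).trans ha, β2 ▸ (key b).trans hb, β3 ▸ (key s).trans hs, β4 ▸ (key u).trans hu,
    β5 ▸ (key t).trans ht⟩
  · exact (φ.trans β).symm.map_eq_one_iff.1 (Subtype.ext (ZK _ h ((φ.trans β).symm p).2))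
  · obtain ⟨u, hu, k, h1, h2⟩ := dec g (mc.2 hg)
    exact ⟨u, hu, _, by rw [key ⟨k, h1⟩, h2]⟩

omit [Finite G] in
theorem nc {s t : G} (h : ∀ w, w ^ 3 = 1 → t * w = w * t → ∃ v, av a v = v ∧ IsConj w (mon e v)) [Finite G]
    (hs : s * mon e v = mon e v * s) (h5 : ∀ b, av a (av b v) ≠ av b v) : ¬ IsConj s t := fun k => by
  obtain ⟨g, rfl⟩ := isConj_iff.1 k
  obtain ⟨u, k1, k2⟩ := h (g * mon e v * g⁻¹) (by rw [conj_pow, F.cube _ (F.mJ v), mul_one, mul_inv_cancel])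
    (by rw [conj_mul, conj_mul, hs])
  obtain ⟨b, -, rfl⟩ := F.conj_v ((isConj_iff.2 ⟨g, rfl⟩).trans k2)
  exact h5 b k1

variable {l : Mo → G} {θ : S6 →* G} (L : Lf e τ l) (T : Th e l θ)
include L T

omit [Finite G] L F in
theorem θinj : Function.Injective θ := (injective_iff_map_eq_one θ).2 fun p h => T.ind p (h ▸ one_mem _)

omit [Finite G] L F in
theorem θpow {u : G} (hu : u ∈ zpowers (mon e vz)) (p : S6) (n : ℕ) : (u * θ p) ^ n = u ^ n * θ (p ^ n) := by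
  rw [(show Commute (θ p) u from cm_of_mem hu (T.cm p)).symm.mul_pow, map_pow]

omit [Finite G] L F in
theorem θone {u : G} (hu : u ∈ zpowers (mon e vz)) {p : S6} {n : ℕ} (h : (u * θ p) ^ n = 1) : p ^ n = 1 ∧ u ^ n = 1 := by
  rw [θpow T hu] at h
  have := T.ind _ (eq_inv_of_mul_eq_one_right h ▸ inv_mem (pow_mem hu n))
  exact ⟨this, by simpa [this] using h⟩

omit [Finite G] L F in
theorem θcm {u : G} (hu : u ∈ zpowers (mon e vz)) {p q : S6} (h : u * θ p * θ q = θ q * (u * θ p)) : p * q = q * p :=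
  θinj T (mul_left_cancel (a := u) (by rw [map_mul, map_mul, ← mul_assoc, h, ← mul_assoc, cm_of_mem hu (T.cm q), mul_assoc]))

omit [Finite G] T in
theorem inv2 : l σ2 * mon e vz * (l σ2)⁻¹ = (mon e vz)⁻¹ := by rw [F.app (L.act _), ← F.neg, F.eq_iff]; decide

omit [Finite G] in
theorem cσ (p : S6) : l σ2 * θ p = θ p * l σ2 := by
  obtain ⟨d1, d2, -, -, -, -, -, d3, d4, d5, d6⟩ := c_s6c
  have c0 : Commute (l σ2) (θ (swap 0 1)) := T.s0 ▸ L.cm (by decide)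
  have c3 : Commute (l σ2) (θ (swap 3 4)) := T.s1 ▸ L.cm (by decide)
  have c1 : Commute (l σ2) (θ (swap 1 2)) := by
    rw [d1, map_mul, T.t0]
    exact c0.mul_right (mul_inv_eq_iff_eq_mul.1 (by simpa [σ2] using L.act σ2 0))
  have c4 : Commute (l σ2) (θ (swap 4 5)) := by
    rw [d2, map_mul, T.t1]
    exact c3.mul_right (mul_inv_eq_iff_eq_mul.1 (by simpa [σ2] using L.act σ2 1))
  have c2 : Commute (l σ2) (θ (swap 2 3)) := by
    obtain ⟨u, hu, q, hq⟩ := T.dec (l σ2 * θ (swap 2 3) * (l σ2)⁻¹) (Commute.inv_right_iff.1 (F.inv2 L ▸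
      Commute.conj (T.cm _) (l σ2)))
    obtain ⟨q2, u2⟩ := θone T hu (n := 2) (by rw [← hq, conj_pow, ← map_pow, pow_two, swap_mul_self]; simp)
    rw [eq_one_of_two_three ((pow_two u).symm.trans u2) (cube_zp (F.cube _ (F.mJ _)) hu), one_mul] at hq
    have k : ∀ s, Commute (l σ2) (θ s) → θ (q * s) = l σ2 * θ (swap 2 3 * s) * (l σ2)⁻¹ ∧
        θ (s * q) = l σ2 * θ (s * swap 2 3) * (l σ2)⁻¹ := fun s hs => by
      rw [map_mul, map_mul, map_mul, map_mul, ← hq, ← conj_mul, ← conj_mul, hs.eq, mul_inv_cancel_right]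
      exact ⟨rfl, rfl⟩
    rw [(c_s6a q).1 ((pow_two q).symm.trans q2) (θinj T (by rw [(k _ c0).1, (k _ c0).2, d3]))
      (θinj T (by rw [(k _ c4).1, (k _ c4).2, d4]))
      (θinj T (by rw [map_pow, (k _ c1).1, conj_pow, ← map_pow, d5]; simp))
      (θinj T (by rw [map_pow, (k _ c3).1, conj_pow, ← map_pow, d6]; simp))] at hq
    exact mul_inv_eq_iff_eq_mul.1 hq
  have hp : p ∈ Submonoid.closure (Set.range fun i : Fin 5 => swap i.castSucc i.succ) :=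
    Perm.mclosure_swap_castSucc_succ 5 ▸ Submonoid.mem_top p
  induction hp using Submonoid.closure_induction with
  | mem _ hp =>
    obtain ⟨i, rfl⟩ := hp
    fin_cases i
    exacts [c0, c1, c2, c3, c4]
  | one => simp
  | mul p q _ _ hp hq => exact map_mul θ p q ▸ Commute.mul_right hp hq

omit [Finite G] F in
theorem θd : θ (swap 0 1 * swap 3 4) = l md := by rw [map_mul, T.s0, T.s1, ← L.mul]; exact congrArg l (by decide)

theorem Pδ : ∀ w, w ^ 3 = 1 → l md * w = w * l md → ∃ v, av md v = v ∧ IsConj w (mon e v) := by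
  refine (F.cls3 (L.act md) fun n hn hN k hk => ?_).2
  have h1 := (mem_normalizer_iff.1 hN _).1 ⟨F.mJ vz, mc.2 ((F.fix (L.act md)).2 (by decide)).symm⟩
  obtain ⟨v, hv⟩ := F.exm h1.1
  have h2 : n * mon e vz * n⁻¹ ∈ zpowers (mon e vz) :=
    hv ▸ (F.mzp (by decide)).2 (c_sig.2.2.1 v ((F.fix (L.act md)).1 (hv ▸ (mc.1 h1.2).symm)))
  obtain ⟨u, hu, p, rfl⟩ := T.dec n (commute_of_sq_of_odd (odd_orderOf_of_pow (Odd.pow (by decide)) hk) (by
    rcases (mem_normalizer_zpowers_three (F.ord (v := vz) (by decide))).1 (mem_nz.2 h2) with k | k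
    · exact Commute.pow_left (mul_inv_eq_iff_eq_mul.1 k) 2
    · refine mul_inv_eq_iff_eq_mul.1 ?_
      rw [pow_two, mul_inv_rev, ← mul_assoc, mul_assoc n n, mul_assoc n, k, ← conj_inv, k, inv_inv]))
  rw [mem_bot.1 (mem_of_four (mem_bot.2 ((c_s6a p).2 (θcm T hu (θd L T ▸ hn)))) (mem_bot.2 (θone T hu hk).1)), map_one,
    mul_one]
  exact zpowers_le.2 (F.mJ _) hu

omit [Finite G] in
theorem cl {t : G} (t2 : t * t = 1) (h1 : t * mon e vz * t⁻¹ = (mon e vz)⁻¹) (h2 : t * τ = τ * t) :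
    IsConj t (l σ2) ∧ IsConj (t * τ) (l mu) ∨ IsConj t (l md) ∨ IsConj t (l mι) ∨ IsConj t (l mu) := by
  have s2 := L.sq (a := σ2) (by decide)
  obtain ⟨u, hu, p, hp⟩ := T.dec (l σ2 * t) (mul_inv_eq_iff_eq_mul.1 (by
    rw [mul_inv_rev, ← mul_assoc, mul_assoc (l σ2), mul_assoc (l σ2), h1, ← conj_inv, F.inv2 L, inv_inv]))
  have k1 : l σ2 * u * (l σ2)⁻¹ = u⁻¹ := by
    obtain ⟨i, rfl⟩ := hu
    rw [← conj_zpow, F.inv2 L, inv_zpow]
  have k2 : u⁻¹ * t * u⁻¹⁻¹ = l σ2 * θ p := by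
    calc _ = l σ2 * u * (l σ2)⁻¹ * (l σ2 * l σ2)⁻¹ * l σ2 * (l σ2 * t) * u := by rw [k1]; group
      _ = l σ2 * (u * u) * (θ p * u) := by rw [hp, s2, inv_eq_of_mul_eq_one_right s2]; simp [mul_assoc, s2]
      _ = l σ2 * u ^ 3 * θ p := by rw [cm_of_mem hu (T.cm p), pow_three]; group
      _ = _ := by rw [cube_zp (F.cube _ (F.mJ _)) hu, mul_one]
  have uτ : Commute τ u⁻¹ := Commute.inv_right (cm_of_mem hu ((F.fix F.aτ).2 (by decide)))
  have στ : l σ2 * τ = τ * l σ2 := L.tau ▸ L.cm (by decide)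
  have k3 : IsConj t (l σ2 * θ p) := isConj_iff.2 ⟨_, k2⟩
  have k4 : p * q6 = q6 * p := θinj T (mul_left_cancel (a := l σ2) (by
    rw [map_mul, map_mul, T.tq, L.tau, ← mul_assoc, ← mul_assoc, στ, mul_assoc τ, ← k2]
    exact ((uτ.mul_right h2.symm).mul_right uτ.inv_right).symm))
  have k5 : p * p = 1 := θinj T (by
    have : l σ2 * θ p * (l σ2 * θ p) = 1 := by rw [← k2, conj_mul, t2]; group
    rwa [F.cσ L T p, mul_assoc, ← mul_assoc (l σ2), F.cσ L T p, mul_assoc, s2, mul_one, ← map_mul, ← map_one θ] at this)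
  have k6 : ∀ v, IsConj t (l σ2 * θ (v * p * v⁻¹)) := fun v => k3.trans (isConj_iff.2 ⟨θ v, by
    rw [← mul_assoc, ← F.cσ L T v, map_mul, map_mul, map_inv]; group⟩)
  have k7 : IsConj (l σ2 * τ) (l mu) := L.tau ▸ L.mul _ _ ▸ L.conj σ0 (by decide)
  rcases (c_s6b p k4).2.1 k5 with rfl | ⟨v, k | k | k⟩
  · rw [map_one, mul_one] at k2 k3
    exact .inl ⟨k3, (isConj_iff.2 ⟨u⁻¹, by rw [← conj_mul, k2, ← uτ.eq, mul_inv_cancel_right]⟩).trans k7⟩
  · exact .inr (.inl ((k6 v).trans (by rw [k, T.s0, ← L.mul]; exact L.conj mr (by decide))))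
  · exact .inr (.inr (.inl ((k6 v).trans (by rw [k, θd L T, ← L.mul, show mm σ2 md = mι by decide]))))
  · exact .inr (.inr (.inr ((k6 v).trans (by rw [k, T.tq, L.tau]; exact k7))))

omit L T [Finite G] in
theorem nzH (h1 : g ∈ normalizer (J : Set G)) (h2 : g * τ = τ * g) :
    g * mon e vz = mon e vz * g ∨ g * mon e vz * g⁻¹ = (mon e vz)⁻¹ :=
  let ⟨b, hb⟩ := F.mono g h1
  ((mem_normalizer_zpowers_three (F.ord (by decide))).1 (F.nzp' hb (by decide)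
    (c_tau.1 b (F.cτ hb h2)).2.2.1)).imp_left mul_inv_eq_iff_eq_mul.1

omit L T in
theorem cD {d : G} (hd : d ∈ J ⊓ centralizer {τ}) (d1 : d ≠ 1) (h : g * d = d * g) :
    g * mon e vz = mon e vz * g ∨ g ∈ normalizer (J : Set G) := by
  obtain ⟨v, rfl⟩ := F.exm hd.1
  rcases c_sig.2.2.2.2.2 v with rfl | rfl | k | k
  exacts [.inl h, .inl (Commute.inv_right_iff.1 (F.neg _ ▸ h)), absurd ((F.fix F.aτ).1 (mc.1 hd.2).symm) k,
    .inr (F.cent1 (mt F.one_iff.2 d1) (.inr (.inr k)) (mc.2 h))]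

omit [Finite G] in
theorem pow12 (h1 : g * τ = τ * g) (h2 : g * mon e vz = mon e vz * g) : g ^ 12 = 1 := by
  obtain ⟨u, hu, p, rfl⟩ := T.dec g h2
  rw [θpow T hu, (c_s6b p (θcm T hu (by rwa [T.tq, L.tau]))).1, show 12 = 3 * 4 from rfl, pow_mul,
    cube_zp (F.cube _ (F.mJ _)) hu, map_one, one_pow, one_mul]

theorem core {K : Subgroup G} (h1 : K ≤ centralizer {τ}) (h2 : centralizer {τ} ≤ normalizer (K : Set G)) :
    pPrimeCoreOf 3 K ≤ centralizer {mon e vz} ∧ IsPGroup 2 (pPrimeCoreOf 3 K) ∧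
      ∀ d ∈ J ⊓ centralizer {τ}, d ≠ 1 → ∀ g ∈ K, g * d = d * g → g ^ 36 = 1 := by
  have := Fact.mk Nat.prime_three
  have cop := pPrimeCoreOf_coprime 3 K
  have OL := (pPrimeCoreOf_le 3 K).trans h1
  have nO := h2.trans (normalizer_le_normalizer_pPrimeCoreOf 3 K)
  have k : pPrimeCoreOf 3 K ≤ centralizer {mon e vz} := CL.Loc.le_of_forall_elem (p := 3) (A := J ⊓ centralizer {τ})
    (F.Deq ▸ F.przy.ea) (by rw [F.Deq, F.przy.card]; decide) (inf_le_right.trans nO)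
    ((Nat.Prime.coprime_iff_not_dvd Nat.prime_three).1 cop.symm) fun d hd d1 c hc => mc.2
      ((F.cD hd d1 (mc.1 hc.2)).elim id fun h => (F.nzH h (mc.1 (OL hc.1))).resolve_right fun k => by
        have hc := (mem_inf.1 hc).1
        have := mul_mem hc ((mem_normalizer_iff.1 (nO (mc.2 ((F.fix F.aτ (v := vz)).2 (by decide)).symm)) _).1
          (inv_mem hc))
        rw [← mul_assoc, ← mul_assoc, k, ← mul_inv_rev, inv_mem_iff] at this
        exact absurd (F.one_iff.1 (F.add _ _ ▸ one_of_cube cop this (F.cube _ (mul_mem (F.mJ _) (F.mJ _))))) (by decide))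
  refine ⟨k, fun c => ⟨2, Subtype.ext (one_of_cube cop (pow_mem c.2 4) ?_)⟩, fun d hd d1 g hg h => ?_⟩
  · exact (pow_mul (c : G) 4 3).symm.trans (F.pow12 L T (mc.1 (OL c.2)) (mc.1 (k c.2)))
  · rcases F.cD hd d1 h with k | k
    · rw [show 36 = 12 * 3 from rfl, pow_mul, F.pow12 L T (mc.1 (h1 hg)) k, one_pow]
    · obtain ⟨b, hb⟩ := F.mono g k
      rw [show 36 = 2 * 3 * 6 from rfl, pow_mul, pow_mul, pow_two,
        F.cube _ (F.sq hb (c_tau.1 b (F.cτ hb (mc.1 (h1 hg)))).2.1), one_pow]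

theorem coreY {K : Subgroup G} (h1 : K ≤ centralizer {τ}) (h2 : centralizer {τ} ≤ normalizer (K : Set G))
    (hy : mon e vy ∈ K) (h3 : ∀ d ∈ J ⊓ centralizer {τ}, d ∈ K → d ∈ zpowers (mon e vy)) :
    centralizer {τ} ≤ normalizer (zpowers (mon e vz) : Set G) := by
  obtain ⟨k1, k2, k3⟩ := F.core L T h1 h2
  have cy := F.cent1 (v := vy) (by decide) (.inr (.inr (by decide +kernel)))
  have zD : mon e vz ∈ J ⊓ centralizer {τ} := F.Deq ▸ mem_sup_left (mem_zpowers _)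
  refine coreF h1 h2 (F.Deq ▸ F.przy.card) inf_le_right hy (F.ord (by decide)) k2 (fun c hc h => ?_) k3
    (fun g hg => mem_nz.2 (by rw [mc.1 (k1 hg), mul_inv_cancel_right]; exact mem_zpowers _)) fun g hg => ?_
  · rcases F.memD (mc.1 (h1 hc)) ((F.nzH (cy (mc.2 h)) (mc.1 (h1 hc))).resolve_right fun k => by
      have := mul_mem hc ((mem_normalizer_iff.1 (h2 zD.2) _).1 (inv_mem hc))
      rw [← mul_assoc, ← mul_assoc, k, ← mul_inv_rev, inv_mem_iff] at this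
      have := h3 _ (mul_mem zD zD) this
      rw [← F.add, F.mzp (by decide)] at this
      exact absurd this (by decide)) h with k | k
    · exact ⟨c, h3 c k hc, 1, one_mem _, (mul_one c).symm⟩
    have c1 : c = τ⁻¹ * c * τ := by rw [mul_assoc, mc.1 (h1 hc), inv_mul_cancel_left]
    have τK : τ ∈ K := by
      have := pow_mem hc 3
      rwa [c1, (show Commute (τ⁻¹ * c) τ from mc.1 k.2).mul_pow, F.cube _ k.1, one_mul, pow_three, F.t2, mul_one] at this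
    exact ⟨_, h3 _ k (mul_mem (inv_mem τK) hc), τ, le_pPrimeCoreOf (zpowers_le.2 τK) (fun g hg => mem_nz.2 (by
      rw [mc.1 (h1 hg), mul_inv_cancel_right]; exact mem_zpowers τ)) (by
      rw [Nat.card_zpowers, ord2 F.t2 F.τ1]; decide) (mem_zpowers τ), c1⟩
  · exact (mem_normalizer_zpowers_three (F.ord (by decide))).2 ((F.nzH (inv_mem_iff.1 (F.mem_of_conj
      (zpowers_le.2 (F.mJ vy) (mem_nz.1 hg.2)) (by simpa [mul_assoc] using cy))) (mc.1 hg.1)).imp_left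
      mul_inv_eq_iff_eq_mul.2)

theorem coreZ {K : Subgroup G} (h1 : K ≤ centralizer {τ}) (h2 : centralizer {τ} ≤ normalizer (K : Set G))
    (ht : θ (swap 0 3) ∈ K) (h3 : ∀ d ∈ J ⊓ centralizer {τ}, d ∈ K → d = 1) :
    centralizer {τ} ≤ normalizer (zpowers (mon e vz) : Set G) := by
  have := Fact.mk Nat.prime_three
  obtain ⟨-, -, -, -, -, d1, d2, -⟩ := c_s6c
  have tO : θ (swap 0 3) ∈ pPrimeCoreOf 3 (centralizer {τ}) := le_pPrimeCoreOf h1 h2
    ((Nat.Prime.coprime_iff_not_dvd Nat.prime_three).2 fun h => by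
      obtain ⟨u, ou⟩ := exists_prime_orderOf_dvd_card' 3 h
      rw [← orderOf_coe] at ou
      obtain ⟨c, hc, k⟩ := F.Pτ.1.exists_conj_le (U := zpowers (u : G)) (pg_zp (k := 1) (by simpa using cube_of_ord ou))
        (zpowers_le.2 (h1 u.2))
      exact ne_one_of_ord3 ou (conj_eq_one_iff.1 (h3 _ (k (conj_mem_conj_smul c (mem_zpowers _)))
        ((mem_normalizer_iff.1 (h2 hc) _).1 u.2)))).symm ht
  have k1 := (F.core L T le_rfl le_normalizer).1
  have nO := le_normalizer_pPrimeCoreOf 3 (centralizer ({τ} : Set G))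
  have cop := pPrimeCoreOf_coprime 3 (centralizer ({τ} : Set G))
  generalize pPrimeCoreOf 3 (centralizer ({τ} : Set G)) = O at tO k1 nO cop
  have yL : θ (z6 * w6) ∈ centralizer {τ} := by
    rw [map_mul, T.t0, T.t1, show e 0 * e 1 = mon e vy by simp [mon, vy]]
    exact mc.2 ((F.fix F.aτ).2 (by decide)).symm
  have t1 : θ (swap 1 4) ∈ O := by
    rw [← d1, map_mul, map_mul, map_inv]
    exact (mem_normalizer_iff.1 (nO yL) _).1 tO
  have t2 : θ (swap 2 5) ∈ O := by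
    rw [← d2, map_mul, map_mul, map_inv]
    exact (mem_normalizer_iff.1 (nO yL) _).1 t1
  have nK : centralizer {τ} ≤ normalizer ((centralizer {τ} ⊓ centralizer (O : Set G) : Subgroup G) : Set G) := fun g hg =>
    mem_normalizer_fintype fun k hk => mem_inf.2 ⟨mul_mem (mul_mem hg hk.1) (inv_mem hg),
      (mem_normalizer_iff.1 (le_normalizer_centralizer' nO hg) k).1 hk.2⟩
  have zK : mon e vz ∈ centralizer {τ} ⊓ centralizer (O : Set G) :=
    ⟨mc.2 ((F.fix F.aτ).2 (by decide)).symm, fun o ho => mc.1 (k1 ho)⟩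
  obtain ⟨k4, k5, k6⟩ := F.core L T inf_le_left nK
  refine coreF inf_le_left nK (F.Deq ▸ F.przy.card) inf_le_right zK (F.ord (by decide)) k5 (fun c hc h => ?_) k6
    (fun g hg => mem_nz.2 (by rw [mc.1 (k4 hg), mul_inv_cancel_right]; exact mem_zpowers _)) inf_le_right
  obtain ⟨u, hu, p, rfl⟩ := T.dec c h
  obtain ⟨i, j, k, hp⟩ := (c_s6b p (θcm T hu (by rw [T.tq, L.tau]; exact mc.1 hc.1))).2.2 (θcm T hu (hc.2 _ tO).symm)
    (θcm T hu (hc.2 _ t1).symm)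
  refine ⟨u, hu, θ p, le_pPrimeCoreOf (N := O ⊓ (centralizer {τ} ⊓ centralizer (O : Set G))) inf_le_right
    (fun g hg => mem_normalizer_fintype fun k hk => mem_inf.2 ⟨(mem_normalizer_iff.1 (nO hg.1) k).1 hk.1,
      (mem_normalizer_iff.1 (nK hg.1) k).1 hk.2⟩) (cop.coprime_dvd_left (card_dvd_of_le inf_le_left))
    (mem_inf.2 ⟨?_, (mul_mem_cancel_left (zpowers_le.2 zK hu)).1 hc⟩), rfl⟩
  rw [hp, map_mul, map_mul, map_pow, map_pow, map_pow]
  exact mul_mem (mul_mem (pow_mem tO _) (pow_mem t1 _)) (pow_mem t2 _)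

theorem nzτ' : centralizer {τ} ≤ normalizer (zpowers (mon e vz) : Set G) := by
  obtain ⟨-, -, d1, d2, ⟨v, d3⟩, -⟩ := c_s6c
  have Pσ := (F.cls3' (L.act σ2) c_sig.1 (F.nrm2 (v := ![1, 0, 0]) (w := ![0, 1, 0]) (L.act σ2) (by decide) (by decide)
    (by decide) (by decide))).2
  have xτ := (F.fix F.aτ (v := 1)).2 (by decide)
  have n1 := F.nc Pσ xτ fun b => (c_sig.2.1 b).1
  have n2 := F.nc (F.Pδ L T) xτ fun b => (c_sig.2.1 b).2.1
  have n3 := F.nc (F.Pu (L.act mu)) xτ fun b => (c_sig.2.1 b).2.2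
  have n4 := F.nc (F.Pδ L T) ((F.fix (L.act σ2) (v := vy)).2 (by decide)) fun b => (c_tau.2.2.2.2.2.1 b).2.2.1
  have n5 := F.nc (F.Pu (L.act mu)) ((F.fix (L.act σ0) (v := vz)).2 (by decide)) fun b => (c_tau.2.2.2.2.2.1 b).2.1
  have n6 := F.nc (F.Pu (L.act mu)) ((F.fix (L.act md) (v := vz)).2 (by decide)) fun b => (c_tau.2.2.2.2.2.1 b).2.1
  have c02 : IsConj (l σ0) (l σ2) := L.conj (mi mr) (by decide)
  have lL : ∀ a, mm a mτ = mm mτ a → l a ∈ centralizer {τ} := fun a h => mc.2 (L.tau ▸ L.cm h)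
  have nz : ∀ g, g * τ = τ * g → g * mon e vz = mon e vz * g ∨ g ∈ normalizer (J : Set G) →
      g ∈ normalizer (zpowers (mon e vz) : Set G) := fun g h k =>
    (mem_normalizer_zpowers_three (F.ord (by decide))).2 ((k.elim .inl fun k => F.nzH k h).imp_left mul_inv_eq_iff_eq_mul.2)
  have tr := fun t (ht : t ∈ centralizer {τ}) (t2 : t * t = 1) hi => trick (L := centralizer {τ}) (t := t) F.przy
    (F.Deq ▸ F.Pτ.1) (lL σ2 (by decide)) (F.inv2 L) (lL md (by decide)) ((F.fix (L.act md)).2 (by decide))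
    (by rw [F.app (L.act md), ← F.neg, F.eq_iff]; decide)
    (fun n hn h => nz n (mc.1 hn) (.inr (F.nrm2 (v := vz) (w := vy) F.aτ (by decide) (by decide) (by decide) (by decide)
      (F.Deq ▸ h)))) (fun d hd h c hc k => nz c (mc.1 hc) (F.cD (F.Deq ▸ hd) (fun k1 : d = 1 => h (k1 ▸ one_mem _)) k)) ht t2 hi
  have cl' : ∀ {t g : G}, t * t = 1 → t ∈ centralizer {τ} → g ∈ centralizer {τ} →
      g * t * g⁻¹ * mon e vz * (g * t * g⁻¹)⁻¹ = (mon e vz)⁻¹ → IsConj t (l σ2) ∧ IsConj (t * τ) (l mu) ∨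
        IsConj t (l md) ∨ IsConj t (l mι) ∨ IsConj t (l mu) := fun {t g} t2 ht hg h => by
    have c1 : IsConj t (g * t * g⁻¹) := isConj_iff.2 ⟨g, rfl⟩
    exact (F.cl L T (by rw [conj_mul, t2]; group) h (mc.1 (mul_mem (mul_mem hg ht) (inv_mem hg)))).imp
      (fun k => ⟨c1.trans k.1, (isConj_iff.2 ⟨g, by rw [← conj_mul, mc.1 hg, mul_inv_cancel_right]⟩).trans k.2⟩)
      (Or.imp c1.trans (Or.imp c1.trans c1.trans))
  by_cases hc : IsConj (l σ2) (l mι)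
  · have c1 : IsConj τ (l (mm md mτ)) := L.tau ▸ L.conj σ0 (by decide)
    obtain ⟨K, k1, k2, k3, k4⟩ := tr (l (mm md mτ)) (lL _ (by decide)) (L.sq (by decide)) fun g hg h => by
      rcases cl' (L.sq (by decide)) (lL _ (by decide)) hg h with k | k | k | k
      exacts [n1 (c1.trans k.1), n2 (c1.trans k), n1 ((c1.trans k).trans hc.symm), n3 (c1.trans k)]
    refine F.coreY L T k1 k2 ?_ (F.Deq ▸ k4)
    have := mul_mem k3 ((mem_normalizer_iff.1 (k2 (mc.2 ((F.fix F.aτ (v := vy)).2 (by decide)).symm)) _).1 (inv_mem k3))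
    rwa [← mul_assoc, ← mul_assoc, F.app (L.act _), ← F.neg, ← F.add, show av (mm md mτ) vy + -vy = vy by decide] at this
  have c1 : IsConj (l σ0) (θ (swap 0 3)) := T.s0 ▸ θ.map_isConj (isConj_iff.2 ⟨_, d2⟩)
  have c2 : IsConj (l md) (θ (swap 0 3) * τ) := by
    rw [← L.tau, ← T.tq, ← map_mul, ← θd L T]
    exact θ.map_isConj (isConj_iff.2 ⟨_, d3⟩)
  have t2 : θ (swap 0 3) * θ (swap 0 3) = 1 := by rw [← map_mul, swap_mul_self, map_one]
  have tL : θ (swap 0 3) ∈ centralizer {τ} := mc.2 (by rw [← L.tau, ← T.tq, ← map_mul, d1, map_mul])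
  obtain ⟨K, k1, k2, k3, k4⟩ := tr _ tL t2 fun g hg h => by
    rcases cl' t2 tL hg h with k | k | k | k
    exacts [n6 (c2.trans k.2), n4 (c02.symm.trans (c1.trans k)), hc (c02.symm.trans (c1.trans k)), n5 (c1.trans k)]
  by_cases hy : mon e vy ∈ K
  · exact F.coreY L T k1 k2 hy (F.Deq ▸ k4)
  refine F.coreZ L T k1 k2 k3 fun d hd h => by_contra fun d1 => hy ?_
  exact zpowers_le.2 h (zp_eq (F.cube _ (F.mJ _)) (k4 d (F.Deq ▸ hd) h) d1 ▸ mem_zpowers _)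

omit L T in
/-- the character `det` -/
theorem exχ' (hd : Re e md) (hi : Re e mι) : ∃ χ : G →* ℤˣ, χ τ ≠ 1 ∧ ∀ i, Act e i mι → χ i ≠ 1 := by
  rcases F.centz hd hi with hz | ⟨π, h1, h2⟩
  · exact F.exχ hz hd hi
  obtain ⟨l, L⟩ := F.exLf hd hi
  obtain ⟨θ, T⟩ := F.exTh L π h1 h2
  obtain ⟨χ, h⟩ := F.signz (F.nzτ' L T) (L.act mι) (L.sq (by decide)) (L.tau ▸ L.cm (by decide))
  rw [map_mul, ne_eq, left_eq_mul] at h
  have k : ∀ x y : Fin 6, x ≠ y → χ (θ (swap x y)) = χ (l σ0) := fun x y k =>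
    T.s0 ▸ isConj_iff_eq.1 ((χ.comp θ).map_isConj (Perm.isConj_swap k (by decide)))
  refine ⟨χ, fun k1 => h ?_, fun i hi => F.χeq χ (L.act mι) hi ▸ h⟩
  rw [← L.tau, ← T.tq, q6, map_mul, map_mul, map_mul, map_mul, k _ _ (by decide), k _ _ (by decide),
    k _ _ (by decide)] at k1
  rw [show mι = mm (mm σ0 σ1) σ2 by decide, L.mul, L.mul, map_mul, map_mul,
    ← isConj_iff_eq.1 (χ.map_isConj (L.conj (a := σ0) (b := σ1) mr (by decide))),
    ← isConj_iff_eq.1 (χ.map_isConj (L.conj (a := σ0) (b := σ2) (mi mr) (by decide))), k1]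

end Sx

end CL.S9R
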