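/-
3-local recognition of `S₉`, part 6: reduction to the recognition of `A₉`.
-/
import Cfsg.Agent.Rec.S9E

set_option autoImplicit false

namespace CL.S9R

open Subgroup Cfsg CL.Grp CL.Rec CL.Perm CL.G23 CL.McL3.C27 Equiv CL.Perm.A9N

universe u

/-- the recognition theorem for `A₉` -/
def A9Rec : Prop := ∀ {G : Type u} [Group G] [Finite G] {f : K0 →* G}, A9R.Hy f →
  f.range = ⊤ ∨ Nonempty (G ≃* alternatingGroup (Fin 9))

variable {G : Type u} [Group G] [Finite G] {e : Fin 3 → G}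

theorem sym_nine {K : Subgroup G} [K.Normal] (hK : K ≠ ⊤) (e : K ≃* alternatingGroup (Fin 9))
    (hC : ∀ z : G, (∀ k ∈ K, z * k = k * z) → z ∈ K) : Nonempty (G ≃* Perm (Fin 9)) := by
  let φ : G →* MulAut (alternatingGroup (Fin 9)) := (MulAut.congr e).toMonoidHom.comp (MulAut.conjNormal (H := K))
  have hφ : Function.Injective φ := (MulAut.congr e).injective.comp ((injective_iff_map_eq_one _).2 fun z hz => by
    have h1 : ∀ k ∈ K, z * k = k * z := fun k hk => by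
      have := MulAut.conjNormal_apply (H := K) z ⟨k, hk⟩
      rw [hz] at this
      exact (eq_mul_inv_iff_mul_eq.1 this).symm
    have h2 : (e ⟨z, hC z h1⟩ : Perm (Fin 9)) = 1 := CL.Known.eq_one_of_commute_alt (by simp) fun c hc => by
      obtain ⟨k, hk⟩ := e.surjective ⟨c, hc.mem_alternatingGroup⟩
      have := congrArg (fun x => (e x : Perm (Fin 9))) (Subtype.ext (h1 k k.2) : (⟨z, hC z h1⟩ * k : K) = k * ⟨z, hC z h1⟩)
      simpa [hk] using this
    exact congrArg Subtype.val (e.map_eq_one_iff.1 (Subtype.ext h2)))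
  have hψ : Function.Injective (MulAut.conjNormal : Perm (Fin 9) →* MulAut (alternatingGroup (Fin 9))) :=
    (injective_iff_map_eq_one _).2 fun g hg => CL.Known.eq_one_of_commute_alt (by simp) fun c hc => by
      have := MulAut.conjNormal_apply (H := alternatingGroup (Fin 9)) g ⟨c, hc.mem_alternatingGroup⟩
      rw [hg] at this
      exact (eq_mul_inv_iff_mul_eq.1 this).symm
  have hr : ∀ g, φ g ∈ (MulAut.conjNormal : Perm (Fin 9) →* MulAut (alternatingGroup (Fin 9))).range := fun g => by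
    obtain ⟨σ, hσ⟩ := CL.Known.exists_conj_of_mulEquiv_alt (by simp) (by simp) (φ g)
    exact ⟨σ, MulEquiv.ext fun x => Subtype.ext (by rw [MulAut.conjNormal_apply, hσ])⟩
  let f := (MonoidHom.ofInjective hψ).symm.toMonoidHom.comp (φ.codRestrict _ hr)
  have hf : Function.Injective f := (MonoidHom.ofInjective hψ).symm.injective.comp fun a b h =>
    hφ (congrArg Subtype.val h)
  refine ⟨MulEquiv.ofBijective f (hf.bijective_of_nat_card_le ?_)⟩
  have h1 := K.card_mul_index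
  have h2 := one_lt_index_of_ne_top hK
  rw [Nat.card_congr e.toEquiv, nat_card_alternatingGroup] at h1
  rw [← h1, Nat.card_perm]
  norm_num [Nat.factorial]
  omega

namespace Sx

variable {J : Subgroup G} {r τ : G} (F : Sx J e r τ)
include F

theorem exEquiv {l : Mo → G} (L : Lf e τ l) {N : Subgroup G} (ok : ∀ {g a}, Act e g a → (g ∈ N ↔ Ok a)) :
    ∃ φ : ↥(normalizer (J : Set G) ⊓ N) ≃* K0, ∀ (g : ↥(normalizer (J : Set G) ⊓ N)) v, (g : G) = mon e v →
      φ g = mon yy v := by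
  let z : Fin 3 → G × K0 := fun i => (e i, yy i)
  have z3 : ∀ i, z i ^ 3 = 1 := fun i => Prod.ext (F.cube _ (F.xm i)) (J0_cube (yy_mem i))
  have zc : ∀ i j, Commute (z i) (z j) := fun i j =>
    Prod.ext (F.comm _ (F.xm i) _ (F.xm j)).eq (J0_comm (yy_mem i) (yy_mem j)).eq
  let A := closure (Set.range z)
  have mA : ∀ v, (mon e v, mon yy v) ∈ A := mon_mem (x := z) fun i => subset_closure (Set.mem_range_self i)
  have eA : ∀ p ∈ A, ∃ v, mon e v = p.1 ∧ mon yy v = p.2 := fun p hp => (ex_mon z3 zc hp).imp fun _ e => Prod.ext_iff.1 e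
  let B : Subgroup (G × K0) :=
    { carrier := {p | p.2 ∈ W0 ∧ ∃ a, Ok a ∧ Act yy p.2 a ∧ p.1 = l a}
      one_mem' := ⟨one_mem _, m1, by decide, .of_comm fun _ => Commute.one_left _, L.one.symm⟩
      mul_mem' := fun ⟨h1, a, h2, h3, h4⟩ ⟨k1, b, k2, k3, k4⟩ =>
        ⟨mul_mem h1 k1, _, ok_mm _ _ h2 k2, h3.mul k3, by rw [L.mul, ← h4, ← k4]; rfl⟩
      inv_mem' := fun ⟨h1, a, h2, h3, h4⟩ => ⟨inv_mem h1, _, ok_mi _ h2, h3.inv, inv_eq_of_mul_eq_one_right (by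
        rw [h4, ← L.mul, (by decide +kernel : ∀ a, mm a (mi a) = m1), L.one])⟩ }
  have BA : B ≤ normalizer (A : Set (G × K0)) := fun p ⟨_, a, _, h3, h4⟩ => ((h4 ▸ L.act a).prod h3).norm
  have eG : ∀ p ∈ A ⊔ B, ∃ v a, ∃ w ∈ W0, Ok a ∧ Act yy w a ∧ p.1 = mon e v * l a ∧ p.2 = mon yy v * w := fun p hp => by
    obtain ⟨q, hq, w, ⟨h1, a, h2, h3, h4⟩, rfl⟩ := (CL.Odd.mem_sup_norm BA).1 hp
    obtain ⟨v, e1, e2⟩ := eA q hq
    exact ⟨v, a, w.2, h1, h2, h3, e1 ▸ h4 ▸ rfl, e2 ▸ rfl⟩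
  have mG : ∀ v a, ∀ w ∈ W0, Ok a → Act yy w a → (mon e v * l a, mon yy v * w) ∈ A ⊔ B := fun v a w h1 h2 h3 =>
    mul_mem (mem_sup_left (mA v)) (mem_sup_right (show (l a, w) ∈ B from ⟨h1, a, h2, h3, rfl⟩))
  obtain ⟨φ, hφ⟩ := exists_equiv_of_graph (H := normalizer (J : Set G) ⊓ N) (A ⊔ B) (fun p hp => by
      obtain ⟨v, a, w, -, h1, -, e1, -⟩ := eG p hp
      have := e1 ▸ F.actL (F.mJ v) (L.act a)
      exact ⟨F.memH this, (ok this).2 h1⟩)
    (fun g hg => by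
      obtain ⟨a, ha⟩ := F.mono g hg.1
      obtain ⟨_, hc, a4⟩ := e1 a ((ok ha).1 hg.2)
      obtain ⟨k, rfl⟩ := exW hc
      obtain ⟨v, hv⟩ := F.exm (S0.cj (F.memH (L.act a)) (F.memJ ha (L.act a)))
      exact ⟨mon yy v * k, by simpa [hv, mul_assoc] using mG v a k hc ((ok ha).1 hg.2) (act_of_actC a4)⟩)
    (fun k => by
      obtain ⟨j, hj, k, hk, rfl⟩ := dec k
      obtain ⟨v, rfl⟩ := ex_yy hj
      obtain ⟨a, a1, a2⟩ := e2 _ hk
      exact ⟨_, mG v a k hk a1 (act_of_actC a2)⟩)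
    (fun k hk => by
      obtain ⟨v, a, w, hw, -, h2, e1, e2⟩ := eG _ hk
      obtain rfl := (F.J_iff (F.actL (F.mJ v) (L.act a))).1 (e1 ▸ one_mem _)
      rw [L.one, mul_one, eq_comm, F.one_iff] at e1
      rw [show k = _ from e2, e1, mon_zero, one_mul]
      exact W0_eq_one hw fun i => by simpa using h2.comm (.of_comm fun _ => Commute.one_left _) i)
    (fun g hg => by
      obtain ⟨v, a, w, hw, h1, h2, e1, e2⟩ := eG _ hg
      have wJ : w ∈ J0 := (mul_mem_cancel_left (mon_mem yy_mem v)).1 (e2 ▸ one_mem _)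
      obtain rfl : w = 1 := W0_eq_one hw fun i => J0_comm wJ (yy_mem i)
      rw [mul_one] at e2
      obtain rfl : a = m1 := F.uniq (L.act a) (.of_comm fun i => by
        have k : z i ∈ A := subset_closure (Set.mem_range_self i)
        obtain ⟨u, k1, k2⟩ := eA _ (mul_mem ((mem_normalizer_iff.1 (BA (show (l a, 1) ∈ B from
          ⟨hw, a, h1, h2, rfl⟩)) _).1 k) (inv_mem k))
        rw [mon_yy (k2.trans (by simp)), mon_zero] at k1
        exact mul_inv_eq_iff_eq_mul.1 (mul_inv_eq_one.1 k1.symm))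
      rw [show g = _ from e1, mon_yy e2.symm, mon_zero, L.one, mul_one])
  exact ⟨φ, fun g v h => hφ g _ (h ▸ mem_sup_left (mA v))⟩

theorem main (hA : A9Rec.{u}) : J.Normal ∨ Nonempty (G ≃* Perm (Fin 9)) := by
  by_cases hd : Re e md
  swap
  · exact .inl (F.caseA (F.cent1 (by decide) (.inl hd)) hd)
  by_cases hi : Re e mι
  swap
  · exact .inl (F.caseB (F.cent1 (by decide) (.inr (.inl hi))) hd hi)
  obtain ⟨χ, h1, h2⟩ := F.exχ' hd hi
  obtain ⟨l, L⟩ := F.exLf hd hi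
  have ok := fun {g a} => F.χok (g := g) (a := a) χ hd h1 h2
  have JN : J ≤ χ.ker := fun j hj => (ok (F.actJ hj)).2 (by decide)
  obtain ⟨φ, hφ⟩ := F.exEquiv L (N := χ.ker) ok
  obtain ⟨f, hf⟩ : ∃ f : K0 →* χ.ker, ∀ k, (f k : G) = φ.symm k :=
    ⟨(inclusion inf_le_right).comp φ.symm.toMonoidHom, fun _ => rfl⟩
  have fv : ∀ v, (f (mon yy v) : G) = mon e v := fun v => by
    rw [hf, ← hφ ⟨_, le_normalizer (F.mJ v), JN (F.mJ v)⟩ v rfl, φ.symm_apply_apply]
  have fJ : J0.map f = J.subgroupOf χ.ker := le_antisymm (map_le_iff_le_comap.2 fun k hk => by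
    obtain ⟨v, rfl⟩ := ex_yy hk
    exact show (f (mon yy v) : G) ∈ J from fv v ▸ F.mJ v) fun j hj => by
    obtain ⟨v, hv⟩ := F.exm hj
    exact ⟨_, mon_mem yy_mem v, Subtype.ext ((fv v).trans hv)⟩
  have fr : f.range = (normalizer (J : Set G)).subgroupOf χ.ker := le_antisymm (by
    rintro _ ⟨k, rfl⟩
    exact show (f k : G) ∈ _ from hf k ▸ (φ.symm k).2.1) fun g hg =>
    ⟨φ ⟨g, hg, g.2⟩, Subtype.ext (by rw [hf, φ.symm_apply_apply])⟩
  have co : ∀ k ∈ J0, pPrimeCoreOf 3 (centralizer {f k}) = ⊥ := fun k hk =>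
    (map_eq_bot_iff_of_injective _ χ.ker.subtype_injective).1 (F.sig _ (by
      rw [card_map_subtype]; exact pPrimeCoreOf_coprime 3 _)
      fun j hj => mem_normalizer_fintype (by
        rintro _ ⟨o, ho, rfl⟩
        exact ⟨_, (mem_normalizer_iff.1 (le_normalizer_pPrimeCoreOf 3 _ (mc.2 (Subtype.ext (F.comm j hj _
          (fJ.le (mem_map_of_mem f hk)))) : (⟨j, JN hj⟩ : χ.ker) ∈ centralizer {f k})) o).1 ho, rfl⟩))
  rcases hA (f := f) ⟨fun a b h => φ.symm.injective (Subtype.ext (by rw [← hf, ← hf, h])), by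
    rw [fJ, fr, subgroupOf_normalizer_eq JN], co _ A9R.mJ.2.2.2.2.1, co _ A9R.mJ.2.2.2.1⟩ with h | ⟨⟨h⟩⟩
  · exact .inl (F.normal_of_le JN (subgroupOf_eq_top.1 (fr ▸ h)))
  · exact .inr (sym_nine (fun k => h1 (k.ge (mem_top τ))) h fun z hz => JN (F.cent fun j hj => (hz j (JN hj)).symm))

end Sx

theorem s3343_of (hA : A9Rec.{u}) {x : G} (hx : orderOf x = 3)
    (φ : centralizer ({x} : Set G) ≃* centralizer ({x9} : Set _)) {J : Subgroup G} (hJ : J ≤ centralizer {x})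
    (hc : IsMulCommutative J) (h3 : ∀ j ∈ J, j ^ 3 = 1) (cJ : Nat.card J = 27)
    (hs : ∀ K : Subgroup G, (Nat.card K).Coprime 3 → (∀ j ∈ J, K.map (MulAut.conj j).toMonoidHom = K) → K = ⊥) :
    J.Normal ∨ Nonempty (G ≃* Perm (Fin 9)) := by
  obtain ⟨e, r, τ, F⟩ := exists_s0 hx φ hJ (fun a ha b hb => congrArg Subtype.val (hc.1.1 ⟨a, ha⟩ ⟨b, hb⟩)) h3 cJ
  obtain ⟨β, h⟩ := F.mono
  exact Sx.main ⟨F.twist β, h, fun K h1 h2 => hs K h1 fun j hj => (conj_smul_eq_self_iff j K).2 (h2 hj)⟩ hA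

end CL.S9R
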