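/-
3-local recognition of `A₉`, part 7: two four-groups are conjugate, which gives two more relations.
-/
import Cfsg.Agent.Rec.A9S
import Cfsg.Agent.Rec.A9G

set_option autoImplicit false
set_option maxRecDepth 100000
set_option synthInstance.maxSize 4000

namespace CL.A9R

open Subgroup Equiv Cfsg CL.Perm CL.Perm.A9N CL.Grp CL.Rec
open scoped Pointwise

/-- double transpositions -/
def r6 : S6 := swap 0 1 * swap 3 4
/-- double transpositions -/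
def u6 : S6 := swap 3 4 * swap 2 5
/-- a transposition -/
def e6 : S6 := swap 2 5
/-- triple transpositions -/
def tri (p : S6) : Prop := ∃ v, v * q6 * v⁻¹ = p
/-- the other involutions -/
def rcl (p : S6) : Prop := ∃ v, v * r6 * v⁻¹ = p ∨ v * swap 0 1 * v⁻¹ = p

instance : DecidablePred tri := fun _ => by unfold tri; infer_instance
instance : DecidablePred rcl := fun _ => by unfold rcl; infer_instance

theorem sA : ∀ p : S6, p * r6 = r6 * p → p ^ 4 = 1 ∧ (p * p = 1 ∨ p * p = r6) ∧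
    (p * u6 = u6 * p → p * p = 1 ∧ (p = 1 ∨ rcl p ∨ p = r6 * e6) ∧
      (Perm.sign p = 1 → p = 1 ∨ p = r6 ∨ p = u6 ∨ p = r6 * u6)) ∧ (p * p = 1 → p ≠ 1 → p ≠ r6 → ¬ tri p →
        (rcl (r6 * p) ∨ p = e6) ∧ (p = e6 ∨ tri (p * e6) ∨ (p = swap 0 1 ∨ p = swap 3 4) ∨ p = u6 ∨ p = r6 * u6)) := by
  decide +kernel

theorem sB : rcl e6 ∧ rcl u6 ∧ rcl (u6 * e6) ∧ tri (r6 * e6) ∧ ∃ w : S6, w * w = r6 := by decide +kernel

theorem m_A : (∃ v, v * sp * v⁻¹ = s0) ∧ s0 * y0 = y0 * s0 ∧ y0 ≠ 1 ∧ sg * r0 * sg⁻¹ = r0 * e3 ∧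
    sg * (r0 * e3) * sg⁻¹ = e3 ∧ sg * e3 * sg⁻¹ = r0 ∧ sg ^ 3 = 1 ∧ r0 * e1 = z2 ∧ e3 * e4 = z3 ∧
    (∃ v, v * y0 * v⁻¹ = z2 * z3) ∧ (∃ v, v * a0 * v⁻¹ = z1 * (z2 * z3)) ∧ (∃ v, v * a0 * v⁻¹ = z1⁻¹ * (z2 * z3)) ∧
    (∃ v, v * y0 * v⁻¹ = z1 * z2) ∧ ∃ v, v * y0 * v⁻¹ = z1⁻¹ * z2 := by
  simp only [ex, exists_prop, ck_el, ck_inj, ne_eq, ck_mul, ck_inv, ck_pow, ck_one, z1, z2, z3, r0, e1, e3, e4,
    sp, sg, a0, s0, y0, ck_wd]
  decide +kernel

variable {G : Type*} [Group G]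

theorem Hy.comm_z {f : K0 →* G} [Finite G] (h : Hy f) {O : Subgroup G} (hO : (Nat.card O).Coprime 3) {c : G}
    (hc : c ∈ O) (hz : f z1 ∈ normalizer (O : Set G)) {g : G} (hg : g * f z1 * g⁻¹ ∈ J0.map f)
    (e : g * c * g⁻¹ ∈ f.range) : c * f z1 = f z1 * c := by
  have h1 : c * (f z1 * c⁻¹ * (f z1)⁻¹) ∈ O := mul_mem hc ((mem_normalizer_iff.1 hz _).1 (inv_mem hc))
  have h2 := Hy.J_cube (mul_mem (h.conj_J e hg) (inv_mem hg))
  rw [show g * c * g⁻¹ * (g * f z1 * g⁻¹) * (g * c * g⁻¹)⁻¹ * (g * f z1 * g⁻¹)⁻¹ =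
    g * (c * (f z1 * c⁻¹ * (f z1)⁻¹)) * g⁻¹ by group, conj_pow, conj_eq_one_iff] at h2
  have := orderOf_eq_one_iff.1 (Nat.eq_one_of_dvd_coprimes hO (orderOf_dvd_natCard O h1) (orderOf_dvd_of_pow_eq_one h2))
  calc _ = c * (f z1 * c⁻¹ * (f z1)⁻¹) * (f z1 * c) := by group
    _ = _ := by rw [this, one_mul]

/-- `n` lies over `p` -/
def R (f : K0 →* G) (θ : S6 →* G) (n : G) (p : S6) : Prop := n * (θ p)⁻¹ ∈ zpowers (f z1)

namespace Fr

variable {f : K0 →* G} {θ : S6 →* G} (F : Fr f θ)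
include F

theorem inj : Function.Injective θ := (injective_iff_map_eq_one θ).2 fun p e => F.ind p (e ▸ one_mem _)

theorem act' (p : S6) {u : G} (hu : u ∈ zpowers (f z1)) :
    θ p * u * (θ p)⁻¹ = if Perm.sign p = 1 then u else u⁻¹ := by
  obtain ⟨n, rfl⟩ := hu
  simp only [← conj_zpow, F.act]
  split_ifs <;> simp

theorem mul {n m : G} {p q : S6} (h : R f θ n p) (h' : R f θ m q) : R f θ (n * m) (p * q) := by
  have : θ p * (m * (θ q)⁻¹) * (θ p)⁻¹ ∈ zpowers (f z1) := by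
    rw [F.act' p h']
    split_ifs
    exacts [h', inv_mem h']
  have := mul_mem h this
  rwa [R, map_mul, show n * m * (θ p * θ q)⁻¹ = n * (θ p)⁻¹ * (θ p * (m * (θ q)⁻¹) * (θ p)⁻¹) by group]

omit F in
theorem refl (p : S6) : R f θ (θ p) p := by simp [R]

theorem uniq {n : G} {p q : S6} (h : R f θ n p) (h' : R f θ n q) : p = q := by
  have := mul_mem (inv_mem h) h'
  rw [mul_inv_rev, inv_inv, mul_assoc, inv_mul_cancel_left, ← map_inv, ← map_mul] at this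
  exact mul_inv_eq_one.1 (F.ind _ this)

theorem pow {n : G} {p : S6} (h : R f θ n p) : ∀ k : ℕ, R f θ (n ^ k) (p ^ k)
  | 0 => by simp [R]
  | k + 1 => by rw [pow_succ, pow_succ]; exact F.mul (pow h k) h

theorem pow_one {n : G} {p : S6} (h : R f θ n p) {k : ℕ} (e : n ^ k = 1) : p ^ k = 1 :=
  F.uniq (F.pow h k) (by simp [R, e])

theorem comm {n : G} {p q : S6} (h : R f θ n p) (e : n * θ q = θ q * n) : p * q = q * p :=
  F.uniq (F.mul h (refl q)) (e ▸ F.mul (refl q) h)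

theorem ex {n : G} (e : n * f z1 * n⁻¹ = f z1 ∨ n * f z1 * n⁻¹ = (f z1)⁻¹) : ∃ p, R f θ n p :=
  let ⟨u, hu, p, e⟩ := F.dec n e
  ⟨p, by rwa [R, e, mul_inv_cancel_right]⟩

theorem ex' {n : G} (e : n * f z1 = f z1 * n) : ∃ p, R f θ n p := F.ex (.inl (mul_inv_eq_iff_eq_mul.2 e))

theorem zc {p : S6} (e : Perm.sign p = 1) : f z1 * θ p = θ p * f z1 :=
  (mul_inv_eq_iff_eq_mul.1 ((F.act p).trans (if_pos e))).symm

theorem tz : θ z6 = f z2 := by rw [z6, map_mul, F.t0, F.t1, ← map_mul, m_A.2.2.2.2.2.2.2.1]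

theorem tw : θ w6 = f z3 := by rw [w6, map_mul, F.t3, F.t4, ← map_mul, m_A.2.2.2.2.2.2.2.2.1]

theorem tr : θ r6 = f r0 * f e3 := by rw [r6, map_mul, F.t0, F.t3]

theorem rc {p : S6} (e : rcl p) : IsConj (θ r6) (θ p) := by
  obtain ⟨v, e | e⟩ := e
  · exact θ.map_isConj (isConj_iff.2 ⟨v, e⟩)
  · refine IsConj.trans (IsConj.symm ?_) (θ.map_isConj (isConj_iff.2 ⟨v, e⟩))
    rw [F.t0, F.tr, ← map_mul]
    exact f.map_isConj (isConj_iff.2 ⟨_, m_A.2.2.2.1⟩)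

variable (h : Hy f)
include h

theorem sign {n : G} {p : S6} (hp : R f θ n p) (e : n * f z1 = f z1 * n) : Perm.sign p = 1 := by
  by_contra hn
  have h1 := (F.act p).trans (if_neg hn)
  have h2 : Commute (n * (θ p)⁻¹) (f z1) := by
    obtain ⟨k, hk⟩ := hp
    exact hk ▸ (Commute.refl _).zpow_left k
  have h3 : Commute (θ p) (f z1) := by simpa using h2.inv_left.mul_left e
  rw [h3.eq, mul_inv_cancel_right, eq_inv_iff_mul_eq_one] at h1
  exact ne_one_of_ord3 h.oz (eq_one_of_two_three h1 (cube_of_ord h.oz))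

theorem four_of {a b : S6} (hs : ∀ p, p * a = a * p → p * b = b * p → Perm.sign p = 1 → p = 1 ∨ p = a ∨ p = b ∨ p = a * b)
    {aa : θ a * θ a = 1} {bb : θ b * θ b = 1} {ab : θ a * θ b = θ b * θ a} (c : G) (h1 : c * θ a = θ a * c)
    (h2 : c * θ b = θ b * c) (h3 : c * f z1 = f z1 * c) : ∃ u ∈ zpowers (f z1), u⁻¹ * c ∈ four aa bb ab := by
  obtain ⟨p, hp⟩ := F.ex' h3
  refine ⟨_, hp, ?_⟩
  rw [mul_inv_rev, inv_inv, inv_mul_cancel_right]
  rcases hs p (F.comm hp h1) (F.comm hp h2) (F.sign h hp h3) with rfl | rfl | rfl | rfl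
  exacts [.inl (map_one θ), .inr (.inl rfl), .inr (.inr (.inl rfl)), .inr (.inr (.inr (map_mul θ _ _)))]

variable [Finite G]

theorem syl_r : IsSylowIn 3 (zpowers (f z1)) (centralizer {θ r6}) :=
  isSylowIn_zpowers h.oz (mem_cent.2 (F.zc (by decide +kernel))) fun g hg e ho => by
    obtain ⟨p, hp⟩ := F.ex' e.eq
    have h1 := (sA p (F.comm hp (mem_cent.1 hg))).1
    have h2 := F.pow_one hp (pow_orderOf_eq_one g)
    obtain rfl : p = 1 := orderOf_eq_one_iff.1 (Nat.eq_one_of_dvd_coprimes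
      ((Nat.coprime_two_right.2 ho).pow_right 2) (orderOf_dvd_of_pow_eq_one h2) (orderOf_dvd_of_pow_eq_one h1))
    simpa [R] using hp

theorem not_rs : ¬ IsConj (θ r6) (f s0) := fun e => by
  obtain ⟨g, hg⟩ := isConj_iff.1 e.symm
  obtain ⟨k, -, hk⟩ := exists_conj_of_isSylowIn h.oz (F.syl_r h) ((CL.Inv.orderOf_conj g _).trans
    (h.ord mJ.2.2.2.1 m_A.2.2.1)) (mem_cent.2 (by rw [← hg, conj_mul, conj_mul, h.comm_iff.2 m_A.2.1]))
  have h1 : IsConj (f z3) (f z1) := f.map_isConj (isConj_iff.2 ⟨_, m_e.1.1⟩)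
  have h2 : IsConj (f y0) (k * (g * f y0 * g⁻¹) * k⁻¹) := (isConj_iff.2 ⟨g, rfl⟩).trans (isConj_iff.2 ⟨k, rfl⟩)
  refine h.not_zy (h1.trans ?_)
  rcases hk with hk | hk <;> rw [hk] at h2
  exacts [h2.symm, (isConj_iff.2 ⟨_, (F.act (swap 0 1)).trans (if_neg (by decide +kernel))⟩).trans h2.symm]

theorem nt {p : S6} (e : IsConj (θ r6) (θ p)) : ¬ tri p := fun ⟨v, hv⟩ => by
  obtain ⟨w, hw⟩ := m_A.1
  refine F.not_rs h ((e.trans (θ.map_isConj (isConj_iff.2 ⟨v, hv⟩)).symm).trans ?_)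
  rw [F.tq]
  exact f.map_isConj (isConj_iff.2 ⟨w, hw⟩)

theorem cU {g : G} (h1 : g * θ r6 = θ r6 * g) (h2 : g * θ u6 = θ u6 * g) : ∃ p, R f θ g p ∧ p * p = 1 ∧
    (p = 1 ∨ rcl p ∨ p = r6 * e6) := by
  have rel : ∀ {a b c d : S6}, a * b = c * d → θ a * θ b = θ c * θ d := fun e => by rw [← map_mul, e, map_mul]
  have rel' : ∀ {a b c : S6}, a * b * a⁻¹ = c → θ a * θ b * (θ a)⁻¹ = θ c := fun e => by simp [← e]
  have sq : ∀ {a : S6}, a * a = 1 → θ a * θ a = 1 := fun e => by rw [← map_mul, e, map_one]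
  have ne : ∀ {a b : S6}, a ≠ b → θ a ≠ θ b := fun e => F.inj.ne e
  have zJ := h.mJ.2 mJ.1
  have hτ : ∀ u ∈ zpowers (f z1), θ (swap 1 3) * u * (θ (swap 1 3))⁻¹ = u⁻¹ := fun u hu =>
    (F.act' _ hu).trans (if_neg (by decide +kernel))
  have key : ∀ u ∈ zpowers (f z1), ∀ c, c * (u * θ h6) = u * θ h6 * c →
      θ (swap 1 3) * c * (θ (swap 1 3))⁻¹ ∈ f.range := fun u hu c e => by
    have e1 : centralizer {θ (swap 1 3) * (u * θ h6) * (θ (swap 1 3))⁻¹} ≤ f.range := by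
      rw [← conj_mul, hτ u hu, rel' h6_conj, map_mul, F.tz, F.tw, ← map_mul]
      obtain ⟨⟨v1, a1⟩, ⟨v2, a2⟩, ⟨v3, a3⟩, -⟩ := m_A.2.2.2.2.2.2.2.2.2
      rcases (mem_zpowers_three h.oz).1 (inv_mem hu) with e | e | e <;> rw [e]
      · rw [one_mul, ← h.conj_iff.2 a1]; exact cent_conj h.cent_y ⟨_, rfl⟩
      · rw [← map_mul, ← h.conj_iff.2 a2]; exact cent_conj h.cent_a ⟨_, rfl⟩
      · rw [← map_inv, ← map_mul, ← h.conj_iff.2 a3]; exact cent_conj h.cent_a ⟨_, rfl⟩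
    exact e1 (mem_cent.2 (by rw [conj_mul, conj_mul, e]))
  have zr := F.zc (p := r6) (by decide +kernel)
  have zu := F.zc (p := u6) (by decide +kernel)
  rcases cent_pair (sq (a := r6) (by decide +kernel)) (sq (a := u6) (by decide +kernel)) (rel (by decide +kernel))
    (map_one θ ▸ ne (by decide +kernel)) (map_one θ ▸ ne (by decide +kernel)) (ne (by decide +kernel)) h.oz
    (y := θ h6) (by rw [← map_pow, h6_cube, map_one]) (F.zc (by decide +kernel))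
    (fun e => absurd (F.ind _ e) (by decide +kernel)) zr zu (rel' (by decide +kernel))
    ((rel' (by decide +kernel)).trans (map_mul θ r6 u6))
    (F.four_of h fun p e e' => ((sA p e).2.2.1 e').2.2) (fun u hu c hc e => h.comm_z (pPrimeCoreOf_coprime 3 _) hc
      (le_normalizer_pPrimeCoreOf 3 _ ⟨mem_cent.2 zr, mem_cent.2 zu⟩) (by rw [hτ _ (mem_zpowers _)]; exact inv_mem zJ)
      (key u hu c e)) with e | ⟨-, c, ho, u, hu, e⟩
  · obtain ⟨p, hp⟩ := F.ex (e g h1 h2)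
    have := (sA p (F.comm hp h1)).2.2.1 (F.comm hp h2)
    exact ⟨p, hp, this.1, this.2.1⟩
  · have := orderOf_dvd_natCard _ (key u hu c e)
    rw [CL.Inv.orderOf_conj, Nat.card_congr (MonoidHom.ofInjective h.inj).symm.toEquiv, card_K0] at this
    rcases ho with ho | ho <;> rw [ho] at this <;> omega

theorem cU3 {g : G} (h1 : g * θ r6 = θ r6 * g) (h2 : g * θ u6 = θ u6 * g) (h3 : g ^ 3 = 1) : g ∈ zpowers (f z1) := by
  obtain ⟨p, hp, e, -⟩ := F.cU h h1 h2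
  obtain rfl := eq_one_of_two_three e (F.pow_one hp h3)
  simpa [R] using hp

theorem exists_n : ∃ n, n * θ r6 * n⁻¹ = θ r6 ∧ n * θ e6 * n⁻¹ = θ e6 ∧
    (n * θ u6 * n⁻¹ = θ (swap 0 1) ∨ n * θ u6 * n⁻¹ = θ (swap 3 4)) := by
  have := Fact.mk Nat.prime_two
  obtain ⟨T, hT⟩ : ∃ T, T = (centralizer {r6}).map θ := ⟨_, rfl⟩
  have mT : ∀ {x}, x ∈ T ↔ ∃ p, p * r6 = r6 * p ∧ θ p = x := by simp only [hT, mem_map, mem_cent, implies_true]
  have rel : ∀ {a b : S6}, a * b = b * a → θ a * θ b = θ b * θ a := fun e => by rw [← map_mul, e, map_mul]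
  have TC : T ≤ centralizer {θ r6} := fun x hx => by
    obtain ⟨p, e, rfl⟩ := mT.1 hx
    exact mem_cent.2 (rel e)
  have T2 : IsPGroup 2 T := fun x => ⟨2, Subtype.ext (by
    obtain ⟨p, e, e'⟩ := mT.1 x.2
    rw [coe_pow, ← e', ← map_pow, show p ^ 2 ^ 2 = 1 from (sA p e).1, map_one, coe_one])⟩
  obtain ⟨b1, b2, b3, b4, w, hw⟩ := sB
  obtain ⟨n, hn, nT, hn'⟩ : ∃ n ∈ centralizer {θ r6}, n ∈ normalizer (T : Set G) ∧ n ∉ T := by
    by_contra hc
    push Not at hc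
    obtain ⟨g, hg⟩ := isConj_iff.1 (F.rc b1).symm
    have eT : ∀ x ∈ T, x * θ e6 = θ e6 * x := fun x hx => by
      obtain ⟨p, e, rfl⟩ := mT.1 hx
      exact rel (by clear * - e; revert p; decide +kernel)
    obtain ⟨c, hc', e⟩ := (isSylowIn_of_loc TC T2 fun n hn hN _ _ => hc n hn hN).exists_conj_le (T2.conj_smul g)
      fun x hx => mem_cent.2 (by
        have := eT _ ((mem_conj_smul_iff _ _ _).1 hx)
        calc _ = g * (g⁻¹ * x * g * θ e6) * g⁻¹ := by rw [← hg]; group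
          _ = _ := by rw [this, ← hg]; group)
    obtain ⟨p, e1, e2⟩ := mT.1 (e (conj_mem_conj_smul c (conj_mem_conj_smul g (mT.2 ⟨w, by rw [← hw, mul_assoc], rfl⟩))))
    have e3 : θ (p * p) = c * (g * θ r6 * g⁻¹) * c⁻¹ := by rw [map_mul, e2, conj_mul, conj_mul, ← map_mul, hw]
    rcases (sA p e1).2.1 with e4 | e4 <;> rw [e4] at e3
    · rw [map_one, eq_comm, conj_eq_one_iff, conj_eq_one_iff, map_eq_one_iff θ F.inj] at e3
      exact absurd e3 (by decide +kernel)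
    · nth_rewrite 1 [← mul_inv_eq_iff_eq_mul.2 (mem_cent.1 hc'), ← hg] at e3
      exact absurd (F.inj (mul_left_cancel (mul_right_cancel (mul_left_cancel (mul_right_cancel e3))))) (by decide +kernel)
  have nr := mul_inv_eq_iff_eq_mul.2 (mem_cent.1 hn)
  have im : ∀ q, q * r6 = r6 * q → q * q = 1 → q ≠ 1 → q ≠ r6 → rcl q → ∃ p, θ p = n * θ q * n⁻¹ ∧
      (rcl (r6 * p) ∨ p = e6) ∧ (p = e6 ∨ tri (p * e6) ∨ (p = swap 0 1 ∨ p = swap 3 4) ∨ p = u6 ∨ p = r6 * u6) :=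
    fun q e1 e2 e3 e4 e5 => by
      obtain ⟨p, a1, a2⟩ := mT.1 ((mem_normalizer_iff.1 nT _).1 (mT.2 ⟨q, e1, rfl⟩))
      refine ⟨p, a2, (sA p a1).2.2.2 (F.inj (by rw [map_mul, a2, conj_mul, ← map_mul, e2]; simp)) ?_ ?_
        (F.nt h ((F.rc e5).trans (isConj_iff.2 ⟨n, a2.symm⟩)))⟩ <;> rintro rfl
      · rw [map_one, eq_comm, conj_eq_one_iff, map_eq_one_iff θ F.inj] at a2
        exact e3 a2
      · exact e4 (F.inj (mul_left_cancel (mul_right_cancel (nr.trans a2)))).symm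
  obtain ⟨p, a1, a2, -⟩ := im e6 (by decide +kernel) (by decide +kernel) (by decide +kernel) (by decide +kernel) b1
  obtain rfl : p = e6 := a2.resolve_left fun e => F.nt h ((F.rc e).trans (IsConj.symm (isConj_iff.2 ⟨n, by
    rw [map_mul, map_mul, a1, ← conj_mul, nr]⟩))) b4
  obtain ⟨p, a3, -, a4⟩ := im u6 (by decide +kernel) (by decide +kernel) (by decide +kernel) (by decide +kernel) b2
  refine ⟨n, nr, a1.symm, ?_⟩
  rcases a4 with rfl | e | e | e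
  · exact absurd (F.inj (mul_left_cancel (mul_right_cancel (a1.symm.trans a3)))) (by decide +kernel)
  · exact absurd e (F.nt h ((F.rc b3).trans (isConj_iff.2 ⟨n, by rw [map_mul, map_mul, a3, ← conj_mul, ← a1]⟩)))
  · rcases e with rfl | rfl
    exacts [.inl a3.symm, .inr a3.symm]
  refine absurd ?_ hn'
  have zr := F.zc (p := r6) (by decide +kernel)
  have c1 : n * f z1 * n⁻¹ * θ r6 = θ r6 * (n * f z1 * n⁻¹) := by rw [← nr, conj_mul, conj_mul, zr]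
  have c2 : n * f z1 * n⁻¹ * θ p = θ p * (n * f z1 * n⁻¹) := by
    rw [a3, conj_mul, conj_mul, F.zc (p := u6) (by decide +kernel)]
  have c3 := F.cU3 h c1 (by
    rcases e with rfl | rfl
    exacts [c2, by rwa [map_mul, ← mul_assoc, c1, mul_assoc (θ r6), mul_assoc (θ r6), mul_right_inj] at c2])
    (by rw [conj_pow, cube_of_ord h.oz]; group)
  obtain ⟨q, hq⟩ := F.ex (((mem_zpowers_three h.oz).1 c3).resolve_left
    (by rw [conj_eq_one_iff]; exact ne_one_of_ord3 h.oz))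
  have qT := mT.2 ⟨q, F.comm hq (mem_cent.1 hn), rfl⟩
  have c0 := mT.2 ⟨swap 0 1, by decide +kernel, rfl⟩
  have c4 := mul_mem ((mem_normalizer_iff.1 (mul_mem nT (inv_mem (le_normalizer qT))) _).1 c0) (inv_mem c0)
  rw [mul_assoc, mul_assoc, ← mul_assoc (θ _), F.act' _ (inv_mem hq), if_neg (by decide +kernel), inv_inv] at c4
  obtain ⟨p, -, e⟩ := mT.1 c4
  rw [F.ind p (e ▸ mul_mem hq hq), map_one] at e
  rw [mul_inv_eq_one.1 (eq_one_of_two_three e.symm (Hy.J_cube (zpowers_le.2 (h.mJ.2 mJ.1) hq)))]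
  exact qT

theorem relA : (f sg * θ (r6 * e6) * (f sg)⁻¹ * (θ (r6 * e6))⁻¹) ^ 3 = 1 ∧
    Commute (f sg) (f sg * θ (r6 * e6) * (f sg)⁻¹ * (θ (r6 * e6))⁻¹) := by
  obtain ⟨n, n1, n2, n3⟩ := F.exists_n h
  obtain ⟨-, -, -, a1, a2, a3, a4, -⟩ := m_A
  rw [← h.conj_iff] at a1 a2 a3
  rw [← h.cube_iff] at a4
  rw [map_mul] at a1 a2
  have z3 := cube_of_ord h.oz
  have back : ∀ g, Commute g (f r0) → Commute g (f e3) →
      n⁻¹ * g * n * θ r6 = θ r6 * (n⁻¹ * g * n) ∧ n⁻¹ * g * n * θ u6 = θ u6 * (n⁻¹ * g * n) := fun g e e' => by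
    have key : ∀ x, Commute g (n * x * n⁻¹) → n⁻¹ * g * n * x = x * (n⁻¹ * g * n) := fun x e => by
      calc _ = n⁻¹ * (g * (n * x * n⁻¹)) * n := by group
        _ = _ := by rw [e.eq]; group
    refine ⟨key _ (by rw [n1, F.tr]; exact e.mul_right e'), key _ ?_⟩
    rcases n3 with e3 | e3 <;> rw [e3]
    exacts [by rw [F.t0]; exact e, by rw [F.t3]; exact e']
  have fw : ∀ g, Commute g (f r0) → Commute g (f e3) →
      Commute (f sg * g * (f sg)⁻¹) (f r0) ∧ Commute (f sg * g * (f sg)⁻¹) (f e3) := fun g e e' =>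
    ⟨by rw [← a3]; exact e'.conj (f sg), by nth_rewrite 1 [← a2]; exact (e.mul_right e').conj (f sg)⟩
  have t : Commute (n * f z1 * n⁻¹) (f r0) ∧ Commute (n * f z1 * n⁻¹) (f e3) := by
    have c1 := Commute.conj (F.zc (p := r6) (by decide +kernel)) n
    have c2 := Commute.conj (F.zc (p := u6) (by decide +kernel)) n
    rw [n1, F.tr] at c1
    rcases n3 with e | e <;> rw [e] at c2
    · rw [F.t0] at c2
      exact ⟨c2, by simpa using c2.inv_right.mul_right c1⟩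
    · rw [F.t3] at c2
      exact ⟨by simpa using c1.mul_right c2.inv_right, c2⟩
  have m : Commute (n⁻¹ * f sg * n) (f z1) := by
    obtain ⟨c1, c2⟩ := back _ (fw _ t.1 t.2).1 (fw _ t.1 t.2).2
    have c3 := F.cU3 h c1 c2 (by
      rw [show n⁻¹ * (f sg * (n * f z1 * n⁻¹) * (f sg)⁻¹) * n = n⁻¹ * f sg * n * f z1 * (n⁻¹ * f sg * n)⁻¹ by group,
        conj_pow, z3]; group)
    rw [show n⁻¹ * (f sg * (n * f z1 * n⁻¹) * (f sg)⁻¹) * n = n⁻¹ * f sg * n * f z1 * (n⁻¹ * f sg * n)⁻¹ by group] at c3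
    have m3 : (n⁻¹ * f sg * n) ^ 3 = 1 := by
      rw [show n⁻¹ * f sg * n = n⁻¹ * f sg * n⁻¹⁻¹ by rw [inv_inv], conj_pow, a4]; group
    generalize n⁻¹ * f sg * n = m at c3 m3
    refine commute_of_sq_of_odd (odd_orderOf_of_pow (by decide) m3) (mul_inv_eq_iff_eq_mul.1 ?_)
    rw [show m ^ 2 * f z1 * (m ^ 2)⁻¹ = m * (m * f z1 * m⁻¹) * m⁻¹ by rw [pow_two]; group]
    rcases (mem_zpowers_three h.oz).1 c3 with e | e | e
    exacts [absurd (conj_eq_one_iff.1 e) (ne_one_of_ord3 h.oz), by rw [e, e], by rw [e, ← conj_inv, e, inv_inv]]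
  have s1 : Commute (θ (r6 * e6)) (f r0) := by
    rw [← F.t0]; exact Commute.map (by unfold Commute SemiconjBy; decide +kernel) θ
  have s2 : Commute (θ (r6 * e6)) (f e3) := by
    rw [← F.t3]; exact Commute.map (by unfold Commute SemiconjBy; decide +kernel) θ
  obtain ⟨c1, c2⟩ := back _ (fw _ s1 s2).1 (fw _ s1 s2).2
  obtain ⟨p, hp, p2, p3⟩ := F.cU h c1 c2
  have cj : IsConj (θ (r6 * e6)) (n⁻¹ * (f sg * θ (r6 * e6) * (f sg)⁻¹) * n) := isConj_iff.2 ⟨n⁻¹ * f sg, by group⟩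
  have w2 : n⁻¹ * (f sg * θ (r6 * e6) * (f sg)⁻¹) * n * (n⁻¹ * (f sg * θ (r6 * e6) * (f sg)⁻¹) * n) = 1 := by
    calc _ = n⁻¹ * f sg * θ (r6 * e6 * (r6 * e6)) * (n⁻¹ * f sg)⁻¹ := by rw [map_mul θ (r6 * e6)]; group
      _ = 1 := by rw [show r6 * e6 * (r6 * e6) = 1 by decide +kernel]; simp
  have ns : n * θ (r6 * e6) * n⁻¹ = θ (r6 * e6) := by rw [map_mul, ← conj_mul, n1, n2]
  have fin : f sg * θ (r6 * e6) * (f sg)⁻¹ * (θ (r6 * e6))⁻¹ =
      n * (n⁻¹ * (f sg * θ (r6 * e6) * (f sg)⁻¹) * n * (θ (r6 * e6))⁻¹) * n⁻¹ := by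
    nth_rewrite 2 [← ns]; group
  generalize n⁻¹ * (f sg * θ (r6 * e6) * (f sg)⁻¹) * n = w at hp cj w2 fin
  have u3 := Hy.J_cube (zpowers_le.2 (h.mJ.2 mJ.1) hp)
  have cj' : IsConj (θ p) w := by
    have e := F.act' p hp
    generalize hu : w * (θ p)⁻¹ = u at e u3
    obtain rfl := eq_mul_of_mul_inv_eq hu
    split_ifs at e
    · rw [show u * θ p * (u * θ p) = u * (θ p * u * (θ p)⁻¹) * θ (p * p) by rw [map_mul]; group, e, p2, map_one,
        mul_one] at w2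
      rw [eq_one_of_two_three w2 u3, one_mul]
    · refine isConj_iff.2 ⟨u⁻¹, ?_⟩
      calc _ = u⁻¹ * (θ p * u * (θ p)⁻¹) * θ p := by group
        _ = u * (u ^ 3)⁻¹ * θ p := by rw [e]; group
        _ = _ := by rw [u3]; group
  obtain rfl : p = r6 * e6 := by
    rcases p3 with rfl | e | e
    · rw [map_one, isConj_one_right] at cj'
      rw [cj', isConj_one_left, map_eq_one_iff θ F.inj] at cj
      exact absurd cj (by decide +kernel)
    exacts [absurd sB.2.2.2.1 (F.nt h (((F.rc e).trans cj').trans cj.symm)), e]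
  rw [fin, conj_pow, u3]
  obtain ⟨k, hk⟩ := mem_zpowers_iff.1 hp
  have := (hk ▸ m.zpow_right k).conj n
  exact ⟨by group, by rwa [show n * (n⁻¹ * f sg * n) * n⁻¹ = f sg by group] at this⟩

end Fr

end CL.A9R
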