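/-
3-local recognition of `A₉`, part 8: concrete facts on the alternating group of degree 9.
-/
import Cfsg.Agent.Rec.A9A
import Cfsg.Agent.Rec.A8C
import Cfsg.Agent.Spor.AmgTools

set_option autoImplicit false
set_option maxRecDepth 100000
set_option synthInstance.maxSize 4000

namespace CL.A9R

open Subgroup Equiv Equiv.Perm CL.Rec CL.RecA8 CL.TC CL.Amg CL.Perm.A9N

/-- the alternating group of degree 9 -/
abbrev A9 := alternatingGroup (Fin 9)

/-- an even permutation given by two transpositions -/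
def sw (a b c d : Fin 9) (h : a ≠ b := by decide) (h' : c ≠ d := by decide) : A9 :=
  ⟨swap a b * swap c d, by rw [mem_alternatingGroup, Perm.sign_mul, sign_swap h, sign_swap h']; simp⟩

/-- elements of order 3 -/
def z9 : A9 := sw 0 1 1 2
/-- elements of order 3 -/
def y9 : A9 := z9 * sw 3 4 4 5
/-- elements of order 3 -/
def a9 : A9 := y9 * sw 6 7 7 8
/-- elements of order 3 -/
def σ9 : A9 := sw 0 3 3 6 * sw 1 4 4 7 * sw 2 5 5 8
/-- involutions -/
def u9 : A9 := sw 3 4 5 6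
/-- involutions -/
def v9 : A9 := sw 4 5 3 6
/-- involutions -/
def b9 : A9 := sw 0 1 2 7
/-- involutions -/
def d9 : A9 := sw 1 2 0 7
/-- involutions -/
def s9 : A9 := sw 0 3 1 4 * sw 2 5 6 7
/-- order 4 -/
def g9 : A9 := sw 0 1 1 3 * sw 3 4 2 5
/-- order 5 -/
def c9 : A9 := sw 0 1 1 2 * sw 2 7 7 8
/-- the generators -/
def xs (i : ℕ) : A9 := [sw 0 1 3 4, sw 0 1 4 5, sw 0 1 5 6, sw 0 1 6 7, sw 0 1 7 8, σ9, σ9⁻¹].getD i 1
/-- the generators -/
def ss (i : ℕ) : S6 := [swap 0 1, swap 1 2, swap 2 3, swap 3 4, swap 4 5].getD i 1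
/-- some words -/
def WL : List (List ℕ) := [[1, 3], [2, 1, 3, 2], [1, 2, 1, 3, 2, 1], [1, 4], [1, 3, 4, 3], [2, 3, 2, 4, 3, 2],
  [1, 2, 3, 2, 4, 3, 2, 1], [1, 2], [2, 4], [1, 2, 1, 4]]

theorem o2 {x : A9} (h : x ^ 2 = 1 ∧ x ≠ 1) : orderOf x = 2 := ord_of_pow Nat.prime_two h.1 h.2
theorem o3 {x : A9} (h : x ^ 3 = 1 ∧ x ≠ 1) : orderOf x = 3 := ord_of_pow Nat.prime_three h.1 h.2
theorem ord_z9 : orderOf z9 = 3 := o3 (by decide +kernel)
theorem ord_y9 : orderOf y9 = 3 := o3 (by decide +kernel)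
theorem ord_u9 : orderOf u9 = 2 := o2 (by decide +kernel)
theorem ord_v9 : orderOf v9 = 2 := o2 (by decide +kernel)
theorem ord_s9 : orderOf s9 = 2 := o2 (by decide +kernel)

theorem cyc_of_prime {a : A9} {p : ℕ} (hp : p.Prime) (h : orderOf a = p) : ∃ n,
    a.1.cycleType = Multiset.replicate (n + 1) p ∧ (n + 1) * p = a.1.support.card ∧ (n + 1) * p ≤ 9 := by
  replace h := (Subgroup.orderOf_coe a).trans h
  obtain ⟨n, hn⟩ := cycleType_prime_order (σ := a.1) (h ▸ hp)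
  rw [h] at hn
  have h1 := a.1.sum_cycleType
  rw [hn, Multiset.sum_replicate, smul_eq_mul] at h1
  refine ⟨n, hn, h1, ?_⟩
  rw [h1]; simpa using a.1.support.card_le_univ

theorem cyc_val {a : A9} {p : ℕ} (hp : p.Prime) (ha : orderOf a = p) {k : ℕ} (h : a.1.support.card = k * p) :
    a.1.cycleType = Multiset.replicate k p := by
  obtain ⟨n, h1, h2, -⟩ := cyc_of_prime hp ha
  rw [h1, Nat.eq_of_mul_eq_mul_right hp.pos (h2.trans h)]

theorem conj_of {a b : A9} {p : ℕ} (hp : p.Prime) (ha : orderOf a = p) (hb : orderOf b = p) {k : ℕ}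
    (h : a.1.support.card = k * p) {c : Perm (Fin 9)}
    (h' : b.1.support.card = k * p ∧ sign c = -1 ∧ c * b = b * c) : IsConj b a :=
  isConj_alt ((cyc_val hp ha h).trans (cyc_val hp hb h'.1).symm) h'.2.1 h'.2.2

theorem class_three {a : A9} (h : orderOf a = 3) : IsConj z9 a ∨ IsConj y9 a ∨ IsConj a9 a := by
  obtain ⟨n, -, h2, h3⟩ := cyc_of_prime Nat.prime_three h
  obtain rfl | rfl | rfl : n = 0 ∨ n = 1 ∨ n = 2 := by omega
  · exact .inl (conj_of Nat.prime_three h ord_z9 h2.symm (c := swap 3 4) (by decide +kernel))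
  · exact .inr (.inl (conj_of Nat.prime_three h ord_y9 h2.symm (c := swap 6 7) (by decide +kernel)))
  · exact .inr (.inr (conj_of Nat.prime_three h (o3 (by decide +kernel)) h2.symm
      (c := swap 0 3 * swap 1 4 * swap 2 5) (by decide +kernel)))

theorem U_of {a : A9} (h : (a ^ 2 = 1 ∧ a ≠ 1) ∧ a.1.support.card = 4) : IsConj u9 a :=
  conj_of Nat.prime_two (o2 h.1) ord_u9 (k := 2) h.2 (c := swap 0 1) (by decide +kernel)

theorem class_two {a : A9} (h : orderOf a = 2) : IsConj u9 a ∨ IsConj s9 a := by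
  obtain ⟨n, h1, h2, h3⟩ := cyc_of_prime Nat.prime_two h
  have hs : sign a.1 = 1 := mem_alternatingGroup.1 a.2
  rw [sign_of_cycleType, h1, Multiset.sum_replicate, Multiset.card_replicate, smul_eq_mul] at hs
  obtain rfl | rfl | rfl | rfl : n = 0 ∨ n = 1 ∨ n = 2 ∨ n = 3 := by omega
  · exact absurd hs (by decide)
  · exact .inl (conj_of Nat.prime_two h ord_u9 h2.symm (c := swap 0 1) (by decide +kernel))
  · exact absurd hs (by decide)
  · exact .inr (conj_of Nat.prime_two h ord_s9 h2.symm (c := swap 0 3) (by decide +kernel))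

/-- the code of a transposition -/
def csw (p q : ℕ) : ℕ := 36344967696 + q * 16 ^ p + p * 16 ^ q - p * 16 ^ p - q * 16 ^ q

theorem cd_swap : ∀ p q : Fin 9, cd (swap p q) = csw p q := by decide +kernel

/-- codes of conjugating elements -/
def ML : List ℕ := [35825922576, 34483746066, 2271491361, 10861424721, 4418975826, 4955846661, 8982376581, 21867278976, 22135714056, 1466183976]

theorem ML_ex : ∀ c ∈ ML, ∃ i : Fin 5, ∃ j : Fin 2, cd (sw 5 6 6 7 * sw 2 7 7 0 ^ j.1 * c9 ^ i.1).1 = c ∧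
    sw 5 6 6 7 * sw 2 7 7 0 ^ j.1 * c9 ^ i.1 * u9 = sw 3 4 6 7 * (sw 5 6 6 7 * sw 2 7 7 0 ^ j.1 * c9 ^ i.1) := by
  decide +kernel

theorem cds : cd u9.1 = 36329177616 ∧ cd v9.1 = 36293665296 ∧ cd (sw 3 4 6 7).1 = 36093248016 ∧
    cd (sw 6 7 5 8).1 = 23211553296 := by decide +kernel

theorem quad : ∀ p q r s : Fin 9, p ≠ q → r ≠ s → p ≠ r → p ≠ s → q ≠ r → q ≠ s → ∀ v ∈ [mc (csw p q) (csw r s)],
    mc v 36329177616 = mc 36329177616 v → (∃ i j : Fin 9, i ≠ j ∧ ap (mc 36329177616 v) i = i ∧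
      ap (mc 36329177616 v) j = j) → v = 36329177616 ∨ v = 36293665296 ∨ v = mc 36293665296 36329177616 ∨
      ∃ m ∈ ML, mc m v = mc 23211553296 m ∨ mc m v = mc (mc 36093248016 23211553296) m := by
  decide +kernel

theorem quad' {a : A9} (h : IsConj u9 a) (h1 : a * u9 = u9 * a) (h2 : IsConj u9 (u9 * a)) :
    a = v9 ∨ a = v9 * u9 ∨ ∃ m, m * u9 * m⁻¹ = sw 3 4 6 7 ∧
      (m * a * m⁻¹ = sw 6 7 5 8 ∨ m * a * m⁻¹ = sw 3 4 6 7 * sw 6 7 5 8) := by
  obtain ⟨g, hg⟩ := isConj_iff.1 h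
  obtain ⟨k, hk⟩ := isConj_iff.1 h2
  have hi := g.1.injective
  have e : cd a.1 = mc (csw (g.1 3) (g.1 4)) (csw (g.1 5) (g.1 6)) := by
    rw [← cd_swap, ← cd_swap, ← cd_mul, cd_inj]
    simp only [← hg, Subgroup.coe_mul, Subgroup.coe_inv, u9, sw, swap_apply_apply]
    group
  have fix : ∀ i, u9.1 i = i → ap (mc (cd u9.1) (cd a.1)) (k.1 i) = k.1 i := fun i hi => by
    rw [← cd_mul, ap_cd, ← Subgroup.coe_mul, ← hk]; simp [hi]
  have := quad (g.1 3) (g.1 4) (g.1 5) (g.1 6) (hi.ne (by decide)) (hi.ne (by decide)) (hi.ne (by decide)) (hi.ne (by decide))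
    (hi.ne (by decide)) (hi.ne (by decide)) _ (List.mem_singleton.2 e)
  simp only [← cds.1, ← cds.2.1, ← cds.2.2.1, ← cds.2.2.2] at this
  rcases this (by rw [← cd_mul, ← cd_mul, ← Subgroup.coe_mul, h1, Subgroup.coe_mul])
    ⟨k.1 0, k.1 1, k.1.injective.ne (by decide), fix 0 (by decide +kernel), fix 1 (by decide +kernel)⟩ with
    e | e | e | ⟨c, hc, e⟩
  · rw [Subtype.ext (cd_inj.1 e), show u9 * u9 = 1 by decide +kernel, conj_eq_one_iff] at hk
    exact absurd hk (by decide +kernel)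
  · exact .inl (Subtype.ext (cd_inj.1 e))
  · exact .inr (.inl (Subtype.ext (cd_inj.1 (e.trans (cd_mul _ _).symm))))
  obtain ⟨i, j, rfl, e'⟩ := ML_ex c hc
  simp only [← cd_mul, cd_inj] at e
  exact .inr (.inr ⟨_, mul_inv_eq_iff_eq_mul.2 e', e.imp (fun e => mul_inv_eq_iff_eq_mul.2 (Subtype.ext e))
    fun e => mul_inv_eq_iff_eq_mul.2 (Subtype.ext e)⟩)

theorem card_cent_s9 : 192 ∣ Nat.card (centralizer ({s9} : Set A9)) := by
  have h := card_cent_dvd s9
  rw [nat_card_centralizer, cyc_val (k := 4) Nat.prime_two ord_s9 (by decide +kernel)] at h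
  exact Nat.dvd_of_mul_dvd_mul_left two_pos (dvd_trans (dvd_of_eq (by decide +kernel)) h)

theorem ord_dvd {a : A9} (h : a * (u9 * b9) = u9 * b9 * a) : orderOf a ∣ 384 := by
  have h2 := Subgroup.orderOf_dvd_natCard _ (mem_centralizer_singleton_iff.2 (congrArg Subtype.val h) :
    a.1 ∈ centralizer ({(u9 * b9).1} : Set (Perm (Fin 9))))
  rw [nat_card_centralizer, cyc_val (k := 4) Nat.prime_two (o2 (by decide +kernel)) (by decide +kernel),
    Subgroup.orderOf_coe] at h2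
  exact h2.trans (dvd_of_eq (by decide +kernel))

theorem card_uv : 240 ∣ Nat.card ↥(centralizer ({u9} : Set A9) ⊓ centralizer {v9}) := by
  have m : ∀ x : A9, x * u9 = u9 * x ∧ x * v9 = v9 * x → x ∈ centralizer ({u9} : Set A9) ⊓ centralizer {v9} :=
    fun x h => ⟨mem_cent.2 h.1, mem_cent.2 h.2⟩
  have l : ∀ {a b : A9} {aa bb ab} {M : Subgroup A9}, a ∈ M → b ∈ M → four (a := a) (b := b) aa bb ab ≤ M := by
    rintro a b aa bb ab M ha hb _ (rfl | rfl | rfl | rfl)
    exacts [one_mem _, ha, hb, mul_mem ha hb]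
  have h1 : Nat.card ↥(four (a := b9) (b := d9) (by decide +kernel) (by decide +kernel) (by decide +kernel) ⊔
      four (a := u9) (b := v9) (by decide +kernel) (by decide +kernel) (by decide +kernel)) = 16 := by
    rw [CL.Grp.card_sup_of_inf_eq_bot (le_trans ?_ (centralizer_le_normalizer _)) (eq_bot_iff.2 ?_),
      card_four _ _ _ (by decide +kernel) (by decide +kernel) (by decide +kernel),
      card_four _ _ _ (by decide +kernel) (by decide +kernel) (by decide +kernel)]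
    · rw [cent_four_eq]
      exact l (m _ (by decide +kernel)) (m _ (by decide +kernel))
    · rintro _ ⟨rfl | rfl | rfl | rfl, h⟩
      · exact one_mem _
      all_goals rcases h with h | h | h | h <;> exact absurd h (by decide +kernel)
  refine Nat.Coprime.mul_dvd_of_dvd_of_dvd (by decide : Nat.Coprime 16 15) (h1 ▸ card_dvd_of_le (sup_le
    (l (m _ (by decide +kernel)) (m _ (by decide +kernel))) (l (m _ (by decide +kernel)) (m _ (by decide +kernel)))))
    (Nat.Coprime.mul_dvd_of_dvd_of_dvd (by decide : Nat.Coprime 3 5)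
      (ord_z9 ▸ orderOf_dvd_natCard _ (m _ (by decide +kernel))) ?_)
  rw [← ord_of_pow Nat.prime_five (x := c9) (by decide +kernel) (by decide +kernel)]
  exact orderOf_dvd_natCard _ (m _ (by decide +kernel))

theorem gen_xs : gen xs 7 = ⊤ := by
  have t : ∀ i : Fin 8, ∃ w ∈ [[], [0, 5, 4, 6], [3, 6, 2, 5], [0], [1], [2], [3], [4]], ltB 7 w = true ∧
      (ev xs w).1 = swap 0 1 * swap i.castSucc i.succ := by decide +kernel
  have key : ∀ p, p ∈ (gen xs 7).map (alternatingGroup (Fin 9)).subtype ∨ swap 0 1 * p ∈ (gen xs 7).map (alternatingGroup (Fin 9)).subtype := fun p => by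
    have hp : p ∈ Submonoid.closure (Set.range fun i : Fin 8 => swap i.castSucc i.succ) :=
      Perm.mclosure_swap_castSucc_succ 8 ▸ Submonoid.mem_top p
    induction hp using Submonoid.closure_induction_left with
    | one => exact .inl (one_mem _)
    | mul_left _ hs p _ ih =>
      obtain ⟨i, rfl⟩ := hs
      obtain ⟨w, -, h1, h2⟩ := t i
      have : swap 0 1 * swap i.castSucc i.succ ∈ (gen xs 7).map (alternatingGroup (Fin 9)).subtype := ⟨_, ev_mem_gen xs h1, h2⟩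
      rcases ih with h | h
      exacts [.inr (mul_assoc (swap 0 1) _ p ▸ mul_mem this h), .inl (by simpa [mul_assoc] using mul_mem (inv_mem this) h)]
  refine eq_top_iff.2 fun a _ => (mem_map_iff_mem (alternatingGroup (Fin 9)).subtype_injective).1 ((key a).resolve_right fun h => ?_)
  have := mem_alternatingGroup.1 (map_subtype_le _ h)
  rw [Perm.sign_mul, sign_swap (by decide), mem_alternatingGroup.1 a.2] at this
  exact absurd this (by decide)

/-- the code of a permutation -/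
def cd6 (p : S6) : ℕ := (p 0).1 + 16 * ((p 1).1 + 16 * ((p 2).1 + 16 * ((p 3).1 + 16 * ((p 4).1 + 16 * (p 5).1))))

/-- the product of codes -/
def mc6 (a b : ℕ) : ℕ := ap a (ap b 0) + 16 * (ap a (ap b 1) + 16 * (ap a (ap b 2) + 16 * (ap a (ap b 3) +
  16 * (ap a (ap b 4) + 16 * ap a (ap b 5)))))

theorem ap_cd6 (p : S6) (i : Fin 6) : ap (cd6 p) i = p i := by
  have := (p 0).2; have := (p 1).2; have := (p 2).2; have := (p 3).2; have := (p 4).2; have := (p 5).2
  fin_cases i <;> simp only [ap, cd6, Fin.reduceFinMk, Fin.zero_eta, Fin.mk_one] <;> omega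

theorem cd6_inj {p q : S6} : p = q ↔ cd6 p = cd6 q :=
  ⟨congrArg cd6, fun h => Equiv.ext fun i => Fin.ext (by rw [← ap_cd6, h, ap_cd6])⟩

theorem cd6_mul (p q : S6) : cd6 (p * q) = mc6 (cd6 p) (cd6 q) := by
  have h : ∀ i : Fin 6, ap (cd6 p) (ap (cd6 q) i) = (p * q) i := fun i => by rw [ap_cd6, ap_cd6]; rfl
  rw [cd6, ← h, ← h, ← h, ← h, ← h, ← h]; rfl

theorem sW : ∀ p : S6, sign p = 1 → p = 1 ∨ ∃ w ∈ WL, (p * ev ss w * p⁻¹ * (ev ss w)⁻¹) ^ 3 = 1 ∧
    p * ev ss w * p⁻¹ * (ev ss w)⁻¹ ≠ 1 := by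
  simp only [ne_eq, cd6_inj, pow_three, cd6_mul]
  decide +kernel

theorem xW : ∀ w ∈ WL, ltB 5 w = true ∧ σ9 * ev xs w * σ9⁻¹ * u9 = u9 * (σ9 * ev xs w * σ9⁻¹) ∧
    σ9 * ev xs w * σ9⁻¹ * v9 = v9 * (σ9 * ev xs w * σ9⁻¹) := by decide +kernel

theorem sV : ∀ p : S6, p * ev ss [0, 2] = ev ss [0, 2] * p → p ^ 4 = 1 ∧
    (p * ev ss [0, 1, 0, 2, 1, 0] = ev ss [0, 1, 0, 2, 1, 0] * p → sign p = 1 → p = 1 ∨ p = ev ss [0, 2] ∨
      p = ev ss [0, 1, 0, 2, 1, 0] ∨ p = ev ss [0, 2] * ev ss [0, 1, 0, 2, 1, 0]) := by decide +kernel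

end CL.A9R
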