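/-
3-local recognition of `A₉`, part 9: the subgroup `A₉`.
-/
import Cfsg.Agent.Rec.A9P
import Cfsg.Agent.Rec.A9Cert

set_option autoImplicit false
set_option maxRecDepth 100000

namespace CL.A9R

open Subgroup Equiv Cfsg CL.Perm CL.Perm.A9N CL.Grp CL.Rec CL.TC CL.Amg

variable {G : Type*} [Group G]

/-- the letters satisfy the presentation -/
structure Lg (g : ℕ → G) : Prop where
  inv : ∀ i, g (A9G.invL.getD i i) = (g i)⁻¹
  rel : TC.Rel g A9G.rels

theorem Lg.prod {G' : Type*} [Group G'] {g : ℕ → G} {g' : ℕ → G'} (h : Lg g) (h' : Lg g') : Lg fun i => (g i, g' i) :=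
  ⟨fun i => Prod.ext (h.inv i) (h'.inv i), fun r hr => by rw [ev_prod, h.rel r hr, h'.rel r hr]; rfl⟩

theorem Lg.card_le {g : ℕ → G} (h : Lg g) (h5 : ∀ i, i ≠ 5 → i ≠ 6 → g i = (g i)⁻¹) :
    Finite (gen g 7) ∧ Nat.card (gen g 7) ≤ 252 * 720 := by
  let g' : ℕ → G := fun i => if i < 5 then g i else 1
  have e : gen g' 5 = gen g 5 := congrArg Subgroup.closure (Set.image_congr fun i hi => if_pos hi)
  obtain ⟨_, hl⟩ := exists_lab A9S.valid g' (fun i => by
    rcases Nat.lt_or_ge i 5 with h | h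
    · have := h5 i (by omega) (by omega)
      interval_cases i <;> exact this
    · rw [List.getD_eq_default _ _ h]
      simp [g', h.not_gt]) fun r hr => by
    rw [← h.rel r (by revert r; decide)]
    exact TC.ev_congr fun i hi => if_pos (by revert i r; decide)
  exact card_le_of_relIndex (gen_le fun _ hi => mem_gen g (by omega)) (e ▸ hl.card_le)
    (A9G.valid.relIndex_le' g h.inv h.rel (fun u hu => ev_mem_gen g (by revert u; decide)) le_rfl)

theorem inv_of {g : ℕ → G} (h5 : ∀ i, i ≠ 5 → i ≠ 6 → g i = (g i)⁻¹) (h : g 6 = (g 5)⁻¹) (i : ℕ) :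
    g (A9G.invL.getD i i) = (g i)⁻¹ := by
  rcases Nat.lt_or_ge i 7 with h' | h'
  · interval_cases i
    exacts [h5 0 (by decide) (by decide), h5 1 (by decide) (by decide), h5 2 (by decide) (by decide),
      h5 3 (by decide) (by decide), h5 4 (by decide) (by decide), h, inv_eq_iff_eq_inv.1 h.symm]
  · rw [List.getD_eq_default _ _ h']
    exact h5 i (by omega) (by omega)

theorem xs5 (i : ℕ) (h : i ≠ 5) (h' : i ≠ 6) : xs i = (xs i)⁻¹ := by
  rcases Nat.lt_or_ge i 7 with h' | h'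
  · interval_cases i <;> first | omega | decide +kernel
  · rw [xs, List.getD_eq_default _ _ h', inv_one]

theorem ss2 (i : ℕ) : ss i = (ss i)⁻¹ := by
  rcases Nat.lt_or_ge i 5 with h' | h'
  · interval_cases i <;> decide +kernel
  · rw [ss, List.getD_eq_default _ _ h', inv_one]

theorem lg_xs : Lg xs := ⟨inv_of xs5 rfl, by unfold TC.Rel; decide +kernel⟩

/-- the inclusion -/
def ι : K0 →* A9 := inclusion ((closure_le _).2 (by
  rintro _ (rfl | rfl | rfl | rfl) <;> exact Perm.mem_alternatingGroup.2 (by decide +kernel)))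

/-- the letters in `K₀` -/
def ks (i : ℕ) : K0 := [r0, e1, 1, e3, e4, sg, sg⁻¹].getD i 1

theorem ιs : ι z1 = z9 ∧ ι y0 = y9 ∧ ι a0 = a9 ∧ ι s0 = s9 ∧ ι sg = σ9 ∧ ι z2 = σ9 * z9 * σ9⁻¹ := by decide +kernel

/-- the hypotheses of the second phase -/
structure BH (φ : A9 →* G) : Prop where
  inj : Function.Injective φ
  cz : centralizer {φ z9} ≤ φ.range
  nzy : ¬ IsConj (φ z9) (φ y9)
  nza : ¬ IsConj (φ z9) (φ a9)
  nus : ¬ IsConj (φ u9) (φ s9)
  zu : ∀ g ∈ centralizer {φ u9}, Commute g (φ z9) → Odd (orderOf g) → g ∈ zpowers (φ z9)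
  ys : ∀ g, g * φ y9 = φ y9 * g → g * φ s9 = φ s9 * g → g ∈ zpowers (φ y9) ⊔ zpowers (φ s9)
  cV : ∀ g, g * φ u9 = φ u9 * g → g * φ v9 = φ v9 * g → g ∈ φ.range
  cU : ∀ g, g * φ (sw 3 4 6 7) = φ (sw 3 4 6 7) * g → g * φ (sw 6 7 5 8) = φ (sw 6 7 5 8) * g → g ^ 6 = 1

namespace Fr

variable {f : K0 →* G} {θ : S6 →* G} (F : Fr f θ)
include F

theorem inv {n : G} {p : S6} (hp : R f θ n p) : R f θ n⁻¹ p⁻¹ := by
  have := F.act' p⁻¹ (inv_mem hp)
  rw [R, show n⁻¹ * (θ p⁻¹)⁻¹ = θ p⁻¹ * (n * (θ p)⁻¹)⁻¹ * (θ p⁻¹)⁻¹ by simp, this]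
  split_ifs
  exacts [inv_mem hp, inv_mem (inv_mem hp)]

variable (h : Hy f) [Finite G]
include h

theorem exists_phi : ∃ φ : A9 →* G, (∀ k, f k = φ (ι k)) ∧ ∀ w, ltB 5 w = true → θ (ev ss w) = φ (ev xs w) := by
  let g : ℕ → G := fun i => if i = 5 then f sg else if i = 6 then (f sg)⁻¹ else θ (ss i)
  have g5 : ∀ i, i ≠ 5 → i ≠ 6 → g i = (g i)⁻¹ := fun i h h' => by
    simp only [g, if_neg h, if_neg h', ← map_inv, ← ss2]
  have eθ : ∀ w, ltB 5 w = true → ev g w = θ (ev ss w) := fun w hw => by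
    rw [← ev_map]
    exact Amg.ev_congr (C := 5) (fun i hi => by simp only [g]; rw [if_neg (by omega), if_neg (by omega)]) w (ltB_spec hw)
  have ef : ∀ w : List ℕ, (∀ i ∈ w, i ∈ [0, 1, 3, 4, 5, 6]) → ev g w = f (ev ks w) := fun w hw => by
    rw [← ev_map]
    refine TC.ev_congr fun i hi => ?_
    have := hw i hi
    simp only [List.mem_cons, List.not_mem_nil, or_false] at this
    rcases this with rfl | rfl | rfl | rfl | rfl | rfl
    exacts [F.t0, F.t1, F.t3, F.t4, rfl, (map_inv f sg).symm]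
  have e1 : ev g [6, 0, 1, 5] = f z1 := (ef _ (by decide)).trans (congrArg f (by decide +kernel))
  have e2 : ev g [2, 1, 0, 3, 2, 1, 4, 3, 2] = f sp :=
    ((eθ _ (by decide)).trans (congrArg θ (by decide +kernel))).trans F.tq
  have e3 : ev g [0, 2, 3, 2, 4, 3, 2] = θ (r6 * e6) := (eθ _ (by decide)).trans (congrArg θ (by decide +kernel))
  have hg : Lg g := ⟨inv_of g5 rfl, Rel.append (L := A9S.rels ++ (A9G.rels.drop 10).take 8) (L' := [_, _, _])
    (Rel.append (fun r hr => by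
      rw [eθ r (by revert r; decide), show ev ss r = 1 by revert r; decide +kernel, map_one]) fun r hr => by
      rw [ef r (by revert r; decide), show ev ks r = 1 by revert r; decide +kernel, map_one])
    (.cons (by
      change ev g ([6, 0, 1, 5] ++ ([2] ++ ([6, 0, 1, 5] ++ [2]))) = 1
      have := (F.act (swap 2 3)).trans (if_neg (by decide +kernel))
      rw [← map_inv, swap_inv, mul_assoc] at this
      simp only [ev_append, e1, show ev g [2] = θ (swap 2 3) from mul_one _, this, mul_inv_cancel]) (.cons (by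
      change ev g ([2, 1, 0, 3, 2, 1, 4, 3, 2] ++ ([5] ++ ([2, 1, 0, 3, 2, 1, 4, 3, 2] ++ [5, 3]))) = 1
      rw [ev_append, ev_append, ev_append, e2, ef [5] (by decide), ef [5, 3] (by decide), ← map_mul, ← map_mul,
        ← map_mul, show sp * _ = 1 by decide +kernel, map_one]) (.cons (by
      change ev g ([5] ++ ([5] ++ ([0, 2, 3, 2, 4, 3, 2] ++ ([6] ++ ([0, 2, 3, 2, 4, 3, 2] ++ ([6] ++
        ([0, 2, 3, 2, 4, 3, 2] ++ ([5] ++ ([0, 2, 3, 2, 4, 3, 2] ++ [6]))))))))) = 1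
      have e4 : (θ (r6 * e6))⁻¹ = θ (r6 * e6) := by rw [← map_inv]; exact congrArg θ (by decide +kernel)
      have := F.relA h |>.2.eq
      simp only [ev_append, e3, show ev g [5] = f sg from mul_one _, show ev g [6] = (f sg)⁻¹ from mul_one _]
      generalize θ (r6 * e6) = s at *
      calc _ = f sg * (f sg * s * (f sg)⁻¹ * s⁻¹) * (f sg)⁻¹ * (f sg * s⁻¹ * (f sg)⁻¹ * s⁻¹)⁻¹ := by
            simp only [mul_inv_rev, inv_inv, e4, mul_assoc]
        _ = 1 := by rw [this, e4]; group) (.nil _))))⟩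
  obtain ⟨φ, h1, -⟩ := exists_hom_of_bound g xs 7 gen_xs (by
    rw [show Nat.card A9 = 252 * 720 by
      have := two_mul_nat_card_alternatingGroup (α := Fin 9)
      rw [Nat.card_perm, Nat.card_fin, show Nat.factorial 9 = 362880 from rfl] at this
      exact Nat.eq_of_mul_eq_mul_left two_pos this]
    exact (hg.prod lg_xs).card_le fun i h h' => Prod.ext (g5 i h h') (xs5 i h h'))
  have eφ : ∀ w, ltB 7 w = true → ev g w = φ (ev xs w) := fun w hw => by
    rw [← ev_map]
    exact Amg.ev_congr (fun i hi => (h1 i hi).symm) w (ltB_spec hw)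
  refine ⟨φ, fun ⟨k, hk⟩ => ?_, fun w hw => (eθ w hw).symm.trans (eφ w ?_)⟩
  · have key : ∀ {k : K0} (w : List ℕ), (∀ i ∈ w, i ∈ [0, 1, 3, 4, 5, 6]) ∧ ltB 7 w = true ∧ k = ev ks w ∧
        ι (ev ks w) = ev xs w → f k = φ (ι k) := fun w e => by rw [e.2.2.1, ← ef w e.1, eφ w e.2.1, e.2.2.2]
    induction hk using closure_induction with
    | mem p hp =>
      rcases hp with rfl | rfl | rfl | rfl
      exacts [key [6, 0, 1, 5] (by decide +kernel), key [5] (by decide +kernel), key [0] (by decide +kernel), by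
        have e4 : f sp = φ (ι sp) := by rw [← e2, eφ _ (by decide)]; exact congrArg φ (by decide +kernel)
        have e5 := key (k := ev ks [0, 6]) [0, 6] (by decide +kernel)
        rw [show (⟨_, _⟩ : K0) = sp * ev ks [0, 6] by decide +kernel, f.map_mul, ι.map_mul, φ.map_mul, e4, e5]]
    | one => exact (map_one f).trans (map_one (φ.comp ι)).symm
    | mul p q hp hq e e' => exact ((map_mul f ⟨p, hp⟩ ⟨q, hq⟩).trans (by rw [e, e']; rfl)).trans (map_mul (φ.comp ι) ⟨p, hp⟩ ⟨q, hq⟩).symm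
    | inv p hp e => exact (map_inv f ⟨p, hp⟩).trans (e ▸ (map_inv (φ.comp ι) _).symm)
  · exact List.all_eq_true.2 fun i hi => Nat.ble_eq_true_of_le ((ltB_spec hw i hi).trans (by decide))

theorem exists_bh : ∃ φ : A9 →* G, BH φ := by
  obtain ⟨φ, hf, hθ⟩ := F.exists_phi h
  obtain ⟨i1, i2, i3, i4, i5, i6⟩ := ιs
  have ez : φ z9 = f z1 := by rw [hf, i1]
  have ey : φ y9 = f y0 := by rw [hf, i2]
  have es : φ s9 = f s0 := by rw [hf, i4]
  have eσ : φ σ9 = f sg := by rw [hf, i5]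
  have e2 : f z2 = f sg * f z1 * (f sg)⁻¹ := by rw [hf, i6, map_mul, map_mul, map_inv, ez, eσ]
  have w : ∀ {x : A9} {p : S6} (w : List ℕ), ltB 5 w = true ∧ x = ev xs w ∧ p = ev ss w → φ x = θ p :=
    fun w e => by rw [e.2.1, e.2.2, hθ w e.1]
  have eu : φ u9 = θ (ev ss [0, 2]) := w [0, 2] (by decide +kernel)
  have ev' : φ v9 = θ (ev ss [0, 1, 0, 2, 1, 0]) := w [0, 1, 0, 2, 1, 0] (by decide +kernel)
  have rθ : ∀ p, θ p ∈ φ.range := fun p => by
    have hp : p ∈ Submonoid.closure (Set.range fun i : Fin 5 => swap i.castSucc i.succ) :=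
      Perm.mclosure_swap_castSucc_succ 5 ▸ Submonoid.mem_top p
    induction hp using Submonoid.closure_induction with
    | mem _ hp =>
      obtain ⟨i, rfl⟩ := hp
      exact ⟨ev xs [i], w [i] (by revert i; decide +kernel)⟩
    | one => exact map_one θ ▸ one_mem _
    | mul p q _ _ hp hq => exact map_mul θ p q ▸ mul_mem hp hq
  have rN : ∀ {n p}, R f θ n p → n ∈ φ.range := fun {n p} e =>
    (mul_mem_cancel_right (inv_mem (rθ p))).1 (zpowers_le.2 (show f z1 ∈ φ.range from ⟨_, ez⟩) e)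
  have z31 : IsConj (f z3) (f z1) := f.map_isConj (isConj_iff.2 ⟨_, m_e.1.1⟩)
  have inj : Function.Injective φ := by
    have := alternatingGroup.isSimpleGroup (α := Fin 9) (by simp)
    refine (MonoidHom.ker_eq_bot_iff φ).1 ((MonoidHom.normal_ker φ).eq_bot_or_eq_top.resolve_right fun e => ?_)
    exact ne_one_of_ord3 h.oz (by rw [← ez, ← MonoidHom.mem_ker, e]; exact mem_top _)
  have cm : ∀ {a b : A9}, a * b = b * a → φ a * φ b = φ b * φ a := fun e => by rw [← map_mul, e, map_mul]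
  refine ⟨φ, inj, fun c hc => ?_, fun e => h.not_zy (z31.trans (by rw [ez, ey] at e; exact e)),
    fun e => h.not_za (z31.trans (by rw [ez, ← i3, ← hf] at e; exact e)), fun e => F.not_rs h
      ((F.rc (p := ev ss [0, 2]) (by decide +kernel)).trans (by rw [eu, es] at e; exact e)), fun g hg e ho => ?_, fun g e e' => ?_,
    fun g g1 g2 => ?_, fun g e e' => ?_⟩
  · obtain ⟨p, hp⟩ := F.ex' (n := c) (by rw [← ez]; exact mem_cent.1 hc)
    exact rN hp
  · rw [ez] at e ⊢
    obtain ⟨p, hp⟩ := F.ex' e.eq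
    obtain rfl : p = 1 := orderOf_eq_one_iff.1 (Nat.eq_one_of_dvd_coprimes ((Nat.coprime_two_right.2 ho).pow_right 2)
      (orderOf_dvd_of_pow_eq_one (F.pow_one hp (pow_orderOf_eq_one g)))
      (orderOf_dvd_of_pow_eq_one (sV p (F.comm hp (by rw [← eu]; exact mem_cent.1 hg))).1))
    simpa [R] using hp
  · rw [ey] at e ⊢
    rw [es] at e' ⊢
    obtain ⟨k, rfl⟩ := h.cent_y (mem_cent.2 e)
    have a : f y0 ∈ zpowers (f y0) ⊔ zpowers (f s0) := mem_sup_left (mem_zpowers _)
    have b : f s0 ∈ zpowers (f y0) ⊔ zpowers (f s0) := mem_sup_right (mem_zpowers _)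
    rcases (m_y k (h.comm_iff.1 e)).2.2 (h.comm_iff.1 e') with ⟨-, e | e | e⟩ | ⟨-, e | e | e⟩ <;>
      simp only [e, map_one, map_mul, map_inv]
    exacts [one_mem _, a, inv_mem a, b, mul_mem a b, mul_mem (inv_mem a) b]
  · have sq : ∀ {a : A9}, a * a = 1 → φ a * φ a = 1 := fun e => by rw [← map_mul, e, map_one]
    have rel' : ∀ {a b c : A9}, a * b * a⁻¹ = c → φ a * φ b * (φ a)⁻¹ = φ c := fun e => by simp [← e]
    have zu : φ z9 * φ u9 = φ u9 * φ z9 := cm (by decide +kernel)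
    have zv : φ z9 * φ v9 = φ v9 * φ z9 := cm (by decide +kernel)
    have e3 : f z2 = φ (σ9 * z9 * σ9⁻¹) := by rw [hf, i6]
    have XL : (centralizer {u9} ⊓ centralizer {v9}).map φ ≤ centralizer {φ u9} ⊓ centralizer {φ v9} := by
      rintro _ ⟨a, ha, rfl⟩
      exact ⟨mem_cent.2 (cm (mem_cent.1 ha.1)), mem_cent.2 (cm (mem_cent.1 ha.2))⟩
    rw [ez] at zu zv
    rcases cent_pair (a := φ u9) (b := φ v9) (sq (by decide +kernel)) (sq (by decide +kernel)) (cm (by decide +kernel))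
      (map_one φ ▸ inj.ne (by decide +kernel)) (map_one φ ▸ inj.ne (by decide +kernel)) (inj.ne (by decide +kernel))
      h.oz (y := f z2) (Hy.J_cube (h.mJ.2 mJ.2.1)) (Hy.J_comm (h.mJ.2 mJ.1) (h.mJ.2 mJ.2.1))
      (fun e => m_e.2.2.1 z2 (by simp) (h.mem_Z.1 e)) zu zv (by rw [e3]; exact rel' (by decide +kernel))
      (by rw [e3, ← map_mul φ u9]; exact rel' (by decide +kernel))
      (fun c => by simpa only [eu, ev'] using F.four_of h (fun p e => (sV p e).2) c) (fun u hu c hc e => by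
        have cop := pPrimeCoreOf_coprime 3 (centralizer {φ u9} ⊓ centralizer {φ v9})
        have nO := le_normalizer_pPrimeCoreOf 3 (centralizer {φ u9} ⊓ centralizer {φ v9})
        have key : ∀ {k v}, v * y0 * v⁻¹ = k → c * f k = f k * c → c * f z1 = f z1 * c := fun {k v} e e' =>
          h.comm_z cop hc (nO ⟨mem_cent.2 zu, mem_cent.2 zv⟩) (g := 1) (by simpa using h.mJ.2 mJ.1) (by
            simpa using cent_conj h.cent_y ⟨v, rfl⟩ (mem_cent.2 (by rw [h.conj_iff.2 e]; exact e')))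
        obtain ⟨-, -, -, ⟨v1, a1⟩, v2, a2⟩ := m_A.2.2.2.2.2.2.2.2.2
        rcases (CL.Perm.mem_zpowers_three h.oz).1 hu with rfl | rfl | rfl
        rotate_left
        · exact key a1 (by rw [map_mul]; exact e)
        · exact key a2 (by rw [map_mul, map_inv]; exact e)
        rw [one_mul, e2] at e
        have c1 : (f sg)⁻¹ * c * f sg * f z1 = f z1 * ((f sg)⁻¹ * c * f sg) := by
          calc _ = (f sg)⁻¹ * (c * (f sg * f z1 * (f sg)⁻¹)) * f sg := by group
            _ = _ := by rw [e]; group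
        obtain ⟨p, hp⟩ := F.ex' c1
        obtain rfl : p = 1 := (sW p (F.sign h hp c1)).resolve_right fun ⟨w, hw, p3, p1⟩ => p1 (by
          obtain ⟨x1, x2, x3⟩ := xW w hw
          have t := mul_mem hc ((mem_normalizer_iff.1 (nO ⟨mem_cent.2 (cm x2), mem_cent.2 (cm x3)⟩) _).1 (inv_mem hc))
          have r := F.mul (F.mul (F.mul hp (Fr.refl (ev ss w))) (F.inv hp)) (Fr.refl (ev ss w)⁻¹)
          refine orderOf_eq_one_iff.1 (Nat.eq_one_of_dvd_coprimes cop (orderOf_dvd_of_pow_eq_one (F.pow_one r ?_))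
            (orderOf_dvd_of_pow_eq_one p3))
          rw [map_mul, map_mul, map_inv, eσ, ← hθ w x1] at t
          rw [map_inv, show (f sg)⁻¹ * c * f sg * θ (ev ss w) * ((f sg)⁻¹ * c * f sg)⁻¹ * (θ (ev ss w))⁻¹ = (f sg)⁻¹ *
            (c * (f sg * θ (ev ss w) * (f sg)⁻¹ * c⁻¹ * (f sg * θ (ev ss w) * (f sg)⁻¹)⁻¹)) * (f sg)⁻¹⁻¹ by group,
            conj_pow, orderOf_dvd_iff_pow_eq_one.1 (orderOf_dvd_natCard _ t)]
          group)
        have c2 := Hy.J_comm (zpowers_le.2 (h.mJ.2 mJ.1) (by simpa [R] using hp)) (h.mJ.2 mJ.2.2.1)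
        rw [← h.conj_iff.2 m_e.1.1]
        calc _ = f sg * ((f sg)⁻¹ * c * f sg * f z3) * (f sg)⁻¹ := by group
          _ = _ := by rw [c2]; group) with e | ⟨e, -⟩
    · have := e (φ c9) (cm (by decide +kernel)) (cm (by decide +kernel))
      simp only [← ez, ← map_inv, ← map_mul, inj.eq_iff] at this
      exact absurd this (by decide +kernel)
    · have c1 := card_uv.trans (card_map_of_injective inj ▸ card_dvd_of_le XL)
      have c2 := Nat.le_of_dvd Nat.card_pos card_uv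
      rw [← card_map_of_injective inj] at c2
      exact map_le_range φ _ ((eq_of_le_of_card_ge XL (by omega)).ge ⟨mem_cent.2 g1, mem_cent.2 g2⟩)
  · rw [w [0, 3] (p := r6) (by decide +kernel)] at e
    rw [w [2, 3, 2, 4, 3, 2] (p := u6) (by decide +kernel)] at e'
    obtain ⟨p, hp, p2, -⟩ := F.cU h e e'
    have := F.mul hp hp
    rw [p2, R, map_one, inv_one, mul_one, ← pow_two] at this
    exact (pow_mul g 2 3).trans (Hy.J_cube (zpowers_le.2 (h.mJ.2 mJ.1) this))

end Fr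

end CL.A9R
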