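/-
3-local recognition of `A₉`, part 10: the subgroup `A₉` is the whole group.
-/
import Cfsg.Agent.Rec.A9Phi

set_option autoImplicit false
set_option maxRecDepth 100000

namespace CL.A9R

open Subgroup Equiv Cfsg CL.Grp CL.RecA8

variable {G : Type*} [Group G]

theorem mem_of_conj {φ : A9 →* G} {x : A9} (hx : centralizer {φ x} ≤ φ.range) {g : G} {a : A9}
    (ha : φ a = g * φ x * g⁻¹) (hc : IsConj x a) : g ∈ φ.range := by
  obtain ⟨c, rfl⟩ := isConj_iff.1 hc
  refine (mul_mem_cancel_left (inv_mem (show φ c ∈ φ.range from ⟨c, rfl⟩))).1 (hx (mem_cent.2 ?_))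
  simp only [map_mul, map_inv] at ha
  calc (φ c)⁻¹ * g * φ x = (φ c)⁻¹ * (g * φ x * g⁻¹) * g := by group
    _ = _ := by rw [← ha]; group

theorem normal_two {K : Type*} [Group K] {u : K} (hu : u * u = 1) (hc : ∀ x, x * u = u * x) : (zpowers u).Normal :=
  ⟨fun n hn g => by
    rcases mem_zpowers_two hu hn with rfl | rfl
    · simp
    · rw [hc g, mul_inv_cancel_right]; exact mem_zpowers _⟩

namespace BH

variable {φ : A9 →* G} (h : BH φ)
include h

theorem ord (a : A9) : orderOf (φ a) = orderOf a := orderOf_injective φ h.inj a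

theorem comm_iff {a b : A9} : φ a * φ b = φ b * φ a ↔ a * b = b * a := by
  rw [← map_mul, ← map_mul]; exact h.inj.eq_iff

theorem se_z {g : G} (hg : g * φ z9 * g⁻¹ ∈ φ.range) : g ∈ φ.range := by
  obtain ⟨a, ha⟩ := hg
  rcases class_three (a := a) (by rw [← h.ord, ha, CL.Inv.orderOf_conj, h.ord, ord_z9]) with hc | hc | hc
  · exact mem_of_conj h.cz ha hc
  · exact absurd ((isConj_iff.2 ⟨g, ha.symm⟩).trans (φ.map_isConj hc).symm) h.nzy
  · exact absurd ((isConj_iff.2 ⟨g, ha.symm⟩).trans (φ.map_isConj hc).symm) h.nza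

theorem of_U {a : A9} (hc : IsConj (φ u9) (φ a)) : IsConj u9 a := by
  obtain ⟨g, hg⟩ := isConj_iff.1 hc
  exact (class_two (by rw [← h.ord, ← hg, CL.Inv.orderOf_conj, h.ord, ord_u9])).resolve_right
    fun h3 => h.nus (hc.trans (φ.map_isConj h3).symm)

theorem mem_of_norm {k : G} (hk : k * φ u9 = φ u9 * k)
    (h2 : k * φ v9 * k⁻¹ = φ v9 ∨ k * φ v9 * k⁻¹ = φ v9 * φ u9) : k ∈ φ.range := by
  have h0 : k * φ u9 * k⁻¹ = φ u9 := by rw [hk]; group
  have h3 := comm_conj k (h.comm_iff.2 (show z9 * u9 = u9 * z9 by decide +kernel))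
  have h4 := comm_conj k (h.comm_iff.2 (show z9 * v9 = v9 * z9 by decide +kernel))
  rw [h0] at h3
  refine h.se_z (h.cV _ h3 ?_)
  rcases h2 with h2 | h2 <;> rw [h2] at h4
  · exact h4
  · rw [← mul_left_inj (φ u9), mul_assoc, h4, mul_assoc, mul_assoc (φ v9), h3]

theorem weak {k : G} (hk : k * φ u9 = φ u9 * k) (hm : k * φ v9 * k⁻¹ ∈ φ.range) :
    k * φ v9 * k⁻¹ = φ v9 ∨ k * φ v9 * k⁻¹ = φ v9 * φ u9 := by
  obtain ⟨v, hv⟩ := hm
  have h0 : k * φ u9 * k⁻¹ = φ u9 := by rw [hk]; group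
  have c : ∀ {a b : A9}, a * b = b * a → k * φ a * k⁻¹ * (k * φ b * k⁻¹) = k * φ b * k⁻¹ * (k * φ a * k⁻¹) :=
    fun e => comm_conj k (h.comm_iff.2 e)
  have c1 := c (show v9 * u9 = u9 * v9 by decide +kernel)
  have c2 := c (show c9 * u9 = u9 * c9 by decide +kernel)
  have c3 := c (show c9 * v9 = v9 * c9 by decide +kernel)
  rw [h0] at c1 c2
  rw [← hv] at c1 c3 ⊢
  rcases quad' (h.of_U ((φ.map_isConj (U_of (a := v9) (by decide +kernel))).trans (isConj_iff.2 ⟨k, hv.symm⟩)))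
    (h.comm_iff.1 c1) (h.of_U ((φ.map_isConj (U_of (a := u9 * v9) (by decide +kernel))).trans (isConj_iff.2 ⟨k, by
      rw [map_mul, map_mul, hv, ← conj_mul, h0]⟩))) with e | e | ⟨m, e, e'⟩
  exacts [.inl (by rw [e]), .inr (by rw [e, map_mul]), by
    have d2 := comm_conj (φ m) c2
    have d3 := comm_conj (φ m) c3
    rw [← map_inv, ← map_mul, ← map_mul, map_inv] at d2 d3
    rw [e] at d2
    have := h.cU _ d2 (by
      rcases e' with e' | e' <;> rw [e'] at d3
      exacts [d3, by rw [map_mul, ← mul_assoc, d2, mul_assoc (φ (sw 3 4 6 7)), mul_assoc (φ (sw 3 4 6 7)),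
        mul_right_inj] at d3; exact d3])
    rw [conj_pow, conj_eq_one_iff, conj_pow, conj_eq_one_iff, ← map_pow, map_eq_one_iff φ h.inj] at this
    exact absurd this (by decide +kernel)]

theorem cV' {g : G} (h1 : g * φ b9 = φ b9 * g) (h2 : g * φ d9 = φ d9 * g) : g ∈ φ.range := by
  have e : ∀ {a b : A9}, s9 * a * s9⁻¹ = b → φ s9 * φ a * (φ s9)⁻¹ = φ b := fun e => by simp [← e]
  have c1 := comm_conj (φ s9) h1
  have c2 := comm_conj (φ s9) h2
  rw [e (b := u9) (by decide +kernel)] at c1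
  rw [e (b := v9) (by decide +kernel)] at c2
  have h4 : φ s9 ∈ φ.range := ⟨s9, rfl⟩
  exact (mul_mem_cancel_left h4).1 ((mul_mem_cancel_right (inv_mem h4)).1 (h.cV _ c1 c2))

variable [Finite G]

theorem cent_u : centralizer {φ u9} ≤ φ.range := by
  have := Fact.mk Nat.prime_three
  have syl := CL.Rec.isSylowIn_zpowers ((h.ord _).trans ord_z9) (mem_cent.2 (h.comm_iff.2 (by decide +kernel))) h.zu
  have zu := h.zu
  set K := centralizer ({φ u9} : Set G) with hK
  have mk : ∀ a : A9, a * u9 = u9 * a → φ a ∈ K := fun a ha => mem_cent.2 (h.comm_iff.2 ha)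
  let u : K := ⟨φ u9, mk _ rfl⟩
  let a : K := ⟨φ v9, mk _ (by decide +kernel)⟩
  let z : K := ⟨φ z9, mk _ (by decide +kernel)⟩
  let b1 : K := ⟨φ b9, mk _ (by decide +kernel)⟩
  let b2 : K := ⟨φ d9, mk _ (by decide +kernel)⟩
  have hc : ∀ x : K, x * u = u * x := fun x => Subtype.ext (mem_cent.1 x.2)
  have rel : ∀ {x y : A9}, x = y → φ x = φ y := fun e => congrArg φ e
  have hu : u * u = 1 := Subtype.ext (by simpa using rel (show u9 * u9 = 1 by decide +kernel))
  have := normal_two hu hc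
  have ne : ∀ (x y : A9) (hx : φ x ∈ K) (hy : φ y ∈ K), y ≠ x → y ≠ x * u9 →
      ((⟨φ x, hx⟩ : K) : K ⧸ zpowers u) ≠ (⟨φ y, hy⟩ : K) := fun x y hx hy h1 h2 e => by
    rcases mk_eq_cases hu e with e | e
    · exact h1 (h.inj (congrArg Subtype.val e))
    · exact h2 (h.inj (by rw [map_mul]; exact congrArg Subtype.val e))
  have o2 : ∀ (x : A9) (hx : φ x ∈ K), x * x = 1 ∧ x ≠ 1 ∧ x ≠ u9 →
      orderOf ((⟨φ x, hx⟩ : K) : K ⧸ zpowers u) = 2 := fun x hx ⟨h1, h2, h3⟩ => by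
    refine CL.Inv.orderOf_two_of_mul_self ?_ fun e => ne 1 x (mk _ (by simp)) hx h2 (by simpa using h3) ?_
    · rw [← QuotientGroup.mk_mul, show (⟨φ x, hx⟩ * ⟨φ x, hx⟩ : K) = 1 from Subtype.ext (by simpa using rel h1)]
      rfl
    · rw [e, show (⟨φ 1, mk _ (by simp)⟩ : K) = 1 from Subtype.ext (map_one φ)]; rfl
  have fin : ∀ k : K, (k : K ⧸ zpowers u) * a = a * k → (k : G) ∈ φ.range := fun k e =>
    h.mem_of_norm (mem_cent.1 k.2) ((mk_eq_cases hu (a := a) (b := k * a * k⁻¹) (by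
      rw [QuotientGroup.mk_mul, QuotientGroup.mk_mul, QuotientGroup.mk_inv, e, mul_inv_cancel_right])).imp
      (congrArg Subtype.val) (congrArg Subtype.val))
  have hiso : IsIsolatedInvolution (a : K ⧸ zpowers u) := by
    refine ⟨o2 _ _ (by decide +kernel), fun g hg => ?_⟩
    obtain ⟨k, rfl⟩ := QuotientGroup.mk_surjective g
    rw [← QuotientGroup.mk_inv, ← QuotientGroup.mk_mul, ← QuotientGroup.mk_mul]
    rcases h.weak (mem_cent.1 k.2) (fin (k * a * k⁻¹) hg.eq.symm) with e | e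
    · rw [show k * a * k⁻¹ = a from Subtype.ext e]
    · rw [show k * a * k⁻¹ = a * u from Subtype.ext e, QuotientGroup.mk_mul,
        (QuotientGroup.eq_one_iff u).2 (mem_zpowers u), mul_one]
  have hO : oddCore (K ⧸ zpowers u) = ⊥ := by
    set O := oddCore (K ⧸ zpowers u) with hO
    have hodd : Odd (Nat.card O) := CL.Inv.odd_card_oddCore
    have nO : O.Normal := by rw [hO]; infer_instance
    have hzo : orderOf z = 3 := (Subgroup.orderOf_mk _ _).trans ((h.ord _).trans ord_z9)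
    have e1 : z * b1 * z⁻¹ = b2 := Subtype.ext (by simpa using rel (show z9 * b9 * z9⁻¹ = d9 by decide +kernel))
    have e2 : z * b2 * z⁻¹ = b1 * b2 :=
      Subtype.ext (by simpa using rel (show z9 * d9 * z9⁻¹ = b9 * d9 by decide +kernel))
    have e3 : b1 * b2 = b2 * b1 := Subtype.ext (h.comm_iff.2 (by decide +kernel))
    have hzO : (z : K ⧸ zpowers u) ∉ O := fun hz => by
      have h1 : ((z * b2 * z⁻¹ * b2⁻¹ : K) : K ⧸ zpowers u) ∈ O := by
        simpa [mul_assoc] using mul_mem hz (nO.conj_mem _ (inv_mem hz) b2)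
      rw [e2, mul_inv_cancel_right] at h1
      have h2 := Subgroup.orderOf_dvd_natCard _ h1
      rw [o2 _ _ (by decide +kernel)] at h2
      exact (Nat.not_even_iff_odd.2 hodd) (even_iff_two_dvd.2 h2)
    have h3 : ¬ 3 ∣ Nat.card O := fun h3 => by
      obtain ⟨o, ho⟩ := exists_prime_orderOf_dvd_card' 3 h3
      obtain ⟨k, hk, hk3⟩ := lift_odd hu hc (by decide : Odd 3) (o := o) (by
        rw [← Subgroup.coe_pow, ← ho, pow_orderOf_eq_one]; rfl)
      have hko : orderOf k = 3 := orderOf_eq_prime hk3 (by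
        rintro rfl
        rw [show o = 1 from Subtype.ext hk.symm] at ho; simp at ho)
      obtain ⟨g, hg, e⟩ := CL.Rec.exists_conj_of_isSylowIn ((h.ord _).trans ord_z9) syl
        ((Subgroup.orderOf_coe k).trans hko) k.2
      have h4 := nO.conj_mem _ (hk ▸ o.2) ((⟨g, hg⟩ : K) : K ⧸ zpowers u)
      rw [← QuotientGroup.mk_inv, ← QuotientGroup.mk_mul, ← QuotientGroup.mk_mul] at h4
      rcases e with e | e
      · rw [show (⟨g, hg⟩ : K) * k * (⟨g, hg⟩ : K)⁻¹ = z from Subtype.ext e] at h4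
        exact hzO h4
      · rw [show (⟨g, hg⟩ : K) * k * (⟨g, hg⟩ : K)⁻¹ = z⁻¹ from Subtype.ext e] at h4
        exact hzO (inv_mem_iff.1 h4)
    have lift : ∀ o ∈ O, ∃ k : K, (k : K ⧸ zpowers u) = o ∧ k ^ Nat.card O = 1 := fun o ho =>
      lift_odd hu hc hodd (congrArg Subtype.val (pow_card_eq_one' (x := (⟨o, ho⟩ : O))))
    have cop : ∀ k : K, k ^ Nat.card O = 1 → orderOf (k : G) ∣ 2 ^ 7 * 3 → k = 1 := fun k h1 h2 =>
      Subtype.ext (orderOf_eq_one_iff.1 (Nat.eq_one_of_dvd_coprimes (((Nat.coprime_two_right.2 hodd).pow_right 7).mul_right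
        ((Nat.Prime.coprime_iff_not_dvd Nat.prime_three).2 h3).symm)
        (orderOf_dvd_of_pow_eq_one (congrArg Subtype.val h1)) h2))
    have hC : O ⊓ centralizer {(z : K ⧸ zpowers u)} = ⊥ := eq_bot_iff.2 fun o ho => by
      obtain ⟨k, rfl, hk⟩ := lift o ho.1
      have h1 := zu k k.2 (congrArg Subtype.val (comm_lift hu hc hodd hk (mem_cent.1 ho.2)))
        (CL.Rec.odd_orderOf_of_pow hodd (congrArg Subtype.val hk))
      rw [cop k hk ((orderOf_dvd_natCard _ h1).trans (by rw [Nat.card_zpowers, h.ord, ord_z9]; decide))]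
      exact one_mem _
    have hz3 : orderOf (z : K ⧸ zpowers u) = 3 :=
      orderOf_eq_prime (by rw [← QuotientGroup.mk_pow, ← hzo, pow_orderOf_eq_one]; rfl) fun e => hzO (e ▸ one_mem _)
    have h4 := a4_cent hodd h3 hz3 (a := (b1 : K ⧸ zpowers u)) (b := (b2 : K ⧸ zpowers u))
      (o2 _ _ (by decide +kernel)) (o2 _ _ (by decide +kernel))
      (ne _ _ _ _ (by decide +kernel) (by decide +kernel)) (congrArg _ e3) (congrArg _ e1) (congrArg _ e2) hC
    refine eq_bot_iff.2 fun o ho => ?_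
    obtain ⟨k, rfl, hk⟩ := lift o ho
    have c1 : Commute (k : G) (φ b9) := congrArg Subtype.val (comm_lift hu hc hodd hk (h4 _ ho).1)
    obtain ⟨x, hx⟩ := h.cV' c1 (congrArg Subtype.val (comm_lift hu hc hodd hk (h4 _ ho).2))
    have c2 := (Commute.mul_right (mem_cent.1 k.2) c1).eq
    rw [← map_mul, ← hx, h.comm_iff] at c2
    rw [cop k hk (by rw [← hx, h.ord]; exact ord_dvd c2)]
    exact one_mem _
  exact fun k hk => fin ⟨k, hk⟩ (mem_center_iff.1 (CL.Inv.zstar_mem_center hO hiso) _)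

theorem se_v {g : G} (hg : g * φ (g9 ^ 2) * g⁻¹ ∈ φ.range) : g ∈ φ.range := by
  obtain ⟨c, hc⟩ := isConj_iff.1 (U_of (a := g9 ^ 2) (by decide +kernel))
  obtain ⟨a, ha⟩ := hg
  have e : φ a = g * φ c * φ u9 * (g * φ c)⁻¹ := by rw [ha, ← hc, map_mul, map_mul, map_inv]; group
  exact (mul_mem_cancel_right (show φ c ∈ φ.range from ⟨c, rfl⟩)).1 (mem_of_conj h.cent_u e (h.of_U (isConj_iff.2 ⟨_, e.symm⟩)))

theorem cent_t : centralizer {φ s9} ≤ φ.range := by
  have := Fact.mk Nat.prime_two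
  have := Fact.mk Nat.prime_three
  set K := centralizer ({φ s9} : Set G) with hK
  have mk : ∀ a : A9, a * s9 = s9 * a → φ a ∈ K := fun a ha => mem_cent.2 (h.comm_iff.2 ha)
  let u : K := ⟨φ s9, mk _ rfl⟩
  let y : K := ⟨φ y9, mk _ (by decide +kernel)⟩
  let g : K := ⟨φ g9, mk _ (by decide +kernel)⟩
  have hc : ∀ x : K, x * u = u * x := fun x => Subtype.ext (mem_cent.1 x.2)
  have huo : orderOf u = 2 := (Subgroup.orderOf_mk _ _).trans ((h.ord _).trans ord_s9)
  have hyo : orderOf y = 3 := (Subgroup.orderOf_mk _ _).trans ((h.ord _).trans ord_y9)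
  have hu : u * u = 1 := CL.Inv.mul_self_of_orderOf_two huo
  have := normal_two hu hc
  have hy3 : y ^ 3 = 1 := hyo ▸ pow_orderOf_eq_one y
  have hyq : orderOf (y : K ⧸ zpowers u) = 3 := by
    refine orderOf_eq_prime (by rw [← QuotientGroup.mk_pow, hy3]; rfl) fun e => ?_
    have := Subgroup.orderOf_dvd_natCard _ ((QuotientGroup.eq_one_iff y).1 e)
    rw [Nat.card_zpowers, hyo, huo] at this
    omega
  have hC : centralizer (zpowers (y : K ⧸ zpowers u) : Set (K ⧸ zpowers u)) = zpowers (y : K ⧸ zpowers u) := by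
    refine le_antisymm (fun o ho => ?_) fun o ho x hx => ?_
    · obtain ⟨k, rfl⟩ := QuotientGroup.mk_surjective o
      have h1 := comm_lift hu hc (by decide : Odd 3) hy3 (ho _ (mem_zpowers _))
      have h3 : zpowers (φ y9) ⊔ zpowers (φ s9) ≤
          ((zpowers (y : K ⧸ zpowers u)).comap (QuotientGroup.mk' (zpowers u))).map K.subtype :=
        sup_le (zpowers_le.2 ⟨y, mem_zpowers _, rfl⟩) (zpowers_le.2 ⟨u, by
          rw [SetLike.mem_coe, mem_comap, QuotientGroup.mk'_apply, (QuotientGroup.eq_one_iff u).2 (mem_zpowers u)]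
          exact one_mem _, rfl⟩)
      obtain ⟨k', hk', e⟩ := h3 (h.ys _ (congrArg Subtype.val h1).symm (mem_cent.1 k.2))
      rwa [show k' = k from Subtype.ext e] at hk'
    · obtain ⟨m, rfl⟩ := mem_zpowers_iff.1 ho
      obtain ⟨n, rfl⟩ := mem_zpowers_iff.1 hx
      exact (Commute.refl _).zpow_zpow n m
  have hg4 : (g : K ⧸ zpowers u) ^ 4 = 1 := by
    rw [← QuotientGroup.mk_pow, show g ^ 4 = 1 from Subtype.ext (by
      simpa using congrArg φ (show g9 ^ 4 = 1 by decide +kernel))]; rfl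
  have h168 : Nat.card (K ⧸ zpowers u) ≠ 168 := fun e => by
    have h1 := card_eq_card_quotient_mul_card_subgroup (zpowers u)
    rw [e, Nat.card_zpowers, huo] at h1
    have h3 := card_dvd_of_le (show (centralizer ({s9} : Set A9)).map φ ≤ K by
      rintro _ ⟨a, ha, rfl⟩
      exact mk a (mem_cent.1 ha))
    rw [card_map_of_injective h.inj, h1] at h3
    exact absurd (card_cent_s9.trans h3) (by decide)
  have hg2 : ((g ^ 2 : K) : G) = φ (g9 ^ 2) := (map_pow φ g9 2).symm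
  intro k hk
  obtain ⟨Q, hQ, h1, h2⟩ := exists_two_group hyq hC hg4 h168 ((⟨k, hk⟩ : K) : K ⧸ zpowers u)
  have hQ' : IsPGroup 2 (Q.comap (QuotientGroup.mk' (zpowers u))) := hQ.comap_of_ker_isPGroup _ (by
    rw [QuotientGroup.ker_mk']
    exact IsPGroup.of_card (n := 1) (by rw [Nat.card_zpowers, huo, pow_one]))
  have hle := le_of_se (M := φ.range) (x := φ (g9 ^ 2)) (hQ'.map K.subtype) ⟨g ^ 2, h1, hg2⟩ ⟨_, rfl⟩
    fun k hk => h.se_v hk
  exact h.se_v (hle ⟨⟨k, hk⟩ * g ^ 2 * ⟨k, hk⟩⁻¹, h2, by rw [← hg2]; rfl⟩)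

theorem cent_inv {v : G} (hv : v ∈ φ.range) (h2 : orderOf v = 2) : centralizer {v} ≤ φ.range := by
  obtain ⟨a, rfl⟩ := hv
  rcases class_two ((h.ord a).symm.trans h2) with hc | hc <;> obtain ⟨c, rfl⟩ := isConj_iff.1 hc <;>
    rw [map_mul, map_mul, map_inv]
  exacts [cent_conj h.cent_u ⟨c, rfl⟩, cent_conj h.cent_t ⟨c, rfl⟩]

theorem surj : Function.Surjective φ := fun g => by
  have ht : orderOf (g * φ s9 * g⁻¹) = 2 := (CL.Inv.orderOf_conj _ _).trans ((h.ord _).trans ord_s9)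
  have hu := CL.Inv.mul_self_of_orderOf_two ((h.ord _).trans ord_u9)
  have hnc : ¬ IsConj (φ u9) (g * φ s9 * g⁻¹) := fun hc => h.nus (hc.trans (isConj_iff.2 ⟨g, rfl⟩).symm)
  have hev : Even (orderOf (φ u9 * (g * φ s9 * g⁻¹))) := Nat.not_odd_iff_even.1 fun ho =>
    hnc (CL.Inv.isConj_of_odd_mul hu (CL.Inv.mul_self_of_orderOf_two ht) ho)
  obtain ⟨h1, h2, h3⟩ := CL.Inv.half_pow_central hu (CL.Inv.mul_self_of_orderOf_two ht) (orderOf_pos _).ne' hev
  obtain ⟨a, ha⟩ := h.cent_inv (h.cent_u (mem_cent.2 h2)) h1 (mem_cent.2 h3.symm)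
  rcases class_two ((h.ord a).symm.trans (ha ▸ ht)) with hc | hc
  · exact absurd (ha ▸ φ.map_isConj hc) hnc
  · exact mem_of_conj h.cent_t ha hc

end BH

/-- **3-local recognition of `A₉`** -/
theorem Hy.main [Finite G] {f : CL.Perm.A9N.K0 →* G} (h : Hy f) : f.range = ⊤ ∨ Nonempty (G ≃* A9) := by
  refine h.split.imp (fun e => h.top_of_le ?_) fun ⟨π, h1, h2⟩ => ?_
  · have := cent_conj e (inv_mem (show f sg ∈ f.range from ⟨_, rfl⟩))
    rwa [← h.conj_iff.2 m_e.1.1, show (f sg)⁻¹ * (f sg * f z3 * (f sg)⁻¹) * (f sg)⁻¹⁻¹ = f z3 by group] at this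
  · obtain ⟨θ, F⟩ := h.exists_fr π h1 h2
    obtain ⟨φ, B⟩ := F.exists_bh h
    exact ⟨(MulEquiv.ofBijective φ ⟨B.inj, B.surj⟩).symm⟩

end CL.A9R
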