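/-
Recognition of `Fi₂₂` from a 3-centraliser (S3368), 2-local part: an involution `d` with `C(d) = 2·U₆(2).2`.
Definitions and interface statements.
-/
import Cfsg.Agent.Spor.MTU5
import Cfsg.Agent.Transfer.Control

set_option autoImplicit false

namespace CL.F3

open Subgroup Cfsg CL.MT CL.Uni CL.Rec

universe u

variable {G H X : Type u} [Group G] [Group H] [Group X]

def Inr (α : MulAut X) : Prop := ∃ y, ∀ x, α x = y * x * y⁻¹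

/-- `α` is induced by the antilinear isometry `f` -/
structure Anti (ρ : SUG U.B →* X) (α : MulAut X) (f : V6 ≃+ V6) : Prop where
  smul : ∀ (c : K4) v, f (c • v) = K4.bar c • f v
  iso : ∀ u v, U.B (f u) (f v) = K4.bar (U.B u v)
  ind : ∀ g : SUG U.B, ∃ g' : SUG U.B, α (ρ g) = ρ g' ∧ ∀ v, g'.1 (f v) = f (g.1 v)

/-- facts on outer automorphisms -/
structure OutF (D : Set X) (Δ : Finset X) : Prop where
  pres : ∀ α : MulAut X, ∀ x ∈ D, α x ∈ D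
  fix7 : ∀ α : MulAut X, ¬ Inr α → Inr (α * α) → (∀ x ∈ Δ, α x ∈ Δ) → (∀ x ∈ Δ, α (α x) = x) →
    {x | x ∈ Δ ∧ α x = x}.ncard = 7
  rk : ∀ α : MulAut X, ¬ Inr α → α * α = 1 → (∀ x ∈ Δ, α x ∈ Δ) → ∀ E : Subgroup X, E ≤ NN Δ →
    IsElementaryAbelian 2 E → (∀ x ∈ E, α x = x) → Nat.card E < 256

/-- `g` induces `α` on `X` -/
def Ind (ι : H →* G) (π : H →* X) (g : G) (α : MulAut X) : Prop :=
  ∀ h, ∃ h', ι h' = g * ι h * g⁻¹ ∧ π h' = α (π h)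

/-- the setting: `ι.range` has index two in `C(ι δ)` -/
structure S2 (δ : H) (ι : H →* G) (π : H →* X) (D : Set X) (Δ : Finset X) : Prop where
  E : Ext δ π
  B : Base D Δ 21 9
  hex : ∃ y, Hex Δ y
  O : OutF D Δ
  inj : Function.Injective ι
  perf : Group.IsPerfect H
  two : ∀ a b, Commute a (ι δ) → Commute b (ι δ) → a ∉ ι.range → b ∉ ι.range → a * b ∈ ι.range
  cen : ∀ g, Commute g (ι δ) → Ind ι π g 1 → g ∈ ι.range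
  h1 : ∃ h, h ≠ δ ∧ IsConj (ι δ) (ι h) ∧ ¬ IsConj (ι δ) (ι (h * δ))
  h0 : ∃ h, h * h = 1 ∧ h ≠ 1 ∧ h ≠ δ ∧ ¬ IsConj (ι δ) (ι h) ∧ ¬ IsConj (ι δ) (ι (h * δ))
  out : ∃ s, s * s = 1 ∧ Commute s (ι δ) ∧ s ∉ ι.range

structure TA (δ : H) (ι : H →* G) (π : H →* X) (Δ : Finset X) : Prop where
  ind : ∀ g, Commute g (ι δ) → ∃ α, Ind ι π g α
  outer : ∀ g α, Commute g (ι δ) → g ∉ ι.range → Ind ι π g α → ¬ Inr α ∧ Inr (α * α)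
  elemAb : IsElementaryAbelian 2 (AG ι π Δ)
  card : Nat.card (AG ι π Δ) = 2 ^ 10
  nrm : ∀ g α, Commute g (ι δ) → Ind ι π g α → (g ∈ normalizer (AG ι π Δ : Set G) ↔ ∀ x ∈ Δ, α x ∈ Δ)
  toN : ∀ P : Subgroup G, IsPGroup 2 P → (∀ g ∈ P, Commute g (ι δ)) →
    ∃ k, Commute k (ι δ) ∧ ∀ g ∈ P, k * g * k⁻¹ ∈ normalizer (AG ι π Δ : Set G)
  fix7 : ∀ g α, Commute g (ι δ) → g ∉ ι.range → g ∈ normalizer (AG ι π Δ : Set G) → g * g ∈ AG ι π Δ →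
    Ind ι π g α → {x | x ∈ Δ ∧ α x = x}.ncard = 7
  cent : ∀ g, (∀ a ∈ AG ι π Δ, Commute g a) → g ∈ AG ι π Δ

def Fus (δ : H) (ι : H →* G) (π : H →* X) (Δ : Finset X) : Prop :=
  ∀ e ∈ AG ι π Δ, IsConj (ι δ) e → ∃ n ∈ normalizer (AG ι π Δ : Set G), n * ι δ * n⁻¹ = e

/-- the lifting of `D` into the class of `ι δ` -/
structure TB (δ : H) (ι : H →* G) (π : H →* X) (D : Set X) (s : X → H) : Prop where
  L : IsLift D π s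
  cj : ∀ x ∈ D, IsConj (ι δ) (ι (s x))
  onto : ∀ h, IsConj (ι δ) (ι h) → h = δ ∨ ∃ x ∈ D, h = s x

structure TC (δ : H) (ι : H →* G) (π : H →* X) (Δ : Finset X) (s : X → H) : Prop where
  mem : ∀ e, e ∈ hat δ ι Δ s ↔ IsConj (ι δ) e ∧ e ∈ AG ι π Δ
  card : (hat δ ι Δ s).card = 22
  nn : normalizer (AG ι π Δ : Set G) = NN (hat δ ι Δ s)
  trans1 : ∀ e ∈ hat δ ι Δ s, ∃ n ∈ NN (hat δ ι Δ s), n * e * n⁻¹ = ι δ
  fix8 : ∀ g, Commute g (ι δ) → g ∉ ι.range → g ∈ NN (hat δ ι Δ s) → g * g = 1 →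
    {e | e ∈ hat δ ι Δ s ∧ g * e * g⁻¹ = e}.ncard = 8
  dn : ∀ e, IsConj (ι δ) e → e ∈ NN (hat δ ι Δ s) → e ∈ hat δ ι Δ s
  pg : ∀ T : Subgroup G, IsPGroup 2 T → AG ι π Δ ≤ T → T ≤ NN (hat δ ι Δ s)

def SL1Thm : Prop := ∀ {X : Type u} [Group X] {ρ : SUG U.B →* X}, U.PQ ρ → ∀ α : MulAut X,
  (∀ x ∈ U.DD ρ, α x ∈ U.DD ρ) ∧ (Inr (α * α) → Inr α ∨ ∃ f, Anti ρ α f)

def SL2Thm : Prop := ∀ {X : Type u} [Group X] {ρ : SUG U.B →* X} {α : MulAut X} {f : V6 ≃+ V6}, U.PQ ρ →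
  Anti ρ α f → (∀ x ∈ U.DW ρ, α x ∈ U.DW ρ) → (∀ x ∈ U.DW ρ, α (α x) = x) →
  (∀ w, U.InW w → U.InW (f w) ∧ f (f w) = w) ∧ {w | U.InW w ∧ f w = w}.ncard = 8 ∧
    (∀ w, U.InW w → ∃ a b, U.InW a ∧ f a = a ∧ U.InW b ∧ f b = b ∧ w = a + K4.w • b) ∧
    {x | x ∈ U.DW ρ ∧ α x = x}.ncard = 7

def SL3Thm : Prop := SL2Thm.{u} → ∀ {X : Type u} [Group X] {ρ : SUG U.B →* X} {α : MulAut X} {f : V6 ≃+ V6},
  U.PQ ρ → Anti ρ α f → α * α = 1 → (∀ x ∈ U.DW ρ, α x ∈ U.DW ρ) → ∀ E : Subgroup X, E ≤ NN (U.DW ρ) →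
  IsElementaryAbelian 2 E → (∀ x ∈ E, α x = x) → Nat.card E < 256

def TAThm : Prop := ∀ {G H X : Type u} [Group G] [Group H] [Group X] [Finite G] {δ : H} {ι : H →* G} {π : H →* X}
  {D : Set X} {Δ : Finset X}, S2 δ ι π D Δ → TA δ ι π Δ

def FusThm : Prop := ∀ {G H X : Type u} [Group G] [Group H] [Group X] [Finite G] {δ : H} {ι : H →* G} {π : H →* X}
  {D : Set X} {Δ : Finset X}, S2 δ ι π D Δ → TA δ ι π Δ → Fus δ ι π Δ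

def TBThm : Prop := ∀ {G H X : Type u} [Group G] [Group H] [Group X] [Finite G] {δ : H} {ι : H →* G} {π : H →* X}
  {D : Set X} {Δ : Finset X}, S2 δ ι π D Δ → TA δ ι π Δ → Fus δ ι π Δ → ∃ s, TB δ ι π D s

def TCThm : Prop := ∀ {G H X : Type u} [Group G] [Group H] [Group X] [Finite G] {δ : H} {ι : H →* G} {π : H →* X}
  {D : Set X} {Δ : Finset X} {s : X → H}, S2 δ ι π D Δ → TA δ ι π Δ → Fus δ ι π Δ → TB δ ι π D s → TC δ ι π Δ s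

def TDThm : Prop := ∀ {G H X : Type u} [Group G] [Group H] [Group X] [Finite G] {δ : H} {ι : H →* G} {π : H →* X}
  {D : Set X} {Δ : Finset X} {s : X → H}, S2 δ ι π D Δ → TA δ ι π Δ → TB δ ι π D s → TC δ ι π Δ s →
  ∃ N : Subgroup G, N.Normal ∧ N.index = 2 ∧ ∀ g, Commute g (ι δ) → (g ∈ N ↔ g ∈ ι.range)

theorem outF (h1 : SL1Thm.{u}) (h2 : SL2Thm.{u}) (h3 : SL3Thm.{u}) {ρ : SUG U.B →* X} (P : U.PQ ρ) :
    OutF (U.DD ρ) (U.DW ρ) where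
  pres α := (h1 P α).1
  fix7 α a b c d := let ⟨_, hf⟩ := ((h1 P α).2 b).resolve_left a; (h2 P hf c d).2.2.2
  rk α a b c := let ⟨_, hf⟩ := ((h1 P α).2 ⟨1, by simp [b]⟩).resolve_left a; h3 h2 P hf b c

end CL.F3
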