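/-
Recognition of `Fi₂₂` from a 3-centraliser (S3368), 3-local part: definitions and interface statements.
-/
import Cfsg.Agent.Rec.U63Top
import Cfsg.Agent.Rec.F3T2

set_option autoImplicit false

namespace CL.F3

open Subgroup Cfsg CL.Grp CL.G23 CL.Even Equiv
open CL.U63 hiding Mt Mq MS P1Thm WCThm
open scoped Matrix

universe u

abbrev W6 := Fin 3 → V2
abbrev P3 := Perm (Fin 3)
abbrev A3 := Fin 3 → M2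

def β6 (v w : W6) : ZMod 3 := d2 (v 0) (w 0) + d2 (v 1) (w 1) + d2 (v 2) (w 2)
/-- a monomial map -/
def mon (π : P3) (A : A3) (v : W6) : W6 := fun i => A i *ᵥ v (π⁻¹ i)
def tw (π : P3) (A : A3) : A3 := fun i => A (π⁻¹ i)
def sgn (i : Fin 3) : A3 := fun j => if j = i then -1 else 1
def sn (i : Fin 3) (x : V2) : W6 := fun j => if j = i then x else 0
def UU : A3 := fun _ => U0

variable {G : Type u} [Group G]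

def Mt (κ : W6 → G) (c : G) (π : P3) (A : A3) : Prop := ∀ v, c * κ v * c⁻¹ = κ (mon π A v)

def Mq (z : G) (κ : W6 → G) (c : G) (π : P3) (A : A3) : Prop :=
  ∀ v, ∃ k, c * κ v * c⁻¹ = κ (mon π A v) * zp z k

/-- membership in `Q` -/
def InQ (z : G) (κ : W6 → G) (g : G) : Prop := ∃ v k, g = κ v * zp z k

/-- `Q = {κ v * z ^ k}` is extraspecial of order `3⁷`, `R` has order `2⁷`. -/
structure MB (z t : G) (κ : W6 → G) (R : Subgroup G) (r : Fin 3 → G) : Prop where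
  z3 : z ^ 3 = 1
  z1 : z ≠ 1
  kz : ∀ v, κ v * z = z * κ v
  mul : ∀ v w, κ v * κ w = κ (v + w) * zp z (β6 v w)
  inj : ∀ v, κ v ∈ zpowers z → v = 0
  cQ : ∀ g, (∀ v, g * κ v = κ v * g) → g ∈ zpowers z
  tR : t ∈ R
  tk : ∀ v, t * κ v * t⁻¹ = κ (-v)
  Rz : ∀ τ ∈ R, τ * z = z * τ
  Rt : ∀ τ ∈ R, τ * t = t * τ
  R4 : ∀ τ ∈ R, τ ^ 4 = 1
  Ract : ∀ τ ∈ R, ∃ A, (∀ i, Q8m (A i)) ∧ Mt κ τ 1 A
  rR : ∀ i, r i ∈ R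
  ra : ∀ i, Mt κ (r i) 1 (sgn i)
  Rcard : Nat.card R = 128

structure MS0 (z t : G) (κ : W6 → G) (R : Subgroup G) (r : Fin 3 → G) : Prop extends MB z t κ R r where
  nQ : ∀ g ∈ normalizer (zpowers z : Set G), ∀ v, InQ z κ (g * κ v * g⁻¹)
  nP : ∀ g ∈ normalizer (zpowers z : Set G), ∀ τ ∈ R, ∃ q, ∃ τ' ∈ R, InQ z κ q ∧ g * τ * g⁻¹ = q * τ'
  Pmax : ∀ N : Subgroup G, (∀ x ∈ N, x * z = z * x) → (∀ g, g * z = z * g → ∀ x ∈ N, g * x * g⁻¹ ∈ N) →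
    (∀ x ∈ N, InQ z κ (x ^ 4)) → ∀ x ∈ N, ∃ q, ∃ τ ∈ R, InQ z κ q ∧ x = q * τ

structure MS (z t : G) (κ : W6 → G) (R : Subgroup G) (r : Fin 3 → G) : Prop extends MB z t κ R r where
  dec : ∀ g ∈ normalizer (zpowers z : Set G), ∃ v c, c * t = t * c ∧ g = κ v * c
  act : ∀ c ∈ normalizer (zpowers z : Set G), c * t = t * c →
    ∃ π A d, Mt κ c π A ∧ (∀ i, (A i).det = d) ∧ c * z * c⁻¹ = zp z d
  Rmax : ∀ c A, c * z = z * c → Mt κ c 1 A → (∀ i, Q8m (A i)) → ∃ τ ∈ R, Mt κ τ 1 A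

/-- the hypotheses without coordinates -/
structure PM (z t : G) (Q : Subgroup G) (Qi : Fin 3 → Subgroup G) (R : Subgroup G) (r : Fin 3 → G) : Prop where
  z3 : z ^ 3 = 1
  z1 : z ≠ 1
  zi : ∀ i, z ∈ Qi i
  Qz : ∀ q ∈ Q, q * z = z * q
  gen : Qi 0 ⊔ Qi 1 ⊔ Qi 2 = Q
  card : ∀ i, Nat.card (Qi i) = 27
  nab : ∀ i, ∃ a ∈ Qi i, ∃ b ∈ Qi i, a * b ≠ b * a
  com : ∀ a ∈ Q, ∀ b ∈ Q, a * b * a⁻¹ * b⁻¹ ∈ zpowers z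
  cube : ∀ a ∈ Q, a ^ 3 ∈ zpowers z
  cm : ∀ i j, i ≠ j → ∀ a ∈ Qi i, ∀ b ∈ Qi j, a * b = b * a
  cQ : ∀ g, (∀ q ∈ Q, g * q = q * g) → g ∈ zpowers z
  tr : t = r 0 * r 1 * r 2
  rR : ∀ i, r i ∈ R
  r2 : ∀ i, r i * r i = 1
  rc : ∀ i, ∀ τ ∈ R, τ * r i = r i * τ
  rinv : ∀ i, ∀ q ∈ Qi i, r i * q * (r i)⁻¹ * q ∈ zpowers z
  rfix : ∀ i j, i ≠ j → ∀ q ∈ Qi j, r i * q * (r i)⁻¹ * q⁻¹ ∈ zpowers z
  Rz : ∀ τ ∈ R, τ * z = z * τ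
  R4 : ∀ τ ∈ R, τ ^ 4 = 1
  Rn : ∀ τ ∈ R, ∀ i, ∀ q ∈ Qi i, τ * q * τ⁻¹ ∈ Qi i
  Rcard : Nat.card R = 128
  nQ : ∀ g ∈ normalizer (zpowers z : Set G), ∀ q ∈ Q, g * q * g⁻¹ ∈ Q
  nP : ∀ g ∈ normalizer (zpowers z : Set G), ∀ τ ∈ R, ∃ q ∈ Q, ∃ τ' ∈ R, g * τ * g⁻¹ = q * τ'
  Pmax : ∀ N : Subgroup G, (∀ x ∈ N, x * z = z * x) → (∀ g, g * z = z * g → ∀ x ∈ N, g * x * g⁻¹ ∈ N) →
    (∀ x ∈ N, x ^ 4 ∈ Q) → ∀ x ∈ N, ∃ q ∈ Q, ∃ τ ∈ R, x = q * τ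

/-- `Z` is not weakly closed in `C(Z)` -/
def NW (z : G) : Prop := ∃ g, g * z * g⁻¹ * z = z * (g * z * g⁻¹) ∧ g * z * g⁻¹ ∉ zpowers z

/-- `Z` is not weakly closed in `Q` -/
def NWQ (z : G) (κ : W6 → G) : Prop := ∃ g, InQ z κ (g * z * g⁻¹) ∧ g * z * g⁻¹ ∉ zpowers z

/-- some element of `C(z)` permutes the three factors cyclically -/
def Cyc (z : G) (κ : W6 → G) : Prop := ∃ s π A, s * z = z * s ∧ Mq z κ s π A ∧ π ≠ 1 ∧ π ^ 3 = 1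

/-- an element of `C(z)` of order dividing three -/
def T3 (z a : G) : Prop := a * z = z * a ∧ a ^ 3 = 1

/-- 3-elements of `C(z)` modulo `Q` -/
structure W0 (z : G) (κ : W6 → G) : Prop where
  dfact : Cyc z κ → ∀ g A j, g * z = z * g → Mq z κ g 1 A → (∀ i, A i ^ 3 = 1) → A j = 1 → InQ z κ g
  f1 : ∀ a b w, T3 z a → T3 z b → w = a * b * a⁻¹ * b⁻¹ → w * a = a * w → w * b = b * w → InQ z κ w
  f2a : Cyc z κ → ∀ a b c, T3 z a → T3 z b → T3 z c → a * b = b * a → a * c = c * a → b * c = c * b →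
    ∃ i j k : ZMod 3, ¬ (i = 0 ∧ j = 0 ∧ k = 0) ∧ InQ z κ (zp a i * zp b j * zp c k)
  f2b : ∀ a b c d, T3 z a → T3 z b → T3 z c → T3 z d → a * b = b * a → a * c = c * a → b * c = c * b →
    a * d = d * a → b * d = d * b → c * d = d * c →
    ∃ i j k l : ZMod 3, ¬ (i = 0 ∧ j = 0 ∧ k = 0 ∧ l = 0) ∧ InQ z κ (zp a i * zp b j * zp c k * zp d l)
  f2d : ¬ Cyc z κ → ∀ a b c, T3 z a → T3 z b → T3 z c → a * b = b * a → a * c = c * a → b * c = c * b → ∀ m,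
    ∃ i j k : ZMod 3, ¬ (i = 0 ∧ j = 0 ∧ k = 0) ∧ ∃ A, Mq z κ (zp a i * zp b j * zp c k) 1 A ∧ ∀ n, n ≠ m → A n = 1
  l1 : ∀ ρ a A, ρ * z = z * ρ → ρ * ρ = 1 → Mq z κ ρ 1 A → T3 z a → ρ * a * ρ⁻¹ = a⁻¹ → InQ z κ a
  gam : ∀ ρ ρ' a a', ρ * z = z * ρ → ρ' * z = z * ρ' → ρ * ρ = 1 → ρ' * ρ' = 1 → ρ * ρ' = ρ' * ρ → T3 z a → T3 z a' →
    ρ * a * ρ⁻¹ = a⁻¹ → ρ' * a = a * ρ' → ρ' * a' * ρ'⁻¹ = a'⁻¹ → InQ z κ a ∨ InQ z κ a'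

/-- a commuting pair when `Z` is weakly closed in `Q` -/
structure Pr2 (z : G) (κ : W6 → G) (y : G) (κ' : W6 → G) : Prop where
  cm : y * z = z * y
  w : W0 z κ
  w' : W0 y κ'
  yQ : ¬ InQ z κ y
  zQ : ¬ InQ y κ' z
  wz : ∀ g, InQ z κ (g * z * g⁻¹) → g * z * g⁻¹ ∈ zpowers z
  wy : ∀ g, InQ y κ' (g * y * g⁻¹) → g * y * g⁻¹ ∈ zpowers y
  c1 : Cyc z κ → Cyc y κ'
  c2 : Cyc y κ' → Cyc z κ

def Act (z : G) (κ : W6 → G) (y : G) : Prop := ∃ A, Mq z κ y 1 A ∧ ∀ j, A j ≠ 1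

def Good (t : G) (κ : W6 → G) (y : G) : Prop := ∃ w, κ w * y * (κ w)⁻¹ * t = t * (κ w * y * (κ w)⁻¹)

/-- a conjugate `y = κ v` of `z` in `Q`, normalised; `ρ = r' j` -/
structure YM (z t : G) (κ : W6 → G) (y : G) (κ' : W6 → G) (ρ : G) (j : Fin 3) (v v' : W6) : Prop where
  w : W0 z κ
  w' : W0 y κ'
  hy : y = κ v
  hz : z = κ' v'
  vne : ∀ i, v i ≠ 0
  vne' : ∀ i, v' i ≠ 0
  ρt : ρ * t = t * ρ
  ρy : ρ * y = y * ρ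
  ρ2 : ρ * ρ = 1
  ρa : Mt κ' ρ 1 (sgn j)
  cyc : ∃ b π A, InQ y κ' b ∧ b * z = z * b ∧ Mq z κ b π A ∧ π ≠ 1 ∧ π ^ 3 = 1

/-- the action of `c = ρ z ρ⁻¹` -/
structure YB (z t : G) (κ : W6 → G) (c : G) (C : A3) : Prop where
  cz : c * z = z * c
  ct : c * t = t * c
  ca : Mt κ c 1 C
  C1 : ∀ i, C i ≠ 1
  cs : ∃ s π S, s * z = z * s ∧ s * t = t * s ∧ Mt κ s π S ∧ π ≠ 1 ∧ π ^ 3 = 1 ∧ S * tw π C = C * S

structure Y3 (z t : G) (κ : W6 → G) (r : Fin 3 → G) (c : G) : Prop where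
  w : W0 z κ
  cyc : ∃ s π S, s * z = z * s ∧ s * t = t * s ∧ Mt κ s π S ∧ π ≠ 1 ∧ π ^ 3 = 1
  cz : c * z = z * c
  ct : c * t = t * c
  c3 : c ^ 3 = 1
  cU : Mt κ c 1 UU
  nz : ∀ g v k, g * z * g⁻¹ = κ v * zp z k → v = 0 ∨ ∀ i, v i ≠ 0
  nwK : ∃ g, g * r 0 = r 0 * g ∧ (g * z * g⁻¹ = c ∨ g * z * g⁻¹ = c⁻¹)

structure XF (z t : G) (κ : W6 → G) (R : Subgroup G) (r : Fin 3 → G) (c : G) : Prop where
  surj : ∀ A B, Q8m A → Q8m B → ∃ τ ∈ R, ∃ C, Mt κ τ 1 ![C, A, B]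
  ker : ∀ τ ∈ R, ∀ A, Mt κ τ 1 A → A 1 = 1 → A 2 = 1 → τ = 1 ∨ τ = r 0
  base : ∀ d A, d * z = z * d → Mt κ d 1 A → ∃ τ ∈ R, ∃ j k, d = τ * zp c j * zp z k
  com : ∃ τ ∈ R, ∃ τ' ∈ R, r 0 = τ * τ' * τ⁻¹ * τ'⁻¹

/-- a Sylow 3-subgroup of `C(r 0)` -/
def P0 (z c : G) (κ : W6 → G) : Subgroup G := closure ({z, c} ∪ {g | ∃ v, v 0 = 0 ∧ κ v = g})

structure NF (z : G) (κ : W6 → G) (r : Fin 3 → G) (c : G) : Prop where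
  mem : ∀ g, g ∈ P0 z c κ ↔ ∃ v k l, v 0 = 0 ∧ g = κ v * zp z k * zp c l
  card : Nat.card (P0 z c κ) = 729
  syl : IsSylowIn 3 (P0 z c κ) (centralizer {r 0})
  nrm : normalizer (P0 z c κ : Set G) ≤ normalizer (zpowers z : Set G)
  n01 : ¬ IsConj (r 0) (r 0 * r 1)

def emb (w : W4) : W6 := ![0, w.1, w.2]

/-! ### Interface statements -/

def P1Thm : Prop := ∀ {G : Type u} [Group G] [Finite G] (H : Subgroup G) (Q : Subgroup H),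
  Q = generalizedFittingSubgroup H → ∀ [Q.Normal], IsExtraspecial 3 Q → Nat.card Q = 3 ^ 7 →
  (center Q).map Q.subtype = center H → ∀ P : Subgroup H, P = (pCore 2 (H ⧸ Q)).comap (QuotientGroup.mk' Q) →
  Nat.card (pCore 2 (H ⧸ Q)) = 2 ^ 7 → ∀ Q₁ Q₂ Q₃ : Subgroup H, Q₁ ≤ Q ∧ Q₂ ≤ Q ∧ Q₃ ≤ Q →
  center H ≤ Q₁ ∧ center H ≤ Q₂ ∧ center H ≤ Q₃ → IsExtraspecial 3 Q₁ ∧ IsExtraspecial 3 Q₂ ∧ IsExtraspecial 3 Q₃ →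
  Nat.card Q₁ = 27 ∧ Nat.card Q₂ = 27 ∧ Nat.card Q₃ = 27 →
  (∀ a ∈ Q₁, ∀ b ∈ Q₂, a * b = b * a) ∧ (∀ a ∈ Q₁, ∀ b ∈ Q₃, a * b = b * a) ∧ (∀ a ∈ Q₂, ∀ b ∈ Q₃, a * b = b * a) →
  Q₁ ⊔ Q₂ ⊔ Q₃ = Q → (∀ x ∈ P, ∀ Qᵢ ∈ [Q₁, Q₂, Q₃], ∀ q ∈ Qᵢ, x * q * x⁻¹ ∈ Qᵢ) →
  (∀ x ∈ P, ∀ Qᵢ ∈ [Q₁, Q₂, Q₃], ∀ q ∈ Qᵢ, x ^ 4 * q * (x ^ 4)⁻¹ * q⁻¹ ∈ center H) →
  (∀ Qᵢ ∈ [Q₁, Q₂, Q₃], ∃ x ∈ P, (∀ q ∈ Qᵢ, x * q * x⁻¹ * q ∈ center H) ∧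
    ∀ Qⱼ ∈ [Q₁, Q₂, Q₃], Qⱼ ≠ Qᵢ → ∀ q ∈ Qⱼ, x * q * x⁻¹ * q⁻¹ ∈ center H) →
  ∀ Z : Subgroup G, Z = (center H).map H.subtype → H = centralizer (Z : Set G) →
  ∃ (z t : G) (Qi : Fin 3 → Subgroup G) (R : Subgroup G) (r : Fin 3 → G), PM z t (Q.map H.subtype) Qi R r ∧
    Z = zpowers z

def PKThm : Prop := ∀ {G : Type u} [Group G] [Finite G] {z t : G} {Q R : Subgroup G} {Qi : Fin 3 → Subgroup G}
  {r : Fin 3 → G}, PM z t Q Qi R r → ∃ κ : W6 → G, MS0 z t κ R r ∧ ∀ v, κ v ∈ Q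

def P2Thm : Prop := ∀ {G : Type u} [Group G] [Finite G] {z t : G} {κ : W6 → G} {R : Subgroup G} {r : Fin 3 → G},
  MS0 z t κ R r → MS z t κ R r

def W0Thm : Prop := ∀ {G : Type u} [Group G] [Finite G] {z t : G} {κ : W6 → G} {R : Subgroup G} {r : Fin 3 → G},
  MS z t κ R r → W0 z κ

def WAThm : Prop := ∀ {G : Type u} [Group G] [Finite G] {z t y t' : G} {κ κ' : W6 → G} {R R' : Subgroup G}
  {r r' : Fin 3 → G}, MS z t κ R r → MS y t' κ' R' r' → Pr2 z κ y κ' → ∀ A j, Mq z κ y 1 A → A j ≠ 1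

def WCThm : Prop := ∀ {G : Type u} [Group G] [Finite G] {z t y t' : G} {κ κ' : W6 → G} {R R' : Subgroup G}
  {r r' : Fin 3 → G}, MS z t κ R r → MS y t' κ' R' r' → Pr2 z κ y κ' → ∃ A, Mq z κ y 1 A

def WBThm : Prop := ∀ {G : Type u} [Group G] [Finite G] {z t y t' : G} {κ κ' : W6 → G} {R R' : Subgroup G}
  {r r' : Fin 3 → G}, MS z t κ R r → MS y t' κ' R' r' → Pr2 z κ y κ' → Act z κ y → Act y κ' z → Good t κ y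

def WGThm : Prop := ∀ {G : Type u} [Group G] [Finite G] {z t y t' : G} {κ κ' : W6 → G} {R R' : Subgroup G}
  {r r' : Fin 3 → G}, MS z t κ R r → MS y t' κ' R' r' → Pr2 z κ y κ' → Act z κ y → Act y κ' z → Good t κ y →
  Good t' κ' z → False

def Y1Thm : Prop := ∀ {G : Type u} [Group G] [Finite G] {z t y t' : G} {κ κ' : W6 → G} {R R' : Subgroup G}
  {r r' : Fin 3 → G}, MS z t κ R r → MS y t' κ' R' r' → W0 z κ → W0 y κ' → InQ z κ y → y ∉ zpowers z →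
  InQ y κ' z ∧ (∃ b π A, InQ y κ' b ∧ b * z = z * b ∧ Mq z κ b π A ∧ π ≠ 1 ∧ π ^ 3 = 1) ∧
    ∀ v k, y = κ v * zp z k → ∀ i, v i ≠ 0

def YAThm : Prop := W0Thm.{u} → Y1Thm.{u} → ∀ {G : Type u} [Group G] [Finite G] {z t : G} {κ : W6 → G}
  {R : Subgroup G} {r : Fin 3 → G}, MS z t κ R r → NWQ z κ →
  ∃ y t' κ' R' r' ρ j v v', MS y t' κ' R' r' ∧ YM z t κ y κ' ρ j v v'

def YBThm : Prop := ∀ {G : Type u} [Group G] [Finite G] {z t y t' ρ : G} {κ κ' : W6 → G} {R R' : Subgroup G}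
  {r r' : Fin 3 → G} {j : Fin 3} {v v' : W6}, MS z t κ R r → MS y t' κ' R' r' → YM z t κ y κ' ρ j v v' →
  ∃ C, YB z t κ (ρ * z * ρ⁻¹) C

def YCThm : Prop := ∀ {G : Type u} [Group G] [Finite G] {z t y t' ρ : G} {κ κ' : W6 → G} {R R' : Subgroup G}
  {r r' : Fin 3 → G} {j : Fin 3} {v v' : W6} {C : A3}, MS z t κ R r → MS y t' κ' R' r' → YM z t κ y κ' ρ j v v' →
  YB z t κ (ρ * z * ρ⁻¹) C → ∃ l, ρ * r l = r l * ρ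

def XThm : Prop := ∀ {G : Type u} [Group G] [Finite G] {z t c : G} {κ : W6 → G} {R : Subgroup G} {r : Fin 3 → G},
  MS z t κ R r → Y3 z t κ r c → XF z t κ R r c

def NFThm : Prop := ∀ {G : Type u} [Group G] [Finite G] {z t c : G} {κ : W6 → G} {R : Subgroup G} {r : Fin 3 → G},
  MS z t κ R r → Y3 z t κ r c → NF z κ r c

def NTThm : Prop := ∀ {G : Type u} [Group G] [Finite G] {z t c : G} {κ : W6 → G} {R : Subgroup G} {r : Fin 3 → G},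
  MS z t κ R r → Y3 z t κ r c → NF z κ r c → ¬ IsConj (r 0) t

def OUTThm : Prop := ∀ {G : Type u} [Group G] [Finite G] {z t c : G} {κ : W6 → G} {R : Subgroup G} {r : Fin 3 → G},
  MS z t κ R r → Y3 z t κ r c → NF z κ r c → ∀ L : Subgroup G, L ≤ centralizer {r 0} →
  L.relIndex (centralizer {r 0}) = 2 → P0 z c κ ≤ L → R ≤ L → ∃ s, s * s = 1 ∧ s * r 0 = r 0 * s ∧ s ∉ L

def KMThm : Prop := ∀ {G : Type u} [Group G] [Finite G] {z t c : G} {κ : W6 → G} {R : Subgroup G} {r : Fin 3 → G},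
  MS z t κ R r → Y3 z t κ r c → XF z t κ R r c → ∀ {K X : Type u} [Group K] [Group X] (ι : K →* G) (π : K →* X)
  (δ z' t' : K) (κ' : W4 → K), Function.Injective ι → (∀ g, g * r 0 = r 0 * g ↔ g ∈ ι.range) → CL.MT.Ext δ π →
  ι δ = r 0 → ι z' = z → ι t' = t → (∀ w, ι (κ' w) = κ (emb w)) →
  CL.U63.MS (π z') (π t') (fun w => π (κ' w)) ((R.comap ι).map π)

end CL.F3
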