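/-
Recognition of `Fi₂₂` from a 3-centraliser (S3368), 3-local part: basic lemmas.
-/
import Cfsg.Agent.Rec.F3Defs
import Cfsg.Agent.Rec.U63Bt

set_option autoImplicit false

namespace CL.F3

open Subgroup Cfsg CL.Grp CL.G23 CL.Even Equiv
open CL.U63 hiding Mt Mq MS P1Thm WCThm
open scoped Matrix

universe u

variable {G : Type u} [Group G]

section mon

theorem β6_self (v : W6) : β6 v v = 0 := by simp only [β6, d2]; ring

theorem β6_swap (v w : W6) : β6 w v = -β6 v w := by simp only [β6, d2]; ring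

theorem β6_zero (v : W6) : β6 v 0 = 0 := by simp [β6, d2]

theorem β6_zero' (v : W6) : β6 0 v = 0 := by simp [β6, d2]

theorem β6_neg (v w : W6) : β6 v (-w) = -β6 v w := by simp only [β6, d2, Pi.neg_apply]; ring

theorem β6_neg' (v w : W6) : β6 (-v) w = -β6 v w := by simp only [β6, d2, Pi.neg_apply]; ring

theorem β6_add (u v w : W6) : β6 u (v + w) = β6 u v + β6 u w := by simp only [β6, d2, Pi.add_apply]; ring

theorem β6_add' (u v w : W6) : β6 (u + v) w = β6 u w + β6 v w := by simp only [β6, d2, Pi.add_apply]; ring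

theorem β6_smul (k : ZMod 3) (v w : W6) : β6 v (k • w) = k * β6 v w := by
  simp only [β6, d2, Pi.smul_apply, smul_eq_mul]; ring

theorem β6_smul' (k : ZMod 3) (v w : W6) : β6 (k • v) w = k * β6 v w := by
  simp only [β6, d2, Pi.smul_apply, smul_eq_mul]; ring

theorem β6_sn (v : W6) (i : Fin 3) (x : V2) : β6 v (sn i x) = d2 (v i) x := by
  fin_cases i <;> simp [β6, sn, d2]

theorem β6_sn' (v : W6) (i : Fin 3) (x : V2) : β6 (sn i x) v = d2 x (v i) := by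
  fin_cases i <;> simp [β6, sn, d2]

theorem sn_self (i : Fin 3) (x : V2) : sn i x i = x := if_pos rfl

theorem sn_ne {i j : Fin 3} (h : j ≠ i) (x : V2) : sn i x j = 0 := if_neg h

theorem sn_zero (i : Fin 3) : sn i 0 = 0 := funext fun _ => ite_self _

theorem sn_add (i : Fin 3) (x y : V2) : sn i (x + y) = sn i x + sn i y := funext fun j => by
  simp only [sn, Pi.add_apply]; split_ifs <;> simp

theorem sn_neg (i : Fin 3) (x : V2) : sn i (-x) = -sn i x := funext fun j => by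
  simp only [sn, Pi.neg_apply]; split_ifs <;> simp

theorem sn_smul (i : Fin 3) (k : ZMod 3) (x : V2) : sn i (k • x) = k • sn i x := funext fun j => by
  simp only [sn, Pi.smul_apply]; split_ifs <;> simp

theorem sn_sum (v : W6) : v = sn 0 (v 0) + sn 1 (v 1) + sn 2 (v 2) := funext fun j => by
  fin_cases j <;> simp [sn]

theorem add3 (v : W6) : v + v = -v := by
  ext i j
  exact (by decide : ∀ a : ZMod 3, a + a = -a) _

theorem neg_eq (v : W6) (h : -v = v) : v = 0 := by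
  ext i j
  exact (by decide : ∀ a : ZMod 3, -a = a → a = 0) _ (congrFun (congrFun h i) j)

theorem exists_β6 {v : W6} (h : v ≠ 0) (k : ZMod 3) : ∃ w, β6 w v = k := by
  obtain ⟨i, hi⟩ := Function.ne_iff.1 h
  obtain ⟨x, hx⟩ := (by decide : ∀ y : V2, y ≠ 0 → ∀ k, ∃ x, d2 x y = k) _ hi k
  exact ⟨sn i x, by rw [β6_sn', hx]⟩

theorem tw_one (A : A3) : tw 1 A = A := rfl

theorem tw_one' (π : P3) : tw π 1 = 1 := rfl

theorem tw_mul (π : P3) (A B : A3) : tw π (A * B) = tw π A * tw π B := rfl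

theorem tw_tw (π π' : P3) (A : A3) : tw π (tw π' A) = tw (π * π') A := rfl

theorem tw_UU (π : P3) : tw π UU = UU := rfl

theorem tw_sgn (π : P3) (i : Fin 3) : tw π (sgn i) = sgn (π i) := funext fun j => by
  simp only [tw, sgn, Perm.inv_eq_iff_eq]

theorem sgn_comm (i : Fin 3) (A : A3) : sgn i * A = A * sgn i := funext fun j => by
  simp only [sgn, Pi.mul_apply]; split_ifs <;> simp

theorem sgn_spec : (∀ i, sgn i * sgn i = 1) ∧ sgn 0 * sgn 1 * sgn 2 = -1 ∧ (∀ i j, sgn i = sgn j → i = j) ∧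
    ∀ i j, Q8m (sgn i j) := by
  simp only [Q8m, Matrix.det_fin_two]
  decide +kernel

theorem mon_one (v : W6) : mon 1 1 v = v := funext fun i => Matrix.one_mulVec _

theorem mon_base (A : A3) (v : W6) (i : Fin 3) : mon 1 A v i = A i *ᵥ v i := rfl

theorem mon_mon (π π' : P3) (A A' : A3) (v : W6) : mon π A (mon π' A' v) = mon (π * π') (A * tw π A') v :=
  funext fun _ => Matrix.mulVec_mulVec _ _ _

theorem mon_add (π : P3) (A : A3) (v w : W6) : mon π A (v + w) = mon π A v + mon π A w :=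
  funext fun _ => Matrix.mulVec_add _ _ _

theorem mon_neg (π : P3) (A : A3) (v : W6) : mon π A (-v) = -mon π A v :=
  funext fun _ => Matrix.mulVec_neg _ _

theorem mon_smul (π : P3) (A : A3) (k : ZMod 3) (v : W6) : mon π A (k • v) = k • mon π A v :=
  funext fun i => Matrix.mulVec_smul (A i) k (v (π⁻¹ i))

theorem mon_zero (π : P3) (A : A3) : mon π A 0 = 0 := funext fun _ => Matrix.mulVec_zero _

theorem mon_sn (π : P3) (A : A3) (i : Fin 3) (x : V2) : mon π A (sn i x) = sn (π i) (A (π i) *ᵥ x) :=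
  funext fun j => by
    simp only [mon, sn, Perm.inv_eq_iff_eq]
    split_ifs with e
    · rw [e]
    · exact Matrix.mulVec_zero _

theorem mon_neg_one (v : W6) : mon 1 (-1) v = -v := funext fun i => by
  simp [mon, Matrix.neg_mulVec]

theorem mon_sgn (i : Fin 3) (v : W6) : mon 1 (sgn i) v = v + sn i (v i) := funext fun j => by
  simp only [mon_base, sgn, sn, Pi.add_apply]
  split_ifs with e
  · rw [e, Matrix.neg_mulVec, Matrix.one_mulVec]
    exact (congrFun (add3 v) i).symm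
  · rw [Matrix.one_mulVec, add_zero]

theorem mulVec_ne : ∀ A : M2, A.det ≠ 0 → ∀ x : V2, x ≠ 0 → A *ᵥ x ≠ 0 := by
  simp only [Matrix.det_fin_two]
  decide +kernel

theorem d2_mulVec (A : M2) (x y : V2) : d2 (A *ᵥ x) (A *ᵥ y) = A.det * d2 x y := by
  simp only [d2, Matrix.det_fin_two, Matrix.mulVec, dotProduct, Fin.sum_univ_two]; ring

theorem β6_mon {π : P3} {A : A3} {d : ZMod 3} (h : ∀ i, (A i).det = d) (v w : W6) :
    β6 (mon π A v) (mon π A w) = d * β6 v w := by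
  have e : ∀ v w : W6, β6 v w = ∑ i, d2 (v i) (w i) := fun v w => by rw [Fin.sum_univ_three]; rfl
  simp only [e, mon, d2_mulVec, h, Finset.mul_sum]
  exact Equiv.sum_comp π⁻¹ fun i => d * d2 (v i) (w i)

theorem mon_inj {π π' : P3} {A A' : A3} (hA : ∀ i, (A i).det ≠ 0) (h : ∀ v, mon π A v = mon π' A' v) :
    π = π' ∧ A = A' := by
  obtain rfl : π = π' := Equiv.ext fun i => by
    by_contra e
    have := congrFun (h (sn i e0)) (π i)
    rw [mon_sn, mon_sn, sn_self, sn_ne e] at this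
    exact mulVec_ne _ (hA _) e0 (by decide) this
  exact ⟨rfl, funext fun i => m2_ext (congrFun (h fun _ => e0) i) (congrFun (h fun _ => f0) i)⟩

set_option synthInstance.maxSize 2000 in
/-- elements of order three of `SL₂(3)` -/
theorem m3_frame : ∀ A : M2, A ^ 3 = 1 → A ≠ 1 → ∃ e f : V2, ∃ ε : ZMod 3, ε ≠ 0 ∧ e ≠ 0 ∧ d2 e f = 1 ∧ A *ᵥ e = e ∧
    A *ᵥ f = f + ε • e ∧ ∀ x, A *ᵥ x = x → ∃ k : ZMod 3, x = k • e := by decide +kernel

theorem p3_fix : ∀ π : P3, π ^ 3 = 1 → ∀ i, π i = i → π = 1 := by decide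

theorem p3_trans : ∀ π : P3, π ≠ 1 → π ^ 3 = 1 → ∀ i j, ∃ m < 3, (π ^ m) i = j := by decide

end mon

section Mt

variable {z c c' g g' : G} {κ : W6 → G} {π π' : P3} {A A' : A3}

theorem Mt.one (κ : W6 → G) : Mt κ 1 1 1 := fun v => by simp [mon_one]

theorem Mt.mul (h : Mt κ c π A) (h' : Mt κ c' π' A') : Mt κ (c * c') (π * π') (A * tw π A') := fun v => by
  rw [← mon_mon, ← h, ← h']; group

theorem Mt.mul' (h : Mt κ c 1 A) (h' : Mt κ c' 1 A') : Mt κ (c * c') 1 (A * A') := h.mul h'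

theorem Mt.pow (h : Mt κ c 1 A) : ∀ n : ℕ, Mt κ (c ^ n) 1 (A ^ n)
  | 0 => by simpa using Mt.one κ
  | n + 1 => by simpa [pow_succ] using (Mt.pow h n).mul' h

theorem Mt.pow' (h : Mt κ c π A) : ∀ n : ℕ, ∃ B, Mt κ (c ^ n) (π ^ n) B
  | 0 => ⟨1, by simpa using Mt.one κ⟩
  | n + 1 => let ⟨_, e⟩ := Mt.pow' h n; ⟨_, by simpa [pow_succ] using e.mul h⟩

theorem Mt.inv (h : Mt κ c π A) (hA : A * tw π A' = 1) : Mt κ c⁻¹ π⁻¹ A' := fun v => by
  have := h (mon π⁻¹ A' v)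
  rw [mon_mon, hA, mul_inv_cancel, mon_one] at this
  rw [← this]; group

theorem Mt.inv' (h : Mt κ c 1 A) (hA : A * A' = 1) : Mt κ c⁻¹ 1 A' := h.inv hA

theorem Mt.mq (h : Mt κ c π A) (z : G) : Mq z κ c π A := fun v => ⟨0, by rw [h, zp_zero, mul_one]⟩

theorem Mt.comm (h : Mt κ c π A) {v : W6} (e : mon π A v = v) : c * κ v = κ v * c :=
  mul_inv_eq_iff_eq_mul.1 (by rw [h, e])

theorem Mq.mul (h3 : z ^ 3 = 1) {d : ZMod 3} (hg : g * z * g⁻¹ = zp z d) (h : Mq z κ g π A) (h' : Mq z κ g' π' A') :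
    Mq z κ (g * g') (π * π') (A * tw π A') := fun v => by
  obtain ⟨k', e'⟩ := h' v
  obtain ⟨k, e⟩ := h (mon π' A' v)
  refine ⟨k + k' * d, ?_⟩
  rw [← mon_mon, zp_add h3, ← mul_assoc, ← e, ← zp_conj h3 hg, show g * g' * κ v * (g * g')⁻¹ =
    g * (g' * κ v * g'⁻¹) * g⁻¹ by group, e']
  group

theorem Mq.mulc (h3 : z ^ 3 = 1) (hg : g * z = z * g) (h : Mq z κ g π A) (h' : Mq z κ g' π' A') :
    Mq z κ (g * g') (π * π') (A * tw π A') :=
  h.mul h3 (d := 1) (by rw [hg, zp_one, mul_inv_cancel_right]) h'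

theorem Mq.mul' (h3 : z ^ 3 = 1) (hg : g * z = z * g) (h : Mq z κ g 1 A) (h' : Mq z κ g' 1 A') :
    Mq z κ (g * g') 1 (A * A') := by simpa only [mul_one, tw_one] using h.mulc h3 hg h'

theorem Mq.pow (h3 : z ^ 3 = 1) (hg : g * z = z * g) (h : Mq z κ g 1 A) : ∀ n : ℕ, Mq z κ (g ^ n) 1 (A ^ n)
  | 0 => by simpa using (Mt.one κ).mq z
  | n + 1 => by simpa [pow_succ'] using h.mul' h3 hg (Mq.pow h3 hg h n)

theorem Mq.pow' (h3 : z ^ 3 = 1) (hg : g * z = z * g) (h : Mq z κ g π A) : ∀ n : ℕ, ∃ B, Mq z κ (g ^ n) (π ^ n) B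
  | 0 => ⟨1, by simpa using (Mt.one κ).mq z⟩
  | n + 1 => let ⟨_, e⟩ := Mq.pow' h3 hg h n; ⟨_, by simpa [pow_succ'] using h.mulc h3 hg e⟩

theorem Mq.inv (h3 : z ^ 3 = 1) (hg : g * z = z * g) (h : Mq z κ g π A) (hA : A * tw π A' = 1) :
    Mq z κ g⁻¹ π⁻¹ A' := fun v => by
  obtain ⟨k, e⟩ := h (mon π⁻¹ A' v)
  rw [mon_mon, hA, mul_inv_cancel, mon_one] at e
  refine ⟨-k, ?_⟩
  rw [zp_neg h3, eq_mul_inv_iff_mul_eq, inv_inv, mul_assoc, zp_comm hg, ← mul_assoc, mul_assoc _ _ (zp z k), ← e]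
  group

theorem inQ_conj (g a : G) : InQ (g * z * g⁻¹) (fun v => g * κ v * g⁻¹) (g * a * g⁻¹) ↔ InQ z κ a :=
  exists₂_congr fun v k => by rw [← zp_cj, conj_mul, mul_left_inj, mul_right_inj]

theorem mt_conj (g a : G) : Mt (fun v => g * κ v * g⁻¹) (g * a * g⁻¹) π A ↔ Mt κ a π A :=
  forall_congr' fun v => by rw [conj_mul, conj_inv, conj_mul, mul_left_inj, mul_right_inj]

theorem mq_conj (g a : G) : Mq (g * z * g⁻¹) (fun v => g * κ v * g⁻¹) (g * a * g⁻¹) π A ↔ Mq z κ a π A :=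
  forall_congr' fun v => exists_congr fun k => by
    rw [conj_mul, conj_inv, conj_mul, ← zp_cj, conj_mul, mul_left_inj, mul_right_inj]

theorem cyc_conj (g : G) : Cyc (g * z * g⁻¹) (fun v => g * κ v * g⁻¹) ↔ Cyc z κ :=
  ⟨fun ⟨s, π, A, h1, h2, h3⟩ => ⟨g⁻¹ * s * g, π, A, BTJ.cm_of_conj (g := g) (by simpa [mul_assoc] using h1),
    (mq_conj g _).1 (by simpa [mul_assoc] using h2), h3⟩,
    fun ⟨s, π, A, h1, h2, h3⟩ => ⟨_, π, A, BTJ.cm_conj g h1, (mq_conj g s).2 h2, h3⟩⟩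

theorem Pr2.symm {y : G} {κ' : W6 → G} (h : Pr2 z κ y κ') : Pr2 y κ' z κ :=
  ⟨h.cm.symm, h.w', h.w, h.zQ, h.yQ, h.wy, h.wz, h.c2, h.c1⟩

end Mt

namespace MB

variable {z t c c' g g' a b : G} {κ : W6 → G} {R : Subgroup G} {r : Fin 3 → G} {π π' : P3} {A A' : A3}
  (h : MB z t κ R r)
include h

theorem k0 : κ 0 = 1 := by simpa [β6_zero, zp_zero] using h.mul 0 0

theorem kinv (v : W6) : (κ v)⁻¹ = κ (-v) :=
  inv_eq_of_mul_eq_one_right (by rw [h.mul, add_neg_cancel, β6_neg, β6_self, neg_zero, h.k0, zp_zero, mul_one])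

theorem kzp (v : W6) (k : ZMod 3) : κ v * zp z k = zp z k * κ v := zp_comm (h.kz v) k

theorem kadd {v w : W6} (e : β6 v w = 0) : κ (v + w) = κ v * κ w := by rw [h.mul, e, zp_zero, mul_one]

theorem k3 (v : W6) : κ v ^ 3 = 1 := by
  rw [pow_succ, sq, ← h.kadd (β6_self v), add3, ← h.kinv, inv_mul_cancel]

theorem ksmul (k : ZMod 3) (v : W6) : κ (k • v) = zp (κ v) k := by
  rcases (by decide : ∀ k : ZMod 3, k = 0 ∨ k = 1 ∨ k = -1) k with rfl | rfl | rfl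
  · rw [zero_smul, h.k0, zp_zero]
  · rw [one_smul, zp_one]
  · rw [neg_one_smul, zp_neg_one (h.k3 v), h.kinv]

theorem kk (v w : W6) : κ v * κ w * (κ v)⁻¹ = κ w * zp z (2 * β6 v w) := by
  rw [mul_inv_eq_iff_eq_mul, h.mul, mul_assoc, ← h.kzp, ← mul_assoc, h.mul, mul_assoc, ← zp_add h.z3, add_comm w,
    β6_swap v w]
  congr 2
  ring

theorem kcomm {v w : W6} (e : β6 v w = 0) : κ v * κ w = κ w * κ v := by
  rw [← h.kadd e, ← h.kadd (by rw [β6_swap, e, neg_zero]), add_comm]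

theorem keq {v w : W6} {k l : ZMod 3} (e : κ v * zp z k = κ w * zp z l) : v = w ∧ k = l := by
  have e1 : κ (-w + v) * zp z (β6 (-w) v + k) = zp z l := by
    rw [zp_add h.z3, ← mul_assoc, ← h.mul, mul_assoc, e, ← h.kinv, inv_mul_cancel_left]
  have e2 : v = w := (neg_add_eq_zero.1 (h.inj _ ((mul_mem_cancel_right (zp_mem z _)).1 (e1 ▸ zp_mem z l)))).symm
  subst e2
  exact ⟨rfl, zp_inj h.z3 h.z1 (mul_left_cancel e)⟩

theorem k_inj {v w : W6} (e : κ v = κ w) : v = w := (h.keq (k := 0) (l := 0) (by rw [e])).1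

theorem β_of_comm {v w : W6} (e : κ v * κ w = κ w * κ v) : β6 v w = 0 := by
  rw [h.mul, h.mul, add_comm w, β6_swap v w] at e
  exact (by decide : ∀ a : ZMod 3, a = -a → a = 0) _ (h.keq e).2

theorem tz : t * z = z * t := h.Rz t h.tR

theorem rz (i : Fin 3) : r i * z = z * r i := h.Rz _ (h.rR i)

theorem rt (i : Fin 3) : r i * t = t * r i := h.Rt _ (h.rR i)

theorem kq (u : W6) : Mq z κ (κ u) 1 1 := fun v => ⟨_, by rw [h.kk, mon_one]⟩

theorem zq (k : ZMod 3) : Mt κ (zp z k) 1 1 := fun v => by rw [← h.kzp, mul_inv_cancel_right, mon_one]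

theorem tm : Mt κ t 1 (-1) := fun v => by rw [h.tk, mon_neg_one]

theorem inQ_k (v : W6) : InQ z κ (κ v) := ⟨v, 0, by rw [zp_zero, mul_one]⟩

theorem inQ_zp (k : ZMod 3) : InQ z κ (zp z k) := ⟨0, k, by rw [h.k0, one_mul]⟩

theorem inQ_z : InQ z κ z := by simpa [zp_one] using h.inQ_zp 1

theorem inQ_mul (ha : InQ z κ a) (hb : InQ z κ b) : InQ z κ (a * b) := by
  obtain ⟨v, k, rfl⟩ := ha
  obtain ⟨w, l, rfl⟩ := hb
  exact ⟨v + w, β6 v w + k + l, by
    rw [mul_assoc, ← mul_assoc (zp z k), ← h.kzp, mul_assoc, ← mul_assoc, h.mul, zp_add h.z3, zp_add h.z3]; group⟩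

theorem inQ_inv (ha : InQ z κ a) : InQ z κ a⁻¹ := by
  obtain ⟨v, k, rfl⟩ := ha
  exact ⟨-v, -k, by rw [mul_inv_rev, h.kinv, ← zp_neg h.z3, h.kzp]⟩

/-- the subgroup `Q` -/
def QQ : Subgroup G where
  carrier := {g | InQ z κ g}
  one_mem' := by simpa [zp_zero] using h.inQ_zp 0
  mul_mem' := h.inQ_mul
  inv_mem' := h.inQ_inv

theorem inQ_cz (ha : InQ z κ a) : a * z = z * a := by
  obtain ⟨v, k, rfl⟩ := ha
  exact (Commute.mul_left (h.kz v) (zp_comm rfl k : Commute z _).symm).eq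

theorem inQ_cube (ha : InQ z κ a) : a ^ 3 = 1 := by
  obtain ⟨v, k, rfl⟩ := ha
  rw [(show Commute (κ v) (zp z k) from h.kzp v k).mul_pow, h.k3, zp_cube h.z3, mul_one]

theorem inQ_mq (ha : InQ z κ a) : Mq z κ a 1 1 := by
  obtain ⟨v, k, rfl⟩ := ha
  simpa using (h.kq v).mul' h.z3 (h.kz v) ((h.zq k).mq z)

theorem inQ_com (ha : InQ z κ a) (hb : InQ z κ b) : ∃ k, a * b * a⁻¹ = b * zp z k := by
  obtain ⟨v, k, rfl⟩ := hb
  obtain ⟨l, e⟩ := h.inQ_mq ha v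
  refine ⟨l, ?_⟩
  rw [← conj_mul, e, mon_one, zp_comm (h.inQ_cz ha), mul_inv_cancel_right, mul_assoc, mul_assoc, ← zp_add h.z3,
    ← zp_add h.z3, add_comm]

/-- `Q ∩ C(t) = Z` -/
theorem inQ_t (ha : InQ z κ a) (e : a * t = t * a) : ∃ k, a = zp z k := by
  obtain ⟨v, k, rfl⟩ := ha
  have e1 : κ (-v) * zp z k = κ v * zp z k := by
    rw [← h.tk, mul_assoc, (show Commute t (zp z k) from zp_comm h.tz k).inv_left.eq, ← mul_assoc, mul_assoc t, ← e,
      mul_inv_cancel_right]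
  exact ⟨k, by rw [neg_eq v (h.keq e1).1, h.k0, one_mul]⟩

/-- elements with the same matrices differ by a power of `z` -/
theorem mt_eq (h1 : Mt κ c π A) (h2 : Mt κ c' π A) : ∃ k, c = c' * zp z k := by
  obtain ⟨k, e⟩ := (mem_zp h.z3).1 (h.cQ (c'⁻¹ * c) fun v => by
    have := (h1 v).trans (h2 v).symm
    calc c'⁻¹ * c * κ v = c'⁻¹ * (c * κ v * c⁻¹) * c := by group
      _ = _ := by rw [this]; group)
  exact ⟨k, by rw [← e, mul_inv_cancel_left]⟩

theorem triv_t (h1 : Mt κ c 1 1) : ∃ k, c = zp z k := by simpa using h.mt_eq h1 (Mt.one κ)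

theorem four {k : ZMod 3} (hc : c * z = z * c) (h1 : c ^ 4 = 1) (h2 : (c * zp z k) ^ 4 = 1) : k = 0 := by
  rw [(show Commute c (zp z k) from zp_comm hc k).mul_pow, h1, one_mul, zp_pow h.z3] at h2
  have := zp_eq_one h.z3 h.z1 h2
  revert this
  generalize k = k
  revert k
  decide

/-- uniqueness for elements of order dividing four -/
theorem eq_of_four (hz : c' * z = z * c') (h1 : c ^ 4 = 1) (h2 : c' ^ 4 = 1) (m1 : Mt κ c π A) (m2 : Mt κ c' π A) :
    c = c' := by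
  obtain ⟨k, e⟩ := h.mt_eq m1 m2
  rw [e, h.four (k := k) hz h2 (e ▸ h1), zp_zero, mul_one]

theorem R_inj (h1 : c ∈ R) (h2 : c' ∈ R) (m1 : Mt κ c π A) (m2 : Mt κ c' π A) : c = c' :=
  h.eq_of_four (h.Rz _ h2) (h.R4 _ h1) (h.R4 _ h2) m1 m2

theorem t2 : t * t = 1 := h.R_inj (mul_mem h.tR h.tR) (one_mem _) (by simpa using h.tm.mul' h.tm) (Mt.one κ)

theorem r2 (i : Fin 3) : r i * r i = 1 :=
  h.R_inj (mul_mem (h.rR i) (h.rR i)) (one_mem _) (sgn_spec.1 i ▸ (h.ra i).mul' (h.ra i)) (Mt.one κ)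

theorem tr : t = r 0 * r 1 * r 2 := h.R_inj h.tR (mul_mem (mul_mem (h.rR 0) (h.rR 1)) (h.rR 2)) h.tm
  (sgn_spec.2.1 ▸ ((h.ra 0).mul' (h.ra 1)).mul' (h.ra 2))

/-- conjugation of `r i` -/
theorem r_conj {d : ZMod 3} (hz : c * z * c⁻¹ = zp z d) (m : Mt κ c π A) (i : Fin 3) : c * r i * c⁻¹ = r (π i) := by
  have m1 := m.mul (h.ra i)
  have m2 := (h.ra (π i)).mul m
  rw [tw_sgn, mul_one] at m1
  rw [tw_one, one_mul, sgn_comm] at m2
  obtain ⟨k, e⟩ := h.mt_eq m1 m2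
  have e1 : c * r i * c⁻¹ = r (π i) * zp z (k * d) := by rw [e, ← zp_conj h.z3 hz]; group
  have r4 : ∀ i, r i ^ 4 = 1 := fun i => h.R4 _ (h.rR i)
  rw [e1, h.four (k := k * d) (h.rz _) (r4 _) (by rw [← e1, conj_pow, r4]; group), zp_zero, mul_one]

theorem r_conj' (hz : c * z = z * c) (m : Mt κ c π A) (i : Fin 3) : c * r i * c⁻¹ = r (π i) :=
  h.r_conj (d := 1) (by rw [hz, zp_one, mul_inv_cancel_right]) m i

theorem r_comm (hz : c * z = z * c) (m : Mt κ c 1 A) (i : Fin 3) : c * r i = r i * c :=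
  mul_inv_eq_iff_eq_mul.1 (h.r_conj' hz m i)

theorem rr (i j : Fin 3) : r i * r j = r j * r i := h.r_comm (h.rz i) (h.ra i) j

theorem r_inj {i j : Fin 3} (e : r i = r j) : i = j := sgn_spec.2.2.1 i j (mon_inj
  (fun k => by rw [(sgn_spec.2.2.2 i k).1]; decide) fun v => h.k_inj (((h.ra i) v).symm.trans (e ▸ h.ra j v))).2

theorem ct_eq {v w : W6} (hc : c * t = t * c) (hc' : c' * t = t * c') (e : κ v * c = κ w * c') : v = w ∧ c = c' := by
  have e1 : κ (-w + v) * zp z (β6 (-w) v) = c' * c⁻¹ := by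
    rw [← h.mul, ← h.kinv, eq_mul_inv_iff_mul_eq, mul_assoc, e, inv_mul_cancel_left]
  obtain ⟨k, e2⟩ := h.inQ_t ⟨_, _, e1.symm⟩ (Commute.mul_left hc' (Commute.inv_left hc)).eq
  rw [e2, ← one_mul (zp z k), ← h.k0] at e1
  obtain rfl := neg_add_eq_zero.1 (h.keq e1).1
  exact ⟨rfl, mul_left_cancel e⟩

/-- an element `κ v * c` commuting with `a ∈ C(t)` -/
theorem comm_parts {v : W6} (hc : c * t = t * c) (ha : a * t = t * a) (m : Mt κ a π A)
    (e : a * (κ v * c) = κ v * c * a) : mon π A v = v ∧ a * c = c * a := by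
  have := h.ct_eq (v := mon π A v) (w := v) (c := a * c * a⁻¹)
    (Commute.mul_left (Commute.mul_left ha hc) (Commute.inv_left ha)).eq hc
    (by rw [← m, conj_mul, e, mul_inv_cancel_right])
  exact ⟨this.1, mul_inv_eq_iff_eq_mul.1 this.2⟩

theorem comm_r {v : W6} (hc : c * t = t * c) (i : Fin 3) (e : r i * (κ v * c) = κ v * c * r i) :
    v i = 0 ∧ r i * c = c * r i := by
  obtain ⟨h1, h2⟩ := h.comm_parts hc (h.rt i) (h.ra i) e
  rw [mon_sgn, add_eq_left] at h1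
  exact ⟨by simpa [sn_self] using congrFun h1 i, h2⟩

theorem mq_uniq (hA : ∀ i, (A i).det ≠ 0) (h1 : Mq z κ g π A) (h2 : Mq z κ g π' A') : π = π' ∧ A = A' :=
  mon_inj hA fun v => by
    obtain ⟨k, e⟩ := h1 v
    obtain ⟨l, e'⟩ := h2 v
    exact (h.keq (e.symm.trans e')).1

theorem mq_one (h1 : Mq z κ g 1 1) (h2 : Mq z κ g π A) : π = 1 ∧ A = 1 :=
  let e := h.mq_uniq (fun _ => by simp) h1 h2; ⟨e.1.symm, e.2.symm⟩

theorem kmq (v : W6) (h1 : Mq z κ g π A) : Mq z κ (κ v * g) π A := by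
  simpa [tw_one] using (h.kq v).mulc h.z3 (h.kz v) h1

/-- an element of `C(t)` acts exactly -/
theorem mt_of_mq (hc : c * t = t * c) (h1 : Mq z κ c π A) : Mt κ c π A := fun v => by
  obtain ⟨k, e⟩ := h1 v
  have e1 : t * (c * κ v * c⁻¹) * t⁻¹ = (c * κ v * c⁻¹)⁻¹ := by
    rw [conj_inv, h.kinv, ← h.tk, ← mul_assoc, ← mul_assoc, ← hc, mul_assoc _ c⁻¹, ← mul_inv_rev, ← hc]; group
  rw [e, ← conj_mul, h.tk, zp_comm h.tz, mul_inv_cancel_right, mul_inv_rev, h.kinv, ← zp_neg h.z3, ← h.kzp] at e1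
  rw [e, (by decide : ∀ k : ZMod 3, k = -k → k = 0) k (h.keq e1).2, zp_zero, mul_one]

theorem det_ne {d : ZMod 3} (e : g * z * g⁻¹ = zp z d) : d ≠ 0 := by
  rintro rfl
  exact h.z1 (by simpa [zp_zero] using e)

/-- conjugation of `c` by an element of `Q` -/
theorem conj_k (m : Mt κ c π A) (x : W6) :
    κ x * c * (κ x)⁻¹ = κ (x - mon π A x) * zp z (-β6 x (mon π A x)) * c := by
  rw [sub_eq_add_neg, ← β6_neg, ← h.mul, ← mon_neg, ← m, h.kinv]; group

end MB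

end CL.F3
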