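/-
Recognition of `Fi₂₂` from a 3-centraliser (S3368), 3-local part: normal forms and changes of frame.
-/
import Cfsg.Agent.Rec.F3Base

set_option autoImplicit false

namespace CL.F3

open Subgroup Cfsg CL.Grp CL.G23 CL.Even Equiv
open CL.U63 hiding Mt Mq MS P1Thm WCThm
open scoped Matrix

universe u

variable {G : Type u} [Group G]

theorem m_three {n : ℕ} (A : M2) (h1 : A.det = 1) (h2 : A ^ 3 ^ n = 1) : A ^ 3 = 1 := by
  have h3 := (pow_gcd_eq_one (m := 12) (n := 3 ^ n)).2 ⟨m_12 A h1, h2⟩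
  have h4 : Nat.gcd 12 (3 ^ n) ∣ 3 := by
    have : Nat.Coprime (Nat.gcd 12 (3 ^ n)) 4 :=
      (Nat.Coprime.pow_left n (by decide : Nat.Coprime 3 4)).coprime_dvd_left (Nat.gcd_dvd_right _ _)
    exact this.dvd_of_dvd_mul_left (show _ ∣ 4 * 3 from Nat.gcd_dvd_left _ _)
  exact orderOf_dvd_iff_pow_eq_one.1 ((orderOf_dvd_of_pow_eq_one h3).trans h4)

theorem p3_three {n : ℕ} (π : P3) (h : π ^ 3 ^ n = 1) : π ^ 3 = 1 := by
  rcases (by decide : ∀ π : P3, π ^ 3 = 1 ∨ π ^ 2 = 1) π with e | e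
  · exact e
  · obtain ⟨j, hj⟩ : Odd (3 ^ n) := Odd.pow (by decide)
    rw [hj, pow_succ, pow_mul, e, one_pow, one_mul] at h
    rw [h, one_pow]

theorem m_inv : ∀ A : M2, A.det ≠ 0 → ∃ B : M2, A * B = 1 ∧ B * A = 1 ∧ B.det = A.det := by
  simp only [Matrix.det_fin_two]
  decide +kernel

theorem q8_conj {A P P' : M2} (h : Q8m A) (e : P * P' = 1) (e' : P' * P = 1) : Q8m (P' * A * P) := by
  refine ⟨by rw [Matrix.det_mul, Matrix.det_mul, h.1, mul_one, ← Matrix.det_mul, e', Matrix.det_one], ?_⟩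
  have := h.2
  simp only [pow_succ, pow_zero, one_mul, mul_assoc] at this ⊢
  simp only [← mul_assoc P, e, one_mul]
  rw [show A * (A * (A * (A * P))) = A * (A * (A * A)) * P by simp only [mul_assoc], this, one_mul, e']

namespace MS

variable {z t c c' g g' a : G} {κ : W6 → G} {R : Subgroup G} {r : Fin 3 → G} {π π' : P3} {A A' : A3}
  (h : MS z t κ R r)
include h

section
variable [Finite G]

/-- normal form in `N(z)` -/
theorem nf (hg : g ∈ normalizer (zpowers z : Set G)) : ∃ v c π A d, g = κ v * c ∧ c * t = t * c ∧ Mt κ c π A ∧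
    (∀ i, (A i).det = d) ∧ d ≠ 0 ∧ c * z * c⁻¹ = zp z d ∧ g * z * g⁻¹ = zp z d ∧ Mq z κ g π A := by
  obtain ⟨v, c, hc, rfl⟩ := h.dec g hg
  obtain ⟨π, A, d, h1, h2, h3⟩ := h.act c ((mul_mem_cancel_left (CL.U63.MS.nz (h.kz v))).1 hg) hc
  refine ⟨v, c, π, A, d, rfl, hc, h1, h2, h.det_ne h3, h3, ?_, h.kmq v (h1.mq z)⟩
  rw [show κ v * c * z * (κ v * c)⁻¹ = κ v * (c * z * c⁻¹) * (κ v)⁻¹ by group, h3, h.kzp, mul_inv_cancel_right]

/-- normal form in `C(z)` -/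
theorem nfc (hg : g * z = z * g) : ∃ v c π A, g = κ v * c ∧ c * t = t * c ∧ c * z = z * c ∧ Mt κ c π A ∧
    (∀ i, (A i).det = 1) ∧ Mq z κ g π A := by
  obtain ⟨v, c, π, A, d, h1, h2, h3, h4, -, h6, h7, h8⟩ := h.nf (CL.U63.MS.nz hg)
  obtain rfl : d = 1 := zp_inj h.z3 h.z1 (by rw [← h7, hg, zp_one, mul_inv_cancel_right])
  rw [zp_one] at h6
  exact ⟨v, c, π, A, h1, h2, mul_inv_eq_iff_eq_mul.1 h6, h3, h4, h8⟩

theorem det_one (hg : g * z = z * g) (h1 : Mq z κ g π A) (i : Fin 3) : (A i).det = 1 := by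
  obtain ⟨v, c, π', A', -, -, -, -, h4, h5⟩ := h.nfc hg
  exact (h.mq_uniq (fun i => by rw [h4]; decide) h5 h1).2 ▸ h4 i

theorem uniq (hg : g * z = z * g) (h1 : Mq z κ g π A) (h2 : Mq z κ g π' A') : π = π' ∧ A = A' :=
  h.mq_uniq (fun i => by rw [h.det_one hg h1]; decide) h1 h2

/-- normal form with given matrices -/
theorem nfq (hg : g * z = z * g) (h1 : Mq z κ g π A) : ∃ v c, g = κ v * c ∧ c * t = t * c ∧ c * z = z * c ∧
    Mt κ c π A := by
  obtain ⟨v, c, π', A', h2, h3, h4, h5, -, h6⟩ := h.nfc hg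
  obtain ⟨rfl, rfl⟩ := h.uniq hg h1 h6
  exact ⟨v, c, h2, h3, h4, h5⟩

/-- normal form in `C(z) ∩ C(t)` -/
theorem nft (hz : c * z = z * c) (hc : c * t = t * c) : ∃ π A, Mt κ c π A ∧ ∀ i, (A i).det = 1 := by
  obtain ⟨-, -, π, A, -, -, -, -, h4, h5⟩ := h.nfc hz
  exact ⟨π, A, h.mt_of_mq hc h5, h4⟩

theorem triv_q (hg : g * z = z * g) (h1 : Mq z κ g 1 1) : InQ z κ g := by
  obtain ⟨v, c, rfl, -, -, h3⟩ := h.nfq hg h1
  obtain ⟨k, rfl⟩ := h.triv_t h3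
  exact ⟨v, k, rfl⟩

/-- `Q` is normal in `N(z)` -/
theorem inQ_norm (hg : g ∈ normalizer (zpowers z : Set G)) (ha : InQ z κ a) : InQ z κ (g * a * g⁻¹) := by
  obtain ⟨v, k, rfl⟩ := ha
  obtain ⟨-, -, π, A, d, -, -, -, -, -, -, h1, h2⟩ := h.nf hg
  rw [← conj_mul, zp_conj h.z3 h1]
  exact h.inQ_mul ⟨_, _, (h2 v).choose_spec⟩ (h.inQ_zp _)

theorem inQ_normc (hg : g * z = z * g) (ha : InQ z κ a) : InQ z κ (g * a * g⁻¹) := h.inQ_norm (CL.U63.MS.nz hg) ha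

/-- the matrices of a 3-element -/
theorem three (hg : g * z = z * g) {n : ℕ} (hn : g ^ 3 ^ n = 1) (h1 : Mq z κ g π A) :
    π ^ 3 = 1 ∧ (π = 1 → ∀ i, A i ^ 3 = 1) := by
  obtain ⟨B, h2⟩ := h1.pow' h.z3 hg (3 ^ n)
  rw [hn] at h2
  refine ⟨p3_three π (h.mq_one ((Mt.one κ).mq z) h2).1, ?_⟩
  rintro rfl i
  have h3 := h1.pow h.z3 hg (3 ^ n)
  rw [hn] at h3
  exact m_three _ (h.det_one hg h1 i) (congrFun (h.mq_one ((Mt.one κ).mq z) h3).2 i)

theorem three' (hg : T3 z g) (h1 : Mq z κ g π A) : π ^ 3 = 1 ∧ (π = 1 → ∀ i, A i ^ 3 = 1) :=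
  h.three hg.1 (n := 1) hg.2 h1

/-- a 3-element of `N(z)` centralises `z` -/
theorem three_cz (hg : g ∈ normalizer (zpowers z : Set G)) {n : ℕ} (hn : g ^ 3 ^ n = 1) : g * z = z * g := by
  rcases tri3 h.z3 (mem_nz.1 hg) with e | e | e
  · exact absurd (conj_eq_one_iff.1 e) h.z1
  · exact mul_inv_eq_iff_eq_mul.1 e
  · have e2 : g * g * z = z * (g * g) := by
      rw [← mul_inv_eq_iff_eq_mul, show g * g * z * (g * g)⁻¹ = g * (g * z * g⁻¹) * g⁻¹ by group, e, ← conj_inv, e, inv_inv]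
    obtain ⟨j, hj⟩ : Odd (3 ^ n) := Odd.pow (by decide)
    rw [hj, pow_succ, pow_mul, sq] at hn
    rw [← inv_eq_of_mul_eq_one_right hn]
    exact ((Commute.pow_left e2 j).inv_left).eq

end

theorem conj (g : G) : MS (g * z * g⁻¹) (g * t * g⁻¹) (fun v => g * κ v * g⁻¹) (cj g R) fun i => g * r i * g⁻¹ := by
  have k1 : ∀ {a b : G}, a * (g * b * g⁻¹) = g * b * g⁻¹ * a → g⁻¹ * a * g * b = b * (g⁻¹ * a * g) := fun {a b} e =>
    BTJ.cm_of_conj (g := g) (by simpa [mul_assoc] using e)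
  have k2 : ∀ {a b : G}, g⁻¹ * a * g * b = b * (g⁻¹ * a * g) → a * (g * b * g⁻¹) = g * b * g⁻¹ * a := fun {a b} e => by
    simpa [mul_assoc] using BTJ.cm_conj g e
  have kz : ∀ {a : G}, a ∈ zpowers (g * z * g⁻¹) ↔ g⁻¹ * a * g ∈ zpowers z := fun {a} => by
    rw [mem_zp h.z3, mem_zp (by rw [conj_pow, h.z3]; group)]
    exact exists_congr fun k => by rw [← zp_cj]; constructor <;> intro e <;> [rw [e]; rw [← e]] <;> group
  have kn : ∀ {a : G}, a ∈ normalizer (zpowers (g * z * g⁻¹) : Set G) → g⁻¹ * a * g ∈ normalizer (zpowers z : Set G) :=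
    fun {a} ha => mem_normalizer_iff.2 fun x => by
      have := mem_normalizer_iff.1 ha (g * x * g⁻¹)
      simp only [SetLike.mem_coe, kz] at this ⊢
      simpa [mul_assoc] using this
  have km : ∀ {a π A}, Mt (fun v => g * κ v * g⁻¹) a π A ↔ Mt κ (g⁻¹ * a * g) π A := fun {a π A} => by
    rw [← mt_conj g (g⁻¹ * a * g)]; simp only [mul_assoc, mul_inv_cancel_left, mul_inv_cancel, mul_one]
  refine ⟨⟨by rw [conj_pow, h.z3]; group, fun e => h.z1 (by simpa using e), fun v => BTJ.cm_conj g (h.kz v),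
    fun v w => ?_, fun v e => h.inj v (by simpa [mul_assoc] using kz.1 e), fun a e => kz.2 (h.cQ _ fun v => k1 (e v)),
    conj_mem_cj g h.tR, fun v => by simp only [← h.tk v]; group, fun τ hτ => k2 (h.Rz _ (mem_cj.1 hτ)),
    fun τ hτ => k2 (h.Rt _ (mem_cj.1 hτ)), fun τ hτ => ?_, fun τ hτ => ?_, fun i => conj_mem_cj g (h.rR i),
    fun i => (mt_conj g _).2 (h.ra i), (card_map_of_injective (MulAut.conj g).injective).trans h.Rcard⟩,
    fun a ha => ?_, fun a ha e => ?_, fun c A e m hA => ?_⟩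
  · rw [conj_mul, h.mul, ← zp_cj, conj_mul]
  · have := h.R4 _ (mem_cj.1 hτ)
    rw [show g⁻¹ * τ * g = g⁻¹ * τ * g⁻¹⁻¹ by group, conj_pow] at this
    exact conj_eq_one_iff.1 this
  · obtain ⟨A, h1, h3⟩ := h.Ract _ (mem_cj.1 hτ)
    exact ⟨A, h1, km.2 h3⟩
  · obtain ⟨v, c, h1, h2⟩ := h.dec _ (kn ha)
    exact ⟨v, g * c * g⁻¹, BTJ.cm_conj g h1, by rw [conj_mul, ← h2]; group⟩
  · obtain ⟨π, A, d, h1, h2, h3⟩ := h.act _ (kn ha) (k1 e)
    exact ⟨π, A, d, km.2 h1, h2, by rw [← zp_cj, ← h3]; group⟩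
  · obtain ⟨τ, h1, h2⟩ := h.Rmax _ A (k1 e) (km.1 m) hA
    exact ⟨_, conj_mem_cj g h1, (mt_conj g _).2 h2⟩

/-- conjugation of the frame by an element of `C(z)` -/
theorem conjC (hg : g * z = z * g) :
    MS z (g * t * g⁻¹) (fun v => g * κ v * g⁻¹) (cj g R) fun i => g * r i * g⁻¹ := by
  simpa only [hg, mul_inv_cancel_right] using h.conj g

/-- conjugation of the frame by an element of `Q` -/
theorem conjQ (w : W6) :
    MS z (κ w * t * (κ w)⁻¹) (fun v => κ w * κ v * (κ w)⁻¹) (cj (κ w) R) fun i => κ w * r i * (κ w)⁻¹ :=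
  h.conjC (h.kz w)

theorem inQ_conjQ (w : W6) : InQ z (fun v => κ w * κ v * (κ w)⁻¹) a ↔ InQ z κ a := by
  simp only [InQ, h.kk, mul_assoc, ← zp_add h.z3]
  exact exists_congr fun v => ⟨fun ⟨_, e⟩ => ⟨_, e⟩, fun ⟨k, e⟩ => ⟨k - 2 * β6 w v, by rw [e, add_sub_cancel]⟩⟩

theorem mq_conjQ (w : W6) (hg : g * z = z * g) : Mq z (fun v => κ w * κ v * (κ w)⁻¹) g π A ↔ Mq z κ g π A := by
  refine forall_congr' fun v => ?_
  simp only [h.kk]
  rw [← conj_mul, zp_comm hg, mul_inv_cancel_right]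
  constructor <;> rintro ⟨k, e⟩
  · exact ⟨2 * β6 w (mon π A v) + k - 2 * β6 w v, by
      rw [sub_eq_add_neg, zp_add h.z3, zp_add h.z3, zp_neg h.z3, ← mul_assoc, ← mul_assoc, ← e, mul_inv_cancel_right]⟩
  · exact ⟨k + 2 * β6 w v - 2 * β6 w (mon π A v), by
      rw [e, mul_assoc, mul_assoc, ← zp_add h.z3, ← zp_add h.z3, add_sub_cancel]⟩

omit h in
theorem mt_reframe {P P' : A3} (e : P * P' = 1) (m : Mt κ c π A) :
    Mt (fun v => κ (mon 1 P v)) c π (P' * A * tw π P) := fun v => by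
  simp only [m _, mon_mon, tw_one, mul_one, one_mul, ← mul_assoc, e]

/-- change of basis in the three factors -/
theorem reframe {P P' : A3} (hP : ∀ i, (P i).det = 1) (e : P * P' = 1) (e' : P' * P = 1) :
    MS z t (fun v => κ (mon 1 P v)) R r := by
  have k1 : ∀ v, mon 1 P (mon 1 P' v) = v := fun v => by rw [mon_mon, tw_one, e, mul_one, mon_one]
  have k2 : ∀ v, mon 1 P' (mon 1 P v) = v := fun v => by rw [mon_mon, tw_one, e', mul_one, mon_one]
  have hP' : ∀ i, (P' i).det = 1 := fun i => by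
    simpa [hP] using congrArg Matrix.det (congrFun e i)
  refine ⟨⟨h.z3, h.z1, fun v => h.kz _, fun v w => by rw [h.mul, β6_mon hP, one_mul, mon_add],
    fun v hv => by rw [← k2 v, h.inj _ hv, mon_zero], fun g hg => h.cQ g fun v => by simpa only [k1] using hg (mon 1 P' v),
    h.tR, fun v => by rw [h.tk, mon_neg], h.Rz, h.Rt, h.R4, fun τ hτ => ?_, h.rR, fun i => ?_, h.Rcard⟩,
    fun g hg => ?_, fun c hc ht => ?_, fun c A hc m hA => ?_⟩
  · obtain ⟨A, h1, h2⟩ := h.Ract τ hτ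
    exact ⟨_, fun i => q8_conj (h1 i) (congrFun e i) (congrFun e' i), mt_reframe e h2⟩
  · simpa only [tw_one, ← sgn_comm, mul_assoc, e', mul_one] using mt_reframe e (h.ra i)
  · obtain ⟨v, c, h1, h2⟩ := h.dec g hg
    exact ⟨mon 1 P' v, c, h1, by rw [k1, h2]⟩
  · obtain ⟨π, A, d, h1, h2, h3⟩ := h.act c hc ht
    exact ⟨π, _, d, mt_reframe e h1, fun i => by simp [tw, hP, hP', h2], h3⟩
  · have m' := mt_reframe e' m
    simp only [k1] at m'
    obtain ⟨τ, h1, h2⟩ := h.Rmax c _ hc m' fun i => q8_conj (hA i) (congrFun e' i) (congrFun e i)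
    exact ⟨τ, h1, by simpa only [tw_one, ← mul_assoc, e', one_mul, mul_assoc _ P' P, mul_one] using mt_reframe e h2⟩

end MS

end CL.F3
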