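/-
Recognition of `²E₆(2)` from a 3-centraliser (S3337), part 0: the normaliser of `z`.
-/
import Cfsg.Agent.Rec.F3Base2
import Cfsg.Agent.Rec.U63P1a

set_option autoImplicit false

namespace CL.E63

open Subgroup Cfsg CL.Grp CL.G23 CL.Even Equiv
open CL.U63 hiding Mt Mq MS P1Thm WCThm
open CL.F3 hiding MB MS0 MS PM P1Thm PKThm P2Thm
open scoped Matrix

universe u

variable {G : Type u} [Group G]

/-- `Q = {κ v * z ^ k}` is extraspecial of order `3⁷`, `R = Q₈ × Q₈ × Q₈`. -/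
structure MB (z t : G) (κ : W6 → G) (R : Subgroup G) (r : Fin 3 → G) : Prop where
  z3 : z ^ 3 = 1
  z1 : z ≠ 1
  kz : ∀ v, κ v * z = z * κ v
  mul : ∀ v w, κ v * κ w = κ (v + w) * zp z (β6 v w)
  inj : ∀ v, κ v ∈ zpowers z → v = 0
  cQ : ∀ g, (∀ v, g * κ v = κ v * g) → g ∈ zpowers z
  tR : t ∈ R
  tk : ∀ v, t * κ v * t⁻¹ = κ (-v)
  Rz : ∀ τ ∈ R, τ * z = z * τ
  Rt : ∀ τ ∈ R, τ * t = t * τ
  R4 : ∀ τ ∈ R, τ ^ 4 = 1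
  Ract : ∀ τ ∈ R, ∃ A, (∀ i, Q8m (A i)) ∧ Mt κ τ 1 A
  rR : ∀ i, r i ∈ R
  ra : ∀ i, Mt κ (r i) 1 (sgn i)
  Rcard : Nat.card R = 512

structure MS0 (z t : G) (κ : W6 → G) (R : Subgroup G) (r : Fin 3 → G) : Prop extends MB z t κ R r where
  nQ : ∀ g ∈ normalizer (zpowers z : Set G), ∀ v, InQ z κ (g * κ v * g⁻¹)
  nP : ∀ g ∈ normalizer (zpowers z : Set G), ∀ τ ∈ R, ∃ q, ∃ τ' ∈ R, InQ z κ q ∧ g * τ * g⁻¹ = q * τ'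

structure MS (z t : G) (κ : W6 → G) (R : Subgroup G) (r : Fin 3 → G) : Prop extends MB z t κ R r where
  dec : ∀ g ∈ normalizer (zpowers z : Set G), ∃ v c, c * t = t * c ∧ g = κ v * c
  act : ∀ c ∈ normalizer (zpowers z : Set G), c * t = t * c →
    ∃ π A d, Mt κ c π A ∧ (∀ i, (A i).det = d) ∧ c * z * c⁻¹ = zp z d

/-- the hypotheses without coordinates -/
structure PM (z t : G) (Q : Subgroup G) (Qi : Fin 3 → Subgroup G) (R : Subgroup G) (r : Fin 3 → G) : Prop where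
  z3 : z ^ 3 = 1
  z1 : z ≠ 1
  zi : ∀ i, z ∈ Qi i
  Qz : ∀ q ∈ Q, q * z = z * q
  gen : Qi 0 ⊔ Qi 1 ⊔ Qi 2 = Q
  card : ∀ i, Nat.card (Qi i) = 27
  nab : ∀ i, ∃ a ∈ Qi i, ∃ b ∈ Qi i, a * b ≠ b * a
  com : ∀ a ∈ Q, ∀ b ∈ Q, a * b * a⁻¹ * b⁻¹ ∈ zpowers z
  cube : ∀ a ∈ Q, a ^ 3 ∈ zpowers z
  cm : ∀ i j, i ≠ j → ∀ a ∈ Qi i, ∀ b ∈ Qi j, a * b = b * a
  cQ : ∀ g, (∀ q ∈ Q, g * q = q * g) → g ∈ zpowers z
  tr : t = r 0 * r 1 * r 2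
  rR : ∀ i, r i ∈ R
  r2 : ∀ i, r i * r i = 1
  rc : ∀ i, ∀ τ ∈ R, τ * r i = r i * τ
  rinv : ∀ i, ∀ q ∈ Qi i, r i * q * (r i)⁻¹ * q ∈ zpowers z
  rfix : ∀ i j, i ≠ j → ∀ q ∈ Qi j, r i * q * (r i)⁻¹ * q⁻¹ ∈ zpowers z
  Rz : ∀ τ ∈ R, τ * z = z * τ
  R4 : ∀ τ ∈ R, τ ^ 4 = 1
  Rn : ∀ τ ∈ R, ∀ i, ∀ q ∈ Qi i, τ * q * τ⁻¹ ∈ Qi i
  Rcard : Nat.card R = 512
  nQ : ∀ g ∈ normalizer (zpowers z : Set G), ∀ q ∈ Q, g * q * g⁻¹ ∈ Q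
  nP : ∀ g ∈ normalizer (zpowers z : Set G), ∀ τ ∈ R, ∃ q ∈ Q, ∃ τ' ∈ R, g * τ * g⁻¹ = q * τ'

/-- the hypotheses before the choice of the three factors; `E` is the centre of `R` -/
structure PA (z : G) (Q R E : Subgroup G) : Prop where
  z3 : z ^ 3 = 1
  z1 : z ≠ 1
  zQ : z ∈ Q
  Qz : ∀ q ∈ Q, q * z = z * q
  card : Nat.card Q = 3 ^ 7
  com : ∀ a ∈ Q, ∀ b ∈ Q, a * b * a⁻¹ * b⁻¹ ∈ zpowers z
  cube : ∀ a ∈ Q, a ^ 3 ∈ zpowers z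
  cQ : ∀ g, (∀ q ∈ Q, g * q = q * g) → g ∈ zpowers z
  ER : E ≤ R
  Ecard : Nat.card E = 8
  E2 : ∀ e ∈ E, e * e = 1
  Ec : ∀ e ∈ E, ∀ τ ∈ R, τ * e = e * τ
  Rz : ∀ τ ∈ R, τ * z = z * τ
  R4 : ∀ τ ∈ R, τ ^ 4 = 1
  Rcard : Nat.card R = 512
  nQ : ∀ g ∈ normalizer (zpowers z : Set G), ∀ q ∈ Q, g * q * g⁻¹ ∈ Q
  nP : ∀ g ∈ normalizer (zpowers z : Set G), ∀ τ ∈ R, ∃ q ∈ Q, ∃ τ' ∈ R, g * τ * g⁻¹ = q * τ'

def P0Thm : Prop := ∀ {G : Type u} [Group G] [Finite G] (H : Subgroup G) (Q : Subgroup H),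
  Q = generalizedFittingSubgroup H → ∀ [Q.Normal], IsExtraspecial 3 Q → Nat.card Q = 3 ^ 7 →
  (center Q).map Q.subtype = center H →
  Nonempty (pCore 2 (H ⧸ Q) ≃* QuaternionGroup 2 × QuaternionGroup 2 × QuaternionGroup 2) →
  ∀ Z : Subgroup G, Z = (center H).map H.subtype → H = centralizer (Z : Set G) →
  ∃ (z : G) (R E : Subgroup G), PA z (Q.map H.subtype) R E ∧ Z = zpowers z ∧
    Q.map H.subtype ≤ (pCore 3 H).map H.subtype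

def P1Thm : Prop := ∀ {G : Type u} [Group G] [Finite G] {z : G} {Q R E : Subgroup G}, PA z Q R E →
  ∃ (t : G) (Qi : Fin 3 → Subgroup G) (r : Fin 3 → G), PM z t Q Qi R r

def PKThm : Prop := ∀ {G : Type u} [Group G] [Finite G] {z t : G} {Q R : Subgroup G} {Qi : Fin 3 → Subgroup G}
  {r : Fin 3 → G}, PM z t Q Qi R r → ∃ κ : W6 → G, MS0 z t κ R r ∧ ∀ v, κ v ∈ Q

def P2Thm : Prop := ∀ {G : Type u} [Group G] [Finite G] {z t : G} {κ : W6 → G} {R : Subgroup G} {r : Fin 3 → G},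
  MS0 z t κ R r → MS z t κ R r

end CL.E63
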