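/-
Recognition of `²E₆(2)` from a 3-centraliser (S3337): basic lemmas (copied from `F3Base`, `F3Base2`).
-/
import Cfsg.Agent.Rec.E63Defs

set_option autoImplicit false

namespace CL.E63

open Subgroup Cfsg CL.Grp CL.G23 CL.Even Equiv
open CL.U63 hiding Mt Mq MS P1Thm WCThm
open CL.F3 hiding MB MS0 MS PM P1Thm PKThm P2Thm
open scoped Matrix

universe u

variable {G : Type u} [Group G]

namespace MB

variable {z t c c' g g' a b : G} {κ : W6 → G} {R : Subgroup G} {r : Fin 3 → G} {π π' : P3} {A A' : A3}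
  (h : MB z t κ R r)
include h

theorem k0 : κ 0 = 1 := by simpa [β6_zero, zp_zero] using h.mul 0 0

theorem kinv (v : W6) : (κ v)⁻¹ = κ (-v) :=
  inv_eq_of_mul_eq_one_right (by rw [h.mul, add_neg_cancel, β6_neg, β6_self, neg_zero, h.k0, zp_zero, mul_one])

theorem kzp (v : W6) (k : ZMod 3) : κ v * zp z k = zp z k * κ v := zp_comm (h.kz v) k

theorem kadd {v w : W6} (e : β6 v w = 0) : κ (v + w) = κ v * κ w := by rw [h.mul, e, zp_zero, mul_one]

theorem k3 (v : W6) : κ v ^ 3 = 1 := by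
  rw [pow_succ, sq, ← h.kadd (β6_self v), add3, ← h.kinv, inv_mul_cancel]

theorem ksmul (k : ZMod 3) (v : W6) : κ (k • v) = zp (κ v) k := by
  rcases (by decide : ∀ k : ZMod 3, k = 0 ∨ k = 1 ∨ k = -1) k with rfl | rfl | rfl
  · rw [zero_smul, h.k0, zp_zero]
  · rw [one_smul, zp_one]
  · rw [neg_one_smul, zp_neg_one (h.k3 v), h.kinv]

theorem kk (v w : W6) : κ v * κ w * (κ v)⁻¹ = κ w * zp z (2 * β6 v w) := by
  rw [mul_inv_eq_iff_eq_mul, h.mul, mul_assoc, ← h.kzp, ← mul_assoc, h.mul, mul_assoc, ← zp_add h.z3, add_comm w,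
    β6_swap v w]
  congr 2
  ring

theorem kcomm {v w : W6} (e : β6 v w = 0) : κ v * κ w = κ w * κ v := by
  rw [← h.kadd e, ← h.kadd (by rw [β6_swap, e, neg_zero]), add_comm]

theorem keq {v w : W6} {k l : ZMod 3} (e : κ v * zp z k = κ w * zp z l) : v = w ∧ k = l := by
  have e1 : κ (-w + v) * zp z (β6 (-w) v + k) = zp z l := by
    rw [zp_add h.z3, ← mul_assoc, ← h.mul, mul_assoc, e, ← h.kinv, inv_mul_cancel_left]
  have e2 : v = w := (neg_add_eq_zero.1 (h.inj _ ((mul_mem_cancel_right (zp_mem z _)).1 (e1 ▸ zp_mem z l)))).symm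
  subst e2
  exact ⟨rfl, zp_inj h.z3 h.z1 (mul_left_cancel e)⟩

theorem k_inj {v w : W6} (e : κ v = κ w) : v = w := (h.keq (k := 0) (l := 0) (by rw [e])).1

theorem β_of_comm {v w : W6} (e : κ v * κ w = κ w * κ v) : β6 v w = 0 := by
  rw [h.mul, h.mul, add_comm w, β6_swap v w] at e
  exact (by decide : ∀ a : ZMod 3, a = -a → a = 0) _ (h.keq e).2

theorem tz : t * z = z * t := h.Rz t h.tR

theorem rz (i : Fin 3) : r i * z = z * r i := h.Rz _ (h.rR i)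

theorem rt (i : Fin 3) : r i * t = t * r i := h.Rt _ (h.rR i)

theorem kq (u : W6) : Mq z κ (κ u) 1 1 := fun v => ⟨_, by rw [h.kk, mon_one]⟩

theorem zq (k : ZMod 3) : Mt κ (zp z k) 1 1 := fun v => by rw [← h.kzp, mul_inv_cancel_right, mon_one]

theorem tm : Mt κ t 1 (-1) := fun v => by rw [h.tk, mon_neg_one]

theorem inQ_k (v : W6) : InQ z κ (κ v) := ⟨v, 0, by rw [zp_zero, mul_one]⟩

theorem inQ_zp (k : ZMod 3) : InQ z κ (zp z k) := ⟨0, k, by rw [h.k0, one_mul]⟩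

theorem inQ_z : InQ z κ z := by simpa [zp_one] using h.inQ_zp 1

theorem inQ_mul (ha : InQ z κ a) (hb : InQ z κ b) : InQ z κ (a * b) := by
  obtain ⟨v, k, rfl⟩ := ha
  obtain ⟨w, l, rfl⟩ := hb
  exact ⟨v + w, β6 v w + k + l, by
    rw [mul_assoc, ← mul_assoc (zp z k), ← h.kzp, mul_assoc, ← mul_assoc, h.mul, zp_add h.z3, zp_add h.z3]; group⟩

theorem inQ_inv (ha : InQ z κ a) : InQ z κ a⁻¹ := by
  obtain ⟨v, k, rfl⟩ := ha
  exact ⟨-v, -k, by rw [mul_inv_rev, h.kinv, ← zp_neg h.z3, h.kzp]⟩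

/-- the subgroup `Q` -/
def QQ : Subgroup G where
  carrier := {g | InQ z κ g}
  one_mem' := by simpa [zp_zero] using h.inQ_zp 0
  mul_mem' := h.inQ_mul
  inv_mem' := h.inQ_inv

theorem inQ_cz (ha : InQ z κ a) : a * z = z * a := by
  obtain ⟨v, k, rfl⟩ := ha
  exact (Commute.mul_left (h.kz v) (zp_comm rfl k : Commute z _).symm).eq

theorem inQ_cube (ha : InQ z κ a) : a ^ 3 = 1 := by
  obtain ⟨v, k, rfl⟩ := ha
  rw [(show Commute (κ v) (zp z k) from h.kzp v k).mul_pow, h.k3, zp_cube h.z3, mul_one]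

theorem inQ_mq (ha : InQ z κ a) : Mq z κ a 1 1 := by
  obtain ⟨v, k, rfl⟩ := ha
  simpa using (h.kq v).mul' h.z3 (h.kz v) ((h.zq k).mq z)

theorem inQ_com (ha : InQ z κ a) (hb : InQ z κ b) : ∃ k, a * b * a⁻¹ = b * zp z k := by
  obtain ⟨v, k, rfl⟩ := hb
  obtain ⟨l, e⟩ := h.inQ_mq ha v
  refine ⟨l, ?_⟩
  rw [← conj_mul, e, mon_one, zp_comm (h.inQ_cz ha), mul_inv_cancel_right, mul_assoc, mul_assoc, ← zp_add h.z3,
    ← zp_add h.z3, add_comm]

/-- `Q ∩ C(t) = Z` -/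
theorem inQ_t (ha : InQ z κ a) (e : a * t = t * a) : ∃ k, a = zp z k := by
  obtain ⟨v, k, rfl⟩ := ha
  have e1 : κ (-v) * zp z k = κ v * zp z k := by
    rw [← h.tk, mul_assoc, (show Commute t (zp z k) from zp_comm h.tz k).inv_left.eq, ← mul_assoc, mul_assoc t, ← e,
      mul_inv_cancel_right]
  exact ⟨k, by rw [neg_eq v (h.keq e1).1, h.k0, one_mul]⟩

/-- elements with the same matrices differ by a power of `z` -/
theorem mt_eq (h1 : Mt κ c π A) (h2 : Mt κ c' π A) : ∃ k, c = c' * zp z k := by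
  obtain ⟨k, e⟩ := (mem_zp h.z3).1 (h.cQ (c'⁻¹ * c) fun v => by
    have := (h1 v).trans (h2 v).symm
    calc c'⁻¹ * c * κ v = c'⁻¹ * (c * κ v * c⁻¹) * c := by group
      _ = _ := by rw [this]; group)
  exact ⟨k, by rw [← e, mul_inv_cancel_left]⟩

theorem triv_t (h1 : Mt κ c 1 1) : ∃ k, c = zp z k := by simpa using h.mt_eq h1 (Mt.one κ)

theorem four {k : ZMod 3} (hc : c * z = z * c) (h1 : c ^ 4 = 1) (h2 : (c * zp z k) ^ 4 = 1) : k = 0 := by
  rw [(show Commute c (zp z k) from zp_comm hc k).mul_pow, h1, one_mul, zp_pow h.z3] at h2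
  have := zp_eq_one h.z3 h.z1 h2
  revert this
  generalize k = k
  revert k
  decide

/-- uniqueness for elements of order dividing four -/
theorem eq_of_four (hz : c' * z = z * c') (h1 : c ^ 4 = 1) (h2 : c' ^ 4 = 1) (m1 : Mt κ c π A) (m2 : Mt κ c' π A) :
    c = c' := by
  obtain ⟨k, e⟩ := h.mt_eq m1 m2
  rw [e, h.four (k := k) hz h2 (e ▸ h1), zp_zero, mul_one]

theorem R_inj (h1 : c ∈ R) (h2 : c' ∈ R) (m1 : Mt κ c π A) (m2 : Mt κ c' π A) : c = c' :=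
  h.eq_of_four (h.Rz _ h2) (h.R4 _ h1) (h.R4 _ h2) m1 m2

theorem t2 : t * t = 1 := h.R_inj (mul_mem h.tR h.tR) (one_mem _) (by simpa using h.tm.mul' h.tm) (Mt.one κ)

theorem r2 (i : Fin 3) : r i * r i = 1 :=
  h.R_inj (mul_mem (h.rR i) (h.rR i)) (one_mem _) (sgn_spec.1 i ▸ (h.ra i).mul' (h.ra i)) (Mt.one κ)

theorem tr : t = r 0 * r 1 * r 2 := h.R_inj h.tR (mul_mem (mul_mem (h.rR 0) (h.rR 1)) (h.rR 2)) h.tm
  (sgn_spec.2.1 ▸ ((h.ra 0).mul' (h.ra 1)).mul' (h.ra 2))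

/-- conjugation of `r i` -/
theorem r_conj {d : ZMod 3} (hz : c * z * c⁻¹ = zp z d) (m : Mt κ c π A) (i : Fin 3) : c * r i * c⁻¹ = r (π i) := by
  have m1 := m.mul (h.ra i)
  have m2 := (h.ra (π i)).mul m
  rw [tw_sgn, mul_one] at m1
  rw [tw_one, one_mul, sgn_comm] at m2
  obtain ⟨k, e⟩ := h.mt_eq m1 m2
  have e1 : c * r i * c⁻¹ = r (π i) * zp z (k * d) := by rw [e, ← zp_conj h.z3 hz]; group
  have r4 : ∀ i, r i ^ 4 = 1 := fun i => h.R4 _ (h.rR i)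
  rw [e1, h.four (k := k * d) (h.rz _) (r4 _) (by rw [← e1, conj_pow, r4]; group), zp_zero, mul_one]

theorem r_conj' (hz : c * z = z * c) (m : Mt κ c π A) (i : Fin 3) : c * r i * c⁻¹ = r (π i) :=
  h.r_conj (d := 1) (by rw [hz, zp_one, mul_inv_cancel_right]) m i

theorem r_comm (hz : c * z = z * c) (m : Mt κ c 1 A) (i : Fin 3) : c * r i = r i * c :=
  mul_inv_eq_iff_eq_mul.1 (h.r_conj' hz m i)

theorem rr (i j : Fin 3) : r i * r j = r j * r i := h.r_comm (h.rz i) (h.ra i) j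

theorem r_inj {i j : Fin 3} (e : r i = r j) : i = j := sgn_spec.2.2.1 i j (mon_inj
  (fun k => by rw [(sgn_spec.2.2.2 i k).1]; decide) fun v => h.k_inj (((h.ra i) v).symm.trans (e ▸ h.ra j v))).2

theorem ct_eq {v w : W6} (hc : c * t = t * c) (hc' : c' * t = t * c') (e : κ v * c = κ w * c') : v = w ∧ c = c' := by
  have e1 : κ (-w + v) * zp z (β6 (-w) v) = c' * c⁻¹ := by
    rw [← h.mul, ← h.kinv, eq_mul_inv_iff_mul_eq, mul_assoc, e, inv_mul_cancel_left]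
  obtain ⟨k, e2⟩ := h.inQ_t ⟨_, _, e1.symm⟩ (Commute.mul_left hc' (Commute.inv_left hc)).eq
  rw [e2, ← one_mul (zp z k), ← h.k0] at e1
  obtain rfl := neg_add_eq_zero.1 (h.keq e1).1
  exact ⟨rfl, mul_left_cancel e⟩

/-- an element `κ v * c` commuting with `a ∈ C(t)` -/
theorem comm_parts {v : W6} (hc : c * t = t * c) (ha : a * t = t * a) (m : Mt κ a π A)
    (e : a * (κ v * c) = κ v * c * a) : mon π A v = v ∧ a * c = c * a := by
  have := h.ct_eq (v := mon π A v) (w := v) (c := a * c * a⁻¹)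
    (Commute.mul_left (Commute.mul_left ha hc) (Commute.inv_left ha)).eq hc
    (by rw [← m, conj_mul, e, mul_inv_cancel_right])
  exact ⟨this.1, mul_inv_eq_iff_eq_mul.1 this.2⟩

theorem comm_r {v : W6} (hc : c * t = t * c) (i : Fin 3) (e : r i * (κ v * c) = κ v * c * r i) :
    v i = 0 ∧ r i * c = c * r i := by
  obtain ⟨h1, h2⟩ := h.comm_parts hc (h.rt i) (h.ra i) e
  rw [mon_sgn, add_eq_left] at h1
  exact ⟨by simpa [sn_self] using congrFun h1 i, h2⟩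

theorem mq_uniq (hA : ∀ i, (A i).det ≠ 0) (h1 : Mq z κ g π A) (h2 : Mq z κ g π' A') : π = π' ∧ A = A' :=
  mon_inj hA fun v => by
    obtain ⟨k, e⟩ := h1 v
    obtain ⟨l, e'⟩ := h2 v
    exact (h.keq (e.symm.trans e')).1

theorem mq_one (h1 : Mq z κ g 1 1) (h2 : Mq z κ g π A) : π = 1 ∧ A = 1 :=
  let e := h.mq_uniq (fun _ => by simp) h1 h2; ⟨e.1.symm, e.2.symm⟩

theorem kmq (v : W6) (h1 : Mq z κ g π A) : Mq z κ (κ v * g) π A := by
  simpa [tw_one] using (h.kq v).mulc h.z3 (h.kz v) h1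

/-- an element of `C(t)` acts exactly -/
theorem mt_of_mq (hc : c * t = t * c) (h1 : Mq z κ c π A) : Mt κ c π A := fun v => by
  obtain ⟨k, e⟩ := h1 v
  have e1 : t * (c * κ v * c⁻¹) * t⁻¹ = (c * κ v * c⁻¹)⁻¹ := by
    rw [conj_inv, h.kinv, ← h.tk, ← mul_assoc, ← mul_assoc, ← hc, mul_assoc _ c⁻¹, ← mul_inv_rev, ← hc]; group
  rw [e, ← conj_mul, h.tk, zp_comm h.tz, mul_inv_cancel_right, mul_inv_rev, h.kinv, ← zp_neg h.z3, ← h.kzp] at e1
  rw [e, (by decide : ∀ k : ZMod 3, k = -k → k = 0) k (h.keq e1).2, zp_zero, mul_one]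

theorem det_ne {d : ZMod 3} (e : g * z * g⁻¹ = zp z d) : d ≠ 0 := by
  rintro rfl
  exact h.z1 (by simpa [zp_zero] using e)

/-- conjugation of `c` by an element of `Q` -/
theorem conj_k (m : Mt κ c π A) (x : W6) :
    κ x * c * (κ x)⁻¹ = κ (x - mon π A x) * zp z (-β6 x (mon π A x)) * c := by
  rw [sub_eq_add_neg, ← β6_neg, ← h.mul, ← mon_neg, ← m, h.kinv]; group

/-- every triple of quaternion matrices occurs -/
theorem surj [Finite G] (hA : ∀ i, Q8m (A i)) : ∃ τ ∈ R, Mt κ τ 1 A := by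
  choose f hf hm using fun τ : R => h.Ract τ τ.2
  let F : R → (Fin 3 → {X : M2 // Q8m X}) := fun τ i => ⟨f τ i, hf τ i⟩
  have h1 : Function.Injective F := fun a b e => Subtype.ext (h.R_inj a.2 b.2 (hm a) (by
    rw [show f a = f b from funext fun i => congrArg Subtype.val (congrFun e i)]; exact hm b))
  have h2 : Function.Bijective F := (Nat.bijective_iff_injective_and_card F).2 ⟨h1, by
    rw [h.Rcard, Nat.card_fun, Nat.card_eq_fintype_card (α := {X : M2 // Q8m X}), CL.U63.P1.card_Q8m]; simp⟩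
  obtain ⟨τ, e⟩ := h2.2 fun i => ⟨A i, hA i⟩
  exact ⟨τ, τ.2, by rw [show A = f τ from funext fun i => (congrArg Subtype.val (congrFun e i)).symm]; exact hm τ⟩

end MB

namespace MS

variable {z t c c' g g' a : G} {κ : W6 → G} {R : Subgroup G} {r : Fin 3 → G} {π π' : P3} {A A' : A3}
  (h : MS z t κ R r)
include h

section
variable [Finite G]

/-- normal form in `N(z)` -/
theorem nf (hg : g ∈ normalizer (zpowers z : Set G)) : ∃ v c π A d, g = κ v * c ∧ c * t = t * c ∧ Mt κ c π A ∧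
    (∀ i, (A i).det = d) ∧ d ≠ 0 ∧ c * z * c⁻¹ = zp z d ∧ g * z * g⁻¹ = zp z d ∧ Mq z κ g π A := by
  obtain ⟨v, c, hc, rfl⟩ := h.dec g hg
  obtain ⟨π, A, d, h1, h2, h3⟩ := h.act c ((mul_mem_cancel_left (CL.U63.MS.nz (h.kz v))).1 hg) hc
  refine ⟨v, c, π, A, d, rfl, hc, h1, h2, h.det_ne h3, h3, ?_, h.kmq v (h1.mq z)⟩
  rw [show κ v * c * z * (κ v * c)⁻¹ = κ v * (c * z * c⁻¹) * (κ v)⁻¹ by group, h3, h.kzp, mul_inv_cancel_right]

/-- normal form in `C(z)` -/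
theorem nfc (hg : g * z = z * g) : ∃ v c π A, g = κ v * c ∧ c * t = t * c ∧ c * z = z * c ∧ Mt κ c π A ∧
    (∀ i, (A i).det = 1) ∧ Mq z κ g π A := by
  obtain ⟨v, c, π, A, d, h1, h2, h3, h4, -, h6, h7, h8⟩ := h.nf (CL.U63.MS.nz hg)
  obtain rfl : d = 1 := zp_inj h.z3 h.z1 (by rw [← h7, hg, zp_one, mul_inv_cancel_right])
  rw [zp_one] at h6
  exact ⟨v, c, π, A, h1, h2, mul_inv_eq_iff_eq_mul.1 h6, h3, h4, h8⟩

theorem det_one (hg : g * z = z * g) (h1 : Mq z κ g π A) (i : Fin 3) : (A i).det = 1 := by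
  obtain ⟨v, c, π', A', -, -, -, -, h4, h5⟩ := h.nfc hg
  exact (h.mq_uniq (fun i => by rw [h4]; decide) h5 h1).2 ▸ h4 i

theorem uniq (hg : g * z = z * g) (h1 : Mq z κ g π A) (h2 : Mq z κ g π' A') : π = π' ∧ A = A' :=
  h.mq_uniq (fun i => by rw [h.det_one hg h1]; decide) h1 h2

/-- normal form with given matrices -/
theorem nfq (hg : g * z = z * g) (h1 : Mq z κ g π A) : ∃ v c, g = κ v * c ∧ c * t = t * c ∧ c * z = z * c ∧
    Mt κ c π A := by
  obtain ⟨v, c, π', A', h2, h3, h4, h5, -, h6⟩ := h.nfc hg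
  obtain ⟨rfl, rfl⟩ := h.uniq hg h1 h6
  exact ⟨v, c, h2, h3, h4, h5⟩

/-- normal form in `C(z) ∩ C(t)` -/
theorem nft (hz : c * z = z * c) (hc : c * t = t * c) : ∃ π A, Mt κ c π A ∧ ∀ i, (A i).det = 1 := by
  obtain ⟨-, -, π, A, -, -, -, -, h4, h5⟩ := h.nfc hz
  exact ⟨π, A, h.mt_of_mq hc h5, h4⟩

theorem triv_q (hg : g * z = z * g) (h1 : Mq z κ g 1 1) : InQ z κ g := by
  obtain ⟨v, c, rfl, -, -, h3⟩ := h.nfq hg h1
  obtain ⟨k, rfl⟩ := h.triv_t h3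
  exact ⟨v, k, rfl⟩

/-- `Q` is normal in `N(z)` -/
theorem inQ_norm (hg : g ∈ normalizer (zpowers z : Set G)) (ha : InQ z κ a) : InQ z κ (g * a * g⁻¹) := by
  obtain ⟨v, k, rfl⟩ := ha
  obtain ⟨-, -, π, A, d, -, -, -, -, -, -, h1, h2⟩ := h.nf hg
  rw [← conj_mul, zp_conj h.z3 h1]
  exact h.inQ_mul ⟨_, _, (h2 v).choose_spec⟩ (h.inQ_zp _)

theorem inQ_normc (hg : g * z = z * g) (ha : InQ z κ a) : InQ z κ (g * a * g⁻¹) := h.inQ_norm (CL.U63.MS.nz hg) ha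

/-- the matrices of a 3-element -/
theorem three (hg : g * z = z * g) {n : ℕ} (hn : g ^ 3 ^ n = 1) (h1 : Mq z κ g π A) :
    π ^ 3 = 1 ∧ (π = 1 → ∀ i, A i ^ 3 = 1) := by
  obtain ⟨B, h2⟩ := h1.pow' h.z3 hg (3 ^ n)
  rw [hn] at h2
  refine ⟨p3_three π (h.mq_one ((Mt.one κ).mq z) h2).1, ?_⟩
  rintro rfl i
  have h3 := h1.pow h.z3 hg (3 ^ n)
  rw [hn] at h3
  exact m_three _ (h.det_one hg h1 i) (congrFun (h.mq_one ((Mt.one κ).mq z) h3).2 i)

theorem three' (hg : T3 z g) (h1 : Mq z κ g π A) : π ^ 3 = 1 ∧ (π = 1 → ∀ i, A i ^ 3 = 1) :=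
  h.three hg.1 (n := 1) hg.2 h1

/-- a 3-element of `N(z)` centralises `z` -/
theorem three_cz (hg : g ∈ normalizer (zpowers z : Set G)) {n : ℕ} (hn : g ^ 3 ^ n = 1) : g * z = z * g := by
  rcases tri3 h.z3 (mem_nz.1 hg) with e | e | e
  · exact absurd (conj_eq_one_iff.1 e) h.z1
  · exact mul_inv_eq_iff_eq_mul.1 e
  · have e2 : g * g * z = z * (g * g) := by
      rw [← mul_inv_eq_iff_eq_mul, show g * g * z * (g * g)⁻¹ = g * (g * z * g⁻¹) * g⁻¹ by group, e, ← conj_inv, e, inv_inv]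
    obtain ⟨j, hj⟩ : Odd (3 ^ n) := Odd.pow (by decide)
    rw [hj, pow_succ, pow_mul, sq] at hn
    rw [← inv_eq_of_mul_eq_one_right hn]
    exact ((Commute.pow_left e2 j).inv_left).eq

end

theorem conj (g : G) : MS (g * z * g⁻¹) (g * t * g⁻¹) (fun v => g * κ v * g⁻¹) (cj g R) fun i => g * r i * g⁻¹ := by
  have k1 : ∀ {a b : G}, a * (g * b * g⁻¹) = g * b * g⁻¹ * a → g⁻¹ * a * g * b = b * (g⁻¹ * a * g) := fun {a b} e =>
    BTJ.cm_of_conj (g := g) (by simpa [mul_assoc] using e)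
  have k2 : ∀ {a b : G}, g⁻¹ * a * g * b = b * (g⁻¹ * a * g) → a * (g * b * g⁻¹) = g * b * g⁻¹ * a := fun {a b} e => by
    simpa [mul_assoc] using BTJ.cm_conj g e
  have kz : ∀ {a : G}, a ∈ zpowers (g * z * g⁻¹) ↔ g⁻¹ * a * g ∈ zpowers z := fun {a} => by
    rw [mem_zp h.z3, mem_zp (by rw [conj_pow, h.z3]; group)]
    exact exists_congr fun k => by rw [← zp_cj]; constructor <;> intro e <;> [rw [e]; rw [← e]] <;> group
  have kn : ∀ {a : G}, a ∈ normalizer (zpowers (g * z * g⁻¹) : Set G) → g⁻¹ * a * g ∈ normalizer (zpowers z : Set G) :=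
    fun {a} ha => mem_normalizer_iff.2 fun x => by
      have := mem_normalizer_iff.1 ha (g * x * g⁻¹)
      simp only [SetLike.mem_coe, kz] at this ⊢
      simpa [mul_assoc] using this
  have km : ∀ {a π A}, Mt (fun v => g * κ v * g⁻¹) a π A ↔ Mt κ (g⁻¹ * a * g) π A := fun {a π A} => by
    rw [← mt_conj g (g⁻¹ * a * g)]; simp only [mul_assoc, mul_inv_cancel_left, mul_inv_cancel, mul_one]
  refine ⟨⟨by rw [conj_pow, h.z3]; group, fun e => h.z1 (by simpa using e), fun v => BTJ.cm_conj g (h.kz v),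
    fun v w => ?_, fun v e => h.inj v (by simpa [mul_assoc] using kz.1 e), fun a e => kz.2 (h.cQ _ fun v => k1 (e v)),
    conj_mem_cj g h.tR, fun v => by simp only [← h.tk v]; group, fun τ hτ => k2 (h.Rz _ (mem_cj.1 hτ)),
    fun τ hτ => k2 (h.Rt _ (mem_cj.1 hτ)), fun τ hτ => ?_, fun τ hτ => ?_, fun i => conj_mem_cj g (h.rR i),
    fun i => (mt_conj g _).2 (h.ra i), (card_map_of_injective (MulAut.conj g).injective).trans h.Rcard⟩,
    fun a ha => ?_, fun a ha e => ?_⟩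
  · rw [conj_mul, h.mul, ← zp_cj, conj_mul]
  · have := h.R4 _ (mem_cj.1 hτ)
    rw [show g⁻¹ * τ * g = g⁻¹ * τ * g⁻¹⁻¹ by group, conj_pow] at this
    exact conj_eq_one_iff.1 this
  · obtain ⟨A, h1, h3⟩ := h.Ract _ (mem_cj.1 hτ)
    exact ⟨A, h1, km.2 h3⟩
  · obtain ⟨v, c, h1, h2⟩ := h.dec _ (kn ha)
    exact ⟨v, g * c * g⁻¹, BTJ.cm_conj g h1, by rw [conj_mul, ← h2]; group⟩
  · obtain ⟨π, A, d, h1, h2, h3⟩ := h.act _ (kn ha) (k1 e)
    exact ⟨π, A, d, km.2 h1, h2, by rw [← zp_cj, ← h3]; group⟩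

/-- conjugation of the frame by an element of `C(z)` -/
theorem conjC (hg : g * z = z * g) :
    MS z (g * t * g⁻¹) (fun v => g * κ v * g⁻¹) (cj g R) fun i => g * r i * g⁻¹ := by
  simpa only [hg, mul_inv_cancel_right] using h.conj g

/-- conjugation of the frame by an element of `Q` -/
theorem conjQ (w : W6) :
    MS z (κ w * t * (κ w)⁻¹) (fun v => κ w * κ v * (κ w)⁻¹) (cj (κ w) R) fun i => κ w * r i * (κ w)⁻¹ :=
  h.conjC (h.kz w)

theorem inQ_conjQ (w : W6) : InQ z (fun v => κ w * κ v * (κ w)⁻¹) a ↔ InQ z κ a := by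
  simp only [InQ, h.kk, mul_assoc, ← zp_add h.z3]
  exact exists_congr fun v => ⟨fun ⟨_, e⟩ => ⟨_, e⟩, fun ⟨k, e⟩ => ⟨k - 2 * β6 w v, by rw [e, add_sub_cancel]⟩⟩

theorem mq_conjQ (w : W6) (hg : g * z = z * g) : Mq z (fun v => κ w * κ v * (κ w)⁻¹) g π A ↔ Mq z κ g π A := by
  refine forall_congr' fun v => ?_
  simp only [h.kk]
  rw [← conj_mul, zp_comm hg, mul_inv_cancel_right]
  constructor <;> rintro ⟨k, e⟩
  · exact ⟨2 * β6 w (mon π A v) + k - 2 * β6 w v, by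
      rw [sub_eq_add_neg, zp_add h.z3, zp_add h.z3, zp_neg h.z3, ← mul_assoc, ← mul_assoc, ← e, mul_inv_cancel_right]⟩
  · exact ⟨k + 2 * β6 w v - 2 * β6 w (mon π A v), by
      rw [e, mul_assoc, mul_assoc, ← zp_add h.z3, ← zp_add h.z3, add_sub_cancel]⟩

/-- change of basis in the three factors -/
theorem reframe {P P' : A3} (hP : ∀ i, (P i).det = 1) (e : P * P' = 1) (e' : P' * P = 1) :
    MS z t (fun v => κ (mon 1 P v)) R r := by
  have k1 : ∀ v, mon 1 P (mon 1 P' v) = v := fun v => by rw [mon_mon, tw_one, e, mul_one, mon_one]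
  have k2 : ∀ v, mon 1 P' (mon 1 P v) = v := fun v => by rw [mon_mon, tw_one, e', mul_one, mon_one]
  have hP' : ∀ i, (P' i).det = 1 := fun i => by
    simpa [hP] using congrArg Matrix.det (congrFun e i)
  refine ⟨⟨h.z3, h.z1, fun v => h.kz _, fun v w => by rw [h.mul, β6_mon hP, one_mul, mon_add],
    fun v hv => by rw [← k2 v, h.inj _ hv, mon_zero], fun g hg => h.cQ g fun v => by simpa only [k1] using hg (mon 1 P' v),
    h.tR, fun v => by rw [h.tk, mon_neg], h.Rz, h.Rt, h.R4, fun τ hτ => ?_, h.rR, fun i => ?_, h.Rcard⟩,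
    fun g hg => ?_, fun c hc ht => ?_⟩
  · obtain ⟨A, h1, h2⟩ := h.Ract τ hτ
    exact ⟨_, fun i => q8_conj (h1 i) (congrFun e i) (congrFun e' i), CL.F3.MS.mt_reframe e h2⟩
  · simpa only [tw_one, ← sgn_comm, mul_assoc, e', mul_one] using CL.F3.MS.mt_reframe e (h.ra i)
  · obtain ⟨v, c, h1, h2⟩ := h.dec g hg
    exact ⟨mon 1 P' v, c, h1, by rw [k1, h2]⟩
  · obtain ⟨π, A, d, h1, h2, h3⟩ := h.act c hc ht
    exact ⟨π, _, d, CL.F3.MS.mt_reframe e h1, fun i => by simp [tw, hP, hP', h2], h3⟩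

end MS

end CL.E63
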