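/-
Recognition of `²E₆(2)` from a 3-centraliser (S3337), part 1: fusion of `z`, interface statements.
-/
import Cfsg.Agent.Rec.E63Base

set_option autoImplicit false

namespace CL.E63

open Subgroup Cfsg CL.Grp CL.G23 CL.Even Equiv
open CL.U63 hiding Mt Mq MS P1Thm WCThm
open CL.F3 hiding MB MS0 MS PM P1Thm PKThm P2Thm W0 Pr2 YM W0Thm WAThm WCThm WBThm WGThm Y1Thm YAThm YBThm YCThm
open scoped Matrix

universe u

variable {G : Type u} [Group G]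

/-- 3-elements of `C(z)` modulo `Q` -/
structure W0 (z : G) (κ : W6 → G) : Prop where
  p1 : ∀ a b w n, T3 z a → T3 z b → T3 z n → w = a * b * a⁻¹ * b⁻¹ → w * a = a * w → w * b = b * w →
    n * a = a * n → n * b = b * n → InQ z κ w ∨ (∃ k, InQ z κ (n * zp w k)) ∨
      ∃ i j k : ZMod 3, ¬ (i = 0 ∧ j = 0) ∧ InQ z κ (zp a i * zp b j * zp w k)
  f3a : ∀ a b c, T3 z a → T3 z b → T3 z c → a * b = b * a → a * c = c * a → b * c = c * b → ∀ m,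
    ∃ i j k : ZMod 3, ¬ (i = 0 ∧ j = 0 ∧ k = 0) ∧ ∃ A, Mq z κ (zp a i * zp b j * zp c k) 1 A ∧ ∀ n, n ≠ m → A n = 1
  f3b : ∀ a b c, T3 z a → T3 z b → T3 z c → a * b = b * a → a * c = c * a → b * c = c * b →
    (∃ i j k : ZMod 3, ¬ (i = 0 ∧ j = 0 ∧ k = 0) ∧ InQ z κ (zp a i * zp b j * zp c k)) ∨
      ∃ i j : ZMod 3, ¬ (i = 0 ∧ j = 0) ∧ ∃ A, Mq z κ (zp a i * zp b j) 1 A ∧ A 0 = 1
  l1 : ∀ ρ a A, ρ * z = z * ρ → ρ * ρ = 1 → Mq z κ ρ 1 A → T3 z a → ρ * a * ρ⁻¹ = a⁻¹ → InQ z κ a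
  gam : ∀ ρ ρ' a a', ρ * z = z * ρ → ρ' * z = z * ρ' → ρ * ρ = 1 → ρ' * ρ' = 1 → ρ * ρ' = ρ' * ρ → T3 z a → T3 z a' →
    ρ * a * ρ⁻¹ = a⁻¹ → ρ' * a = a * ρ' → ρ' * a' * ρ'⁻¹ = a'⁻¹ → InQ z κ a ∨ InQ z κ a'

/-- `y` does not centralise a factor -/
def LA (z t : G) (κ : W6 → G) (y : G) : Prop :=
  ∀ v d A i, y = κ v * d → d * t = t * d → d * z = z * d → Mt κ d 1 A → v i = 0 → A i = 1 → y ∈ zpowers z

/-- `Z` is weakly closed in `Q` -/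
def WCl (z : G) (κ : W6 → G) : Prop := ∀ g, InQ z κ (g * z * g⁻¹) → g * z * g⁻¹ ∈ zpowers z

/-- a commuting pair when `Z` is weakly closed in `Q` -/
structure Pr2 (z : G) (κ : W6 → G) (y : G) (κ' : W6 → G) : Prop where
  cm : y * z = z * y
  w : W0 z κ
  w' : W0 y κ'
  yQ : ¬ InQ z κ y
  zQ : ¬ InQ y κ' z
  wz : WCl z κ
  wy : WCl y κ'

def N1 (z : G) (κ : W6 → G) : Prop := ∀ g A m, g * z * g⁻¹ * z = z * (g * z * g⁻¹) → Mq z κ (g * z * g⁻¹) 1 A →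
  (∀ n, n ≠ m → A n = 1) → g * z * g⁻¹ ∈ zpowers z

def N2 (z : G) (κ : W6 → G) : Prop := ∀ g A m, g * z * g⁻¹ * z = z * (g * z * g⁻¹) → Mq z κ (g * z * g⁻¹) 1 A →
  A m = 1 → g * z * g⁻¹ ∈ zpowers z

/-- a conjugate `y = κ v` of `z` in `Q`, normalised; `ρ = r' j` -/
structure YM (z t : G) (κ : W6 → G) (y : G) (κ' : W6 → G) (ρ : G) (j : Fin 3) (v v' : W6) : Prop where
  w : W0 z κ
  w' : W0 y κ'
  hy : y = κ v
  hz : z = κ' v'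
  vne : ∀ i, v i ≠ 0
  vne' : ∀ i, v' i ≠ 0
  ρt : ρ * t = t * ρ
  ρy : ρ * y = y * ρ
  ρ2 : ρ * ρ = 1
  ρa : Mt κ' ρ 1 (sgn j)
  cyc : ∃ b π A, InQ y κ' b ∧ b * z = z * b ∧ Mq z κ b π A ∧ π ≠ 1 ∧ π ^ 3 = 1
  la : LA z t κ (ρ * z * ρ⁻¹)
  cjz : ∃ g, g * z * g⁻¹ = y

/-- the matrices `U ^ a i` -/
def UA (a : Fin 3 → ZMod 3) : A3 := fun i => U0 ^ (a i).val
def ee (a : Fin 3 → ZMod 3) : W6 := fun i => a i • e0
def rot : P3 := swap 0 1 * swap 1 2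
/-- `ρ i` -/
def rh (κ : W6 → G) (i : Fin 3) : G := κ (sn i e0)

/-- `d ∈ C(z, t)` acts as `U ^ a` -/
def Dg (z t : G) (κ : W6 → G) (d : G) (a : Fin 3 → ZMod 3) : Prop := d * z = z * d ∧ d * t = t * d ∧ Mt κ d 1 (UA a)

/-- the result of the fusion analysis -/
structure FU (z t : G) (κ : W6 → G) (R : Subgroup G) (r : Fin 3 → G) : Prop extends MS z t κ R r where
  w : W0 z κ
  la : ∀ g, LA z t κ (g * z * g⁻¹)
  nz : ∀ g v k, g * z * g⁻¹ = κ v * zp z k → v = 0 ∨ ∀ i, v i ≠ 0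
  pur : ∀ v k, (∀ i, v i ≠ 0) → ∃ g, g * z * g⁻¹ = κ v * zp z k
  sum0 : ∀ d a, Dg z t κ d a → a 0 + a 1 + a 2 = 0
  wcρ : ∀ i g, g * rh κ i = rh κ i * g → InQ z κ (g * z * g⁻¹) → g * z * g⁻¹ ∈ zpowers z
  cyc : ∃ p b, p * z = z * p ∧ p * t = t * p ∧ Mt κ p rot (UA b)
  beta : ∀ i, ∃ g, g * rh κ i = rh κ i * g ∧ g * r i = r i * g ∧ g * z * g⁻¹ * z = z * (g * z * g⁻¹) ∧
    g * z * g⁻¹ ∉ zpowers z

def W0Thm : Prop := ∀ {G : Type u} [Group G] [Finite G] {z t : G} {κ : W6 → G} {R : Subgroup G} {r : Fin 3 → G},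
  MS z t κ R r → W0 z κ

def LAThm : Prop := ∀ {G : Type u} [Group G] [Finite G] {z t y t' : G} {κ κ' : W6 → G} {R R' : Subgroup G}
  {r r' : Fin 3 → G}, MS z t κ R r → MS y t' κ' R' r' → W0 y κ' → LA z t κ y

def WA1Thm : Prop := ∀ {G : Type u} [Group G] [Finite G] {z t y t' : G} {κ κ' : W6 → G} {R R' : Subgroup G}
  {r r' : Fin 3 → G}, MS z t κ R r → MS y t' κ' R' r' → Pr2 z κ y κ' → LA z t κ y →
  ∀ A m, Mq z κ y 1 A → ¬ ∀ n, n ≠ m → A n = 1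

def WA2Thm : Prop := ∀ {G : Type u} [Group G] [Finite G] {z t y t' : G} {κ κ' : W6 → G} {R R' : Subgroup G}
  {r r' : Fin 3 → G}, MS z t κ R r → MS y t' κ' R' r' → Pr2 z κ y κ' → LA z t κ y → N1 y κ' →
  ∀ A m, Mq z κ y 1 A → (∀ n, n ≠ m → A n ≠ 1) → A m ≠ 1

def WBThm : Prop := ∀ {G : Type u} [Group G] [Finite G] {z t y t' : G} {κ κ' : W6 → G} {R R' : Subgroup G}
  {r r' : Fin 3 → G}, MS z t κ R r → MS y t' κ' R' r' → Pr2 z κ y κ' → N1 y κ' → Act z κ y → Good t κ y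

def WCThm : Prop := ∀ {G : Type u} [Group G] [Finite G] {z t y t' : G} {κ κ' : W6 → G} {R R' : Subgroup G}
  {r r' : Fin 3 → G}, MS z t κ R r → MS y t' κ' R' r' → Pr2 z κ y κ' → N2 y κ' → ∃ A, Mq z κ y 1 A

def WGThm : Prop := ∀ {G : Type u} [Group G] [Finite G] {z t y t' : G} {κ κ' : W6 → G} {R R' : Subgroup G}
  {r r' : Fin 3 → G}, MS z t κ R r → MS y t' κ' R' r' → Pr2 z κ y κ' → Act z κ y → Act y κ' z → Good t κ y →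
  Good t' κ' z → False

def NWQThm : Prop := W0Thm.{u} → LAThm.{u} → WA1Thm.{u} → WA2Thm.{u} → WBThm.{u} → WCThm.{u} → WGThm.{u} →
  ∀ {G : Type u} [Group G] [Finite G] {z t : G} {κ : W6 → G} {R : Subgroup G} {r : Fin 3 → G},
  MS z t κ R r → NW z → NWQ z κ

def Y1Thm : Prop := ∀ {G : Type u} [Group G] [Finite G] {z t y t' : G} {κ κ' : W6 → G} {R R' : Subgroup G}
  {r r' : Fin 3 → G}, MS z t κ R r → MS y t' κ' R' r' → W0 z κ → W0 y κ' → InQ z κ y → y ∉ zpowers z →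
  InQ y κ' z ∧ (∃ b π A, InQ y κ' b ∧ b * z = z * b ∧ Mq z κ b π A ∧ π ≠ 1 ∧ π ^ 3 = 1) ∧
    ∀ v k, y = κ v * zp z k → ∀ i, v i ≠ 0

def YAThm : Prop := W0Thm.{u} → LAThm.{u} → Y1Thm.{u} → ∀ {G : Type u} [Group G] [Finite G] {z t : G} {κ : W6 → G}
  {R : Subgroup G} {r : Fin 3 → G}, MS z t κ R r → NWQ z κ →
  ∃ y t' κ' R' r' ρ j v v', MS y t' κ' R' r' ∧ YM z t κ y κ' ρ j v v'

def YBThm : Prop := ∀ {G : Type u} [Group G] [Finite G] {z t y t' ρ : G} {κ κ' : W6 → G} {R R' : Subgroup G}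
  {r r' : Fin 3 → G} {j : Fin 3} {v v' : W6}, MS z t κ R r → MS y t' κ' R' r' → YM z t κ y κ' ρ j v v' →
  ∃ C, YB z t κ (ρ * z * ρ⁻¹) C

def YCThm : Prop := ∀ {G : Type u} [Group G] [Finite G] {z t y t' ρ : G} {κ κ' : W6 → G} {R R' : Subgroup G}
  {r r' : Fin 3 → G} {j : Fin 3} {v v' : W6} {C : A3}, MS z t κ R r → MS y t' κ' R' r' → YM z t κ y κ' ρ j v v' →
  YB z t κ (ρ * z * ρ⁻¹) C → ∃ l, ρ * r l = r l * ρ

def FUThm : Prop := W0Thm.{u} → LAThm.{u} → Y1Thm.{u} → YAThm.{u} → YBThm.{u} → YCThm.{u} →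
  ∀ {G : Type u} [Group G] [Finite G] {z t : G} {κ : W6 → G} {R : Subgroup G} {r : Fin 3 → G},
  MS z t κ R r → NWQ z κ → ∃ P : A3, FU z t (fun v => κ (mon 1 P v)) R r

theorem Pr2.symm {z y : G} {κ κ' : W6 → G} (h : Pr2 z κ y κ') : Pr2 y κ' z κ :=
  ⟨h.cm.symm, h.w', h.w, h.zQ, h.yQ, h.wy, h.wz⟩

end CL.E63
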