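/-
Recognition of `²E₆(2)` from a 3-centraliser (S3337): the result of the fusion analysis.
-/
import Cfsg.Agent.Rec.E63Fd

set_option autoImplicit false

namespace CL.E63

open Subgroup Cfsg CL.Grp CL.G23 CL.Even Equiv
open CL.U63 hiding Mt Mq MS P1Thm WCThm
open CL.F3 hiding MB MS0 MS PM P1Thm PKThm P2Thm W0 Pr2 YM W0Thm WAThm WCThm WBThm WGThm Y1Thm YAThm YBThm YCThm
open scoped Matrix

universe u

namespace FUa

variable {G : Type u} [Group G] {z t y t' ρ : G} {κ κ' : W6 → G} {R R' : Subgroup G} {r r' : Fin 3 → G}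

theorem ua_mul (a b : Fin 3 → ZMod 3) : UA a * UA b = UA (a + b) := funext fun i =>
  (by decide +kernel : ∀ x y : ZMod 3, U0 ^ x.val * U0 ^ y.val = U0 ^ (x + y).val) (a i) (b i)

theorem ua_zero : UA 0 = 1 := funext fun _ => pow_zero U0

theorem ua_tw (π : P3) (a : Fin 3 → ZMod 3) : tw π (UA a) = UA fun i => a (π⁻¹ i) := rfl

theorem ua_inj {a b : Fin 3 → ZMod 3} (e : UA a = UA b) : a = b := funext fun i =>
  (by decide +kernel : ∀ x y : ZMod 3, U0 ^ x.val = U0 ^ y.val → x = y) (a i) (b i) (congrFun e i)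

theorem ua_e0 (a : Fin 3 → ZMod 3) (i : Fin 3) : UA a i *ᵥ e0 = e0 :=
  (by decide +kernel : ∀ x : ZMod 3, U0 ^ x.val *ᵥ e0 = e0) (a i)

theorem ee1 (i : Fin 3) : ee 1 i = e0 := one_smul _ _

theorem e0_ne : e0 ≠ 0 := by decide

theorem fix_e0 : ∀ A : M2, A.det = 1 → A *ᵥ e0 = e0 → ∃ x : ZMod 3, A = U0 ^ x.val := by
  simp only [Matrix.det_fin_two]
  decide +kernel

theorem q8_trans : ∀ x : V2, x ≠ 0 → ∃ X : M2, Q8m X ∧ X *ᵥ e0 = x := by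
  simp only [Q8m, Matrix.det_fin_two]
  decide +kernel

theorem frame : ∀ x : V2, x ≠ 0 → ∃ P P' : M2, P *ᵥ e0 = x ∧ P.det = 1 ∧ P * P' = 1 ∧ P' * P = 1 := fun x hx => by
  obtain ⟨X, ⟨h1, h2⟩, h3⟩ := q8_trans x hx
  exact ⟨X, X ^ 3, h3, h1, by rw [← pow_succ', h2], by rw [← pow_succ, h2]⟩

variable [Finite G]

theorem cycb (Y : Y1Thm.{u}) (W : W0Thm.{u}) (h : MS z t κ R r) (h' : MS y t' κ' R' r') (hy : y = κ (ee 1)) :
    ∃ b a, InQ y κ' b ∧ b * z = z * b ∧ Mq z κ b rot (UA a) := by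
  obtain ⟨-, ⟨b, π, A, b1, b2, b3, b4, b5⟩, -⟩ := Y h h' (W h) (W h') (hy ▸ h.inQ_k _) fun n =>
    e0_ne (by rw [← ee1 0, h.inj (ee 1) (hy ▸ n)]; rfl)
  obtain ⟨b, A, b1, b2, b3⟩ : ∃ b A, InQ y κ' b ∧ b * z = z * b ∧ Mq z κ b rot A := by
    rcases (by decide +kernel : ∀ π : P3, π ≠ 1 → π ^ 3 = 1 → π = rot ∨ π * π = rot) π b4 b5 with e | e
    · exact ⟨b, A, b1, b2, e ▸ b3⟩
    · exact ⟨b * b, _, h'.inQ_mul b1 b1, (Commute.mul_left b2 b2).eq, e ▸ b3.mulc h.z3 b2 b3⟩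
  obtain ⟨α, e⟩ := b3 (ee 1)
  have h1 : mon rot A (ee 1) = ee 1 := (h.keq (k := α) (l := 0) (by
    rw [← e, ← hy, h'.inQ_cz b1, mul_inv_cancel_right, zp_zero, mul_one])).1
  choose a ha using fun i => fix_e0 (A i) (h.det_one b2 b3 i) (by simpa only [mon, ee1] using congrFun h1 i)
  exact ⟨b, a, b1, b2, (show A = UA a from funext ha) ▸ b3⟩

theorem sum0 (h : MS z t κ R r) (h' : MS y t' κ' R' r') (hy : y = κ (ee 1)) {b d : G} {β a : Fin 3 → ZMod 3}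
    (b1 : InQ y κ' b) (b2 : b * z = z * b) (b3 : Mq z κ b rot (UA β)) (hd : Dg z t κ d a) : a 0 + a 1 + a 2 = 0 := by
  obtain ⟨d1, -, d3⟩ := hd
  have dy : d * y = y * d := hy ▸ d3.comm (funext fun i => by rw [mon_base, ee1, ua_e0])
  have q1 := h'.inQ_normc dy b1
  have c1 : Commute d z := d1
  have c2 : Commute b z := b2
  have c3 : Commute (d * b * d⁻¹) z := (c1.mul_left c2).mul_left c1.inv_left
  have m1 := ((d3.mq z).mulc h.z3 d1 b3).mulc h.z3 (c1.mul_left c2).eq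
    ((d3.inv' (A' := UA (-a)) (by rw [ua_mul, add_neg_cancel, ua_zero])).mq z)
  simp only [one_mul, mul_one, ua_tw, ua_mul] at m1
  obtain ⟨m, e⟩ := h'.inQ_com b1 q1
  have yq : InQ z κ (zp y m) := h.QQ.pow_mem (x := y) (hy ▸ h.inQ_k _) _
  have m2 := b3.mulc h.z3 b2 m1
  have m3 := (m1.mulc h.z3 c3.eq (h.inQ_mq yq)).mulc h.z3 (c3.mul_left (h.inQ_cz yq)).eq b3
  rw [← e, inv_mul_cancel_right] at m3
  have e2 := (h.uniq (c2.mul_left c3).eq m2 m3).2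
  simp only [mul_one, tw_one', ua_tw, ua_mul] at e2
  have e3 := congrFun (ua_inj e2) 0
  have r0 : rot⁻¹ 0 = 2 := by decide
  have r2 : rot⁻¹ 2 = 1 := by decide
  simp only [Pi.add_apply, Pi.neg_apply, inv_one, Perm.one_apply, r0, r2] at e3
  revert e3
  generalize a 0 = x0, a 1 = x1, a 2 = x2, β 0 = y0, β 2 = y2
  revert x0 x1 x2 y0 y2
  decide

theorem wc (Y : Y1Thm.{u}) (W : W0Thm.{u}) (h : MS z t κ R r) (i : Fin 3) (g : G) (hg : g * rh κ i = rh κ i * g)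
    (hq : InQ z κ (g * z * g⁻¹)) : g * z * g⁻¹ ∈ zpowers z := by
  by_contra hn
  obtain ⟨-, ⟨b, π, S, b1, -, b3, b4, b5⟩, hv⟩ := Y h (h.conj g) (W h) (W (h.conj g)) hq hn
  obtain ⟨v, k, e⟩ := hq
  have q := (inQ_conj g (rh κ i)).2 (h.inQ_k _)
  rw [hg, mul_inv_cancel_right] at q
  obtain ⟨m, e1⟩ := (h.conj g).inQ_com b1 q
  obtain ⟨α, e2⟩ := b3 (sn i e0)
  have c : Commute (κ v) (zp z k) := h.kzp v k
  rw [rh, e2, e, zp.eq_1 (κ v * zp z k), c.mul_pow, ← zp, ← zp, ← h.ksmul, zp_zp h.z3, ← mul_assoc, h.mul, mul_assoc,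
    ← zp_add h.z3, mon_sn] at e1
  have e3 := (h.keq e1).1
  obtain ⟨j, j1, j2⟩ := (by decide : ∀ i i' : Fin 3, ∃ j, j ≠ i ∧ j ≠ i') i (π i)
  have e4 := congrFun e3 j
  have e5 := congrFun e3 i
  rw [Pi.add_apply, sn_ne j1, sn_ne j2, zero_add, Pi.smul_apply] at e4
  obtain rfl : m = 0 := (smul_eq_zero.1 e4.symm).resolve_right (hv v k e j)
  rw [zero_smul, add_zero, sn_self, sn_ne fun n => b4 (p3_fix π b5 i n.symm)] at e5
  exact e0_ne e5.symm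

theorem main (W : W0Thm.{u}) (L : LAThm.{u}) (Y : Y1Thm.{u}) (h : MS z t κ R r) (h' : MS y t' κ' R' r')
    (hy : y = κ (ee 1)) (hc : ∃ g, g * z * g⁻¹ = y) {l : Fin 3} (ρy : ρ * y = y * ρ) (ρr : ρ * r l = r l * ρ)
    (cz : ρ * z * ρ⁻¹ * z = z * (ρ * z * ρ⁻¹)) (cn : ρ * z * ρ⁻¹ ∉ zpowers z) : FU z t κ R r := by
  obtain ⟨b, β, b1, b2, b3⟩ := cycb Y W h h' hy
  obtain ⟨u, p, -, pt, pz, pm⟩ := h.nfq b2 b3
  refine ⟨h, W h, fun g => L h (h.conj g) (W (h.conj g)), fun g v k e => ?_, fun v k hv => ?_,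
    fun d a hd => sum0 h h' hy b1 b2 b3 hd, wc Y W h, ⟨p, β, pz, pt, pm⟩, ?_⟩
  · refine or_iff_not_imp_left.2 fun n => (Y h (h.conj g) (W h) (W (h.conj g)) ⟨v, k, e⟩ fun m => n ?_).2.2 v k e
    exact h.inj _ ((mul_mem_cancel_right (zp_mem z k)).1 (e ▸ m))
  · obtain ⟨g, hg⟩ := hc
    choose X x1 x2 using fun i => q8_trans (v i) (hv i)
    obtain ⟨τ, -, m⟩ := h.surj x1
    obtain ⟨w, hw⟩ := exists_β6 (v := v) (fun n => hv 0 (by rw [n]; rfl)) (2 * k)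
    have e1 : mon 1 X (ee 1) = v := funext fun i => by rw [mon_base, ee1, x2]
    refine ⟨κ w * τ * g, ?_⟩
    calc _ = κ w * (τ * (g * z * g⁻¹) * τ⁻¹) * (κ w)⁻¹ := by group
      _ = _ := by
        rw [hg, hy, m, e1, h.kk, hw, ← mul_assoc, show (2 : ZMod 3) * 2 = 1 from rfl, one_mul]
  · have st : ∀ i, (∃ g, g * rh κ i = rh κ i * g ∧ g * r i = r i * g ∧ g * z * g⁻¹ * z = z * (g * z * g⁻¹) ∧
        g * z * g⁻¹ ∉ zpowers z) → ∃ g, g * rh κ (rot i) = rh κ (rot i) * g ∧ g * r (rot i) = r (rot i) * g ∧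
        g * z * g⁻¹ * z = z * (g * z * g⁻¹) ∧ g * z * g⁻¹ ∉ zpowers z := by
      rintro i ⟨g, g1, g2, g3, g4⟩
      have e1 : rh κ (rot i) = p * rh κ i * p⁻¹ := by rw [rh, rh, pm, mon_sn, ua_e0]
      have e2 : z = p * z * p⁻¹ := by rw [pz, mul_inv_cancel_right]
      have e3 : p * g * p⁻¹ * z * (p * g * p⁻¹)⁻¹ = p * (g * z * g⁻¹) * p⁻¹ := by
        conv_lhs => rw [e2]
        group
      refine ⟨p * g * p⁻¹, by rw [e1, conj_mul, conj_mul, g1], by rw [← h.r_conj' pz pm, conj_mul, conj_mul, g2], ?_,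
        fun n => g4 ?_⟩
      · rw [e3]
        conv_lhs => rw [mul_assoc _ _ z]; enter [2, 2]; rw [e2]
        conv_rhs => enter [1]; rw [e2]
        rw [conj_mul, ← g3]; group
      · rw [e3] at n
        obtain ⟨k, e⟩ := (mem_zp h.z3).1 n
        refine (mem_zp h.z3).2 ⟨k, ?_⟩
        rw [mul_inv_eq_iff_eq_mul, ← zp_comm pz] at e
        exact mul_left_cancel e
    have s0 : ∃ g, g * rh κ l = rh κ l * g ∧ g * r l = r l * g ∧ g * z * g⁻¹ * z = z * (g * z * g⁻¹) ∧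
        g * z * g⁻¹ ∉ zpowers z := by
      refine ⟨ρ, ?_, ρr, cz, cn⟩
      have e1 : rh κ l = y⁻¹ * (r l * y * (r l)⁻¹) := by
        rw [hy, h.ra, mon_sgn, ee1, h.kadd (by rw [β6_sn, ee1]; rfl), inv_mul_cancel_left, rh]
      have c1 : Commute ρ y := ρy
      have c2 : Commute ρ (r l) := ρr
      exact e1 ▸ (c1.inv_right.mul_right ((c2.mul_right c1).mul_right c2.inv_right)).eq
    intro i
    rcases (by decide : ∀ i l : Fin 3, i = l ∨ i = rot l ∨ i = rot (rot l)) i l with rfl | rfl | rfl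
    exacts [s0, st _ s0, st _ (st _ s0)]

end FUa

open FUa in
theorem fuThm : FUThm.{u} := by
  intro W L Y YA YB YC G _ _ z t κ R r h nw
  obtain ⟨y, t', κ', R', r', ρ, j, v, v', h', m⟩ := YA W L Y h nw
  obtain ⟨C, hC⟩ := YB h h' m
  obtain ⟨l, hl⟩ := YC h h' m hC
  choose P P' p1 p2 p3 p4 using fun i => frame (v i) (m.vne i)
  refine ⟨P, main W L Y (h.reframe (P' := P') p2 (funext p3) (funext p4)) h' ?_ m.cjz m.ρy hl hC.cz fun n => ?_⟩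
  · rw [m.hy, show mon 1 P (ee 1) = v from funext fun i => by rw [mon_base, ee1, p1]]
  · obtain ⟨k, e⟩ := (mem_zp h.z3).1 n
    exact hC.C1 0 (congrFun (h.mq_one (e ▸ (h.zq k).mq z) (hC.ca.mq z)).2 0)

end CL.E63
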