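import Cfsg.Agent.Spor.TCSound

/-! coset enumeration certificate generated by tools/tc -/

set_option maxRecDepth 100000
set_option autoImplicit false
set_option linter.all false

namespace CL.TC.PrSp6

noncomputable def rows0 : Tr ℕ := (.node (nat_lit 2) (.node (nat_lit 1) (.leaf (nat_lit 0x7e2078f9026edc1ffa80fff1027ba843d8c212061091e087e18bbf0c59fc638fe41bac5f4c203840aba4087f8813f10212060f91707c8183e4741ffc636fe31afe18d3f1062c65520691106c8c81be662ffe41a1210889483feea0bf67067ea837fc4096ec32fe4198cd50c1c4c41c224077f18cbf90624e41f282117ba033d9417fe204fc3077f18c3f905e4856205a11018f1017fc62e9b413f998a7d0c55ea60ef6606cc98aff8c5bfa80bff10202554c18784053d2067f18b3f9057fc62afe314fa9837d981dfc628fe313ff8813f10181ec62048d983ec0813fa809ff101fd282be4c15a060ad1e057e1863f0c2dfc626fe412ac714c143c610af4057f880ff1015a0609d1704e8182747413fc624fe311fe1887f103ac65a203ff18891c80fec619fe410fb186fdcc39f4a05f97037ea81ffc407e661efe4100cd64c11fc61f464047f187bf903bfc61cfe30dfd201be540bfe203fc3047f186bf9032485b202a098312900bfc618d7408fb184fdcc29f0608f9603ea9857f8c2ffa805ff10182568c0c7660b4b2037f185bf902bfc614fe309fc181fe5811fc612fe308ff880ff100c1eff1011f100ef0809fc610fe407c9101244c09ee604f84027f183bf8c1bfc60cfe405c17fc4027a604b1201ff182bf9013a4403d1301fd180fed007fc608fe303ff181bf900b05fe3027f8807e4c05f2602fa3017c200bdcc05f2602fa3017c200bdcc05f8602fd3013c3f8c07fc602fa200fd1807ec803f6601fc200fe1807f4803fa601fe200ff1807fc80200))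 (.leaf (nat_lit 0x5f3199798b6bd425a4c14d04096818875cc3bf0c11d580aec186f3d44bfe208f370f078c8845fe207284111990dcd086a4860e263069a90a8d88526e4303821c1c90a0e886cf0654191918d51a449fa81dff103fc2863dd82de8612f460beb304fd5043e4620f45042c581062626374940c7f881ff103db1020d530d67188f3d849a4614f230cfeb027e9042c66040d929834ec8379ca25ce611fc3023fc40fef014f4b09eca06b3d44daae12ce81221d7cc384260e3a40e67289b39849fe207f74047b384fde8299ee25d951067388f5542e9c613181b98a2bd82fac613d670beb387750c43a6615f7908e7b89b60c39fa819ff1038259545e7063645411fa9887dd411ea616f750c7c305fde025e6c1dd450a7f881ff10341e6341720a09d2a43bb0611ff1037b1867dcc3d9c625cf6137db05bf5015b0c15d860a2c58cc5a42c33ae40d6a986bd10279f425cd4137ac87bdd833fe206d430aea186f3a04648633161da0ad25043fa815ff102fb187bd98339c626cf612feb02be8c31b8413f8408ac58545676a2c494137f8817f102d98c24ce811ea188350835aa417d620379b0535d030c6603099a18a6c1429e8a12d14107c301bfc40bec61bf660e6998674d83bae618f240aa1d860286662ab0609faa85f5d835fe205f7403799873d5837aac21d530f6c98476d02c9c6531412b8c2b9041a2820f340a67d09b3e44bec619f5c0f7ea847fc40b9ce24d440e0cd8504e3e62e1d412ec101b648319d223ce8127b186bdd841fe205fc3097ca85b6882648)))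 (.node (nat_lit 1) (.leaf (nat_lit 0x6220d12184a5d05b346299a716cd38c62cc692e62bf4913c7b8e0d8c3ffa82fff10682590c32486242741af918d3d141de462cf45177ab0b7d205173031942157f8837f10601e6230c1010448486338627ff1067998bfd0c651c6378f61c7db0b3f502138c2b9c6152c59102e60c20987184c98c3c50531f4378d41c7948cbd185ffe20c9831598188a3a06a486460b1d1854ed069fa82bff105f998cbcd85f1c6388f61bfeb043e8c5d40429f5413ac580c2a746163b41c7f882ff105918c368e81acc18ce608613242d9a2067830aa6d05cc65f3149a484eed455e2a2891419fab033fc416586223460fc998be4d8633662eef415a1d808546b014a1214f928b66d861fe20bf44061a987cad84532c34993194e989e7d0589c662091c386a5a06722833f041547d0e23e46fe662ff2c197ea89ffc4171ce363840f8cd80c22806182cb1bce10327485d1d2358e81b7998c3d1867fe20bfc3147b28b278852486351c10a0d129c2bf6e24cd40de6185f38c25a1418cf90b67187338c35fa825ff1050258cc6e3a4311e208fdb08f350399c612ce30be8305b3e0319c620ce30dff882bf104c1e5e31b12b0bd1503d9a61bfa4136698472cc2ba0a1dcf710fea88ffc4139a61ccd4090cd80c6a4aa3246a0ce69873e904b9a615cd308e820873d43bfe209fc31266985f35036483130fff8820a483e544382b21b1398348cc1c584292d2151710dcbc8666043531216bc181468506384aa0b7f8823d9c33aae1ad17106718933d847e861ed4309fdb077f5812c6))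 (.leaf (nat_lit 0x6231314a084f1c57f6e36294114618b638c512142e8f9161b987e38c61fa837ff10802591c4a6481d2b413fdb0d4c903f1c6288e316c830b23e05d1c6332d3117f8843f10701e5f4121cb0649d06454622fa41c46989e2cc5720a318f71a7ea8d7fc41e7261f8d4140cd8484666a1e2861799987fe906f1a62b8d313c820d23d463fe20ffc31b4698b4bd044485f310901898f2859fe20ef3717c610c245c671c6368f61af898ca60c53f6c31fd607b198104040617954144930aa41051206349b318fab09e660565c6228f51bff883ad5c641e6430f12188ca1c6dfa831ff106faa8bbd1859e2628f1616cd30a7c906968633b64072c57cc3a38625204177f8837f106539033993184718d63d86d2462ab8317feb03fe9068c6))))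
noncomputable def recs0 : Tr ℕ := (.node (nat_lit 1) (.leaf (nat_lit 0x4a3186eb1481206e3307c156d052331968b107bc168f01b31920b11b07928091ab1928b11a825201e449755c72074155d050736d5adb1821c689c19921203306c15550506bc152f006b6d50db231c88c5d0221c089c020008600151205e3314025281e168792009180cd2848181c8565d168cc5648061205633158011400062c44ec6173184eb1148784e0913801180014824581e14b6c52db151752872149c9285d06a712887151c9205d14975207207271208706a1d209c451746072148791809462c45cc6062c518c6168cd144806121143305c15130504b6c14db01b6c06db36800140020800060021000e80011270ec873ea7044873ebc036f03ea1c3e9c24174fa722b1c8fa5d21120fa330236c08db020008a003b2703e873b3c038f02b174ec72241c8ec5d210ccec482136ce8db20bc0e8f0053c0e6f004c14150505000e00004c14e10504bc0def020b18dab104b6cdadb26974d67204414d7050436cd4db03c14d30503b6cd0db211c8845d01a1c069c018007e000d1c82a5d0b8cc2a48031202a330a8009c00032c422c60c31822b109878220908800a000098242c1e27174347209878a00905b6cacdb24024ac1e21078ac09033c0acf0290788c09290248e1e05bc0a4f00336ca4db282c430c6032c4a0c60b8cc9c48031209c3302c149b05230788e0923bc018f00636c90db21024901e02bc090f002b6c8edb023c08cf00236c8adb0227086870221c869c01bc084f001b6c82db01a707e8701a1c7e9c00b6c02db00b1802b100a700287009c8025d009200233008780209))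 (.leaf (nat_lit 0x53c01ef018bc04af008b6c4adb04bc020f008bc05cf018b6c5cdb0dbc01cf006b6c1cdb1121c1c9c0fa701c870e3c01af00fa1c1a9c112701a870fb6c44db1c2c444c61b31844b1149744472151c8445d1b8cc44481992044331a824441e168784409114143f051bac43ec61ab183eb1151743e72149c83e5d180cc3e481c1203e33140243e1e1b0783e090db6c38db02bc016f00636c16db01bc008f007800e600640004a0008000de00033c018f0648005c003e8001c003b0001a0048000440003b6c10db4a0003e005480038000580090000336c0adb0200084005a00014005e800120006000ac00340001000350000e00290000a00230000600030008e0006c141d0505c141905070015400448001800068015c0003c14110502c140d0504000d200268000c0003800d60048415290515414530511c146b050d41461050fb6d20db3400188005f800d4000941451053b0015a003e801500054b6c36db642c552c664079680918bc190f064b6c62db2b31992b108bc192f008b6d90db623c120f0291758872239c9885d2312188335fa7152875fbc128f0239757e72291c97e5d230cd7e48232c57ac6083c17af01c2c520c61c121283307c142105080016c00)))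
noncomputable def rows : Tr ℕ := rows0
noncomputable def recs : Tr ℕ := recs0
noncomputable def ci0 : CI := ⟨[], (nat_lit 0), false, (.node (nat_lit 1) (.leaf Rule.defn) (.leaf Rule.copy)), (.node (nat_lit 16) (.node (nat_lit 8) (.node (nat_lit 4) (.node (nat_lit 2) (.node (nat_lit 1) (.leaf (XRule.rot (nat_lit 0) [] 58 0)) (.leaf (XRule.rot (nat_lit 7879710) [30, 30, 30] 1 0))) (.node (nat_lit 1) (.leaf (XRule.rot (nat_lit 6897024177) [177, 30, 198, 51] 17 3)) (.leaf (XRule.rot (nat_lit 736968305493049263034377) [9, 72, 51, 9, 72, 30, 135, 30, 156] 13 0)))) (.node (nat_lit 2) (.node (nat_lit 1) (.leaf (XRule.rot (nat_lit 781881298014417666824965123445968298930497346122311177) [9, 51, 30, 72, 198, 261, 9, 51, 30, 72, 198, 261, 9, 51, 30, 72, 198, 114, 114, 261] 56 1)) (.leaf (XRule.rot (nat_lit 138923094053370003584234997201417) [9, 93, 93, 219, 9, 93, 93, 219, 9, 93, 93, 219] 36 1))) (.node (nat_lit 1) (.leaf (XRule.rot (nat_lit 123120) [240, 240]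 58 0)) (.leaf (XRule.rot (nat_lit 101553) [177, 198] 58 0))))) (.node (nat_lit 4) (.node (nat_lit 2) (.node (nat_lit 1) (.leaf (XRule.rot (nat_lit 29456709360) [240, 219, 240, 219] 46 0)) (.leaf (XRule.rot (nat_lit 7711780938507378) [114, 114, 219, 93, 93, 219] 30 4))) (.node (nat_lit 1) (.leaf (XRule.rot (nat_lit 14633052534319377990360860955269633176406363381446463051147871183503380180585390822849961759358192) [240, 30, 261, 9, 198, 51, 9, 72, 30, 114, 114, 219, 240, 30, 261, 9, 198, 51, 9, 72, 30, 114, 114, 219, 240, 30, 261, 9, 198, 51, 9, 72, 30, 114, 114, 219] 55 3)) (.leaf (XRule.rot (nat_lit 3278566939223259) [219, 114, 114, 219, 93, 93] 30 3)))) (.node (nat_lit 2) (.node (nat_lit 1) (.leaf (XRule.rot (nat_lit 782371879261894477118555915659915863667482563270174217) [9, 51, 30, 72, 198, 114, 114, 261, 9, 51, 30, 72, 198, 261, 9, 51, 30, 72, 198, 261] 56 13)) (.leaf (XRule.rot (nat_lit 58461) [93, 114] 58 0))) (.node (nat_lit 1) (.leaf (XRule.rot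 (nat_lit 133893) [261, 261] 58 0)) (.leaf (XRule.rot (nat_lit 781389749693306752993271489884981192063092432816072369) [177, 51, 9, 72, 30, 261, 93, 93, 177, 51, 9, 72, 30, 261, 177, 51, 9, 72, 30, 261] 57 6)))))) (.node (nat_lit 4) (.node (nat_lit 2) (.node (nat_lit 1) (.leaf (XRule.rot (nat_lit 5062628386213026403484342568483820293) [261, 9, 240, 219, 93, 93, 30, 261, 9, 114, 114, 219, 240, 30] 52 0)) (.leaf (XRule.rot (nat_lit 4638) [30, 9] 58 0))) (.node (nat_lit 1) (.leaf (XRule.rot (nat_lit 15369) [9, 30] 58 0)) (.leaf (XRule.rot (nat_lit 47730) [114, 93] 58 0)))) (.node (nat_lit 1) (.leaf (XRule.rot (nat_lit 90822) [198, 177] 58 0)) (.leaf (XRule.rot (nat_lit 80007) [135, 156] 58 0)))))⟩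
noncomputable def ci9 : CI := ⟨[0], (nat_lit 30), true, (.node (nat_lit 4) (.node (nat_lit 2) (.node (nat_lit 1) (.leaf Rule.defn) (.leaf Rule.copy)) (.node (nat_lit 1) (.leaf (Rule.fwd [nat_lit 240, nat_lit 30, nat_lit 240] 40 1)) (.leaf (Rule.fwd [nat_lit 30] 58 0)))) (.node (nat_lit 2) (.node (nat_lit 1) (.leaf (Rule.fwd [nat_lit 114, nat_lit 72, nat_lit 93] 8 1)) (.leaf (Rule.fwd [nat_lit 198, nat_lit 72, nat_lit 177] 16 1))) (.node (nat_lit 1) (.leaf (Rule.fwd [nat_lit 9, nat_lit 9] 0 0)) (.leaf (Rule.fwd [nat_lit 93, nat_lit 51, nat_lit 114] 10 3))))), (.node (nat_lit 4) (.node (nat_lit 2) (.node (nat_lit 1) (.leaf XRule.defn) (.leaf XRule.ax)) (.node (nat_lit 1) (.leaf (XRule.rot (nat_lit 62930160) [240, 30, 240] 40 1)) (.leaf (XRule.rot (nat_lit 46436550) [198, 72, 177] 16 1)))) (.node (nat_lit 2) (.node (nat_lit 1) (.leaf (XRule.rot (nat_lit 30) [30] 58 0)) (.leaf (XRule.rot (nat_lit 24416370) [114, 72, 93] 8 1))) (.leaf (XRule.rot (nat_lit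 1809476355898440) [72, 30, 219, 177, 219, 51] 33 4))))⟩
noncomputable def ci30 : CI := ⟨[1], (nat_lit 9), false, (.node (nat_lit 4) (.node (nat_lit 2) (.node (nat_lit 1) (.leaf Rule.defn) (.leaf Rule.copy)) (.node (nat_lit 1) (.leaf (Rule.fwd [nat_lit 9] 58 0)) (.leaf (Rule.fwd [nat_lit 30, nat_lit 30] 1 0)))) (.node (nat_lit 2) (.node (nat_lit 1) (.leaf (Rule.fwd [nat_lit 72, nat_lit 177, nat_lit 261, nat_lit 198, nat_lit 51, nat_lit 9, nat_lit 72, nat_lit 30, nat_lit 261, nat_lit 9, nat_lit 51] 50 3)) (.leaf (Rule.fwd [nat_lit 198, nat_lit 51, nat_lit 177] 17 2))) (.leaf (Rule.fwd [nat_lit 93, nat_lit 72, nat_lit 114] 11 0)))), (.node (nat_lit 4) (.node (nat_lit 2) (.node (nat_lit 1) (.leaf XRule.defn) (.leaf XRule.defn)) (.node (nat_lit 1) (.leaf (XRule.rot (nat_lit 62919408) [240, 9, 240] 40 3)) (.leaf (XRule.rot (nat_lit 1245698190830808863388) [156, 9, 72, 51, 9, 72, 30, 135] 13 2)))) (.node (nat_lit 1) (.leaf (XRule.rot (nat_lit 29921373) [93,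 72, 114] 11 0)) (.leaf (XRule.rot (nat_lit 9) [9] 58 0))))⟩
noncomputable def ci51 : CI := ⟨[2], (nat_lit 72), true, (.node (nat_lit 4) (.node (nat_lit 2) (.node (nat_lit 1) (.leaf Rule.defn) (.leaf Rule.copy)) (.node (nat_lit 1) (.leaf (Rule.fwd [nat_lit 72] 58 0)) (.leaf (Rule.fwd [nat_lit 177, nat_lit 30, nat_lit 198] 17 0)))) (.node (nat_lit 1) (.leaf (Rule.fwd [nat_lit 114, nat_lit 9, nat_lit 93] 10 1)) (.leaf (Rule.fwd [nat_lit 51, nat_lit 51] 2 0)))), (.node (nat_lit 4) (.node (nat_lit 2) (.node (nat_lit 1) (.leaf XRule.defn) (.leaf XRule.ax)) (.node (nat_lit 1) (.leaf (XRule.rot (nat_lit 72) [72] 58 0)) (.leaf (XRule.rot (nat_lit 24384114) [114, 9, 93] 10 1)))) (.leaf (XRule.rot (nat_lit 331735546761246) [30, 72, 219, 198, 219, 9] 32 2)))⟩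
noncomputable def ci72 : CI := ⟨[3], (nat_lit 51), false, (.node (nat_lit 4) (.node (nat_lit 2) (.node (nat_lit 1) (.leaf Rule.defn) (.leaf Rule.copy)) (.node (nat_lit 1) (.leaf (Rule.fwd [nat_lit 51] 58 0)) (.leaf (Rule.fwd [nat_lit 93, nat_lit 9, nat_lit 114] 8 3)))) (.node (nat_lit 2) (.node (nat_lit 1) (.leaf (Rule.fwd [nat_lit 72, nat_lit 72] 3 0)) (.leaf (Rule.fwd [nat_lit 177, nat_lit 9, nat_lit 198] 16 3))) (.node (nat_lit 1) (.leaf (Rule.fwd [nat_lit 114, nat_lit 30, nat_lit 93] 11 2)) (.leaf (Rule.fwd [nat_lit 30, nat_lit 219, nat_lit 177, nat_lit 219, nat_lit 51, nat_lit 9] 33 3))))), (.node (nat_lit 4) (.node (nat_lit 2) (.node (nat_lit 1) (.leaf XRule.defn) (.leaf XRule.defn)) (.node (nat_lit 1) (.leaf (XRule.rot (nat_lit 36936) [72, 72] 3 0)) (.leaf (XRule.rot (nat_lit 51) [51] 58 0)))) (.leaf (XRule.rot (nat_lit 29889117) [93, 9, 114] 8 3)))⟩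
noncomputable def ci93 : CI := ⟨[4], (nat_lit 114), true, (.node (nat_lit 8) (.node (nat_lit 4) (.node (nat_lit 2) (.node (nat_lit 1) (.leaf Rule.defn) (.leaf Rule.copy)) (.node (nat_lit 1) (.leaf (Rule.fwd [nat_lit 240, nat_lit 114, nat_lit 156, nat_lit 240] 42 1)) (.leaf (Rule.fwd [nat_lit 261, nat_lit 114, nat_lit 261] 48 1)))) (.node (nat_lit 2) (.node (nat_lit 1) (.leaf (Rule.fwd [nat_lit 30, nat_lit 114, nat_lit 51] 9 3)) (.leaf (Rule.fwd [nat_lit 114] 58 0))) (.node (nat_lit 1) (.leaf (Rule.fwd [nat_lit 9, nat_lit 114, nat_lit 72] 8 0)) (.leaf (Rule.fwd [nat_lit 51, nat_lit 114, nat_lit 9] 10 0))))) (.node (nat_lit 4) (.node (nat_lit 2) (.node (nat_lit 1) (.leaf (Rule.fwd [nat_lit 72, nat_lit 114, nat_lit 30] 11 3)) (.leaf (Rule.fwd [nat_lit 135, nat_lit 114, nat_lit 135] 22 0))) (.node (nat_lit 1) (.leaf (Rule.fwd [nat_lit 93, nat_lit 156, nat_lit 156] 20 0)) (.leaf (Rule.fwd [nat_lit 156, nat_lit 156, nat_lit 93] 20 1)))) (.node (nat_lit 1)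 (.leaf (Rule.fwd [nat_lit 198, nat_lit 156, nat_lit 177] 24 1)) (.leaf (Rule.fwd [nat_lit 135, nat_lit 177, nat_lit 156, nat_lit 198] 27 0))))), (.node (nat_lit 4) (.node (nat_lit 2) (.node (nat_lit 1) (.leaf XRule.defn) (.leaf XRule.ax)) (.node (nat_lit 1) (.leaf (XRule.rot (nat_lit 114) [114] 58 0)) (.leaf (XRule.rot (nat_lit 32253207792) [240, 114, 156, 240] 42 1)))) (.node (nat_lit 2) (.node (nat_lit 1) (.leaf (XRule.rot (nat_lit 13427742) [30, 114, 51] 9 3)) (.leaf (XRule.rot (nat_lit 18932745) [9, 114, 72] 8 0))) (.node (nat_lit 1) (.leaf (XRule.rot (nat_lit 35447943) [135, 114, 135] 22 0)) (.leaf (XRule.rot (nat_lit 40974429) [93, 156, 156] 20 0)))))⟩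
noncomputable def ci114 : CI := ⟨[5], (nat_lit 93), false, (.node (nat_lit 8) (.node (nat_lit 4) (.node (nat_lit 2) (.node (nat_lit 1) (.leaf Rule.defn) (.leaf Rule.copy)) (.node (nat_lit 1) (.leaf (Rule.fwd [nat_lit 93] 58 0)) (.leaf (Rule.fwd [nat_lit 9, nat_lit 93, nat_lit 51] 10 2)))) (.node (nat_lit 2) (.node (nat_lit 1) (.leaf (Rule.fwd [nat_lit 30, nat_lit 93, nat_lit 72] 11 1)) (.leaf (Rule.fwd [nat_lit 72, nat_lit 93, nat_lit 9] 8 2))) (.node (nat_lit 1) (.leaf (Rule.fwd [nat_lit 135, nat_lit 93, nat_lit 135] 22 2)) (.leaf (Rule.fwd [nat_lit 156, nat_lit 93, nat_lit 156] 23 1))))) (.node (nat_lit 1) (.leaf (Rule.fwd [nat_lit 135, nat_lit 135, nat_lit 114] 21 1)) (.leaf (Rule.fwd [nat_lit 51, nat_lit 93, nat_lit 30] 9 1)))), (.node (nat_lit 8) (.node (nat_lit 4) (.node (nat_lit 2) (.node (nat_lit 1) (.leaf XRule.defn) (.leaf XRule.defn)) (.node (nat_lit 1) (.leaf (XRule.rot (nat_lit 7911987) [51, 93, 30] 9 1)) (.leaf (XRule.rot (nat_lit 68467461)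 [261, 93, 261] 48 3)))) (.node (nat_lit 2) (.node (nat_lit 1) (.leaf (XRule.rot (nat_lit 13416969) [9, 93, 51] 10 2)) (.leaf (XRule.rot (nat_lit 18922014) [30, 93, 72] 11 1))) (.node (nat_lit 1) (.leaf (XRule.rot (nat_lit 35437191) [135, 93, 135] 22 2)) (.leaf (XRule.rot (nat_lit 40942236) [156, 93, 156] 23 1))))) (.leaf (XRule.rot (nat_lit 93) [93] 58 0)))⟩
noncomputable def ci135 : CI := ⟨[6], (nat_lit 156), true, (.node (nat_lit 8) (.node (nat_lit 4) (.node (nat_lit 2) (.node (nat_lit 1) (.leaf Rule.defn) (.leaf Rule.copy)) (.node (nat_lit 1) (.leaf (Rule.fwd [nat_lit 156] 58 0)) (.leaf (Rule.fwd [nat_lit 114, nat_lit 114, nat_lit 135] 21 3)))) (.node (nat_lit 2) (.node (nat_lit 1) (.leaf (Rule.fwd [nat_lit 51, nat_lit 156, nat_lit 51, nat_lit 9, nat_lit 72, nat_lit 30, nat_lit 51, nat_lit 9] 14 0)) (.leaf (Rule.fwd [nat_lit 177, nat_lit 114, nat_lit 198] 25 0))) (.node (nat_lit 1) (.leaf (Rule.fwd [nat_lit 198, nat_lit 156, nat_lit 114, nat_lit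 177] 26 1)) (.leaf (Rule.fwd [nat_lit 93, nat_lit 135, nat_lit 114] 22 3))))) (.leaf (Rule.fwd [nat_lit 114, nat_lit 135, nat_lit 93] 22 1))), (.node (nat_lit 4) (.node (nat_lit 2) (.node (nat_lit 1) (.leaf XRule.defn) (.leaf XRule.ax)) (.node (nat_lit 1) (.leaf (XRule.rot (nat_lit 35447922) [114, 114, 135] 21 3)) (.leaf (XRule.rot (nat_lit 32242262109) [93, 240, 114, 240] 43 0)))) (.node (nat_lit 1) (.leaf (XRule.rot (nat_lit 29942919) [135, 114, 114] 21 0)) (.leaf (XRule.rot (nat_lit 156) [156] 58 0))))⟩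
noncomputable def ci156 : CI := ⟨[7], (nat_lit 135), false, (.node (nat_lit 8) (.node (nat_lit 4) (.node (nat_lit 2) (.node (nat_lit 1) (.leaf Rule.defn) (.leaf Rule.copy)) (.node (nat_lit 1) (.leaf (Rule.fwd [nat_lit 135] 58 0)) (.leaf (Rule.fwd [nat_lit 240, nat_lit 93, nat_lit 240, nat_lit 114] 42 4)))) (.node (nat_lit 2) (.node (nat_lit 1) (.leaf (Rule.fwd [nat_lit 177, nat_lit 93, nat_lit 198] 24 3)) (.leaf (Rule.fwd [nat_lit 93, nat_lit 93, nat_lit 156] 20 3))) (.node (nat_lit 1) (.leaf (Rule.fwd [nat_lit 198, nat_lit 93, nat_lit 135, nat_lit 177] 27 2)) (.leaf (Rule.fwd [nat_lit 114, nat_lit 177, nat_lit 135, nat_lit 198] 26 3))))) (.node (nat_lit 1) (.leaf (Rule.fwd [nat_lit 93, nat_lit 156, nat_lit 114] 23 0)) (.leaf (Rule.fwd [nat_lit 114, nat_lit 156, nat_lit 93] 23 2)))), (.node (nat_lit 4) (.node (nat_lit 2) (.node (nat_lit 1) (.leaf XRule.defn) (.leaf XRule.defn)) (.node (nat_lit 1) (.leaf (XRule.rot (nat_lit 135) [135] 58 0)) (.leaf (XRule.rot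 (nat_lit 40942173) [93, 93, 156] 20 3)))) (.leaf (XRule.rot (nat_lit 23791975110) [198, 93, 135, 177] 27 2)))⟩
noncomputable def ci177 : CI := ⟨[8], (nat_lit 198), true, (.node (nat_lit 4) (.node (nat_lit 2) (.node (nat_lit 1) (.leaf Rule.defn) (.leaf Rule.copy)) (.node (nat_lit 1) (.leaf (Rule.fwd [nat_lit 240, nat_lit 177, nat_lit 240] 44 1)) (.leaf (Rule.fwd [nat_lit 198] 58 0)))) (.node (nat_lit 2) (.node (nat_lit 1) (.leaf (Rule.fwd [nat_lit 51, nat_lit 198, nat_lit 51, nat_lit 9, nat_lit 72, nat_lit 30, nat_lit 51, nat_lit 9] 18 0)) (.leaf (Rule.fwd [nat_lit 93, nat_lit 198, nat_lit 156] 24 0))) (.leaf (Rule.fwd [nat_lit 177, nat_lit 177] 28 0)))), (.node (nat_lit 4) (.node (nat_lit 2) (.node (nat_lit 1) (.leaf XRule.defn) (.leaf XRule.ax)) (.node (nat_lit 1) (.leaf (XRule.rot (nat_lit 198) [198] 58 0)) (.leaf (XRule.rot (nat_lit 7707448737818331) [219, 51, 9, 72, 30, 219] 33 0)))) (.node (nat_lit 2) (.node (nat_lit 1) (.leaf (XRule.rot (nat_lit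 40995933) [93, 198, 156] 24 0)) (.leaf (XRule.rot (nat_lit 63005424) [240, 177, 240] 44 1))) (.leaf (XRule.rot (nat_lit 169837052234675742) [30, 219, 9, 198, 30, 219, 9] 34 2))))⟩
noncomputable def ci198 : CI := ⟨[9], (nat_lit 177), false, (.node (nat_lit 4) (.node (nat_lit 2) (.node (nat_lit 1) (.leaf Rule.defn) (.leaf Rule.copy)) (.node (nat_lit 1) (.leaf (Rule.fwd [nat_lit 177] 58 0)) (.leaf (Rule.fwd [nat_lit 198, nat_lit 198] 29 0)))) (.node (nat_lit 2) (.node (nat_lit 1) (.leaf (Rule.fwd [nat_lit 93, nat_lit 135, nat_lit 177, nat_lit 156] 27 1)) (.leaf (Rule.fwd [nat_lit 72, nat_lit 177, nat_lit 9] 16 2))) (.leaf (Rule.fwd [nat_lit 51, nat_lit 177, nat_lit 30] 17 1)))), (.node (nat_lit 4) (.node (nat_lit 2) (.node (nat_lit 1) (.leaf XRule.defn) (.leaf XRule.defn)) (.node (nat_lit 1) (.leaf (XRule.rot (nat_lit 101574) [198, 198] 29 0)) (.leaf (XRule.rot (nat_lit 177) [177] 58 0)))) (.node (nat_lit 1) (.leaf (XRule.rot (nat_lit 20984434269) [93,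 135, 177, 156] 27 1)) (.leaf (XRule.rot (nat_lit 63016176) [240, 198, 240] 45 0))))⟩
noncomputable def ci219 : CI := ⟨[10], (nat_lit 219), true, (.node (nat_lit 8) (.node (nat_lit 4) (.node (nat_lit 2) (.node (nat_lit 1) (.leaf Rule.defn) (.leaf Rule.copy)) (.node (nat_lit 1) (.leaf (Rule.fwd [nat_lit 240, nat_lit 219, nat_lit 240] 46 1)) (.leaf (Rule.fwd [nat_lit 219] 58 0)))) (.node (nat_lit 2) (.node (nat_lit 1) (.leaf (Rule.fwd [nat_lit 9, nat_lit 198, nat_lit 30, nat_lit 219, nat_lit 9, nat_lit 177, nat_lit 30] 34 4)) (.leaf (Rule.fwd [nat_lit 9, nat_lit 177, nat_lit 30, nat_lit 219, nat_lit 9, nat_lit 198, nat_lit 30] 34 0))) (.node (nat_lit 1) (.leaf (Rule.fwd [nat_lit 198, nat_lit 219, nat_lit 9, nat_lit 51, nat_lit 30, nat_lit 72] 32 5)) (.leaf (Rule.fwd [nat_lit 114, nat_lit 114, nat_lit 219, nat_lit 93, nat_lit 93] 30 3))))) (.node (nat_lit 2) (.node (nat_lit 1) (.leaf (Rule.fwd [nat_lit 9, nat_lit 51, nat_lit 30, nat_lit 72, nat_lit 219,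 nat_lit 198] 32 0)) (.leaf (Rule.fwd [nat_lit 177, nat_lit 219, nat_lit 51, nat_lit 9, nat_lit 72, nat_lit 30] 33 1))) (.leaf (Rule.fwd [nat_lit 51, nat_lit 9, nat_lit 72, nat_lit 30, nat_lit 219, nat_lit 177] 33 6)))), (.node (nat_lit 4) (.node (nat_lit 2) (.node (nat_lit 1) (.leaf XRule.defn) (.leaf XRule.ax)) (.node (nat_lit 1) (.leaf (XRule.rot (nat_lit 77890480481744634053411567316810333) [93, 93, 30, 261, 9, 114, 114, 219, 240, 30, 261, 9, 240] 52 3)) (.leaf (XRule.rot (nat_lit 63026928) [240, 219, 240] 46 1)))) (.node (nat_lit 2) (.node (nat_lit 1) (.leaf (XRule.rot (nat_lit 219) [219] 58 0)) (.leaf (XRule.rot (nat_lit 6403451053170) [114, 114, 219, 93, 93] 30 3))) (.node (nat_lit 1) (.leaf (XRule.rot (nat_lit 1060480186431153) [177, 219, 51, 9, 72, 30] 33 1)) (.leaf (XRule.rot (nat_lit 2535343222273734) [198, 219, 9, 51, 30, 72] 32 5)))))⟩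
noncomputable def ci240 : CI := ⟨[11], (nat_lit 240), false, (.node (nat_lit 8) (.node (nat_lit 4) (.node (nat_lit 2) (.node (nat_lit 1) (.leaf Rule.defn) (.leaf Rule.copy)) (.node (nat_lit 1) (.leaf (Rule.fwd [nat_lit 240] 58 0)) (.leaf (Rule.fwd [nat_lit 198, nat_lit 240, nat_lit 198] 45 1)))) (.node (nat_lit 2) (.node (nat_lit 1) (.leaf (Rule.fwd [nat_lit 177, nat_lit 240, nat_lit 177] 44 0)) (.leaf (Rule.fwd [nat_lit 30, nat_lit 240, nat_lit 9] 40 2))) (.node (nat_lit 1) (.leaf (Rule.fwd [nat_lit 9, nat_lit 240, nat_lit 30] 40 0)) (.leaf (Rule.fwd [nat_lit 114, nat_lit 156, nat_lit 240, nat_lit 93] 42 2))))) (.leaf (Rule.fwd [nat_lit 135, nat_lit 93, nat_lit 240, nat_lit 114] 43 1))), (.node (nat_lit 4) (.node (nat_lit 2) (.node (nat_lit 1) (.leaf XRule.defn) (.leaf XRule.defn)) (.node (nat_lit 1) (.leaf (XRule.rot (nat_lit 57532635) [219, 240, 219] 46 0)) (.leaf (XRule.rot (nat_lit 71141960483566421559627517044066846) [30, 261, 9, 240, 219, 93,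 93, 30, 261, 9, 114, 114, 219] 52 12)))) (.node (nat_lit 1) (.leaf (XRule.rot (nat_lit 20967972957) [93, 240, 114, 156] 42 0)) (.leaf (XRule.rot (nat_lit 240) [240] 58 0))))⟩
noncomputable def ci261 : CI := ⟨[12], (nat_lit 261), false, (.node (nat_lit 4) (.node (nat_lit 2) (.node (nat_lit 1) (.leaf Rule.defn) (.leaf Rule.copy)) (.node (nat_lit 1) (.leaf (Rule.fwd [nat_lit 261] 58 0)) (.leaf (Rule.fwd [nat_lit 114, nat_lit 261, nat_lit 93] 48 2)))) (.node (nat_lit 2) (.node (nat_lit 1) (.leaf (Rule.fwd [nat_lit 93, nat_lit 261, nat_lit 114] 48 0)) (.leaf (Rule.fwd [nat_lit 198, nat_lit 51, nat_lit 9, nat_lit 72, nat_lit 30, nat_lit 261, nat_lit 9, nat_lit 51, nat_lit 30, nat_lit 72, nat_lit 177] 50 6))) (.node (nat_lit 1) (.leaf (Rule.fwd [nat_lit 9, nat_lit 51, nat_lit 30, nat_lit 72, nat_lit 177, nat_lit 261, nat_lit 198, nat_lit 51, nat_lit 9, nat_lit 72, nat_lit 30] 50 0)) (.leaf (Rule.fwd [nat_lit 177, nat_lit 51, nat_lit 9, nat_lit 72, nat_lit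 30, nat_lit 261, nat_lit 93, nat_lit 93, nat_lit 177, nat_lit 51, nat_lit 9, nat_lit 72, nat_lit 30, nat_lit 261, nat_lit 177, nat_lit 51, nat_lit 9, nat_lit 72, nat_lit 30] 57 7))))), (.node (nat_lit 4) (.node (nat_lit 2) (.node (nat_lit 1) (.leaf XRule.defn) (.leaf XRule.defn)) (.node (nat_lit 1) (.leaf (XRule.rot (nat_lit 261) [261] 58 0)) (.leaf (XRule.rot (nat_lit 3956214332048456717895362076488149869994010492412399220701125050885488587345305916043984494601) [9, 240, 219, 93, 93, 9, 51, 30, 72, 177, 30, 261, 9, 240, 219, 93, 93, 9, 51, 30, 72, 177, 30, 261, 9, 240, 219, 93, 93, 9, 51, 30, 72, 177, 30] 54 0)))) (.node (nat_lit 2) (.node (nat_lit 1) (.leaf (XRule.rot (nat_lit 9794618021730032671304532235969545) [9, 114, 114, 219, 240, 30, 261, 9, 240, 219, 93, 93, 30] 52 7)) (.leaf (XRule.rot (nat_lit 9887946066822317194305356579069961) [9, 240, 219, 93, 93, 30, 261, 9, 114, 114, 219, 240, 30] 52 0))) (.node (nat_lit 1) (.leaf (XRule.rot (nat_lit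 1158332062681602056976669397746533736836252938298889) [9, 51, 30, 72, 198, 114, 114, 261, 9, 51, 30, 72, 198, 261, 9, 51, 30, 72, 198] 56 12)) (.leaf (XRule.rot (nat_lit 24513138) [114, 261, 93] 48 2)))))⟩
noncomputable def outer : Tr CI := (.node (nat_lit 1) (.node (nat_lit 2) (.node (nat_lit 8) (.node (nat_lit 16) (.leaf ci0) (.leaf ci240)) (.node (nat_lit 4) (.leaf ci72) (.leaf ci156))) (.node (nat_lit 4) (.leaf ci114) (.node (nat_lit 8) (.leaf ci198) (.leaf ci30)))) (.node (nat_lit 2) (.node (nat_lit 4) (.node (nat_lit 8) (.leaf ci177) (.leaf ci9)) (.node (nat_lit 8) (.leaf ci261) (.leaf ci93))) (.node (nat_lit 4) (.node (nat_lit 8) (.leaf ci51) (.leaf ci219)) (.leaf ci135))))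
def cols : List ℕ := [nat_lit 9, nat_lit 30, nat_lit 51, nat_lit 72, nat_lit 93, nat_lit 114, nat_lit 135, nat_lit 156, nat_lit 177, nat_lit 198, nat_lit 219, nat_lit 240, nat_lit 261]
def invL : List ℕ := [1, 0, 3, 2, 5, 4, 7, 6, 9, 8, 10, 11, 12]
def rels : List (List ℕ) := [[0, 0, 0], [2, 2, 2], [0, 2, 1, 3, 0, 2, 0, 3, 1, 1], [0, 2, 1, 3, 2, 2, 0, 3, 1, 3], [4, 0, 5, 3], [4, 2, 5, 0], [6, 0, 7, 0, 2, 1, 3, 2, 1], [6, 2, 7, 2, 0, 3, 1, 2, 0], [8, 0, 9, 3], [8, 2, 9, 2, 0, 3, 1, 2, 0], [4, 4, 7, 7], [4, 6, 5, 6], [8, 4, 9, 7], [8, 6, 9, 7, 5], [8, 8, 8], [10, 4, 4, 10, 5, 5], [10, 0, 2, 1, 3, 10, 9], [10, 0, 8, 1, 10, 0, 9, 1], [10, 0, 4, 4, 10, 0, 4, 4, 10, 0, 4, 4], [4, 10, 4, 10, 5, 10, 5, 10], [11, 0, 11, 1], [11, 4, 11, 5, 7], [11, 8, 11, 8], [11, 10, 11, 10], [12, 4, 12, 5], [12, 0, 2, 1, 3, 8, 12, 9, 2, 0, 3, 1], [12, 0, 11, 10, 4, 4, 1, 12, 0, 5, 5, 10, 11, 1], [12, 0, 11, 10, 4, 4, 0, 2, 1, 3, 8, 1, 12, 0, 11, 10, 4, 4, 0, 2, 1, 3, 8, 1,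 12, 0, 11, 10, 4, 4, 0, 2, 1, 3, 8, 1], [12, 0, 2, 1, 3, 9, 12, 0, 2, 1, 3, 9, 12, 0, 2, 1, 3, 9, 5, 5]]
def subs : List (List ℕ) := [[0], [2], [4], [6], [8], [10]]
noncomputable def row (n : ℕ) : ℕ := rowOf (fun h => rows.get h) (nat_lit 4) (nat_lit 15) (nat_lit 282) (nat_lit 0x3ffffffffffffffffffffffffffffffffffffffffffffffffffffffffffffffffffffff) n
noncomputable def xleaf (h : ℕ) : ℕ := recs.get h
noncomputable def mF : ℕ → ℕ := mainRow row (rowChk row xleaf outer (nat_lit 9) (nat_lit 511) (nat_lit 15) (nat_lit 13) (nat_lit 8191) (nat_lit 2097151) (nat_lit 256) (nat_lit 56) (nat_lit 512) (nat_lit 9) (nat_lit 511) (nat_lit 18) (nat_lit 262143) (nat_lit 8) (nat_lit 255) cols)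
noncomputable def xF : ℕ → ℕ → ℕ := xLeaf row xleaf outer (nat_lit 511) (nat_lit 13) (nat_lit 2097151) (nat_lit 256) (nat_lit 56) (nat_lit 9) (nat_lit 511) (nat_lit 18) (nat_lit 262143) (nat_lit 261632) (nat_lit 8) (nat_lit 255) (nat_lit 11) (nat_lit 2047) (nat_lit 5) (nat_lit 31) (nat_lit 261) (nat_lit 28672) (nat_lit 128)
noncomputable def cert : Cert := ⟨row, xleaf, outer, cols, nat_lit 9, nat_lit 511, nat_lit 15, nat_lit 13, nat_lit 8191, nat_lit 2097151, nat_lit 256, nat_lit 56, nat_lit 512, nat_lit 9, nat_lit 511, nat_lit 18, nat_lit 262143, nat_lit 261632, nat_lit 8, nat_lit 255, nat_lit 11, nat_lit 2047, nat_lit 5, nat_lit 31, nat_lit 261, nat_lit 28672, nat_lit 128, nat_lit 21, nat_lit 256, nat_lit 2⟩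
theorem tabok : tabOK (fun i => invL.getD i i) rels subs outer cols (nat_lit 9) (nat_lit 261) = true := by decide +kernel
theorem m0 : rng mF (nat_lit 1) (nat_lit 56) = 0 := by decide +kernel
noncomputable def s0 : List ℕ := [nat_lit 0x1002004008010020008680000018800000000454000000c40000000000047c001120c447c000002020000000000000000000000000d112223e47031124000468310000004ac00042000000970420004cc000000000008090420842800000000000d19240004d03111b0004d031000276000890622760008f0622764c89a86325e0000006300000095062000000000002544ac0000020650ca30000c2520a18442904c02114825e10c9680028c00041150256108a812d086540a204221e000000002a60000000000048cac10d08444cad00022420c00000000000b280025018c001690000000000022030c000002de00000000000000000000004248190120440000000000000000005085c0b7842000000bb91122418c0017b2ba4803217b2b84f032000000478be0840000008f17c10646400000000488be17f27e48c00000000614c2119088000c495d278194c495c240194c197f31418c00000274628420000004e8c50832fa630c906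42f2570ae13c28200000000280628c692130a448cb1770cc000cc96a0ce664888443365a42200000068c00042000000d304234e00000063000000d10620006bc000000c46bc000000cc6bc000000cc000db9ae36619cdb80000019cdc1bb0006e8dc8a50000000000034468c000002066acdf0000c2700d58443806a0211c034e10cd280037c000411c8346108e41a5086720d6042372708000643660000006537200000064000748da86322e000000003960000000000048cec11508446ced00023420c000000006cce10000c6000d81b3000210000003d6000d006336a0000006436e000000643a200000000000000631b1000000320003ee0008d06500000000000000000f70c400000000000000000ea0e6, nat_lit 0x3f6000000000000000000000000000000000000000000007b8fe000508800fd8423aa00000000000000621b1000000000840008240011a0ca001069dd272191069dc24c190db800268838421e10004d10708300085cee9260ca85cee1390ca6c4001254302100000044253c9d065000000e10002808886321f440890311f7000898311e100089832800000000a521e45431cef9e0458644441e9000000ef22f3165f8749d43fc7f4e98000000000012223e0000010121040c809022004108210a000000000000000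00001d6000000001e8462600004832c600000000000000000000000008080000000000000000000000000000000013426600000000000000000000008c8ea21391486d072342c60000015e1d68751b95f00020c000000007a1189800008c8ea21346858c00000000790f721d46e57c000000000000000000077917990000794001d03e600000000000000000000008e800000000000001ca000998dda3e36419cb280000051800000000818f280000070800000000000000000000014600048459c3696148459437245252109231610847ac00000000000e2000296000000000000000000000000000000000a3c0024c3da1b4f1a4c3d61b9279a1084940f184224e46cc300000000129800000000a013b000920e80004ac49c388004ac4dc390004ac8411a0930009590c23711a4ed2b1240cc0012ca0a0e80012c9f80ce44d2c91b0cc96c9984423e96c9a8660009751aa1412a0012ea354242192f95f0880012fa36438218002602fc1cc002603141b40026044419d3013b08a5b531a090cc00132a290e25d5329f70cc998898454d448c2226a23e11536a2c0889bcf98444de75422a6f40a109379d10869bcdc8424de6ec2426f3e2109379fe0869bd20a720c49cce98444e67bc22a733ca109399fc0869ccda8424e66cc242733ea10939a070869cd1c8444ea65422a753041093a98008a9dcc70454ee6482127745c77c322773201153ca240889e5108454f85b422a7f43e1113fa2708aa00ba84500000000000000000000000000000000000000000000000000000000000000000000000000000]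
theorem x0 : xs xF s0 (nat_lit 1) = 0 := by decide +kernel
theorem mz0 : AllZ mF 1 (nat_lit 57) := (AllZ.step (AllZ.nil mF 1) (nat_lit 56) (nat_lit 57) rfl m0)
theorem xz0 : XZ xF (nat_lit 2) := (XZ.step (XZ.nil xF) s0 (nat_lit 1) (nat_lit 2) (by decide +kernel) x0)
/-- the certificate (56 points) is valid -/
theorem valid : cert.Valid (fun i => invL.getD i i) rels subs 13 :=
  ⟨by decide +kernel, tabok, by decide +kernel, mz0, xz0⟩
theorem cert_N : cert.N = 56 := rfl

end CL.TC.PrSp6
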