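/-
3-local recognition of `Sp₆(2)`.
-/
import Cfsg.Agent.Rec.PrI
import Cfsg.Agent.Rec.PrSp6

set_option autoImplicit false
set_option maxRecDepth 100000

namespace CL.Prince

open Subgroup Cfsg CL.TC CL.Amg CL.Rec CL.Grp CL.Perm CL.H43 Equiv

/-- a product of two 3-cycles -/
def x6 : S6 := z6 * w6

theorem e_y : ∀ y : S6, y * y = 1 → y * q6 = q6 * y → y * (x6 * y * x6⁻¹) * (x6⁻¹ * y * x6) = q6 →
    y = swap 2 5 ∨ y = q6 ∨ (y = x6 * swap 2 5 * x6⁻¹ ∧ x6 * y * x6⁻¹ ≠ swap 2 5) ∨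
      (y = x6⁻¹ * swap 2 5 * x6 ∧ x6⁻¹ * y * x6 ≠ swap 2 5) := by decide +kernel
theorem e_6 : (swap 2 5 : S6) * swap 2 5 = 1 ∧ swap 0 3 * q6 = q6 * swap 0 3 ∧ swap 2 5 * q6 = q6 * swap 2 5 ∧
    swap 0 3 * x6 * (swap 0 3)⁻¹ * x6⁻¹ = swap 2 5 * q6 ∧ (swap 2 5 * q6) ^ 4 = 1 ∧
    swap 2 5 * (x6 * swap 2 5 * x6⁻¹) * (x6⁻¹ * swap 2 5 * x6) = q6 ∧ swap 2 5 ≠ q6 ∧
    (swap 2 5 : S6) * swap 0 1 * swap 2 5 = swap 0 1 ∧ (swap 2 5 * swap 0 1 * z6) ^ 3 = 1 ∧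
    (swap 2 5 * x6) ^ 3 = q6 := by decide +kernel

variable {G : Type*} [Group G] [Finite G]

namespace Rs

variable (Y : Rs G)

theorem caseII (h : Y.Six) {F : Type*} [Field F] [Fintype F] (hF : Fintype.card F = 2) :
    Nonempty (G ≃* Matrix.symplecticGroup (Fin 3) F) := by
  have L := Y.loc
  have E := Y.ec2 L h
  obtain ⟨a5, hM, hq⟩ := Y.kmain L E
  obtain ⟨ψ, p1, p2, p3, p4, pt, pe, -, pk, pc⟩ := h
  have inj : Function.Injective ψ := (injective_iff_map_eq_one ψ).2 fun y e => pk y (e ▸ one_mem _)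
  have px : ψ x6 = Y.X.E 7 := by rw [x6, map_mul, p1, p2, ← Y.X.E_ad (by omega) (by omega)]; rfl
  have ea : (Y.X.E 1)⁻¹ = ψ x6 * Y.X.E 4 := by rw [px, ← Y.X.E_ad (by omega) (by omega), ← Y.X.E2]; rfl
  have c1 : ∀ u, ψ (x6 * u * x6⁻¹) = (Y.X.E 1)⁻¹ * ψ u * (Y.X.E 1)⁻¹⁻¹ := fun u => by
    rw [ea, map_mul, map_mul, map_inv, mul_assoc _ (Y.X.E 4), ← pe]; group
  have c2 : ∀ u, ψ (x6⁻¹ * u * x6) = Y.X.E 1 * ψ u * (Y.X.E 1)⁻¹ := fun u => by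
    rw [show ψ u = ψ (x6 * (x6⁻¹ * u * x6) * x6⁻¹) by group, c1]; group
  have f2 : ψ (swap 2 5) * ψ (swap 2 5) = 1 := by rw [← map_mul, e_6.1, map_one]
  have ft : ψ (swap 2 5) * Y.X.v 43 = Y.X.v 43 * ψ (swap 2 5) := by rw [← pt, ← map_mul, ← map_mul, e_6.2.2.1]
  have it := mem_cent.1 Y.X.i_mem
  have ia := Y.X.cent_a (Y.X.R.mem 5)
  have fi : Y.X.v 5 * ψ (swap 2 5) * (Y.X.v 5)⁻¹ = ψ (swap 2 5) := by
    have h1 := hq (ψ (swap 0 3)) (mem_cent.2 (by rw [← pt, ← map_mul, ← map_mul, e_6.2.1])) (ψ (swap 2 5 * q6))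
      (by rw [← px, ← e_6.2.2.2.1]; simp only [map_mul, map_inv]) (by rw [← map_pow, e_6.2.2.2.2.1, map_one])
    rw [map_mul, pt, show ∀ f t i : G, f * t * i * (f * t)⁻¹ * i⁻¹ = f * (t * i * t⁻¹ * f⁻¹ * i⁻¹) from fun f t i => by
      group, ← it, mul_inv_cancel_right, mul_mem_cancel_left (mem_cent.2 (pe _)), ← conj_inv, inv_mem_iff] at h1
    obtain ⟨y, z, hz, e⟩ := pc _ (mem_cent.1 h1)
    have zc := G23.cm_of_mem hz (pe y)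
    have e2 : ψ (y * y) * (z * z) = 1 := by
      calc _ = ψ y * (ψ y * z) * z := by rw [map_mul]; group
        _ = ψ y * z * (ψ y * z) := by nth_rw 1 [zc]; group
        _ = 1 := by rw [← e, conj_mul, f2]; group
    have y2 := pk _ (eq_inv_of_mul_eq_one_left e2 ▸ inv_mem (mul_mem hz hz))
    rw [y2, map_one, one_mul] at e2
    rw [eq_one_of_two_three e2 (Y.X.J_cube (zpowers_le.2 (Y.X.mem_J (by omega)) hz)), mul_one] at e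
    have k : ∀ c, Y.X.v 5 * c = c * Y.X.v 5 → ∀ u, Y.X.v 5 * (c * u * c⁻¹) * (Y.X.v 5)⁻¹ =
        c * (Y.X.v 5 * u * (Y.X.v 5)⁻¹) * c⁻¹ := fun c hc u => by
      calc _ = Y.X.v 5 * c * u * (Y.X.v 5 * c)⁻¹ := by group
        _ = _ := by rw [hc]; group
    have k1 := k _ (Commute.inv_right ia)
    have k2 := k _ ia
    have k3 : Y.X.v 5 * ψ y * (Y.X.v 5)⁻¹ = ψ (swap 2 5) := by
      rw [← e, show ∀ i f : G, i * (i * f * i⁻¹) * i⁻¹ = i * i * f * (i * i)⁻¹ from fun i f => by group, ← Y.X.t_eq, ← ft,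
        mul_inv_cancel_right]
    rcases e_y y y2 (inj (by
        rw [map_mul, map_mul, pt, ← e, ← mul_inv_eq_iff_eq_mul.2 it, conj_mul, conj_mul, ft]))
      (inj (by
        rw [map_mul, map_mul, c1, c2, ← e, ← k1, ← k2, conj_mul, conj_mul, ← c1, ← c2, ← map_mul, ← map_mul,
          e_6.2.2.2.2.2.1, pt, it, mul_inv_cancel_right])) with rfl | rfl | ⟨h2, h3⟩ | ⟨h2, h3⟩
    · exact e
    · exact (e_6.2.2.2.2.2.2.1 (inj (by rw [← k3, pt, it, mul_inv_cancel_right]))).elim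
    · exact (h3 (inj (by rw [c1, ← e, ← k1, ← c1, ← h2, k3]))).elim
    · exact (h3 (inj (by rw [c2, ← e, ← k2, ← c2, ← h2, k3]))).elim
  have lg := Y.lg Y.s2 Y.σ2 f2 Y.st Y.as a5
  have σi : Y.σ⁻¹ = Y.σ := inv_eq_of_mul_eq_one_right Y.σ2
  have si : Y.s⁻¹ = Y.s := inv_eq_of_mul_eq_one_right Y.s2
  have fi' : (ψ (swap 2 5))⁻¹ = ψ (swap 2 5) := inv_eq_of_mul_eq_one_right f2
  have hg : L6 (lets Y.X Y.s Y.σ (ψ (swap 2 5))) := by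
    refine ⟨fun i => ?_, Rel.append (L := H43G.rels) (L' := [_, _, _, _, _, _, _, _, _]) lg.rel ?_⟩
    · have := lg.inv i
      rcases Nat.lt_or_ge i 13 with h' | h'
      · interval_cases i <;> exact this
      · rw [List.getD_eq_default _ _ (show H43G.invL.length ≤ i from (by omega : 11 ≤ i))] at this
        rwa [List.getD_eq_default _ _ h']
    have v2 : Y.X.v 2 = (Y.X.v 1)⁻¹ := Y.X.lt0.inv 0
    have v4 : Y.X.v 4 = (Y.X.v 3)⁻¹ := Y.X.lt0.inv 2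
    have v6 : Y.X.v 6 = (Y.X.v 5)⁻¹ := Y.X.lt0.inv 4
    have v8 : Y.X.v 8 = (Y.X.v 7)⁻¹ := Y.X.lt0.inv 6
    have v10 : Y.X.v 10 = (Y.X.v 9)⁻¹ := Y.X.lt0.inv 8
    have e4 : Y.X.E 4 = Y.X.v 1 * Y.X.v 3 * (Y.X.v 1)⁻¹ * (Y.X.v 3)⁻¹ * Y.X.v 9 := by
      rw [← Y.X.E1, ← Y.X.E3, ← Y.X.E_ad (by omega) (by omega)]; rfl
    have e7 : ψ x6 = Y.X.v 1 * Y.X.v 3 * (Y.X.v 1)⁻¹ * (Y.X.v 3)⁻¹ * (Y.X.v 9)⁻¹ := by
      rw [px, ← Y.X.E1, ← Y.X.E3, ← Y.X.E_neg (by omega), ← Y.X.E_ad (by omega) (by decide)]; rfl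
    have e10 : ψ z6 = Y.X.v 1 * Y.X.E 4 * (Y.X.v 1)⁻¹ := p1.trans (Y.X.ac_r 4 (by omega)).symm
    have b1 := congrArg ψ e_6.2.2.2.2.2.2.2.1
    have b2 := congrArg ψ e_6.2.2.2.2.2.2.2.2.1
    have b3 := congrArg ψ e_6.2.2.2.2.2.2.2.2.2
    have b4 := pe (swap 2 5)
    have b5 : Y.σ * Y.X.v 9 * Y.σ⁻¹ = (Y.X.v 9)⁻¹ := Y.X.E3 ▸ Y.inv_J (Y.X.mem_J (by omega))
    simp only [map_pow, map_mul, map_one, p3, e10, e7, e4, pt, d, Y.X.t_eq] at b1 b2 b3 b4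
    generalize ψ (swap 2 5) = f at *
    refine .cons ?_ (.cons ?_ (.cons ?_ (.cons ?_ (.cons ?_ (.cons ?_ (.cons ?_ (.cons ?_ (.cons ?_ (.nil _)))))))))
    · change Y.σ * (Y.X.v 1 * (Y.σ * (Y.X.v 2 * 1))) = 1
      rw [v2, ← mul_assoc, Y.σr, mul_assoc, ← mul_assoc Y.σ, Y.σ2]; group
    · change Y.σ * (Y.X.v 5 * (Y.σ * (Y.X.v 6 * (Y.X.v 8 * 1)))) = 1
      calc _ = Y.σ * Y.X.v 5 * Y.σ⁻¹ * (Y.X.v 7 * Y.X.v 5)⁻¹ := by rw [v6, v8, σi]; group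
        _ = 1 := by rw [Y.σi, mul_inv_cancel]
    · change Y.σ * (Y.X.v 9 * (Y.σ * (Y.X.v 9 * 1))) = 1
      calc _ = Y.σ * Y.X.v 9 * Y.σ⁻¹ * Y.X.v 9 := by rw [σi]; group
        _ = 1 := by rw [b5, inv_mul_cancel]
    · change Y.σ * (Y.s * (Y.σ * (Y.s * 1))) = 1
      rw [← mul_assoc, Y.σs, mul_assoc, ← mul_assoc Y.σ, Y.σ2, one_mul, mul_one, Y.s2]
    · change f * (Y.X.v 5 * (f * (Y.X.v 6 * 1))) = 1
      rw [v6, mul_one, ← mul_assoc (Y.X.v 5), fi, f2]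
    · change f * (Y.X.v 1 * (Y.X.v 3 * (Y.X.v 2 * (Y.X.v 4 * (Y.X.v 9 * (f * (Y.X.v 10 * (Y.X.v 3 * (Y.X.v 1 *
        (Y.X.v 4 * (Y.X.v 2 * 1))))))))))) = 1
      refine Eq.trans ?_ (mul_inv_eq_one.2 b4)
      simp only [v2, v4, v10, mul_inv_rev, fi', inv_inv, mul_assoc, mul_one]
    · change f * (Y.X.v 1 * (Y.σ * (Y.s * (Y.X.v 5 * (Y.X.v 5 * (Y.X.v 2 * (f * (Y.X.v 1 * (Y.X.v 6 * (Y.X.v 6 *
        (Y.s * (Y.σ * (Y.X.v 2 * 1))))))))))))) = 1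
      refine Eq.trans ?_ (mul_inv_eq_one.2 b1)
      simp only [v2, v6, mul_inv_rev, σi, si, inv_inv, mul_assoc, mul_one]
    · rw [← b2]
      change f * (Y.X.v 1 * (Y.σ * (Y.s * (Y.X.v 5 * (Y.X.v 5 * (Y.X.v 1 * (Y.X.v 3 * (Y.X.v 2 * (Y.X.v 4 * (Y.X.v 9 *
        (Y.X.v 2 * (f * (Y.X.v 1 * (Y.σ * (Y.s * (Y.X.v 5 * (Y.X.v 5 * (Y.X.v 1 * (Y.X.v 3 * (Y.X.v 2 * (Y.X.v 4 *
        (Y.X.v 9 * (Y.X.v 2 * (f * (Y.X.v 1 * (Y.σ * (Y.s * (Y.X.v 5 * (Y.X.v 5 * (Y.X.v 1 * (Y.X.v 3 * (Y.X.v 2 *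
        (Y.X.v 4 * (Y.X.v 9 * (Y.X.v 2 * 1))))))))))))))))))))))))))))))))))) = _
      simp only [v2, v4, pow_succ, pow_zero, mul_assoc, mul_one, one_mul, inv_mul_cancel_left]
    · rw [← mul_inv_eq_one.2 b3]
      change f * (Y.X.v 1 * (Y.X.v 3 * (Y.X.v 2 * (Y.X.v 4 * (Y.X.v 10 * (f * (Y.X.v 1 * (Y.X.v 3 * (Y.X.v 2 *
        (Y.X.v 4 * (Y.X.v 10 * (f * (Y.X.v 1 * (Y.X.v 3 * (Y.X.v 2 * (Y.X.v 4 * (Y.X.v 10 * (Y.X.v 6 *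
        (Y.X.v 6 * 1))))))))))))))))))) = _
      simp only [v2, v4, v6, v10, pow_succ, pow_zero, mul_assoc, mul_one, one_mul, mul_inv_rev]
  obtain ⟨⟨e⟩, sim, hc, hi, cl⟩ := sp6 hg Y.r_ne hF
  have hH : Y.H ≤ gen (lets Y.X Y.s Y.σ (ψ (swap 2 5))) 13 := Y.H_le_gen (by omega)
  have hs : Y.s ∈ gen (lets Y.X Y.s Y.σ (ψ (swap 2 5))) 13 := mem_gen _ (show 10 < 13 by omega)
  have hσ : Y.σ ∈ gen (lets Y.X Y.s Y.σ (ψ (swap 2 5))) 13 := mem_gen _ (show 11 < 13 by omega)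
  have hf : ψ (swap 2 5) ∈ gen (lets Y.X Y.s Y.σ (ψ (swap 2 5))) 13 := mem_gen _ (show 12 < 13 by omega)
  rw [Y.lets_t] at hi cl
  change ∀ y ∈ _, _ → _ → ∃ p ∈ _, _ ∨ p * Y.d * _ = _ ∨ p * (Y.s * _) * _ = _ ∨ p * Y.σ * _ = _ ∨ _ = Y.s * _ at cl
  generalize gen (lets Y.X Y.s Y.σ (ψ (swap 2 5))) 13 = P0 at *
  have hr := hH (Y.X.R.mem 1)
  have hd : Y.d ∈ P0 := mul_mem hσ (mul_mem hs (hH (Y.X.R.mem _)))
  have hψ := s6_gen (K := P0.comap ψ) (mem_comap.2 (p1 ▸ hH (Y.X.E_mem _))) (mem_comap.2 (p2 ▸ hH (Y.X.E_mem _)))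
    (mem_comap.2 (p3 ▸ mul_mem (mul_mem hr hd) (inv_mem hr))) (mem_comap.2 (p4 ▸ mul_mem (mul_mem (inv_mem hr) hd) hr)) hf
  have hC := (hM P0 hH hs fun c hc => by
    obtain ⟨y, z, hz, rfl⟩ := pc c (mem_cent.1 hc.2)
    exact mul_mem (mem_comap.1 (hψ ▸ mem_top y)) (zpowers_le.2 (hH (Y.X.E_mem _)) hz)).2 hσ
  obtain rfl := Y.fin_top Y.as hH hs le_rfl le_normalizer sim (.inr hc) hC (fun g hg => ⟨g⁻¹, inv_mem hg, by simp⟩)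
    (hi ▸ by decide) (fun u hu h => by
      obtain ⟨a1, a2, a3⟩ := conj_inv2 Y.X.t_sq Y.X.t_ne h
      obtain ⟨p, hp, h1 | h1 | h1 | h1 | h1⟩ := cl u (hC hu) a1 a2
      exacts [⟨p, hp, h1⟩, (L.td (h.trans (isConj_iff.2 ⟨p, h1⟩).symm)).elim,
        (not_conj (a3 ▸ Y.t9) E.w9 (p := p⁻¹) (by rw [← h1]; group)).elim,
        (not_conj (a3 ▸ Y.t9) (L.ia _ Y.σ2 Y.σt Y.σa) (p := p⁻¹) (by rw [← h1]; group)).elim,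
        (not_conj Y.t9 E.w9 h1).elim]) (Y.Na_le hH hσ)
  exact ⟨topEquiv.symm.trans e⟩

end Rs

end CL.Prince
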