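/-
3-local recognition of `F₄(2)` (S3077), part 1: definitions and the interface statements.
-/
import Cfsg.Agent.Rec.F4M0
import Cfsg.Agent.Rec.PrI
import Cfsg.Agent.Rec.PrII2

set_option autoImplicit false

namespace CL.F4R

open Subgroup Cfsg CL.TC CL.Amg CL.Grp CL.G23 CL.U63 CL.Even Equiv
open CL.H43 (Lg Lt)
open CL.Prince (L6 q6)
open CL.Rec (S6 z6 w6)
open scoped Matrix

universe u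

/-! ### Matrices, words and relators -/

abbrev X4 := Fin 4 → ZMod 3
abbrev M4 := Matrix (Fin 4) (Fin 4) (ZMod 3)

def U1 : M2 := !![1, 2; 0, 1]
def D0 : M2 := !![2, 0; 0, 1]
def I0 : M2 := !![2, 1; 1, 1]
/-- the quadratic form on `J` -/
def qf (u : X4) : ZMod 3 := u 0 * u 0 - u 1 * u 1 - u 2 * u 3
def mq1 : M4 := !![1, 0, 0, 2; 0, 1, 0, 0; 1, 0, 1, 1; 0, 0, 0, 1]
def mq2 : M4 := !![1, 0, 0, 0; 0, 1, 0, 1; 0, 1, 1, 2; 0, 0, 0, 1]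
def mr1 : M4 := !![2, 0, 0, 0; 0, 1, 0, 0; 0, 0, 1, 0; 0, 0, 0, 1]
def mr2 : M4 := !![1, 0, 0, 0; 0, 2, 0, 0; 0, 0, 1, 0; 0, 0, 0, 1]
def mw : M4 := !![1, 0, 0, 0; 0, 1, 0, 0; 0, 0, 0, 1; 0, 0, 1, 0]

/-- inverses of the letters `q1 q1⁻¹ s s⁻¹ i1 i1⁻¹ w c r1 r2 p f g q2 q2⁻¹ i2 i2⁻¹` -/
def invL : List ℕ := [1, 0, 3, 2, 5, 4, 6, 7, 8, 9, 10, 11, 12, 14, 13, 16, 15]
/-- the thirteen letters of `L6` as words -/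
def yW (i : ℕ) : List ℕ :=
  [[0], [1], [2, 0, 3], [2, 1, 3], [4], [5], [2, 4, 3], [2, 5, 3], [2], [3], [6], [7, 9], [11]].getD i []
/-- the ten letters of `rY`, `rX` as words in the letters of `L6` -/
def tenW (i : ℕ) : List ℕ := [[0], [1], [8], [9], [4], [5], [10], [11], [12], [4, 4]].getD i []
def toY (i : ℕ) : List ℕ := [[0], [1], [2], [3], [4], [5], [6], [7, 9], [11], [8]].getD i []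
def toX (i : ℕ) : List ℕ := [[13], [14], [3], [2], [15], [16], [7, 8, 9, 6], [7, 8], [12], [9]].getD i []
def v1W : List ℕ := [0, 2, 0, 3, 0]
def v2W : List ℕ := [6, 10, 3, 6, 3, 10]
def rN2 : List (List ℕ) :=
  [[0, 0, 0], [2, 2, 2], [0, 8, 0, 8], [0, 9, 1, 9], [0, 7, 1, 7], [2, 8, 3, 8], [2, 9, 3, 9], [2, 7, 2, 7],
  [8, 9, 8, 9], [8, 6, 8, 6], [8, 7, 8, 7], [8, 10, 8, 10], [9, 6, 9, 6], [9, 7, 9, 7], [6, 7, 6, 7], [6, 10, 6, 10],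
  [7, 10, 7, 10], [0, 8, 6, 0, 6, 1, 6], [0, 8, 10, 0, 10, 1, 10], [8, 9, 6, 7, 10, 9, 10], [0, 2, 1, 2, 0, 3, 1, 3],
  [0, 6, 2, 6, 1, 6, 3, 6], [2, 6, 3, 10, 2, 6, 3, 10]]
def rM2 : List (List ℕ) :=
  [[4, 4, 8], [4, 9, 5, 9], [0, 3, 4, 1, 5, 2], [2, 4, 2, 4, 2, 5], [2, 7, 4, 2, 7, 4]]
def rE2 : List (List ℕ) :=
  [[4, 6, 4, 6, 5, 6, 5, 6], [4, 10, 4, 10, 5, 10, 5, 10], [4, 6, 10, 3, 6, 3, 10, 5, 10, 2, 6, 2, 10, 6]]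
def rY : List (List ℕ) :=
  [[0, 7, 1, 7], [2, 7, 2, 7], [4, 8, 5, 8], [6, 7, 6, 7], [6, 8, 6, 8], [7, 8, 7, 8], [7, 9, 7, 9], [8, 9, 8, 9],
  [0, 0, 7, 0, 7], [2, 2, 7, 3, 7], [4, 4, 6, 9, 6], [4, 4, 7, 9, 7], [4, 4, 8, 9, 8], [4, 8, 4, 8, 9],
  [4, 8, 4, 9, 8], [8, 0, 2, 0, 3, 1, 2, 1, 8, 0, 3, 0, 2, 1, 3, 1], [8, 0, 7, 6, 9, 1, 8, 0, 9, 6, 7, 1],
  [8, 0, 7, 6, 9, 0, 2, 0, 3, 1, 2, 1, 1, 8, 0, 7, 6, 9, 0, 2, 0, 3, 1, 2, 1, 1, 8, 0, 7, 6, 9, 0, 2, 0, 3, 1, 2, 1, 1],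
  [8, 0, 2, 0, 3, 1, 2, 1, 3, 3, 8, 0, 2, 0, 3, 1, 2, 1, 3, 3, 8, 0, 2, 0, 3, 1, 2, 1, 3, 3, 9]]
def rE3 : List (List ℕ) :=
  [[11, 9, 11, 9], [11, 6, 10, 3, 6, 3, 10, 11, 10, 2, 6, 2, 10, 6], [11, 10, 11, 10]]
def rN4 : List (List ℕ) :=
  [[13, 13, 13], [0, 13, 1, 14], [13, 8, 14, 8], [13, 9, 13, 9], [13, 6, 14, 10], [13, 7, 14, 7], [0, 0, 13, 0, 14],
  [0, 0, 14, 0, 13], [0, 0, 8, 1, 8], [0, 0, 9, 0, 9], [0, 0, 7, 0, 7], [13, 13, 8, 13, 8], [13, 13, 9, 14, 9],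
  [13, 13, 7, 13, 7], [13, 13, 10, 13, 6], [2, 2, 8, 2, 8], [2, 2, 9, 2, 9], [2, 2, 7, 3, 7], [0, 13, 1, 6, 14, 10],
  [0, 13, 8, 0, 8, 14], [0, 13, 9, 1, 9, 14], [0, 13, 7, 1, 7, 14], [0, 14, 8, 0, 8, 13], [0, 14, 9, 1, 9, 13],
  [0, 14, 7, 1, 7, 13], [0, 8, 0, 6, 8, 6], [0, 8, 0, 10, 8, 10], [0, 8, 9, 0, 9, 8], [0, 8, 7, 0, 7, 8],
  [0, 9, 1, 6, 9, 6], [0, 9, 7, 1, 7, 9], [0, 6, 14, 10, 1, 13], [0, 6, 9, 6, 1, 9], [0, 7, 1, 10, 7, 10],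
  [0, 10, 7, 10, 1, 7], [13, 13, 10, 14, 14, 6], [13, 8, 14, 6, 8, 6], [13, 8, 9, 13, 9, 8], [13, 8, 6, 14, 10, 8],
  [13, 8, 7, 14, 7, 8], [13, 9, 6, 13, 9, 10], [13, 9, 7, 13, 7, 9], [13, 9, 10, 13, 6, 9], [13, 9, 10, 9, 14, 6],
  [13, 6, 7, 14, 10, 7], [13, 10, 14, 9, 10, 9], [13, 10, 2, 10, 14, 2], [13, 10, 8, 10, 14, 8],
  [13, 10, 9, 13, 10, 9], [13, 10, 6, 10, 14, 10], [13, 10, 7, 10, 14, 7], [2, 8, 3, 6, 8, 6], [2, 8, 3, 10, 8, 10],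
  [2, 8, 9, 3, 9, 8], [2, 8, 7, 2, 7, 8], [2, 9, 3, 6, 9, 6], [2, 9, 7, 2, 7, 9], [2, 6, 8, 6, 3, 8],
  [2, 6, 9, 6, 3, 9], [2, 7, 2, 10, 7, 10], [2, 10, 8, 10, 3, 8], [8, 9, 6, 8, 6, 9], [8, 9, 7, 8, 7, 9],
  [8, 9, 10, 8, 10, 9], [8, 6, 7, 8, 7, 6], [8, 6, 10, 8, 10, 6], [8, 7, 10, 8, 10, 7], [9, 6, 9, 10, 6, 10],
  [9, 6, 7, 9, 7, 6], [9, 7, 9, 10, 7, 10], [6, 7, 10, 6, 10, 7]]
def rM4 : List (List ℕ) :=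
  [[15, 15, 9], [0, 15, 1, 16], [13, 4, 14, 5], [4, 15, 5, 16], [15, 8, 16, 8], [0, 0, 15, 0, 16], [0, 0, 16, 0, 15],
  [0, 4, 4, 0, 8], [0, 5, 5, 0, 8], [13, 13, 4, 13, 5], [13, 13, 5, 13, 4], [13, 15, 15, 13, 9], [13, 16, 16, 13, 9],
  [2, 4, 4, 3, 8], [2, 15, 15, 3, 9], [2, 8, 3, 4, 4], [2, 9, 3, 15, 15], [4, 4, 15, 8, 16], [4, 4, 16, 8, 15],
  [4, 4, 7, 8, 7], [4, 4, 9, 8, 9], [4, 15, 4, 16, 8], [4, 15, 4, 8, 16], [4, 15, 8, 4, 16], [4, 16, 4, 8, 15],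
  [4, 8, 9, 4, 9], [4, 9, 4, 9, 8], [15, 15, 7, 9, 7], [15, 15, 8, 9, 8], [15, 8, 15, 8, 9], [15, 8, 15, 9, 8],
  [0, 13, 1, 4, 14, 5], [0, 13, 1, 5, 14, 4], [0, 13, 15, 1, 16, 14], [0, 13, 16, 1, 15, 14], [0, 14, 15, 1, 16, 13],
  [0, 14, 16, 1, 15, 13], [0, 3, 5, 0, 4, 2], [0, 4, 13, 5, 1, 14], [0, 4, 4, 0, 4, 4], [0, 5, 13, 4, 1, 14],
  [0, 5, 5, 0, 5, 5], [0, 15, 7, 1, 7, 16], [0, 15, 8, 0, 8, 16], [0, 16, 7, 1, 7, 15], [0, 16, 8, 0, 8, 15],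
  [13, 2, 15, 14, 16, 3], [13, 2, 16, 13, 15, 3], [13, 4, 14, 15, 5, 16], [13, 4, 14, 16, 5, 15],
  [13, 4, 7, 14, 7, 5], [13, 4, 9, 13, 9, 5], [13, 5, 7, 14, 7, 4], [13, 5, 9, 13, 9, 4], [13, 15, 4, 16, 14, 5],
  [13, 15, 15, 13, 15, 15], [13, 16, 4, 15, 14, 5], [13, 16, 16, 13, 16, 16], [2, 5, 2, 5, 2, 5],
  [2, 15, 2, 15, 2, 15], [2, 15, 2, 16, 2, 16], [2, 15, 3, 7, 15, 7], [2, 15, 7, 2, 15, 7], [2, 16, 7, 2, 16, 7],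
  [2, 7, 4, 7, 3, 4], [2, 7, 5, 2, 7, 5], [4, 4, 7, 4, 4, 7], [4, 4, 7, 5, 5, 7], [15, 15, 7, 15, 15, 7],
  [15, 15, 7, 16, 16, 7], [7, 8, 9, 7, 9, 8]]
def rE4 : List (List ℕ) :=
  [[12, 0, 10, 0, 10, 11, 10, 1, 10, 1, 9, 7, 9, 6, 8], [12, 8, 12, 8], [12, 0, 2, 0, 3, 0, 12, 1, 2, 1, 3, 1]]
def rX : List (List ℕ) :=
  [[0, 7, 1, 7], [2, 7, 2, 7], [4, 8, 5, 8], [6, 7, 6, 7], [6, 8, 6, 8], [7, 8, 7, 8], [8, 9, 8, 9], [0, 0, 7, 0, 7],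
  [2, 2, 7, 3, 7], [4, 4, 6, 9, 6], [4, 4, 7, 9, 7], [4, 4, 8, 9, 8], [4, 8, 4, 8, 9], [4, 8, 4, 9, 8],
  [8, 0, 2, 0, 3, 1, 2, 1, 8, 0, 3, 0, 2, 1, 3, 1], [8, 0, 7, 6, 9, 1, 8, 0, 9, 6, 7, 1],
  [8, 0, 7, 6, 9, 0, 2, 0, 3, 1, 2, 1, 1, 8, 0, 7, 6, 9, 0, 2, 0, 3, 1, 2, 1, 1, 8, 0, 7, 6, 9, 0, 2, 0, 3, 1, 2, 1, 1],
  [8, 0, 2, 0, 3, 1, 2, 1, 3, 3, 8, 0, 2, 0, 3, 1, 2, 1, 3, 3, 8, 0, 2, 0, 3, 1, 2, 1, 3, 3, 9],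
  [4, 6, 4, 6, 5, 6, 5, 6]]
def rNB : List (List ℕ) :=
  [[6, 10, 3, 6, 3, 10, 0, 10, 2, 6, 2, 10, 6, 1], [6, 10, 3, 6, 3, 10, 2, 10, 2, 6, 2, 10, 6, 3],
  [6, 10, 3, 6, 3, 10, 6, 10, 2, 6, 2, 10, 6, 6], [6, 10, 3, 6, 3, 10, 7, 9, 10, 2, 6, 2, 10, 6, 9, 7], [9, 0, 9, 1],
  [9, 2, 9, 3], [9, 6, 9, 6], [9, 7, 9, 7], [6, 10, 3, 6, 3, 10, 6, 10, 3, 6, 3, 10, 6, 10, 3, 6, 3, 10],
  [9, 6, 10, 3, 6, 3, 10, 9, 6, 10, 3, 6, 3, 10]]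

/-- the relators of `O₈⁺(2)` -/
def relA : List (List ℕ) := rN2 ++ rM2 ++ rE2
/-- the relators of `Sp₈(2)` -/
def relB : List (List ℕ) := relA ++ rY.map (sb toY) ++ rE3
/-- the relators of `F₄(2)` -/
def relC : List (List ℕ) := relB ++ rN4 ++ rM4 ++ rE4 ++ rX.map (sb toX)

variable {G : Type u} [Group G]

/-- the letters satisfy the presentation of `F₄(2)` -/
structure FL (g : ℕ → G) : Prop where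
  inv : ∀ i, g (invL.getD i i) = (g i)⁻¹
  rel : Rel g relC
  l6 : L6 fun i => ev g (yW i)
  nb : Rel g rNB

/-! ### The 3-local data -/

/-- coordinates on `J` -/
def io (z s : G) (κ : W4 → G) (u : X4) : G := κ (u 0 • e0, u 1 • e0) * zp z (u 2) * zp s (u 3)

structure S2 (z t s : G) (κ : W4 → G) (T : Subgroup G) : Prop extends MS0 z t κ T where
  sz : s * z = z * s
  st : s * t = t * s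
  s3 : s ^ 3 = 1
  sU : Mt κ s false U0 U1
  noU : ∀ g, g * z = z * g → ¬ Mq z κ g false U0 1
  yz : IsConj z (κ (e0, e0))
  n1 : ¬ IsConj z (κ (e0, 0))
  n2 : ¬ IsConj z (κ (0, e0))

structure S3 (z s : G) (κ : W4 → G) (T : Subgroup G) : Prop where
  add : ∀ u v, io z s κ (u + v) = io z s κ u * io z s κ v
  ioinj : ∀ u v, io z s κ u = io z s κ v → u = v
  memJ : ∀ g, g ∈ JJ z κ ↔ ∃ u, io z s κ u = g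
  sT : ∀ τ ∈ T, s * τ * s⁻¹ ∈ T
  nf : ∀ g, g * z = z * g → (∃ v, ∃ τ ∈ T, ∃ k j, g = κ v * τ * zp s k * zp z j) ∨ ∃ A B, Mq z κ g true A B
  syl : ∃ S : Subgroup G, IsSylowIn 3 S ⊤ ∧ ∀ g, g ∈ S ↔ ∃ v k j, g = κ v * zp z k * zp s j
  wcj : WCJ (JJ z κ)
  fus : ∀ a ∈ JJ z κ, ∀ g, g * a * g⁻¹ ∈ JJ z κ → ∃ n ∈ normalizer (JJ z κ : Set G), n * a * n⁻¹ = g * a * g⁻¹
  sig : ∀ K : Subgroup G, (Nat.card K).Coprime 3 → JJ z κ ≤ normalizer (K : Set G) → K = ⊥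

structure LS (z t s c w : G) (κ : W4 → G) (T : Subgroup G) : Prop extends S2 z t s κ T where
  c2 : c * c = 1
  ct : c * t = t * c
  cz : c * z * c⁻¹ = z⁻¹
  cs : c * s * c⁻¹ = s⁻¹
  cD : Mt κ c false D0 D0
  wc : w * c = c * w
  wz : w * z * w⁻¹ = s
  ws : w * s * w⁻¹ = z
  w1 : w * κ (e0, 0) = κ (e0, 0) * w
  w2 : w * κ (0, e0) = κ (0, e0) * w
  quad : ∀ u, IsConj z (io z s κ u) → qf u = 0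

structure FD (G : Type u) [Group G] where
  z : G
  t : G
  s : G
  c : G
  w : G
  i1 : G
  i2 : G
  κ : W4 → G
  T : Subgroup G
  h : LS z t s c w κ T
  i1T : i1 ∈ T
  i1m : Mt κ i1 false I0 1
  i2T : i2 ∈ T
  i2m : Mt κ i2 false 1 I0

theorem mt_swap {κ : W4 → G} {a : G} {s : Bool} {A B : M2} (e : Mt κ a s A B) :
    Mt (fun v : W4 => κ (v.2, v.1)) a s B A := fun v => by
  simp only [e (v.2, v.1)]; cases s <;> rfl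

theorem io_swap {z s : G} (h : s ^ 3 = 1) (κ : W4 → G) (u : X4) :
    io z s⁻¹ (fun v : W4 => κ (v.2, v.1)) u = io z s κ ![u 1, u 0, u 2, -u 3] := by
  simp only [io, zp_inv h]; rfl

theorem JJ_swap (z : G) (κ : W4 → G) : JJ z (fun v : W4 => κ (v.2, v.1)) = JJ z κ := by
  simp only [JJ]; rw [Set.pair_comm (κ (0, e0))]

theorem LS.swap {z t s c w : G} {κ : W4 → G} {T : Subgroup G} (h : LS z t s c w κ T) :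
    LS z t s⁻¹ c (c * t * w) (fun v => κ (v.2, v.1)) T := by
  have m := h.toMS0
  have hu : U0 * U1 = 1 ∧ U1 * U0 = 1 ∧ D0 *ᵥ e0 = -e0 ∧ D0 *ᵥ (-e0) = e0 ∧ D0 *ᵥ (0 : V2) = 0 := by decide +kernel
  have cw : ∀ x, c * t * w * x * (c * t * w)⁻¹ = c * (t * (w * x * w⁻¹) * t⁻¹) * c⁻¹ := fun x => by group
  have fx : ∀ v : W4, w * κ v = κ v * w → mat false D0 D0 (-v) = v → c * t * w * κ v = κ v * (c * t * w) :=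
    fun v e1 e2 => mul_inv_eq_iff_eq_mul.1 (by rw [cw, e1, mul_inv_cancel_right, m.tk, h.cD, e2])
  refine ⟨⟨m.swap, (Commute.inv_left h.sz).eq, (Commute.inv_left h.st).eq, by rw [inv_pow, h.s3, inv_one],
    mt_swap (h.sU.inv hu.1 hu.2.1), fun g hg e => h.noU (g * s) (Commute.mul_left hg h.sz) ?_, h.yz, h.n2, h.n1⟩,
    h.c2, h.ct, h.cz, by rw [← conj_inv, h.cs], mt_swap h.cD,
    (Commute.mul_left (Commute.mul_left (Commute.refl c) h.ct.symm) h.wc).eq,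
    by rw [cw, h.wz, ← h.st, mul_inv_cancel_right, h.cs],
    by rw [cw, ← conj_inv, h.ws, ← conj_inv, m.tz, mul_inv_cancel_right, ← conj_inv, h.cz, inv_inv],
    fx _ h.w2 (by simp [mat, hu.2.2.2.1]), fx _ h.w1 (by simp [mat, hu.2.2.2.1]), fun u e => ?_⟩
  · have e' : Mq z κ g false 1 U0 := fun v => e (v.2, v.1)
    simpa only [one_mul, hu.1] using e'.mul' h.z3 hg (h.sU.mq z)
  · have := h.quad _ (io_swap h.s3 κ u ▸ e)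
    simp only [qf, Matrix.cons_val] at this ⊢
    linear_combination -this

namespace FD

variable (Y : FD G)

/-- exchange of the two factors -/
def swap : FD G := ⟨Y.z, Y.t, Y.s⁻¹, Y.c, Y.c * Y.t * Y.w, Y.i2, Y.i1, fun v => Y.κ (v.2, v.1), Y.T, Y.h.swap, Y.i2T,
  mt_swap Y.i2m, Y.i1T, mt_swap Y.i1m⟩

def q1 : G := Y.κ (f0, 0)
def q2 : G := Y.κ (0, f0)
def v1 : G := Y.κ (e0, 0)
def v2 : G := Y.κ (0, e0)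
def r1 : G := Y.i1 * Y.i1
def r2 : G := Y.i2 * Y.i2
def p : G := Y.q2 * Y.w * Y.q2⁻¹
def d : G := Y.c * Y.r2 * (Y.w * Y.r1)
def J : Subgroup G := JJ Y.z Y.κ
def ι (u : X4) : G := io Y.z Y.s Y.κ u
/-- `g` acts on `J` by the matrix `M` -/
def Ac (g : G) (M : M4) : Prop := ∀ u, g * Y.ι u * g⁻¹ = Y.ι (M *ᵥ u)
/-- the letters of the presentation of `F₄(2)` -/
def lt (f g : G) (i : ℕ) : G :=
  [Y.q1, Y.q1⁻¹, Y.s, Y.s⁻¹, Y.i1, Y.i1⁻¹, Y.w, Y.c, Y.r1, Y.r2, Y.p, f, g, Y.q2, Y.q2⁻¹, Y.i2, Y.i2⁻¹].getD i 1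
/-- the letters of the presentation of `Sp₆(2)` -/
def ly (f : G) (i : ℕ) : G :=
  [Y.q1, Y.q1⁻¹, Y.s * Y.q1 * Y.s⁻¹, (Y.s * Y.q1 * Y.s⁻¹)⁻¹, Y.i1, Y.i1⁻¹, Y.s * Y.i1 * Y.s⁻¹, (Y.s * Y.i1 * Y.s⁻¹)⁻¹,
    Y.s, Y.s⁻¹, Y.w, Y.c * Y.r2, f].getD i 1
/-- `J : W(F₄)` -/
def N0 : Subgroup G := closure {Y.q1, Y.q2, Y.s, Y.r1, Y.r2, Y.w, Y.c}
def G0 : Subgroup G := centralizer {Y.v1} ⊔ centralizer {Y.v2}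
def G1 : Subgroup G := Y.G0 ⊔ normalizer (Y.J : Set G)

theorem swap_J : Y.swap.J = Y.J := JJ_swap Y.z Y.κ
theorem swap_G0 : Y.swap.G0 = Y.G0 := sup_comm _ _
theorem swap_ι (u : X4) : Y.swap.ι u = Y.ι ![u 1, u 0, u 2, -u 3] := io_swap Y.h.s3 Y.κ u

/-- facts on `N0` -/
structure NF : Prop where
  aq1 : Y.Ac Y.q1 mq1
  aq2 : Y.Ac Y.q2 mq2
  ar1 : Y.Ac Y.r1 mr1
  ar2 : Y.Ac Y.r2 mr2
  aw : Y.Ac Y.w mw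
  ac : Y.Ac Y.c (-1)
  cq1 : Y.q1 * Y.c = Y.c * Y.q1
  cq2 : Y.q2 * Y.c = Y.c * Y.q2
  cr1 : Y.r1 * Y.c = Y.c * Y.r1
  cr2 : Y.r2 * Y.c = Y.c * Y.r2
  lift : ∀ {g g' M}, g * Y.c = Y.c * g → g' * Y.c = Y.c * g' → Y.Ac g M → Y.Ac g' M → g = g'
  inv : ∀ f g, f * f = 1 → g * g = 1 → ∀ i, Y.lt f g (invL.getD i i) = (Y.lt f g i)⁻¹
  rel : ∀ f g, Rel (Y.lt f g) (rN2 ++ rN4 ++ rNB)
  ev1 : ∀ f g, ev (Y.lt f g) v1W = Y.v1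
  ev2 : ∀ f g, ev (Y.lt f g) v2W = Y.v2
  JN : Y.J ≤ Y.N0
  NJ : Y.N0 ≤ normalizer (Y.J : Set G)
  tr0 : ∀ u, u ≠ 0 → qf u = 0 → ∃ n ∈ Y.N0, n * Y.z * n⁻¹ = Y.ι u
  tr1 : ∀ u, qf u = 1 → ∃ n ∈ Y.N0, n * Y.v1 * n⁻¹ = Y.ι u
  tr2 : ∀ u, qf u = -1 → ∃ n ∈ Y.N0, n * Y.v2 * n⁻¹ = Y.ι u
  ord3 : ∀ v k j, (Y.κ v * zp Y.z k * zp Y.s j) ^ 3 = 1 →
    ∃ h ∈ Y.N0 ⊔ Y.T, h * (Y.κ v * zp Y.z k * zp Y.s j) * h⁻¹ ∈ Y.J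

/-- facts on `N(z)` -/
structure MF : Prop where
  m1 : Mt Y.κ Y.r1 false (-1) 1
  m2 : Mt Y.κ Y.r2 false 1 (-1)
  tr : Y.t = Y.r1 * Y.r2
  i12 : Y.i1 * Y.i2 = Y.i2 * Y.i1
  rel : ∀ f g, Rel (Y.lt f g) (rM2 ++ rM4)
  lt : ∀ f, f * f = 1 → Lt (Y.ly f)
  a1 : Y.q1 * (Y.s * Y.q1 * Y.s⁻¹) * Y.q1⁻¹ * (Y.s * Y.q1 * Y.s⁻¹)⁻¹ = Y.z
  R1 : ∀ τ ∈ Y.T, ∀ A, Mt Y.κ τ false A 1 → τ ∈ closure {Y.i1, Y.s * Y.i1 * Y.s⁻¹}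
  TT : ∀ τ ∈ Y.T, ∃ a ∈ Y.T, ∃ b ∈ Y.T, ∃ A B, Mt Y.κ a false A 1 ∧ Mt Y.κ b false 1 B ∧ τ = a * b
  hH : ∀ f g, g * Y.z = Y.z * g → g * Y.v2 = Y.v2 * g → ∃ k, g * zp Y.v2 k ∈ gen (Y.ly f) 10
  hK : ∀ f g, g * Y.z = Y.z * g → g * Y.r2 = Y.r2 * g → ∃ b ∈ Y.T, ∃ B, Mt Y.κ b false 1 B ∧ g * b ∈ gen (Y.ly f) 10
  cy : ∀ f, ∀ i < 12, Y.ly f i * Y.v2 = Y.v2 * Y.ly f i ∧ Y.ly f i * Y.r2 = Y.r2 * Y.ly f i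

structure Ok : Prop extends S3 Y.z Y.s Y.κ Y.T where
  n : Y.NF
  m : Y.MF

/-- `C(v2) = ⟨v2⟩ × Sp₆(2)` and `C(v2, z s) = ⟨v2, z s⟩ × S₆` -/
structure Six (ψ : S6 →* G) : Prop where
  p1 : ψ z6 = Y.q1 * (Y.z * Y.s) * Y.q1⁻¹
  p2 : ψ w6 = Y.q1⁻¹ * (Y.z * Y.s) * Y.q1
  p3 : ψ (Equiv.swap 0 1) = Y.q1 * Y.d * Y.q1⁻¹
  p4 : ψ (Equiv.swap 3 4) = Y.q1⁻¹ * Y.d * Y.q1
  pt : ψ q6 = Y.r1
  cv : ∀ π, ψ π * Y.v2 = Y.v2 * ψ π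
  cr : ∀ π, ψ π * Y.r2 = Y.r2 * ψ π
  ce : ∀ π, ψ π * (Y.z * Y.s) = Y.z * Y.s * ψ π
  cd : ∀ π, ψ π * Y.d = Y.d * ψ π
  inj : Function.Injective ψ
  pc : ∀ g, g * Y.v2 = Y.v2 * g → g * (Y.z * Y.s) = Y.z * Y.s * g → ∃ π a b, g = ψ π * zp Y.v2 a * zp (Y.z * Y.s) b
  l6 : L6 (Y.ly (ψ (Equiv.swap 2 5)))
  gen : ∀ g, g * Y.v2 = Y.v2 * g → ∃ k, g * zp Y.v2 k ∈ gen (Y.ly (ψ (Equiv.swap 2 5))) 13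

/-- strong 3-embedding -/
structure SE : Prop where
  N0 : Y.N0 ⊔ Y.T ≤ Y.G0
  kG : ∀ v, Y.κ v ∈ Y.G0
  n01 : Y.G1 ≤ normalizer (Y.G0 : Set G)
  se : ∀ g, ∀ u ∈ Y.G1, orderOf u = 3 → g * u * g⁻¹ ∈ Y.G1 → g ∈ Y.G1
  two : Y.G1 = Y.G0 ∨ ∃ σ ∈ Y.G1, σ * σ = 1 ∧ σ * Y.z = Y.z * σ ∧ σ * Y.r1 * σ⁻¹ = Y.r2 ∧
    ∀ g ∈ Y.G1, g ∈ Y.G0 ∨ g * σ ∈ Y.G0
  ctl : ∀ (A : Set G) g, (∃ u ∈ Y.G1, orderOf u = 3 ∧ ∀ a ∈ A, u * a = a * u) →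
    (∃ u ∈ Y.G1, orderOf u = 3 ∧ ∀ a ∈ A, u * (g * a * g⁻¹) = g * a * g⁻¹ * u) →
    ∃ x ∈ Y.G1, ∀ a ∈ A, g * a * g⁻¹ = x * a * x⁻¹ ∧ x⁻¹ * g * a = a * (x⁻¹ * g)
  cop : ∀ K : Subgroup G, (Nat.card K).Coprime 3 → Y.z ∈ normalizer (K : Set G) → Y.v2 ∈ normalizer (K : Set G) →
    K ≤ Y.G1
  syl : ∀ H K : Subgroup G, Y.z ∈ H → K ≤ H → H ≤ normalizer (K : Set G) → (Nat.card (K ⊓ Y.G1 :)).Coprime 3 →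
    (Nat.card K).Coprime 3

end FD

/-- facts on `G0 ≅ F₄(2)`: `r` long and `r'` short root involutions, `U = O₂(C(r))`, `V = Z(U)` -/
structure GF (G0 : Subgroup G) (r r' v : G) (U V : Subgroup G) : Prop where
  simple : IsSimpleGroup G0
  card : Nat.card G0 = 3311126603366400
  inv3 : ∀ a ∈ G0, a * a = 1 → ∃ u ∈ G0, orderOf u = 3 ∧ u * a = a * u
  nc : ∀ g ∈ G0, g * r * g⁻¹ ≠ r'
  U2 : IsPGroup 2 U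
  Ule : U ≤ G0 ⊓ centralizer {r}
  Un : G0 ⊓ centralizer {r} ≤ normalizer (U : Set G)
  dec : ∀ g ∈ G0, g * r = r * g → ∃ u ∈ U, ∃ k, k * r = r * k ∧ k * v = v * k ∧ g = u * k
  VU : V ≤ U
  Vn : G0 ⊓ centralizer {r} ≤ normalizer (V : Set G)
  V2 : ∀ a ∈ V, a * a = 1
  UV : ∀ a ∈ U, ∀ b ∈ V, a * b = b * a
  rV : r ∈ V
  Vcl : ∀ a ∈ V, a = 1 ∨ a = r ∨ ∃ g ∈ G0, g * r' * g⁻¹ = a ∨ g * r' * g⁻¹ = a * r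
  Vz : ∃ a ∈ V, ∃ g ∈ G0, g * r = r * g ∧ g * a ≠ a * g
  pair : ∀ g ∈ G0, ∀ x, x = r ∨ x = r' → ∃ u ∈ G0, orderOf u = 3 ∧ u * r = r * u ∧ u * (g * x * g⁻¹) = g * x * g⁻¹ * u
  odd : Odd ((centralizer {r}).relIndex G0)

/-- `C(v1) ⊓ C(r1) ≅ Sp₆(2)` -/
def KX (Y : FD G) : Prop :=
  IsSimpleGroup (centralizer {Y.v1} ⊓ centralizer {Y.r1} : Subgroup G) ∧
    Nat.card (centralizer {Y.v1} ⊓ centralizer {Y.r1} : Subgroup G) = 1451520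

/-- strong closure of `V` in `C(r1)` -/
structure SC (Y : FD G) (V : Subgroup G) : Prop where
  x1 : centralizer {Y.r1} ⊓ Y.G1 ≤ Y.G0
  sc : ∀ a ∈ V, ∀ g, g * Y.r1 = Y.r1 * g → g * a * g⁻¹ ∈ Y.G0 → g * a * g⁻¹ ∈ V
  nV : centralizer {Y.r1} ⊓ normalizer (V : Set G) ≤ Y.G0

/-! ### Interface statements -/

def A2Thm : Prop := ∀ {G : Type u} [Group G] [Finite G] {z t : G} {κ : W4 → G} {T : Subgroup G}, MS0 z t κ T →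
  (∃ g v k, v ≠ 0 ∧ g * z * g⁻¹ = κ v * zp z k) → ∃ s, S2 z t s κ T

def B0Thm : Prop := ∀ {G : Type u} [Group G] [Finite G] {z t s : G} {κ : W4 → G} {T : Subgroup G},
  S2 z t s κ T → S3 z s κ T

def A3Thm : Prop := ∀ {G : Type u} [Group G] [Finite G] {z t s : G} {κ : W4 → G} {T : Subgroup G},
  S2 z t s κ T → S3 z s κ T → Nonempty (FD G)

def RNThm : Prop := ∀ {G : Type u} [Group G] [Finite G] (Y : FD G), S3 Y.z Y.s Y.κ Y.T → Y.NF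

def RMThm : Prop := ∀ {G : Type u} [Group G] [Finite G] (Y : FD G), S3 Y.z Y.s Y.κ Y.T → Y.NF → Y.MF

/-- Prince's theorem as a bound -/
def PBThm : Prop := ∀ {G : Type u} [Group G] [Finite G] (Y : CL.Prince.Bs G) (g : G),
  g * Y.X.E 1 * g⁻¹ = (Y.X.E 1)⁻¹ → Nat.card G ≤ 1451520

def PQThm : Prop := ∀ {G : Type u} [Group G] [Finite G] (Y : FD G), Y.Ok →
  Lg (Y.ly 1) ∧ (¬ 7 ∣ Nat.card (centralizer ({Y.v2} : Set G)) ∨ ∃ ψ, Y.Six ψ)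

def BADThm : Prop := ∀ {G : Type u} [Group G] [Finite G] (Y : FD G), Y.Ok → Lg (Y.ly 1) →
  7 ∣ Nat.card (centralizer ({Y.v2} : Set G))

def GLUEThm : Prop := ∀ {G : Type u} [Group G] [Finite G] (Y : FD G), Y.Ok → Y.swap.Ok → ∀ ψ ψ', Y.Six ψ →
  Y.swap.Six ψ' → FL (Y.lt (ψ (Equiv.swap 2 5)) (ψ' (Equiv.swap 2 5))) ∧
    gen (Y.lt (ψ (Equiv.swap 2 5)) (ψ' (Equiv.swap 2 5))) 17 = Y.G0 ∧ KX Y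

def DThm : Prop := ∀ {G : Type u} [Group G] [Finite G] (Y : FD G), Y.Ok → Y.swap.Ok → Y.SE

def E1Thm : Prop := ∀ {G : Type u} [Group G] [Finite G] (Y : FD G) {U V : Subgroup G}, Y.Ok → Y.swap.Ok → Y.SE →
  KX Y → GF Y.G0 Y.r1 Y.r2 Y.v1 U V → Y.i1 ∈ U → SC Y V

def E2Thm : Prop := ∀ {G : Type u} [Group G] [Finite G] (Y : FD G) {U V : Subgroup G}, Y.Ok → Y.swap.Ok → Y.SE →
  KX Y → GF Y.G0 Y.r1 Y.r2 Y.v1 U V → SC Y V → centralizer {Y.r1} ≤ Y.G0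

def FThm : Prop := ∀ {G : Type u} [Group G] [Finite G] (Y : FD G) {U V : Subgroup G}, Y.Ok → Y.SE →
  GF Y.G0 Y.r1 Y.r2 Y.v1 U V → centralizer {Y.r1} ≤ Y.G0 →
  Y.G0.Normal ∧ centralizer (Y.G0 : Set G) = ⊥ ∧ (Y.G0 = ⊤ ∨ Y.G0.index = 2)

/-- the facts in the Chevalley group: `x r` is the root involution `x_r(1)` -/
def GFThm : Prop := ∀ {F : Type u} [Field F] [Fintype F], Fintype.card F = 2 → ∀ x : ℕ → Lie.chevF4.group F,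
  (∀ r < 48, ((x r : GL Lie.chevF4.Idx F) : Matrix Lie.chevF4.Idx Lie.chevF4.Idx F) = Lie.chevF4.x F r 1) →
  ∃ U V, (∀ r ∈ [24, 26, 29, 31, 32, 36, 38, 39, 40, 42, 43, 44, 45, 46, 47], x r ∈ U) ∧
    GF ⊤ (x 47) (x 44) (x 47 * x 0) U V

end CL.F4R
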