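import Cfsg.Agent.Rec.TCF4CC0
import Cfsg.Agent.Rec.TCF4CC1
import Cfsg.Agent.Rec.TCF4CC2
import Cfsg.Agent.Rec.TCF4CC3

/-! coset enumeration certificate generated by tools/tc -/

set_option maxRecDepth 100000
set_option autoImplicit false
set_option linter.all false

namespace CL.TC.F4C

theorem mz0 : AllZ mF 1 (nat_lit 11761) := (AllZ.step (AllZ.step (AllZ.step (AllZ.step (AllZ.step (AllZ.step (AllZ.step (AllZ.step (AllZ.step (AllZ.step (AllZ.step (AllZ.step (AllZ.step (AllZ.step (AllZ.step (AllZ.step (AllZ.step (AllZ.step (AllZ.step (AllZ.step (AllZ.nil mF 1) (nat_lit 588) (nat_lit 589) rfl m0) (nat_lit 588) (nat_lit 1177) rfl m1) (nat_lit 588) (nat_lit 1765) rfl m2) (nat_lit 588) (nat_lit 2353) rfl m3) (nat_lit 588) (nat_lit 2941) rfl m4) (nat_lit 588) (nat_lit 3529) rfl m5) (nat_lit 588) (nat_lit 4117) rfl m6) (nat_lit 588) (nat_lit 4705) rfl m7) (nat_lit 588) (nat_lit 5293) rfl m8) (nat_lit 588) (nat_lit 5881) rfl m9) (nat_lit 588)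 (nat_lit 6469) rfl m10) (nat_lit 588) (nat_lit 7057) rfl m11) (nat_lit 588) (nat_lit 7645) rfl m12) (nat_lit 588) (nat_lit 8233) rfl m13) (nat_lit 588) (nat_lit 8821) rfl m14) (nat_lit 588) (nat_lit 9409) rfl m15) (nat_lit 588) (nat_lit 9997) rfl m16) (nat_lit 588) (nat_lit 10585) rfl m17) (nat_lit 588) (nat_lit 11173) rfl m18) (nat_lit 588) (nat_lit 11761) rfl m19)
theorem mz1 : AllZ mF 1 (nat_lit 23521) := (AllZ.step (AllZ.step (AllZ.step (AllZ.step (AllZ.step (AllZ.step (AllZ.step (AllZ.step (AllZ.step (AllZ.step (AllZ.step (AllZ.step (AllZ.step (AllZ.step (AllZ.step (AllZ.step (AllZ.step (AllZ.step (AllZ.step (AllZ.step mz0 (nat_lit 588) (nat_lit 12349) rfl m20) (nat_lit 588) (nat_lit 12937) rfl m21) (nat_lit 588) (nat_lit 13525) rfl m22) (nat_lit 588) (nat_lit 14113) rfl m23) (nat_lit 588) (nat_lit 14701) rfl m24) (nat_lit 588) (nat_lit 15289) rfl m25) (nat_lit 588) (nat_lit 15877) rfl m26) (nat_lit 588) (nat_lit 16465) rfl m27) (nat_lit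 588) (nat_lit 17053) rfl m28) (nat_lit 588) (nat_lit 17641) rfl m29) (nat_lit 588) (nat_lit 18229) rfl m30) (nat_lit 588) (nat_lit 18817) rfl m31) (nat_lit 588) (nat_lit 19405) rfl m32) (nat_lit 588) (nat_lit 19993) rfl m33) (nat_lit 588) (nat_lit 20581) rfl m34) (nat_lit 588) (nat_lit 21169) rfl m35) (nat_lit 588) (nat_lit 21757) rfl m36) (nat_lit 588) (nat_lit 22345) rfl m37) (nat_lit 588) (nat_lit 22933) rfl m38) (nat_lit 588) (nat_lit 23521) rfl m39)
theorem mz2 : AllZ mF 1 (nat_lit 35281) := (AllZ.step (AllZ.step (AllZ.step (AllZ.step (AllZ.step (AllZ.step (AllZ.step (AllZ.step (AllZ.step (AllZ.step (AllZ.step (AllZ.step (AllZ.step (AllZ.step (AllZ.step (AllZ.step (AllZ.step (AllZ.step (AllZ.step (AllZ.step mz1 (nat_lit 588) (nat_lit 24109) rfl m40) (nat_lit 588) (nat_lit 24697) rfl m41) (nat_lit 588) (nat_lit 25285) rfl m42) (nat_lit 588) (nat_lit 25873) rfl m43) (nat_lit 588) (nat_lit 26461) rfl m44) (nat_lit 588) (nat_lit 27049)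 rfl m45) (nat_lit 588) (nat_lit 27637) rfl m46) (nat_lit 588) (nat_lit 28225) rfl m47) (nat_lit 588) (nat_lit 28813) rfl m48) (nat_lit 588) (nat_lit 29401) rfl m49) (nat_lit 588) (nat_lit 29989) rfl m50) (nat_lit 588) (nat_lit 30577) rfl m51) (nat_lit 588) (nat_lit 31165) rfl m52) (nat_lit 588) (nat_lit 31753) rfl m53) (nat_lit 588) (nat_lit 32341) rfl m54) (nat_lit 588) (nat_lit 32929) rfl m55) (nat_lit 588) (nat_lit 33517) rfl m56) (nat_lit 588) (nat_lit 34105) rfl m57) (nat_lit 588) (nat_lit 34693) rfl m58) (nat_lit 588) (nat_lit 35281) rfl m59)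
theorem mz3 : AllZ mF 1 (nat_lit 47041) := (AllZ.step (AllZ.step (AllZ.step (AllZ.step (AllZ.step (AllZ.step (AllZ.step (AllZ.step (AllZ.step (AllZ.step (AllZ.step (AllZ.step (AllZ.step (AllZ.step (AllZ.step (AllZ.step (AllZ.step (AllZ.step (AllZ.step (AllZ.step mz2 (nat_lit 588) (nat_lit 35869) rfl m60) (nat_lit 588) (nat_lit 36457) rfl m61) (nat_lit 588) (nat_lit 37045) rfl m62) (nat_lit 588) (nat_lit 37633) rfl m63) (nat_lit 588) (nat_lit 38221) rfl m64) (nat_lit 588) (nat_lit 38809) rfl m65) (nat_lit 588) (nat_lit 39397) rfl m66) (nat_lit 588) (nat_lit 39985) rfl m67) (nat_lit 588) (nat_lit 40573) rfl m68) (nat_lit 588) (nat_lit 41161) rfl m69) (nat_lit 588) (nat_lit 41749) rfl m70) (nat_lit 588) (nat_lit 42337) rfl m71) (nat_lit 588) (nat_lit 42925) rfl m72) (nat_lit 588) (nat_lit 43513) rfl m73) (nat_lit 588) (nat_lit 44101) rfl m74) (nat_lit 588) (nat_lit 44689) rfl m75) (nat_lit 588) (nat_lit 45277) rfl m76) (nat_lit 588) (nat_lit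 45865) rfl m77) (nat_lit 588) (nat_lit 46453) rfl m78) (nat_lit 588) (nat_lit 47041) rfl m79)
theorem mz4 : AllZ mF 1 (nat_lit 58801) := (AllZ.step (AllZ.step (AllZ.step (AllZ.step (AllZ.step (AllZ.step (AllZ.step (AllZ.step (AllZ.step (AllZ.step (AllZ.step (AllZ.step (AllZ.step (AllZ.step (AllZ.step (AllZ.step (AllZ.step (AllZ.step (AllZ.step (AllZ.step mz3 (nat_lit 588) (nat_lit 47629) rfl m80) (nat_lit 588) (nat_lit 48217) rfl m81) (nat_lit 588) (nat_lit 48805) rfl m82) (nat_lit 588) (nat_lit 49393) rfl m83) (nat_lit 588) (nat_lit 49981) rfl m84) (nat_lit 588) (nat_lit 50569) rfl m85) (nat_lit 588) (nat_lit 51157) rfl m86) (nat_lit 588) (nat_lit 51745) rfl m87) (nat_lit 588) (nat_lit 52333) rfl m88) (nat_lit 588) (nat_lit 52921) rfl m89) (nat_lit 588) (nat_lit 53509) rfl m90) (nat_lit 588) (nat_lit 54097) rfl m91) (nat_lit 588) (nat_lit 54685) rfl m92) (nat_lit 588) (nat_lit 55273) rfl m93) (nat_lit 588) (nat_lit 55861) rfl m94) (nat_lit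 588) (nat_lit 56449) rfl m95) (nat_lit 588) (nat_lit 57037) rfl m96) (nat_lit 588) (nat_lit 57625) rfl m97) (nat_lit 588) (nat_lit 58213) rfl m98) (nat_lit 588) (nat_lit 58801) rfl m99)
theorem mz5 : AllZ mF 1 (nat_lit 69889) := (AllZ.step (AllZ.step (AllZ.step (AllZ.step (AllZ.step (AllZ.step (AllZ.step (AllZ.step (AllZ.step (AllZ.step (AllZ.step (AllZ.step (AllZ.step (AllZ.step (AllZ.step (AllZ.step (AllZ.step (AllZ.step (AllZ.step mz4 (nat_lit 588) (nat_lit 59389) rfl m100) (nat_lit 588) (nat_lit 59977) rfl m101) (nat_lit 588) (nat_lit 60565) rfl m102) (nat_lit 588) (nat_lit 61153) rfl m103) (nat_lit 588) (nat_lit 61741) rfl m104) (nat_lit 588) (nat_lit 62329) rfl m105) (nat_lit 588) (nat_lit 62917) rfl m106) (nat_lit 588) (nat_lit 63505) rfl m107) (nat_lit 588) (nat_lit 64093) rfl m108) (nat_lit 588) (nat_lit 64681) rfl m109) (nat_lit 588) (nat_lit 65269) rfl m110) (nat_lit 588) (nat_lit 65857) rfl m111) (nat_lit 588) (nat_lit 66445)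 rfl m112) (nat_lit 588) (nat_lit 67033) rfl m113) (nat_lit 588) (nat_lit 67621) rfl m114) (nat_lit 588) (nat_lit 68209) rfl m115) (nat_lit 588) (nat_lit 68797) rfl m116) (nat_lit 588) (nat_lit 69385) rfl m117) (nat_lit 504) (nat_lit 69889) rfl m118)
theorem xz0 : XZ xF (nat_lit 766) := (XZ.step (XZ.step (XZ.step (XZ.step (XZ.step (XZ.step (XZ.step (XZ.step (XZ.step (XZ.step (XZ.step (XZ.step (XZ.step (XZ.step (XZ.step (XZ.step (XZ.nil xF) s0 (nat_lit 1) (nat_lit 53) (by decide +kernel) x0) s1 (nat_lit 54) (nat_lit 104) (by decide +kernel) x1) s2 (nat_lit 105) (nat_lit 155) (by decide +kernel) x2) s3 (nat_lit 156) (nat_lit 207) (by decide +kernel) x3) s4 (nat_lit 208) (nat_lit 259) (by decide +kernel) x4) s5 (nat_lit 260) (nat_lit 307) (by decide +kernel) x5) s6 (nat_lit 308) (nat_lit 353) (by decide +kernel) x6) s7 (nat_lit 354) (nat_lit 395) (by decide +kernel) x7) s8 (nat_lit 396) (nat_lit 443) (by decide +kernel) x8) s9 (nat_lit 444)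 (nat_lit 489) (by decide +kernel) x9) s10 (nat_lit 490) (nat_lit 539) (by decide +kernel) x10) s11 (nat_lit 540) (nat_lit 589) (by decide +kernel) x11) s12 (nat_lit 590) (nat_lit 639) (by decide +kernel) x12) s13 (nat_lit 640) (nat_lit 686) (by decide +kernel) x13) s14 (nat_lit 687) (nat_lit 733) (by decide +kernel) x14) s15 (nat_lit 734) (nat_lit 766) (by decide +kernel) x15)
/-- the certificate (69888 points) is valid -/
theorem valid : cert.Valid (fun i => invL.getD i i) rels subs 17 :=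
  ⟨by decide +kernel, tabok, by decide +kernel, mz5, xz0⟩
theorem cert_N : cert.N = 69888 := rfl

end CL.TC.F4C
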