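/-
Recognition of `Fi₂₂` from a 3-centraliser (S3368), weak closure: `y` is nontrivial on every factor.
-/
import Cfsg.Agent.Rec.F3Base2
import Cfsg.Agent.Rec.U63C21

set_option autoImplicit false

namespace CL.F3

open Subgroup Cfsg CL.Grp CL.G23 CL.Even Equiv
open CL.U63 hiding Mt Mq MS P1Thm WCThm
open scoped Matrix

universe u

namespace WA

theorem others : ∀ j : Fin 3, ∃ i k : Fin 3, i ≠ j ∧ k ≠ j ∧ i ≠ k := by decide

theorem d2_nd : ∀ v : V2, d2 v e0 = 0 → d2 v f0 = 0 → v = 0 := by decide +kernel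

theorem d2_self (v : V2) : d2 v v = 0 := by simp only [d2]; ring

theorem d2_zero (v : V2) : d2 0 v = 0 := by simp [d2]

theorem β6_ne {i j : Fin 3} (h : j ≠ i) (x y : V2) : β6 (sn i x) (sn j y) = 0 := by rw [β6_sn, sn_ne h, d2_zero]

variable {G : Type u} [Group G] {z t c y : G} {κ : W6 → G} {R : Subgroup G} {r : Fin 3 → G} {A : A3}
  (h : MB z t κ R r) (hc : c * z = z * c) (m : Mt κ c 1 A)
include h hc m

theorem cjA (v x : W6) : ∃ l, IsConj (κ v * c) (κ (v + (x - mon 1 A x)) * zp z l * c) :=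
  ⟨β6 v (x - mon 1 A x) + (2 * β6 x v + -β6 x (mon 1 A x)), isConj_iff.2 ⟨κ x, by
    rw [← conj_mul, h.kk, h.conj_k m, zp_add h.z3, zp_add h.z3, ← mul_assoc (κ (v + _)), ← h.mul, mul_assoc (κ v) (zp _ _),
      ← mul_assoc (zp _ _), ← mul_assoc (zp _ _), ← h.kzp]
    simp only [mul_assoc]⟩⟩

theorem cjB {j : Fin 3} (hj : A j = 1) {v : W6} (hv : v j ≠ 0) (l l' : ZMod 3) :
    IsConj (κ v * zp z l * c) (κ v * zp z l' * c) := by
  obtain ⟨x, e⟩ := C21J.d2_surj _ hv (l' - l)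
  refine isConj_iff.2 ⟨κ (sn j x), ?_⟩
  rw [← conj_mul, ← conj_mul, h.kk, ← m.comm (by rw [mon_sn]; simp [hj]), mul_inv_cancel_right, h.kzp (sn j x),
    mul_inv_cancel_right, mul_assoc (κ v), ← zp_add h.z3, β6_swap, β6_sn, e]
  congr 3
  linear_combination (l - l') * (by decide : (3 : ZMod 3) = 0)

theorem cjR (j : Fin 3) (v : W6) (l : ZMod 3) : IsConj (κ v * zp z l * c) (κ (v + sn j (v j)) * zp z l * c) :=
  isConj_iff.2 ⟨r j, by rw [← conj_mul, ← conj_mul, h.ra, mon_sgn, zp_comm (h.rz j), mul_inv_cancel_right,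
    ← h.r_comm hc m, mul_inv_cancel_right]⟩

end WA

open WA in
theorem waThm : WAThm.{u} := by
  intro G _ _ z t y t' κ κ' R R' r r' h h' p A j hq hj
  obtain ⟨u, c, e, -, hc, m⟩ := h.nfq p.cm hq
  have A3 := (h.three' ⟨p.cm, h'.z3⟩ hq).2 rfl
  have yc : ∀ {w}, mon 1 A w = w → β6 u w = 0 → T3 y (κ w) := fun e1 e2 =>
    ⟨by rw [e, mul_assoc, m.comm e1, ← mul_assoc, ← mul_assoc, h.kcomm e2], h.k3 _⟩
  have key : ∀ w w', mon 1 A w = w → β6 u w = 0 → mon 1 A w' = w' → β6 u w' = 0 → β6 w w' = 0 := fun w w' a1 a2 a3 a4 => by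
    have e1 : zp z (2 * β6 w w') = κ w * κ w' * (κ w)⁻¹ * (κ w')⁻¹ := by rw [h.kk, h.kzp, mul_inv_cancel_right]
    have e2 := p.w'.f1 _ _ _ (yc a1 a2) (yc a3 a4) e1 (h.kzp _ _).symm (h.kzp _ _).symm
    by_contra a5
    exact p.zQ ((zpowers_le.2 e2 : _ ≤ h'.QQ) (C21J.sym3 h.z3 (fun e => a5 (by
      linear_combination -zp_eq_one h.z3 h.z1 e + β6 w w' * (by decide : (3 : ZMod 3) = 0))) (zp_mem z _)))
  have fx : ∀ {i x}, A i *ᵥ x = x → mon 1 A (sn i x) = sn i x := fun e => by rw [mon_sn]; exact congrArg _ e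
  have fj : ∀ {i}, A i = 1 → ∀ x, mon 1 A (sn i x) = sn i x := fun e x => fx (by simp [e])
  have s1 : ∀ {i}, A i = 1 → u i ≠ 0 := fun {i} hi e => by
    have := key _ _ (fj hi e0) (by rw [β6_sn, e, d2_zero]) (fj hi f0) (by rw [β6_sn, e, d2_zero])
    rw [β6_sn, sn_self] at this
    exact absurd this (by decide)
  have uj := s1 hj
  have b0 : β6 u (sn j (u j)) = 0 := by rw [β6_sn, d2_self]
  have s2 : ∀ {i x}, i ≠ j → A i *ᵥ x = x → β6 u (sn i x) = 0 := fun {i x} hi hx => by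
    obtain ⟨w, e1⟩ := C21J.d2_surj _ uj (-β6 u (sn i x))
    have := key _ (sn j w + sn i x) (fj hj _) b0 (by rw [mon_add, fj hj, fx hx]) (by rw [β6_add, β6_sn, e1, neg_add_cancel])
    rwa [β6_add, β6_ne hi, add_zero, β6_sn, sn_self, e1, neg_eq_zero] at this
  have s3 : ∀ {i}, i ≠ j → ∃ x, x ≠ 0 ∧ A i *ᵥ x = x ∧ ∀ a : ZMod 3, ∃ w, w - A i *ᵥ w = a • x := fun {i} hi =>
    C21J.m_fix _ (A3 i) fun e => s1 e (d2_nd _ (β6_sn u i _ ▸ s2 hi (by simp [e])) (β6_sn u i _ ▸ s2 hi (by simp [e])))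
  obtain ⟨i, k, ij, kj, ik⟩ := others j
  obtain ⟨x, x0, x1, x2⟩ := s3 ij
  obtain ⟨x', x0', x1', x2'⟩ := s3 kj
  have H : ∀ γ a b α : ZMod 3, γ = 0 ∨ γ = 1 → InQ y κ' (κ (γ • sn j (u j) + a • sn i x + b • sn k x') * zp z α) →
      α = 0 ∧ γ = 0 ∧ a = 0 ∧ b = 0 := fun γ a b α hγ hn => by
    obtain ⟨w, e1⟩ := x2 a
    obtain ⟨w', e2⟩ := x2' b
    obtain ⟨l, c1⟩ := cjA h.toMB hc m u (sn i w + sn k w')
    have e3 : sn i w + sn k w' - mon 1 A (sn i w + sn k w') = a • sn i x + b • sn k x' := by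
      rw [mon_add, mon_sn, mon_sn, ← sn_smul, ← sn_smul, ← e1, ← e2, sub_eq_add_neg w, sub_eq_add_neg w', sn_add, sn_add,
        sn_neg, sn_neg, Perm.one_apply, Perm.one_apply]
      abel
    have e4 : (u + (a • sn i x + b • sn k x')) j = u j := by simp [sn_ne ij.symm, sn_ne kj.symm]
    rw [e3, ← e] at c1
    have c2 := c1.trans (cjB h.toMB hc m hj (e4 ▸ uj) l α)
    have c3 : IsConj y (y * (κ (γ • sn j (u j) + a • sn i x + b • sn k x') * zp z α)) := by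
      nth_rw 2 [e]
      rw [mul_assoc, ← mul_assoc c, m.comm (by simp only [mon_add, mon_smul, fj hj, fx x1, fx x1']), mul_assoc _ c,
        zp_comm hc, ← mul_assoc, ← mul_assoc, ← h.kadd (by simp only [β6_add, β6_smul, b0, s2 ij x1, s2 kj x1']; ring)]
      rcases hγ with rfl | rfl
      · rwa [zero_smul, zero_add]
      · convert c2.trans (cjR h.toMB hc m j _ α) using 3
        rw [e4, one_smul]; abel
    obtain ⟨g, c3⟩ := isConj_iff.1 c3
    have c4 := (mul_mem_cancel_left (mem_zpowers y)).1 (c3 ▸ p.wy g (c3 ▸ h'.inQ_mul h'.inQ_z hn))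
    obtain ⟨e5, e6⟩ := h.keq (w := 0) (l := 0) ((by_contra fun e1 => p.yQ ((zpowers_le.2 ⟨_, _, rfl⟩ : _ ≤ h.QQ)
      (C21J.sym3 h'.z3 e1 c4))).trans (by rw [h.k0, zp_zero, mul_one]))
    have f1 := congrFun e5 j
    have f2 := congrFun e5 i
    have f3 := congrFun e5 k
    simp [sn_self, sn_ne, ij, kj, ik, ij.symm, kj.symm, ik.symm, uj, x0, x0'] at f1 f2 f3
    exact ⟨e6, f1, f2, f3⟩
  obtain ⟨α, γ, a, b, n1, n2⟩ := p.w'.f2b z _ _ _ ⟨p.cm.symm, h.z3⟩ (yc (fj hj _) b0) (yc (fx x1) (s2 ij x1))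
    (yc (fx x1') (s2 kj x1')) (h.kz _).symm (h.kz _).symm (h.kcomm (β6_ne ij _ _)) (h.kz _).symm
    (h.kcomm (β6_ne kj _ _)) (h.kcomm (β6_ne ik.symm _ _))
  rw [← h.ksmul, ← h.ksmul, ← h.ksmul, mul_assoc (zp z α), mul_assoc (zp z α),
    ← h.kadd (by rw [β6_smul, β6_smul', β6_ne ij]; ring),
    ← h.kadd (by rw [β6_add', β6_smul, β6_smul, β6_smul', β6_smul', β6_ne kj, β6_ne ik.symm]; ring), ← h.kzp] at n2
  rcases (by decide : ∀ k : ZMod 3, (k = 0 ∨ k = 1) ∨ -k = 1) γ with hγ | hγ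
  · exact n1 (H _ _ _ _ hγ n2)
  · have := h'.inQ_inv n2
    rw [mul_inv_rev, h.kinv, ← zp_neg h.z3, ← h.kzp, neg_add, neg_add, ← neg_smul, ← neg_smul, ← neg_smul] at this
    exact n1 (by simpa using H _ _ _ _ (.inr hγ) this)

end CL.F3
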