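/-
Recognition of `²E₆(2)` from a 3-centraliser (S3337): a conjugate of `z` does not centralise a factor.
-/
import Cfsg.Agent.Rec.E63Fd
import Cfsg.Agent.Rec.F3WA

set_option autoImplicit false

namespace CL.E63

open Subgroup Cfsg CL.Grp CL.G23 CL.Even Equiv
open CL.U63 hiding Mt Mq MS P1Thm WCThm
open CL.F3 hiding MB MS0 MS PM P1Thm PKThm P2Thm W0 Pr2 YM W0Thm WAThm WCThm WBThm WGThm Y1Thm YAThm YBThm YCThm
open scoped Matrix

universe u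

namespace LAx

theorem s3 : ∀ a b c : P3, a ^ 4 = 1 → b ^ 4 = 1 → (a * b) ^ 4 = 1 → a * b = c * (b * a) → c = 1 := by
  decide +kernel

def X1 : M2 := !![0, 2; 1, 0]
def X2 : M2 := !![1, 1; 1, 2]

def up (i : Fin 3) (X : M2) : A3 := fun j => if j = i then X else 1

theorem up_spec : ∀ i, (∀ j, Q8m (up i X1 j)) ∧ (∀ j, Q8m (up i X2 j)) ∧
    up i X1 * up i X2 = sgn i * (up i X2 * up i X1) := by
  simp only [Q8m, Matrix.det_fin_two]
  decide +kernel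

theorem up_comm {A : A3} {i : Fin 3} (hA : A i = 1) (X : M2) : A * up i X = up i X * A := funext fun j => by
  simp only [up, Pi.mul_apply]
  split_ifs with e
  · rw [e, hA, one_mul, mul_one]
  · rw [one_mul, mul_one]

theorem up_fix {v : W6} {i : Fin 3} (hv : v i = 0) (X : M2) : mon 1 (up i X) v = v := funext fun j => by
  simp only [mon_base, up]
  split_ifs with e
  · rw [e, hv, Matrix.mulVec_zero]
  · rw [Matrix.one_mulVec]

variable {G : Type u} [Group G] {z t c y : G} {κ : W6 → G} {R : Subgroup G} {r : Fin 3 → G} {A : A3}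
  (h : MB z t κ R r)
include h

theorem z_mem {k : ZMod 3} (hk : k ≠ 0) : z ∈ zpowers (zp z k) :=
  C21J.sym3 h.z3 (fun e => hk (zp_eq_one h.z3 h.z1 e)) (zp_mem z k)

variable (hc : c * z = z * c) (m : Mt κ c 1 A)
include hc m

theorem cjA (v x : W6) : ∃ l, IsConj (κ v * c) (κ (v + (x - mon 1 A x)) * zp z l * c) :=
  ⟨β6 v (x - mon 1 A x) + (2 * β6 x v + -β6 x (mon 1 A x)), isConj_iff.2 ⟨κ x, by
    rw [← conj_mul, h.kk, h.conj_k m, zp_add h.z3, zp_add h.z3, ← mul_assoc (κ (v + _)), ← h.mul, mul_assoc (κ v) (zp _ _),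
      ← mul_assoc (zp _ _), ← mul_assoc (zp _ _), ← h.kzp]
    simp only [mul_assoc]⟩⟩

omit hc in
theorem cjB {j : Fin 3} (hj : A j = 1) {v : W6} (hv : v j ≠ 0) (l l' : ZMod 3) :
    IsConj (κ v * zp z l * c) (κ v * zp z l' * c) := by
  obtain ⟨x, e⟩ := C21J.d2_surj _ hv (l' - l)
  refine isConj_iff.2 ⟨κ (sn j x), ?_⟩
  rw [← conj_mul, ← conj_mul, h.kk, ← m.comm (by rw [mon_sn]; simp [hj]), mul_inv_cancel_right, h.kzp (sn j x),
    mul_inv_cancel_right, mul_assoc (κ v), ← zp_add h.z3, β6_swap, β6_sn, e]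
  congr 3
  linear_combination (l - l') * (by decide : (3 : ZMod 3) = 0)

theorem cy {i : Fin 3} (hA : A i = 1) {v : W6} (hv : v i = 0) {τ : G} (hτ : τ ∈ R) {X : M2} (mτ : Mt κ τ 1 (up i X)) :
    τ * (κ v * c) = κ v * c * τ := by
  obtain ⟨k, e⟩ := h.mt_eq (m.mul' mτ) (up_comm hA X ▸ mτ.mul' m)
  have e1 : c * τ * c⁻¹ = τ * zp z k := by rw [e, mul_assoc τ, zp_comm hc, ← mul_assoc, mul_inv_cancel_right]
  rw [h.four (h.Rz _ hτ) (h.R4 _ hτ) (k := k) (by rw [← e1, conj_pow, h.R4 _ hτ]; group), zp_zero, mul_one] at e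
  rw [← mul_assoc, mτ.comm (up_fix hv X), mul_assoc, ← e, mul_assoc]

end LAx

open LAx WA in
theorem laThm : LAThm.{u} := by
  intro G _ _ z t y t' κ κ' R R' r r' h h' w' v d A i e _ hd m hv hA
  obtain ⟨s1, s2, s3'⟩ := up_spec i
  obtain ⟨τ1, a1, m1⟩ := h.surj s1
  obtain ⟨τ2, a2, m2⟩ := h.surj s2
  have e1 : τ1 * τ2 = r i * (τ2 * τ1) :=
    h.R_inj (mul_mem a1 a2) (mul_mem (h.rR i) (mul_mem a2 a1)) (m1.mul' m2) (s3' ▸ (h.ra i).mul' (m2.mul' m1))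
  have c1 : τ1 * y = y * τ1 := e ▸ cy h.toMB hd m hA hv a1 m1
  have c2 : τ2 * y = y * τ2 := e ▸ cy h.toMB hd m hA hv a2 m2
  have c3 : r i * y = y * r i := e ▸ cy h.toMB hd m hA hv (h.rR i) (X := -1) (h.ra i)
  obtain ⟨-, -, π1, B1, -, -, -, -, -, q1⟩ := h'.nfc c1
  obtain ⟨-, -, π2, B2, -, -, -, -, -, q2⟩ := h'.nfc c2
  obtain ⟨-, -, π3, B3, -, -, -, -, -, q3⟩ := h'.nfc c3
  have f4 : ∀ {g π B}, g ∈ R → g * y = y * g → Mq y κ' g π B → π ^ 4 = 1 := fun {g π B} hg cg q => by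
    obtain ⟨C, q'⟩ := q.pow' h'.z3 cg 4
    rw [h.R4 _ hg] at q'
    exact (h'.mq_one ((Mt.one κ').mq y) q').1
  have c12 : τ1 * τ2 * y = y * (τ1 * τ2) := (Commute.mul_left c1 c2).eq
  have q12 := q1.mulc h'.z3 c1 q2
  obtain rfl := s3 π1 π2 π3 (f4 a1 c1 q1) (f4 a2 c2 q2) (f4 (mul_mem a1 a2) c12 q12)
    (h'.uniq c12 q12 (e1 ▸ q3.mulc h'.z3 c3 (q2.mulc h'.z3 c2 q1))).1
  have k : ∀ x, InQ y κ' (κ (sn i x)) := fun x => w'.l1 _ _ _ c3 (h.r2 i) q3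
    ⟨by rw [e, ← mul_assoc, ← h.kcomm (by rw [β6_sn, hv, d2_zero]), mul_assoc, mul_assoc,
      m.comm (by rw [mon_sn]; simp [hA])], h.k3 _⟩ (by rw [h.ra i, mon_sgn, sn_self, add3, h.kinv])
  obtain ⟨l, e2⟩ := h'.inQ_com (k e0) (k f0)
  rw [h.kk, mul_right_inj, β6_sn, sn_self] at e2
  exact (zpowers_le.2 (zp_mem z _) : _ ≤ zpowers z) (C21J.sym3 h'.z3
    (fun e3 => absurd (zp_eq_one h.z3 h.z1 e3) (by decide)) (e2 ▸ zp_mem y l))

open LAx WA in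
theorem wa1Thm : WA1Thm.{u} := by
  intro G _ _ z t y t' κ κ' R R' r r' h h' p la A j hq hA
  obtain ⟨u, c, e, ct, hc, m⟩ := h.nfq p.cm hq
  have A3 := (h.three' ⟨p.cm, h'.z3⟩ hq).2 rfl
  have un : ∀ {i}, i ≠ j → u i ≠ 0 := fun {i} hi e1 =>
    p.yQ ((zpowers_le.2 h.inQ_z : _ ≤ h.QQ) (la u c A i e ct hc m e1 (hA i hi)))
  have Aj : A j ≠ 1 := fun e1 => p.yQ (h.triv_q p.cm ((funext fun n => by
    by_cases hn : n = j
    exacts [hn ▸ e1, hA n hn] : A = 1) ▸ hq))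
  obtain ⟨x, f, ε, ε0, x0, -, x1, f1, -⟩ := m3_frame _ (A3 j) Aj
  have yc : ∀ {w}, mon 1 A w = w → β6 u w = 0 → T3 y (κ w) := fun e1 e2 =>
    ⟨by rw [e, mul_assoc, m.comm e1, ← mul_assoc, ← mul_assoc, h.kcomm e2], h.k3 _⟩
  have zq : ∀ {k}, InQ y κ' (zp z k) → k = 0 := fun {k} hk => by_contra fun k0 =>
    p.zQ ((zpowers_le.2 hk : _ ≤ h'.QQ) (z_mem h.toMB k0))
  have cen : ∀ {v w l}, InQ y κ' (κ v * zp z l) → mon 1 A w = w → β6 u w = 0 → β6 w v = 0 := fun {v w l} hn a1 a2 => by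
    have e1 := h'.inQ_mul (h'.inQ_inv hn) (h'.inQ_normc (yc a1 a2).1 hn)
    rw [← conj_mul, h.kk, h.kzp w, mul_inv_cancel_right, mul_assoc (κ v), ← zp_add h.z3, add_comm, zp_add h.z3,
      ← mul_assoc (κ v), inv_mul_cancel_left] at e1
    linear_combination -zq e1 + β6 w v * (by decide : (3 : ZMod 3) = 0)
  have P1 : ∀ a b n, mon 1 A a = a → β6 u a = 0 → mon 1 A b = b → β6 u b = 0 → mon 1 A n = n → β6 u n = 0 →
      β6 a b ≠ 0 → β6 n a = 0 → β6 n b = 0 → ∃ l, InQ y κ' (κ n * zp z l) := fun a b n a1 a2 b1 b2 n1 n2 ab na nb => by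
    have e1 : zp z (2 * β6 a b) = κ a * κ b * (κ a)⁻¹ * (κ b)⁻¹ := by rw [h.kk, h.kzp, mul_inv_cancel_right]
    rcases p.w'.p1 _ _ _ _ (yc a1 a2) (yc b1 b2) (yc n1 n2) e1 (h.kzp _ _).symm (h.kzp _ _).symm (h.kcomm na)
      (h.kcomm nb) with e2 | ⟨k, e2⟩ | ⟨s, s', k, e3, e2⟩
    · exact absurd (by linear_combination -zq e2 + β6 a b * (by decide : (3 : ZMod 3) = 0)) ab
    · exact ⟨_, by rwa [zp_zp h.z3] at e2⟩
    · rw [zp_zp h.z3, ← h.ksmul, ← h.ksmul, h.mul, mul_assoc, ← zp_add h.z3] at e2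
      have e4 := cen e2 a1 a2
      have e5 := cen e2 b1 b2
      rw [β6_add, β6_smul, β6_smul, β6_self] at e4 e5
      rw [β6_swap a b] at e5
      exact (e3 ⟨(mul_eq_zero.1 (by linear_combination -e5 : s * β6 a b = 0)).resolve_right ab,
        (mul_eq_zero.1 (by linear_combination e4 : s' * β6 a b = 0)).resolve_right ab⟩).elim
  have fx : ∀ {i x}, A i *ᵥ x = x → mon 1 A (sn i x) = sn i x := fun e => by rw [mon_sn]; exact congrArg _ e
  have fj : ∀ {i}, i ≠ j → ∀ x, mon 1 A (sn i x) = sn i x := fun e x => fx (by simp [hA _ e])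
  obtain ⟨i, k, ij, kj, ik⟩ := others j
  by_cases hb : d2 (u j) x = 0
  · obtain ⟨x2, e2⟩ := C21J.d2_surj _ (un ij) 1
    obtain ⟨x3, e3⟩ := C21J.d2_surj _ (un kj) (-1)
    obtain ⟨l, hn⟩ := P1 (sn i (u i)) (sn i x2 + sn k x3) (sn j x) (fj ij _) (by rw [β6_sn, d2_self])
      (by rw [mon_add, fj ij, fj kj]) (by rw [β6_add, β6_sn, β6_sn, e2, e3, add_neg_cancel]) (fx x1)
      (by rw [β6_sn, hb]) (by rw [β6_add, β6_ne ik.symm, β6_sn, sn_self, e2]; decide) (β6_ne ij _ _)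
      (by rw [β6_add, β6_ne ij, β6_ne kj, add_zero])
    obtain ⟨l', c1⟩ := cjA h.toMB hc m u (sn j (-ε • f))
    have e4 : sn j (-ε • f) - mon 1 A (sn j (-ε • f)) = sn j x := by
      rw [mon_sn, Perm.one_apply, Matrix.mulVec_smul, f1, sub_eq_add_neg, ← sn_neg, ← sn_add, smul_add, smul_smul,
        (by decide : ∀ ε : ZMod 3, ε ≠ 0 → -ε * ε = -1) ε ε0]
      simp
    rw [e4, ← e] at c1
    obtain ⟨g, c3⟩ := isConj_iff.1 (c1.trans (cjB h.toMB m (hA i ij) (v := u + sn j x) (by simpa [sn_ne ij] using un ij) l' l))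
    rw [h.kadd (by rw [β6_sn, hb]), mul_assoc _ _ c, ← zp_comm hc, mul_assoc (κ u), ← mul_assoc (κ (sn j x)),
      ← m.comm (fx x1), mul_assoc c, ← mul_assoc (κ u), ← e] at c3
    have c4 := (mul_mem_cancel_left (mem_zpowers y)).1 (c3 ▸ p.wy g (c3 ▸ h'.inQ_mul h'.inQ_z hn))
    have e5 := (h.keq (w := 0) (l := 0) ((by_contra fun e1 => p.yQ ((zpowers_le.2 ⟨_, _, rfl⟩ : _ ≤ h.QQ)
      (C21J.sym3 h'.z3 e1 c4))).trans (by rw [h.k0, zp_zero, mul_one]))).1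
    exact x0 (by simpa [sn_self] using congrFun e5 j)
  · obtain ⟨ν, hν⟩ : ∃ ν : Fin 3 → V2 → W6, ∀ n w, ν n w = sn n w + (-(d2 (u n) w * d2 (u j) x)) • sn j x :=
      ⟨_, fun _ _ => rfl⟩
    have n1 : ∀ {n}, n ≠ j → ∀ w, mon 1 A (ν n w) = ν n w := fun hn w => by rw [hν, mon_add, mon_smul, fj hn, fx x1]
    have n2 : ∀ n w, β6 u (ν n w) = 0 := fun n w => by
      rw [hν, β6_add, β6_smul, β6_sn, β6_sn]
      linear_combination (-d2 (u n) w) * (by decide : ∀ b : ZMod 3, b ≠ 0 → b * b = 1) _ hb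
    have n3 : ∀ {n n'}, n ≠ j → n' ≠ j → ∀ w w', β6 (ν n w) (ν n' w') = β6 (sn n w) (sn n' w') := fun hn hn' w w' => by
      rw [hν, hν, β6_add, β6_add', β6_add', β6_smul, β6_smul, β6_smul', β6_smul', β6_self, β6_ne hn', β6_ne hn.symm]
      ring
    obtain ⟨l, hn⟩ := P1 (ν i e0) (ν i f0) (ν k e0) (n1 ij _) (n2 _ _) (n1 ij _) (n2 _ _) (n1 kj _) (n2 _ _)
      (by rw [n3 ij ij, β6_sn, sn_self]; decide) (by rw [n3 kj ij, β6_ne ik]) (by rw [n3 kj ij, β6_ne ik])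
    have := cen hn (n1 kj f0) (n2 _ _)
    rw [n3 kj kj, β6_sn, sn_self] at this
    exact absurd this (by decide)

end CL.E63
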