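/-
Recognition of `Fi₂₂` from a 3-centraliser (S3368): the coordinate-free structure `PM` from the hypotheses.
-/
import Cfsg.Agent.Rec.F3Defs

set_option autoImplicit false

namespace CL.F3

open Subgroup Cfsg CL.Grp CL.G23 CL.Even Equiv
open CL.U63 hiding Mt Mq MS P1Thm WCThm

universe u

namespace P1

theorem exists_R {K : Type u} [Group K] [Finite K] (Q : Subgroup K) [Q.Normal] (hQ : Nat.card Q = 3 ^ 7)
    (T : Subgroup (K ⧸ Q)) (hT : Nat.card T = 2 ^ 7) : ∃ R : Subgroup K, R ≤ T.comap (QuotientGroup.mk' Q) ∧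
    Nat.card R = 128 ∧ ∀ x ∈ T.comap (QuotientGroup.mk' Q), ∃ q ∈ Q, ∃ τ ∈ R, x = q * τ := by
  have h1 : 2 ^ 7 ∣ Nat.card (T.comap (QuotientGroup.mk' Q)) := hT ▸ card_dvd_of_surjective _
    (MonoidHom.subgroupComap_surjective_of_surjective _ T (QuotientGroup.mk'_surjective Q))
  obtain ⟨R0, h2⟩ := Sylow.exists_subgroup_card_pow_prime 2 h1
  have h3 : Nat.card (R0.map (T.comap (QuotientGroup.mk' Q)).subtype) = 2 ^ 7 :=
    (card_map_of_injective (subtype_injective _)).trans h2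
  have h0 := map_subtype_le R0
  generalize R0.map (T.comap (QuotientGroup.mk' Q)).subtype = R at h3 h0
  have h4 : Function.Injective ((QuotientGroup.mk' Q).comp R.subtype) := (injective_iff_map_eq_one _).2 fun a ha => by
    have e1 : (a : K) ^ 3 ^ 7 = 1 :=
      congrArg Subtype.val (hQ ▸ pow_card_eq_one' (x := (⟨a, (QuotientGroup.eq_one_iff _).1 ha⟩ : Q)))
    have e2 : (a : K) ^ 2 ^ 7 = 1 := congrArg Subtype.val (h3 ▸ pow_card_eq_one' (x := a))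
    exact Subtype.ext (by simpa using (pow_gcd_eq_one.2 ⟨e1, e2⟩ : (a : K) ^ Nat.gcd (3 ^ 7) (2 ^ 7) = 1))
  have h5 : R.map (QuotientGroup.mk' Q) = T := eq_of_le_of_card_ge (map_le_iff_le_comap.2 h0) (by
    rw [← range_subtype R, ← MonoidHom.range_comp, ← Nat.card_congr (MonoidHom.ofInjective h4).toEquiv, h3, hT])
  refine ⟨R, h0, h3, fun x hx => ?_⟩
  obtain ⟨τ, hτ, e⟩ : QuotientGroup.mk' Q x ∈ R.map (QuotientGroup.mk' Q) := h5 ▸ hx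
  exact ⟨x * τ⁻¹, by
    rw [← QuotientGroup.eq_one_iff (N := Q), QuotientGroup.mk_mul, QuotientGroup.mk_inv, mul_inv_eq_one]
    exact e.symm, τ, hτ, by group⟩

variable {G : Type u} [Group G] {z : G}

theorem cZ {y w : G} (h : y * z = z * y) (hw : w ∈ zpowers z) : y * w = w * y := by
  obtain ⟨k, rfl⟩ := hw
  exact (Commute.zpow_right h k).eq

theorem one_of (z3 : z ^ 3 = 1) {w : G} (hw : w ∈ zpowers z) (h : w ^ 128 = 1) : w = 1 := by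
  obtain ⟨k, rfl⟩ := hw
  have h3 : (z ^ k) ^ 3 = 1 := by rw [← zpow_natCast, ← zpow_mul, mul_comm, zpow_mul, zpow_natCast, z3, one_zpow]
  simpa using (pow_gcd_eq_one.2 ⟨h3, h⟩ : (z ^ k) ^ Nat.gcd 3 128 = 1)

theorem conj_z {g y : G} (hg : g ∈ normalizer (zpowers z : Set G)) (h : y * z = z * y) :
    g * y * g⁻¹ * z = z * (g * y * g⁻¹) := by
  have h1 := cZ h ((mem_normalizer_iff.1 (inv_mem hg) z).1 (mem_zpowers z))
  calc g * y * g⁻¹ * z = g * (y * (g⁻¹ * z * g⁻¹⁻¹)) * g⁻¹ := by group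
    _ = _ := by rw [h1]; group

theorem mem_norm {y : G} (h : y * z = z * y) : y ∈ normalizer (zpowers z : Set G) :=
  centralizer_le_normalizer _ fun w hw => (cZ h hw).symm

/-- acts as inversion on `Qi i` and trivially on the other factors, modulo `z` -/
def Sg (z : G) (Qi : Fin 3 → Subgroup G) (i : Fin 3) (a : G) : Prop :=
  (∀ q ∈ Qi i, a * q * a⁻¹ * q ∈ zpowers z) ∧ ∀ j, i ≠ j → ∀ q ∈ Qi j, a * q * a⁻¹ * q⁻¹ ∈ zpowers z

theorem core [Finite G] {Q P R : Subgroup G} {Qi : Fin 3 → Subgroup G} (z3 : z ^ 3 = 1) (z1 : z ≠ 1)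
    (zi : ∀ i, z ∈ Qi i) (Qz : ∀ q ∈ Q, q * z = z * q) (gen : Qi 0 ⊔ Qi 1 ⊔ Qi 2 = Q)
    (card : ∀ i, Nat.card (Qi i) = 27) (nab : ∀ i, ∃ a ∈ Qi i, ∃ b ∈ Qi i, a * b ≠ b * a)
    (com : ∀ a ∈ Q, ∀ b ∈ Q, a * b * a⁻¹ * b⁻¹ ∈ zpowers z) (cube : ∀ a ∈ Q, a ^ 3 ∈ zpowers z)
    (cm : ∀ i j, i ≠ j → ∀ a ∈ Qi i, ∀ b ∈ Qi j, a * b = b * a)
    (cQ : ∀ g, (∀ q ∈ Q, g * q = q * g) → g ∈ zpowers z) (hRP : R ≤ P) (Rcard : Nat.card R = 128)
    (dec : ∀ x ∈ P, ∃ q ∈ Q, ∃ τ ∈ R, x = q * τ) (Pz : ∀ x ∈ P, x * z = z * x)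
    (hn : ∀ x ∈ P, ∀ i, ∀ q ∈ Qi i, x * q * x⁻¹ ∈ Qi i)
    (h4 : ∀ x ∈ P, ∀ i, ∀ q ∈ Qi i, x ^ 4 * q * (x ^ 4)⁻¹ * q⁻¹ ∈ zpowers z)
    (hc : ∀ i, ∃ x ∈ P, Sg z Qi i x) (nQ : ∀ g ∈ normalizer (zpowers z : Set G), ∀ q ∈ Q, g * q * g⁻¹ ∈ Q)
    (nP : ∀ g, g * z = z * g → ∀ x ∈ P, g * x * g⁻¹ ∈ P)
    (Pm : ∀ N : Subgroup G, (∀ x ∈ N, x * z = z * x) → (∀ g, g * z = z * g → ∀ x ∈ N, g * x * g⁻¹ ∈ N) →
      (∀ x ∈ N, x ^ 4 ∈ Q) → N ≤ P) : ∃ t r, PM z t Q Qi R r := by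
  have hle : ∀ i, Qi i ≤ Q := fun i => gen ▸ by
    fin_cases i
    exacts [le_sup_left.trans le_sup_left, le_sup_right.trans le_sup_left, le_sup_right]
  have triv : ∀ τ ∈ R, (∀ i, ∀ q ∈ Qi i, τ * q * τ⁻¹ * q⁻¹ ∈ zpowers z) → τ = 1 := fun τ hτ h => by
    have e : τ ^ 128 = 1 := congrArg Subtype.val (Rcard ▸ pow_card_eq_one' (x := (⟨τ, hτ⟩ : R)))
    have h1 : ∀ i, Qi i ≤ centralizer {τ} := fun i q hq => by
      obtain ⟨w, hw⟩ : ∃ w, w = τ * q * τ⁻¹ * q⁻¹ := ⟨_, rfl⟩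
      have hz : w ∈ zpowers z := hw ▸ h i q hq
      have hcm : Commute τ w := cZ (Pz τ (hRP hτ)) hz
      have h2 : ∀ n : ℕ, τ ^ n * q = w ^ n * q * τ ^ n := fun n => by
        induction n with
        | zero => simp
        | succ n ih =>
          calc τ ^ (n + 1) * q = τ * (τ ^ n * q) := by rw [pow_succ', mul_assoc]
            _ = τ * w ^ n * q * τ ^ n := by rw [ih]; group
            _ = w ^ n * (τ * q * τ⁻¹ * q⁻¹) * q * (τ * τ ^ n) := by rw [(hcm.pow_right n).eq]; group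
            _ = _ := by rw [← hw, ← pow_succ, ← pow_succ']
      have h3 := h2 128
      rw [e, one_mul, mul_one, eq_comm, mul_eq_right] at h3
      rw [one_of z3 hz h3, eq_comm, mul_inv_eq_one, mul_inv_eq_iff_eq_mul] at hw
      exact mem_centralizer_singleton_iff.2 hw.symm
    refine one_of z3 (cQ τ fun q hq => (mem_centralizer_singleton_iff.1 ?_).symm) e
    exact (sup_le (sup_le (h1 0) (h1 1)) (h1 2) : Qi 0 ⊔ Qi 1 ⊔ Qi 2 ≤ _) (gen ▸ hq)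
  have R4 : ∀ τ ∈ R, τ ^ 4 = 1 := fun τ hτ => triv _ (pow_mem hτ 4) (h4 τ (hRP hτ))
  have hr : ∀ i, ∃ ρ ∈ R, Sg z Qi i ρ := fun i => by
    obtain ⟨x, hx, h1, h2⟩ := hc i
    obtain ⟨q0, hq0, ρ, hρ, rfl⟩ := dec x hx
    have k : ∀ j, ∀ q ∈ Qi j, ∀ y, q0 * ρ * q * (q0 * ρ)⁻¹ * y ∈ zpowers z → ρ * q * ρ⁻¹ * y ∈ zpowers z :=
      fun j q hq y h => by
        have := mul_mem (inv_mem (com q0 hq0 _ (hle j (hn ρ (hRP hρ) j q hq)))) h
        convert this using 1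
        group
    exact ⟨ρ, hρ, fun q hq => k i q hq _ (h1 q hq), fun j hj q hq => k j q hq _ (h2 j hj q hq)⟩
  choose r rR hr using hr
  have two : ∀ i, ∀ a ∈ R, Sg z Qi i a → a * r i = 1 := fun i a ha h => triv _ (mul_mem ha (rR i)) fun j q hq => by
    have h1 := hn _ (hRP (rR i)) j q hq
    by_cases hj : i = j
    · subst hj
      convert mul_mem (h.1 _ h1) ((hr i).1 _ (inv_mem hq)) using 1
      group
    · convert mul_mem (h.2 j hj _ h1) ((hr i).2 j hj q hq) using 1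
      group
  have r2 : ∀ i, r i * r i = 1 := fun i => two i _ (rR i) (hr i)
  have dec' : ∀ N : Subgroup G, (∀ x ∈ N, x * z = z * x) → (∀ g, g * z = z * g → ∀ x ∈ N, g * x * g⁻¹ ∈ N) →
      (∀ x ∈ N, x ^ 4 ∈ Q) → ∀ x ∈ N, ∃ q ∈ Q, ∃ τ ∈ R, x = q * τ := fun N a b c x hx => dec x (Pm N a b c hx)
  refine ⟨_, r, z3, z1, zi, Qz, gen, card, nab, com, cube, cm, cQ, rfl, rR, r2, fun i τ hτ => ?_, fun i => (hr i).1,
    fun i => (hr i).2, fun τ hτ => Pz τ (hRP hτ), R4, fun τ hτ => hn τ (hRP hτ), Rcard, nQ, fun g hg τ hτ => ?_, dec'⟩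
  · have k : ∀ w ∈ zpowers z, τ * w * τ⁻¹ ∈ zpowers z := fun w hw => by
      rwa [cZ (Pz τ (hRP hτ)) hw, mul_inv_cancel_right]
    have h1 := two i (τ * r i * τ⁻¹) (mul_mem (mul_mem hτ (rR i)) (inv_mem hτ)) ⟨fun q hq => by
      convert k _ ((hr i).1 _ (hn _ (hRP (inv_mem hτ)) i q hq)) using 1
      group, fun j hj q hq => by
      convert k _ ((hr i).2 j hj _ (hn _ (hRP (inv_mem hτ)) j q hq)) using 1
      group⟩
    rw [← r2 i, mul_left_inj, mul_inv_eq_iff_eq_mul] at h1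
    exact h1
  · refine dec' (P.map (MulAut.conj g).toMonoidHom) ?_ ?_ ?_ _ ⟨τ, hRP hτ, rfl⟩
    · rintro _ ⟨y, hy, rfl⟩
      exact conj_z hg (Pz y hy)
    · rintro h hh _ ⟨y, hy, rfl⟩
      exact ⟨_, nP _ (conj_z (inv_mem hg) hh) y hy, by simp only [MulEquiv.coe_toMonoidHom, MulAut.conj_apply]; group⟩
    · rintro _ ⟨y, hy, rfl⟩
      rw [← map_pow]
      refine nQ g hg _ ?_
      obtain ⟨q, hq, σ, hσ, rfl⟩ := dec y hy
      have k := nQ σ (mem_norm (Pz σ (hRP hσ)))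
      have e : (q * σ) ^ 4 = q * (σ * (q * (σ * (q * (σ * q * σ⁻¹)) * σ⁻¹)) * σ⁻¹) * σ ^ 4 := by
        simp only [pow_succ, pow_zero, one_mul]
        group
      rw [e, R4 σ hσ, mul_one]
      exact mul_mem hq (k _ (mul_mem hq (k _ (mul_mem hq (k _ hq)))))

end P1

open P1 CL.Loc in
theorem p1Thm : P1Thm.{u} := by
  intro G _ _ H Q hQ _ hE hc hZQ P hP hT Q₁ Q₂ Q₃ hle hz hE3 hc3 hcm hgen hn h4 hcent Z hZ hH
  have : Fact (Nat.Prime 3) := ⟨Nat.prime_three⟩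
  have hZ3 : Nat.card Z = 3 := by
    rw [hZ, card_map_of_injective H.subtype_injective, ← hZQ, card_map_of_injective Q.subtype_injective, hE.2]
  obtain ⟨z, hz0, z1⟩ := Z.bot_or_exists_ne_one.resolve_left fun e => by rw [e, card_bot] at hZ3; omega
  have z3 : z ^ 3 = 1 := congrArg Subtype.val (hZ3 ▸ pow_card_eq_one' (x := (⟨z, hz0⟩ : Z)))
  obtain rfl : zpowers z = Z := eq_of_le_of_card_ge (zpowers_le.2 hz0) (by
    rw [hZ3, Nat.card_zpowers, orderOf_eq_prime z3 z1])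
  have mH : ∀ {g}, g ∈ H ↔ g * z = z * g := fun {g} => by
    rw [hH, zpowers_eq_closure, centralizer_closure, mem_centralizer_singleton_iff]
  have mZ : ∀ {x : H}, x ∈ center H ↔ (x : G) ∈ zpowers z := fun {x} => by
    rw [hZ]; exact (mem_map_iff_mem H.subtype_injective).symm
  have mQ : ∀ x : Q, x ∈ center Q → ((x : H) : G) ∈ zpowers z := fun x hx => mZ.1 (hZQ ▸ ⟨x, hx, rfl⟩)
  obtain ⟨q, hq⟩ : ∃ q : Fin 3 → Subgroup H, q = ![Q₁, Q₂, Q₃] := ⟨_, rfl⟩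
  have all : ∀ p : Subgroup H → Prop, p Q₁ ∧ p Q₂ ∧ p Q₃ → ∀ i, p (q i) := fun p h i => by
    rw [hq]; fin_cases i
    exacts [h.1, h.2.1, h.2.2]
  have ml : ∀ i, q i ∈ [Q₁, Q₂, Q₃] := all (· ∈ [Q₁, Q₂, Q₃]) (by simp)
  have cm : ∀ i j, i ≠ j → ∀ a ∈ q i, ∀ b ∈ q j, a * b = b * a := fun i j hij => by
    rw [hq]; fin_cases i <;> fin_cases j
    exacts [absurd rfl hij, hcm.1, hcm.2.1, fun a ha b hb => (hcm.1 b hb a ha).symm, absurd rfl hij, hcm.2.2,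
      fun a ha b hb => (hcm.2.1 b hb a ha).symm, fun a ha b hb => (hcm.2.2 b hb a ha).symm, absurd rfl hij]
  have nab : ∀ i, ∃ a ∈ q i, ∃ b ∈ q i, a * b ≠ b * a := fun i => by
    by_contra! h
    exact extra_center_ne_top (all (fun X => IsExtraspecial 3 X) hE3 i) (eq_top_iff.2 fun a _ =>
      mem_center_iff.2 fun b => Subtype.ext (h b b.2 a a.2))
  obtain ⟨R, hRP, Rc, dec⟩ := exists_R Q hc _ hT
  rw [← hP] at hRP dec
  have hF : Q.map H.subtype = fstarOf H := by rw [hQ]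
  have hPn : P.Normal := hP ▸ inferInstance
  have zH : (⟨z, mH.2 rfl⟩ : H) ∈ center H := mZ.2 (mem_zpowers z)
  have zQ : z ∈ Q.map H.subtype := ⟨_, hle.1 (hz.1 zH), rfl⟩
  obtain ⟨t, r, h⟩ := core (z := z) (Q := Q.map H.subtype) (P := P.map H.subtype) (R := R.map H.subtype)
    (Qi := fun i => (q i).map H.subtype) z3 z1 (fun i => ⟨_, all (center H ≤ ·) hz i zH, rfl⟩)
    (fun x hx => mH.1 (map_subtype_le _ hx)) (by rw [← hgen, Subgroup.map_sup, Subgroup.map_sup, hq]; rfl)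
    (fun i => (card_map_of_injective H.subtype_injective).trans (all (Nat.card · = 27) hc3 i))
    (fun i => by
      obtain ⟨a, ha, b, hb, e⟩ := nab i
      exact ⟨_, ⟨a, ha, rfl⟩, _, ⟨b, hb, rfl⟩, fun e' => e (Subtype.ext e')⟩)
    (by
      rintro _ ⟨a, ha, rfl⟩ _ ⟨b, hb, rfl⟩
      exact mQ _ (extra_comm_mem_center hE ⟨a, ha⟩ ⟨b, hb⟩))
    (by
      rintro _ ⟨a, ha, rfl⟩
      exact mQ _ (extra_pow_mem_center hE ⟨a, ha⟩))
    (by
      rintro i j hij _ ⟨a, ha, rfl⟩ _ ⟨b, hb, rfl⟩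
      exact congrArg Subtype.val (cm i j hij a ha b hb))
    (fun g hg => by
      obtain ⟨a, ha, rfl⟩ : g ∈ Q.map H.subtype := hF ▸ fittingOf_le_fstarOf H
        (inf_centralizer_fstarOf_le H ⟨mH.2 (hg z zQ), fun x hx => (hg x (hF ▸ hx)).symm⟩)
      exact mQ ⟨a, ha⟩ (mem_center_iff.2 fun b => Subtype.ext (Subtype.ext (hg _ ⟨b, b.2, rfl⟩).symm)))
    (map_mono hRP) ((card_map_of_injective H.subtype_injective).trans Rc)
    (by
      rintro _ ⟨x, hx, rfl⟩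
      obtain ⟨a, ha, τ, hτ, rfl⟩ := dec x hx
      exact ⟨_, ⟨a, ha, rfl⟩, _, ⟨τ, hτ, rfl⟩, rfl⟩)
    (fun x hx => mH.1 (map_subtype_le _ hx))
    (by
      rintro _ ⟨x, hx, rfl⟩ i _ ⟨a, ha, rfl⟩
      exact ⟨_, hn x hx _ (ml i) a ha, rfl⟩)
    (by
      rintro _ ⟨x, hx, rfl⟩ i _ ⟨a, ha, rfl⟩
      exact mZ.1 (h4 x hx _ (ml i) a ha))
    (fun i => by
      obtain ⟨x, hx, h1, h2⟩ := hcent _ (ml i)
      refine ⟨_, ⟨x, hx, rfl⟩, ?_, ?_⟩
      · rintro _ ⟨a, ha, rfl⟩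
        exact mZ.1 (h1 a ha)
      · rintro j hj _ ⟨a, ha, rfl⟩
        refine mZ.1 (h2 _ (ml j) (fun e => ?_) a ha)
        obtain ⟨a, ha, b, hb, e'⟩ := nab i
        exact e' (cm i j hj a ha b (e ▸ hb)))
    (fun g hg x hx => by
      rw [hF] at hx ⊢
      exact (mem_normalizer_iff.1 (normalizer_le_normalizer_fstarOf H
        ((hH ▸ CL.Grp.le_normalizer_centralizer' le_rfl : normalizer (zpowers z : Set G) ≤ normalizer (H : Set G))
          hg)) x).1 hx)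
    (by
      rintro g hg _ ⟨x, hx, rfl⟩
      exact ⟨_, hPn.conj_mem x hx ⟨g, mH.2 hg⟩, rfl⟩)
    (fun N h1 h2 h3 x hx => by
      have hN : (N.subgroupOf H).Normal := ⟨fun y hy g => h2 g (mH.1 g.2) y hy⟩
      have := hN.map _ (QuotientGroup.mk'_surjective Q)
      have h5 : (N.subgroupOf H).map (QuotientGroup.mk' Q) ≤ pCore 2 (H ⧸ Q) := le_pCore (by
        rintro ⟨_, y, hy, rfl⟩
        refine ⟨2, Subtype.ext ?_⟩
        change QuotientGroup.mk' Q y ^ 2 ^ 2 = 1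
        rw [← map_pow]
        exact (QuotientGroup.eq_one_iff _).2 ((mem_map_iff_mem H.subtype_injective).1 (h3 y hy)))
      exact ⟨⟨x, mH.2 (h1 x hx)⟩, hP ▸ h5 ⟨_, hx, rfl⟩, rfl⟩)
  exact ⟨z, t, _, _, r, h, rfl⟩

end CL.F3
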