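/-
Recognition of `²E₆(2)` from a 3-centraliser (S3337): the structure `PA` from the hypotheses.
-/
import Cfsg.Agent.Rec.E63Defs
import Cfsg.Agent.Rec.F3P1

set_option autoImplicit false

namespace CL.E63

open Subgroup Cfsg CL.Grp CL.G23 CL.Even Equiv
open CL.U63 hiding Mt Mq MS P1Thm WCThm
open CL.F3 hiding MB MS0 MS PM P1Thm PKThm P2Thm p1Thm
open scoped Matrix

universe u

namespace P0

abbrev Q8 := QuaternionGroup 2

theorem q4 : ∀ q : Q8, q ^ 4 = 1 := by decide +kernel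

theorem q34 (q : Q8 × Q8 × Q8) : q ^ 4 = 1 := Prod.ext (q4 _) (Prod.ext (q4 _) (q4 _))

theorem cz2 : Nat.card (center Q8) = 2 := by rw [Nat.card_eq_fintype_card]; decide +kernel

theorem cz : ∀ q ∈ center Q8, q * q = 1 := by decide +kernel

theorem exists_j {H X : Type*} [Group H] [Finite H] [Group X] (h1 : IsPGroup 2 X) {F : Subgroup H} [F.Normal]
    (hF : IsPGroup 3 F) {N : Subgroup (H ⧸ F)} (e : N ≃* X) : ∃ j : X →* H, ∀ q, (j q : H ⧸ F) = e.symm q := by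
  let M := N.comap (QuotientGroup.mk' F)
  let f : M →* X := e.toMonoidHom.comp ((QuotientGroup.mk' F).subgroupComap N)
  have hf : Function.Surjective f :=
    e.surjective.comp (MonoidHom.subgroupComap_surjective_of_surjective _ _ (QuotientGroup.mk'_surjective F))
  obtain ⟨P⟩ : Nonempty (Sylow 2 M) := inferInstance
  have : Finite X := Finite.of_surjective f hf
  have h2 : (P : Subgroup M).map f = ⊤ := ((P.mapSurjective hf).is_maximal' (h1.to_subgroup ⊤) le_top).symm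
  have h3 : Function.Bijective (f.comp (P : Subgroup M).subtype) := by
    refine ⟨(injective_iff_map_eq_one _).2 fun x hx => Subtype.ext (Subtype.ext ?_), fun q => ?_⟩
    · have h4 : ((x : M) : H) ∈ F := (QuotientGroup.eq_one_iff _).1 (congrArg Subtype.val (e.map_eq_one_iff.1 hx))
      exact disjoint_def.1 (IsPGroup.disjoint_of_ne 2 3 (by decide) _ _ (P.isPGroup'.map M.subtype) hF) ⟨x, x.2, rfl⟩ h4
    · obtain ⟨x, hx, rfl⟩ := h2.ge (mem_top q)
      exact ⟨⟨x, hx⟩, rfl⟩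
  exact ⟨M.subtype.comp ((P : Subgroup M).subtype.comp (MulEquiv.ofBijective _ h3).symm.toMonoidHom), fun q =>
    congrArg Subtype.val (e.eq_symm_apply.2 ((MulEquiv.ofBijective _ h3).apply_symm_apply q))⟩

end P0

open P0 CL.Loc in
theorem p0Thm : P0Thm.{u} := by
  intro G _ _ H Q hQ _ hE hc hZQ ⟨e⟩ Z hZ hH
  have : Fact (Nat.Prime 3) := ⟨Nat.prime_three⟩
  have hZ3 : Nat.card Z = 3 := by
    rw [hZ, card_map_of_injective H.subtype_injective, ← hZQ, card_map_of_injective Q.subtype_injective, hE.2]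
  obtain ⟨z, hz0, z1⟩ := Z.bot_or_exists_ne_one.resolve_left fun e => by rw [e, card_bot] at hZ3; omega
  have z3 : z ^ 3 = 1 := congrArg Subtype.val (hZ3 ▸ pow_card_eq_one' (x := (⟨z, hz0⟩ : Z)))
  obtain rfl : zpowers z = Z := eq_of_le_of_card_ge (zpowers_le.2 hz0) (by
    rw [hZ3, Nat.card_zpowers, orderOf_eq_prime z3 z1])
  have mH : ∀ {g}, g ∈ H ↔ g * z = z * g := fun {g} => by
    rw [hH, zpowers_eq_closure, centralizer_closure, mem_centralizer_singleton_iff]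
  have mZ : ∀ {x : H}, x ∈ center H ↔ (x : G) ∈ zpowers z := fun {x} => by
    rw [hZ]; exact (mem_map_iff_mem H.subtype_injective).symm
  have mQ : ∀ x : Q, x ∈ center Q → ((x : H) : G) ∈ zpowers z := fun x hx => mZ.1 (hZQ ▸ ⟨x, hx, rfl⟩)
  have hF : Q.map H.subtype = fstarOf H := by rw [hQ]
  have zQ : z ∈ Q.map H.subtype := by
    obtain ⟨x, -, hx⟩ : (⟨z, mH.2 rfl⟩ : H) ∈ (center Q).map Q.subtype := hZQ ▸ mZ.2 (mem_zpowers z)
    exact ⟨x, x.2, congrArg Subtype.val hx⟩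
  have q3 : IsPGroup 3 Q := IsPGroup.of_card hc
  obtain ⟨j, hj⟩ := exists_j (fun q => ⟨2, q34 q⟩) q3 e
  have ji : Function.Injective (H.subtype.comp j) := H.subtype_injective.comp fun a b h =>
    e.symm.injective (Subtype.ext (by rw [← hj, ← hj, h]))
  have nQ : ∀ g ∈ normalizer (zpowers z : Set G), ∀ q ∈ Q.map H.subtype, g * q * g⁻¹ ∈ Q.map H.subtype :=
    fun g hg x hx => by
      rw [hF] at hx ⊢
      exact (mem_normalizer_iff.1 (normalizer_le_normalizer_fstarOf H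
        ((hH ▸ CL.Grp.le_normalizer_centralizer' le_rfl : normalizer (zpowers z : Set G) ≤ normalizer (H : Set G))
          hg)) x).1 hx
  refine ⟨z, (H.subtype.comp j).range, ((center Q8).prod ((center Q8).prod (center Q8))).map (H.subtype.comp j),
    ⟨z3, z1, zQ, fun x hx => mH.1 (map_subtype_le _ hx), (card_map_of_injective H.subtype_injective).trans hc, ?_, ?_,
      fun g hg => ?_, map_le_range _ _, ?_, ?_, ?_, ?_, ?_, ?_, nQ, fun g hg τ hτ => ?_⟩, rfl,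
    map_mono (le_pCore q3)⟩
  · rintro _ ⟨a, ha, rfl⟩ _ ⟨b, hb, rfl⟩
    exact mQ _ (extra_comm_mem_center hE ⟨a, ha⟩ ⟨b, hb⟩)
  · rintro _ ⟨a, ha, rfl⟩
    exact mQ _ (extra_pow_mem_center hE ⟨a, ha⟩)
  · obtain ⟨a, ha, rfl⟩ : g ∈ Q.map H.subtype := hF ▸ fittingOf_le_fstarOf H
      (inf_centralizer_fstarOf_le H ⟨mH.2 (hg z zQ), fun x hx => (hg x (hF ▸ hx)).symm⟩)
    exact mQ ⟨a, ha⟩ (mem_center_iff.2 fun b => Subtype.ext (Subtype.ext (hg _ ⟨b, b.2, rfl⟩).symm))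
  · rw [card_map_of_injective ji, Nat.card_congr (prodEquiv _ _).toEquiv, Nat.card_prod,
      Nat.card_congr (prodEquiv _ _).toEquiv, Nat.card_prod, cz2]
  · rintro _ ⟨a, ha, rfl⟩
    rw [← map_mul, show a * a = 1 from Prod.ext (cz _ ha.1) (Prod.ext (cz _ ha.2.1) (cz _ ha.2.2)), map_one]
  · rintro _ ⟨a, ha, rfl⟩ _ ⟨b, rfl⟩
    rw [← map_mul, ← map_mul, show b * a = a * b from Prod.ext (mem_center_iff.1 ha.1 _)
      (Prod.ext (mem_center_iff.1 ha.2.1 _) (mem_center_iff.1 ha.2.2 _))]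
  · rintro _ ⟨a, rfl⟩
    exact mH.1 (j a).2
  · rintro _ ⟨a, rfl⟩
    rw [← map_pow, q34, map_one]
  · rw [← Nat.card_congr (MonoidHom.ofInjective ji).toEquiv]
    simp [QuaternionGroup.card]
  · let P := (pCore 2 (H ⧸ Q)).comap (QuotientGroup.mk' Q)
    let N := ((P.map H.subtype).map (MulAut.conj g).toMonoidHom).subgroupOf H
    have hN : N.Normal := ⟨by
      rintro y ⟨_, ⟨x, hx, rfl⟩, hy⟩ h
      refine ⟨_, ⟨_, (inferInstance : P.Normal).conj_mem x hx ⟨_, mH.2 (P1.conj_z (inv_mem hg) (mH.1 h.2))⟩, rfl⟩, ?_⟩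
      change _ = (h : G) * H.subtype y * (h : G)⁻¹
      rw [← hy]
      simp only [MulEquiv.coe_toMonoidHom, MulAut.conj_apply, coe_subtype, coe_mul, coe_inv]
      group⟩
    have := hN.map _ (QuotientGroup.mk'_surjective Q)
    have h5 : N.map (QuotientGroup.mk' Q) ≤ pCore 2 (H ⧸ Q) := le_pCore (by
      rintro ⟨_, y, ⟨_, ⟨x, hx, rfl⟩, hy⟩, rfl⟩
      refine ⟨2, Subtype.ext ?_⟩
      change QuotientGroup.mk' Q y ^ 2 ^ 2 = 1
      rw [← map_pow]
      refine (QuotientGroup.eq_one_iff _).2 ((mem_map_iff_mem H.subtype_injective).1 ?_)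
      rw [map_pow, ← hy, ← map_pow, ← map_pow]
      refine nQ g hg _ ⟨_, (QuotientGroup.eq_one_iff _).1 ?_, rfl⟩
      exact congrArg Subtype.val (e.injective ((map_pow e ⟨_, hx⟩ 4).trans ((q34 _).trans (map_one e).symm))))
    obtain ⟨a, rfl⟩ := hτ
    let y : H := ⟨_, mH.2 (P1.conj_z hg (mH.1 (j a).2))⟩
    have hy : (y : H ⧸ Q) ∈ pCore 2 (H ⧸ Q) :=
      h5 ⟨y, ⟨_, ⟨j a, show (j a : H ⧸ Q) ∈ pCore 2 (H ⧸ Q) from hj a ▸ (e.symm a).2, rfl⟩, rfl⟩, rfl⟩
    refine ⟨_, ⟨y * (j (e ⟨_, hy⟩))⁻¹, ?_, rfl⟩, _, ⟨e ⟨_, hy⟩, rfl⟩, (inv_mul_cancel_right _ _).symm⟩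
    refine (QuotientGroup.eq_one_iff _).1 ?_
    rw [QuotientGroup.mk_mul, QuotientGroup.mk_inv, hj, e.symm_apply_apply, mul_inv_cancel]

end CL.E63
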