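/-
Recognition of `²E₆(2)` from a 3-centraliser (S3337): the three factors of the extraspecial group.
-/
import Cfsg.Agent.Rec.E63Defs
import Cfsg.Agent.Rec.F3P1
import Cfsg.Agent.Spor.U6B

set_option autoImplicit false

namespace CL.E63

open Subgroup Cfsg CL.Grp CL.G23 CL.Even Equiv
open CL.U63 hiding Mt Mq MS P1Thm WCThm
open CL.F3 hiding MB MS0 MS PM P1Thm PKThm P2Thm p1Thm
open scoped Matrix

universe u

namespace P1K

theorem k3 : ∀ k : ZMod 3, k + k = 0 → k = 0 := by decide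

section lin

variable {V : Type*} [AddCommGroup V] [Module (ZMod 3) V] {B : LinearMap.BilinForm (ZMod 3) V} {E : Type*} [Group E]
  {A : E →* V ≃ₗ[ZMod 3] V} (h2 : ∀ e : E, e * e = 1)

theorem A_mul (a b : E) (v : V) : A (a * b) v = A a (A b v) := by rw [map_mul]; rfl

include h2

theorem A_sq (a : E) (v : V) : A a (A a v) = v := by rw [← A_mul, h2, map_one]; rfl

theorem A_comm (a b : E) (v : V) : A a (A b v) = A b (A a v) := by
  rw [← A_mul, ← A_mul, ← inv_eq_of_mul_eq_one_right (h2 (a * b)), mul_inv_rev, inv_eq_of_mul_eq_one_right (h2 a),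
    inv_eq_of_mul_eq_one_right (h2 b)]

theorem wt {v : V} (h0 : v ≠ 0) (l : List E) : ∃ w, w ≠ 0 ∧ (∀ e ∈ l, A e w = w ∨ A e w = -w) ∧
    ∀ e, A e v = -v → A e w = -w := by
  induction l with
  | nil => exact ⟨v, h0, by simp, fun _ h => h⟩
  | cons a l ih =>
    obtain ⟨w, w0, h1, h3⟩ := ih
    by_cases e : A a w = -w
    · exact ⟨w, w0, List.forall_mem_cons.2 ⟨.inr e, h1⟩, h3⟩
    have k : ∀ b, A b w = -w → A b (w + A a w) = -(w + A a w) := fun b hb => by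
      rw [map_add, A_comm h2, hb, map_neg, neg_add]
    refine ⟨w + A a w, fun e' => e (eq_neg_of_add_eq_zero_right e'), List.forall_mem_cons.2
      ⟨.inl (by rw [map_add, A_sq h2, add_comm]), fun b hb => (h1 b hb).imp (fun e => ?_) (k b)⟩, fun b hb => k b (h3 b hb)⟩
    rw [map_add, A_comm h2, e]

theorem proj (hB : ∀ e v w, B (A e v) (A e w) = B v w) {v y : V} (hy : B v y ≠ 0) (l : List (E × ZMod 3))
    (hl : ∀ p ∈ l, A p.1 v = p.2 • v ∧ p.2 * p.2 = 1) : ∃ w, B v w ≠ 0 ∧ ∀ p ∈ l, A p.1 w = p.2 • w := by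
  induction l with
  | nil => exact ⟨y, hy, by simp⟩
  | cons a l ih =>
    obtain ⟨⟨a1, a2⟩, h3⟩ := List.forall_mem_cons.1 hl
    obtain ⟨w, w0, h1⟩ := ih h3
    refine ⟨w + a.2 • A a.1 w, ?_, List.forall_mem_cons.2 ⟨?_, fun p hp => ?_⟩⟩
    · rw [map_add, map_smul, ← hB a.1 v (A a.1 w), A_sq h2, a1, LinearMap.map_smul₂, smul_smul, a2, one_smul]
      exact (by decide : ∀ c : ZMod 3, c ≠ 0 → c + c ≠ 0) _ w0
    · rw [map_add, map_smul, A_sq h2, smul_add, smul_smul, a2, one_smul, add_comm]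
    · rw [map_add, map_smul, A_comm h2, h1 p hp, map_smul, smul_add, smul_comm]

theorem three (hE : Nat.card E = 8) (hf : ∀ e, (∀ v, A e v = v) → e = 1) : ∃ (r : Fin 3 → E) (v : Fin 3 → V),
    (∀ i, v i ≠ 0) ∧ (∀ i, A (r i) (v i) = -v i) ∧ ∀ i j, i ≠ j → A (r i) (v j) = v j := by
  have : Finite E := Nat.finite_of_card_ne_zero (by omega)
  have := Fintype.ofFinite E
  let K : V → Subgroup E := fun v => (MulAction.stabilizer (V ≃ₗ[ZMod 3] V) v).comap A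
  have ex : ∀ (X : Subgroup E) n, 2 ≤ n → n ≤ Nat.card X → ∃ e ∈ X, ∃ v, v ≠ 0 ∧ (∀ a, A a v = v ∨ A a v = -v) ∧
      A e v = -v ∧ n ≤ 2 * Nat.card (X ⊓ K v : Subgroup E) := fun X n h1 h3 => by
    obtain ⟨e, he, e1⟩ := X.bot_or_exists_ne_one.resolve_left fun e => by rw [e, card_bot] at h3; omega
    obtain ⟨y, hy⟩ := not_forall.1 (mt (hf e) e1)
    obtain ⟨w, w0, a1, a2⟩ := wt (A := A) h2 (sub_ne_zero.2 hy) Finset.univ.toList
    replace a1 := fun a => a1 a (by simp)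
    refine ⟨e, he, w, w0, a1, a2 e (by rw [map_sub, A_sq h2, neg_sub]),
      h3.trans (CL.U6.idx2 fun a _ b _ ha hb => ?_)⟩
    show A (a * b) w = w
    rw [A_mul, (a1 b).resolve_left hb, map_neg, (a1 a).resolve_left ha, neg_neg]
  have fx : ∀ a b {v : V}, (A a v = v ∨ A a v = -v) → A b v = -v → ∃ c, A c v = v ∧
      ∀ u, A b u = u → A c u = A a u := fun a b v h1 h3 => h1.elim (fun e => ⟨a, e, fun _ _ => rfl⟩) fun e =>
    ⟨a * b, by rw [A_mul, h3, map_neg, e, neg_neg], fun u hu => by rw [A_mul, hu]⟩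
  obtain ⟨e0, -, v0, a0, b0, c0, d0⟩ := ex ⊤ 8 (by omega) (by rw [card_top, hE])
  obtain ⟨e1, m1, v1, a1, b1, c1, d1⟩ := ex (⊤ ⊓ K v0) 4 (by omega) (by omega)
  obtain ⟨e2, m2, v2, a2, b2, c2, -⟩ := ex (⊤ ⊓ K v0 ⊓ K v1) 2 (by omega) (by omega)
  obtain ⟨r1, p1, p2⟩ := fx e1 e2 (b2 e1) c2
  have p3 : A r1 v0 = v0 := (p2 v0 m2.1.2).trans m1.2
  have p4 : A r1 v1 = -v1 := (p2 v1 m2.2).trans c1
  obtain ⟨s, s1, s2⟩ := fx e0 r1 (b1 e0) p4
  obtain ⟨r0, t1, t2⟩ := fx s e2 (b2 s) c2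
  refine ⟨![r0, r1, e2], ![v0, v1, v2], fun i => ?_, fun i => ?_, fun i j h => ?_⟩
  · fin_cases i
    exacts [a0, a1, a2]
  · fin_cases i
    exacts [(t2 v0 m2.1.2).trans ((s2 v0 p3).trans c0), p4, c2]
  · fin_cases i <;> fin_cases j
    exacts [absurd rfl h, (t2 v1 m2.2).trans s1, t1, p3, absurd rfl h, p1, m2.1.2, m2.2, absurd rfl h]

theorem lin [Finite V] (hV : Nat.card V = 729) (hA : B.IsAlt) (hN : ∀ x, (∀ y, B x y = 0) → x = 0)
    (hB : ∀ e v w, B (A e v) (A e w) = B v w) (hE : Nat.card E = 8) (hf : ∀ e, (∀ v, A e v = v) → e = 1) :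
    ∃ (r : Fin 3 → E) (f : Fin 3 → V2 → V), (∀ i v, A (r i) v = -v ↔ ∃ x, v = f i x) ∧ (∀ i, Function.Injective (f i)) ∧
      (∀ v, ∃ x : W6, v = f 0 (x 0) + f 1 (x 1) + f 2 (x 2)) ∧ (∀ i j, i ≠ j → ∀ x, A (r i) (f j x) = f j x) ∧
      (∀ i j, i ≠ j → ∀ x y, B (f i x) (f j y) = 0) ∧ ∀ i, ∃ x y, B (f i x) (f i y) ≠ 0 := by
  obtain ⟨r, v, v0, v1, v2⟩ := three (A := A) h2 hE hf
  have ex : ∀ i, ∃ w, B (v i) w ≠ 0 ∧ A (r i) w = -w ∧ ∀ j, j ≠ i → A (r j) w = w := fun i => by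
    obtain ⟨y, hy⟩ := not_forall.1 (mt (hN _) (v0 i))
    obtain ⟨w, a1, a2⟩ := proj h2 hB hy (List.ofFn fun j => (r j, if j = i then -1 else 1)) (List.forall_mem_ofFn_iff.2
      fun j => by by_cases e : j = i <;> simp [e, v1, v2])
    replace a2 := List.forall_mem_ofFn_iff.1 a2
    exact ⟨w, a1, by simpa using a2 i, fun j e => by simpa [e] using a2 j⟩
  choose w w0 w1 w2 using ex
  let f : Fin 3 → V2 →ₗ[ZMod 3] V := fun i =>
    (LinearMap.proj 0).smulRight (v i) + (LinearMap.proj 1).smulRight (w i)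
  have hf : ∀ i x, f i x = x 0 • v i + x 1 • w i := fun _ _ => rfl
  have f1 : ∀ i x, A (r i) (f i x) = -f i x := fun i x => by simp [hf, v1, w1, add_comm]
  have f2 : ∀ i j, i ≠ j → ∀ x, A (r i) (f j x) = f j x := fun i j e x => by simp [hf, v2 i j e, w2 j i e]
  have f3 : ∀ i j, i ≠ j → ∀ x y, B (f i x) (f j y) = 0 := fun i j e x y => by
    have := hB (r i) (f i x) (f j y)
    rw [f1, f2 i j e, LinearMap.map_neg₂] at this
    exact (by decide : ∀ c : ZMod 3, -c = c → c = 0) _ this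
  have f4 : ∀ i x, (∀ y, B (f i x) (f i y) = 0) → x = 0 := fun i x e => by
    have e1 := e ![1, 0]
    have e2 := e ![0, 1]
    simp [hf, hA.self_eq_zero, ← hA.neg_eq (v i) (w i), w0 i] at e1 e2
    exact funext fun k => by fin_cases k; exacts [e2, e1]
  let φ : W6 →ₗ[ZMod 3] V := ∑ i, (f i).comp (LinearMap.proj i)
  have hφ : ∀ x, φ x = f 0 (x 0) + f 1 (x 1) + f 2 (x 2) := fun x => by simp [φ, Fin.sum_univ_three]
  have h4 : Function.Injective φ := (injective_iff_map_eq_zero φ).2 fun x hx => funext fun i => f4 i _ fun y => by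
    have := congrArg (fun t => B t (f i y)) hx
    simp only [hφ, map_add, LinearMap.add_apply, map_zero, LinearMap.zero_apply] at this
    fin_cases i <;> simpa [f3] using this
  have h5 := (h4.bijective_of_nat_card_le (by rw [hV]; simp)).2
  refine ⟨r, fun i => f i, fun i u => ⟨fun e => ?_, by rintro ⟨x, rfl⟩; exact f1 i x⟩, fun i => (injective_iff_map_eq_zero
    (f i)).2 fun x hx => f4 i x fun y => by simp [hx], fun u => (h5 u).imp fun x hx => by rw [← hx, hφ], f2, f3,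
    fun i => ⟨![1, 0], ![0, 1], by simpa [hf] using w0 i⟩⟩
  obtain ⟨x, rfl⟩ := h5 u
  have k : ∀ a b : V, -a + b = -(a + b) → a + b = a := fun a b e => by
    rw [neg_add, add_right_inj, eq_neg_iff_add_eq_zero, ← two_smul (ZMod 3)] at e
    rw [(smul_eq_zero.1 e).resolve_left (by decide), add_zero]
  refine ⟨x i, ?_⟩
  rw [hφ] at e ⊢
  fin_cases i
  · rw [add_assoc] at e ⊢
    exact k _ _ (by simpa [f1, f2] using e)
  · rw [add_comm (f 0 _), add_assoc] at e ⊢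
    exact k _ _ (by simpa [f1, f2] using e)
  · rw [add_comm] at e ⊢
    exact k _ _ (by simpa [f1, f2] using e)

end lin

end P1K

open P1K in
theorem p1Thm : P1Thm.{u} := by
  intro G _ _ z Q R E P
  classical
  have : Fact (Nat.Prime 3) := ⟨Nat.prime_three⟩
  have mz : ∀ {x : Q}, x ∈ zpowers (⟨z, P.zQ⟩ : Q) ↔ x.1 ∈ zpowers z := fun {x} => by
    rw [← mem_map_iff_mem Q.subtype_injective, MonoidHom.map_zpowers]; rfl
  obtain ⟨d, H, h1⟩ := exists_heis_fin (p := 3) (z := (⟨z, P.zQ⟩ : Q)) (mem_center_iff.2 fun x => Subtype.ext (P.Qz x x.2))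
    (orderOf_eq_prime (Subtype.ext P.z3) fun e => P.z1 (congrArg Subtype.val e))
    (fun a b => mz.2 (P.com a a.2 b b.2)) fun a => mz.2 (P.cube a a.2)
  have h0 : ∀ x : Q, H.π x = 0 ↔ x.1 ∈ zpowers z := fun x => by rw [← H.mem_Z, H.Z_eq_zpowers, h1, mz]
  have hZ : H.Z = center Q := le_antisymm H.Z_le_center fun x hx => H.mem_Z.2 ((h0 x).2 (P.cQ x fun q hq =>
    (congrArg Subtype.val (mem_center_iff.1 hx ⟨q, hq⟩)).symm))
  have nq : ∀ τ ∈ R, ∀ q ∈ Q, τ * q * τ⁻¹ ∈ Q := fun τ hτ => P.nQ τ (P1.mem_norm (P.Rz τ hτ))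
  have hn : E ≤ normalizer (Q : Set G) := fun e he => mem_normalizer_fintype (nq e (P.ER he))
  let A := (H.lin hZ).comp (Q.normalizerMonoidHom.comp (inclusion hn))
  have hA : ∀ (e : E) (x : Q), A e (H.π x) = H.π ⟨e * x * (e : G)⁻¹, nq e (P.ER e.2) x x.2⟩ := fun e x => H.lin_π hZ _ x
  have zc : ∀ τ ∈ R, ∀ ζ ∈ zpowers z, τ * ζ * τ⁻¹ = ζ := fun τ hτ ζ hζ => by
    rw [P1.cZ (P.Rz τ hτ) hζ, mul_inv_cancel_right]
  obtain ⟨r, f, a1, a2, a3, a4, a5, a6⟩ := lin (A := A) (B := H.B) (fun e => Subtype.ext (P.E2 e e.2))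
    (by have := H.card_eq; rw [P.card] at this; omega) H.B_isAlt
    (fun v hv => by
      obtain ⟨x, rfl⟩ := H.π_surj v
      exact H.mem_Z.1 (hZ ▸ H.mem_center_iff.2 hv))
    (fun e v w => by
      have := H.aut_ι hZ (Q.normalizerMonoidHom (inclusion hn e)) 1
      rw [show Q.normalizerMonoidHom (inclusion hn e) (H.ι 1) = H.ι 1 from
        h1 ▸ Subtype.ext (zc e (P.ER e.2) z (mem_zpowers z)), mul_one] at this
      exact (H.B_lin hZ _ v w).trans (by rw [MonoidHom.comp_apply, ← H.ι_inj this, one_mul])) P.Ecard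
    fun e he => by
      have e3 : ∀ ζ ∈ zpowers z, ζ * ζ = 1 → ζ = 1 := fun ζ hζ h => by
        obtain ⟨k, rfl⟩ := (mem_zp P.z3).1 hζ
        rw [← zp_add P.z3, ← zp_zero z] at h
        rw [k3 k (zp_inj P.z3 P.z1 h), zp_zero]
      refine Subtype.ext (e3 _ (P.cQ e fun q hq => ?_) (P.E2 e e.2))
      have m : (e : G) * q * (e : G)⁻¹ * q⁻¹ ∈ zpowers z :=
        (h0 (⟨_, nq e (P.ER e.2) q hq⟩ * (⟨q, hq⟩ : Q)⁻¹)).1 (by rw [H.π_mul, H.π_inv, ← hA e ⟨q, hq⟩, he, add_neg_cancel])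
      refine mul_inv_eq_iff_eq_mul.1 (mul_inv_eq_one.1 (e3 _ m ?_))
      nth_rw 1 [← zc e (P.ER e.2) _ m]
      rw [inv_eq_of_mul_eq_one_right (P.E2 e e.2)]
      calc _ = (e * e : G) * q * e * q⁻¹ * (e * e : G) * q * e * q⁻¹ := by group
        _ = 1 := by
          rw [P.E2 e e.2, one_mul, mul_one, inv_mul_cancel_right, mul_assoc q, P.E2 e e.2, mul_one, mul_inv_cancel]
  have k : ∀ i (x : Q), (r i : G) * x * (r i : G)⁻¹ * x ∈ zpowers z ↔ A (r i) (H.π x) = -H.π x := fun i x => by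
    rw [eq_neg_iff_add_eq_zero, hA, ← H.π_mul, h0]; rfl
  let X : Fin 3 → Subgroup Q := fun i =>
    { carrier := {x | A (r i) (H.π x) = -H.π x}
      one_mem' := by simp [H.π_one]
      mul_mem' := fun {a b} ha hb => by
        show A (r i) (H.π (a * b)) = -H.π (a * b)
        rw [H.π_mul, map_add, ha, hb, neg_add]
      inv_mem' := fun {a} ha => by
        show A (r i) (H.π a⁻¹) = -H.π a⁻¹
        rw [H.π_inv, map_neg, ha] }
  have mX : ∀ i (x : Q), x ∈ X i ↔ ∃ y, H.π x = f i y := fun i x => a1 i _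
  have sX : ∀ i y, H.σ (f i y) ∈ X i := fun i y => (mX i _).2 ⟨y, H.π_σ _⟩
  have zX : ∀ i s, H.ι s ∈ X i := fun i s => show A (r i) (H.π _) = -H.π _ by simp [H.π_ι]
  refine ⟨_, fun i => (X i).map Q.subtype, fun i => r i, P.z3, P.z1, fun i => ⟨_, h1 ▸ zX i 1, rfl⟩, P.Qz, ?_, fun i => ?_,
    fun i => ?_, P.com, P.cube, ?_, P.cQ, rfl, fun i => P.ER (r i).2, fun i => P.E2 _ (r i).2, fun i => P.Ec _ (r i).2, ?_,
    ?_, P.Rz, P.R4, ?_, P.Rcard, P.nQ, P.nP⟩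
  · rw [← Subgroup.map_sup, ← Subgroup.map_sup, show X 0 ⊔ X 1 ⊔ X 2 = ⊤ from eq_top_iff.2 fun x _ => ?_,
      ← MonoidHom.range_eq_map, range_subtype]
    obtain ⟨y, hy⟩ := a3 (H.π x)
    rw [← H.π_σ (f 0 _), ← H.π_σ (f 1 _), ← H.π_σ (f 2 _), ← H.π_mul, ← H.π_mul] at hy
    obtain ⟨s, rfl⟩ := H.π_eq_iff.1 hy
    exact mul_mem (mul_mem_sup (mul_mem_sup (sX 0 _) (sX 1 _)) (sX 2 _)) (mem_sup_right (zX 2 s))
  · rw [card_map_of_injective Q.subtype_injective, ← Nat.card_eq_of_bijective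
      (fun p : V2 × ZMod 3 => (⟨H.σ (f i p.1) * H.ι p.2, mul_mem (sX i _) (zX i _)⟩ : X i)) ⟨fun p p' e => ?_, fun x => ?_⟩]
    · simp
    · have e1 : H.σ (f i p.1) * H.ι p.2 = H.σ (f i p'.1) * H.ι p'.2 := congrArg Subtype.val e
      have e2 := congrArg H.π e1
      rw [H.π_mul_ι, H.π_mul_ι, H.π_σ, H.π_σ] at e2
      rw [e2] at e1
      exact Prod.ext (a2 i e2) (H.ι_inj (mul_left_cancel e1))
    · obtain ⟨y, hy⟩ := (mX i _).1 x.2
      obtain ⟨s, e⟩ := H.π_eq_iff.1 (hy.trans (H.π_σ _).symm)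
      exact ⟨(y, s), Subtype.ext e.symm⟩
  · obtain ⟨x, y, e⟩ := a6 i
    refine ⟨_, ⟨_, sX i x, rfl⟩, _, ⟨_, sX i y, rfl⟩, fun e' => e ?_⟩
    rw [← H.π_σ (f i x), ← H.π_σ (f i y)]
    exact H.B_eq_zero_iff.2 (Subtype.ext e')
  · rintro i j e _ ⟨a, ha, rfl⟩ _ ⟨b, hb, rfl⟩
    obtain ⟨x, hx⟩ := (mX i a).1 ha
    obtain ⟨y, hy⟩ := (mX j b).1 hb
    exact congrArg Subtype.val (H.B_eq_zero_iff.1 (by rw [hx, hy, a5 i j e]))
  · rintro i _ ⟨a, ha, rfl⟩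
    exact (k i a).2 ha
  · rintro i j e _ ⟨a, ha, rfl⟩
    obtain ⟨x, hx⟩ := (mX j a).1 ha
    exact (h0 (⟨_, nq _ (P.ER (r i).2) a a.2⟩ * a⁻¹)).1 (by rw [H.π_mul, H.π_inv, ← hA, hx, a4 i j e, add_neg_cancel])
  · rintro τ hτ i _ ⟨a, ha, rfl⟩
    refine ⟨⟨_, nq τ hτ a a.2⟩, (k i _).1 ?_, rfl⟩
    have := zc τ hτ _ ((k i a).2 ha) ▸ (k i a).2 ha
    convert this using 1
    calc _ = r i * τ * a * (r i * τ)⁻¹ * τ * a * τ⁻¹ := by simp only [mul_inv_rev, mul_assoc]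
      _ = _ := by rw [← P.Ec _ (r i).2 τ hτ]; group

end CL.E63
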