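/-
Recognition of `Fi₂₂` from a 3-centraliser (S3368), 3-local part: the monomial action of `N(Z)`.
-/
import Cfsg.Agent.Rec.F3Base2

set_option autoImplicit false
set_option linter.unusedSectionVars false

namespace CL.F3

open Subgroup Cfsg CL.Grp CL.G23 CL.Even Equiv
open CL.U63 hiding Mt Mq MS P1Thm WCThm
open scoped Matrix

universe u

namespace P2J

theorem q8_sq : ∀ A : M2, A.det = 1 → A * A = 1 → A = 1 ∨ A = -1 := by
  simp only [Matrix.det_fin_two]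
  decide +kernel

theorem q8_mul : ∀ A : M2, Q8m A → ∀ B : M2, Q8m B → Q8m (A * B) := by
  simp only [Q8m, Matrix.det_fin_two]
  decide +kernel

theorem d2_three : ∀ x y w : V2, d2 x y ≠ 0 → d2 x w = 0 → d2 y w = 0 → w = 0 := by decide +kernel

theorem ex_mat (f : V2 → V2) (hf : ∀ x y, f (x + y) = f x + f y) : ∃ A : M2, ∀ x, f x = A *ᵥ x :=
  ⟨LinearMap.toMatrix' ((AddMonoidHom.mk' f hf).toZModLinearMap 3), fun x => by
    rw [LinearMap.toMatrix'_mulVec]; rfl⟩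

theorem eq_sn {w : W6} {j : Fin 3} (h : ∀ k, k ≠ j → w k = 0) : w = sn j (w j) := funext fun k => by
  by_cases e : k = j
  · rw [e, sn_self]
  · rw [sn_ne e, h k e]

theorem d2_ef : d2 e0 f0 = 1 := by decide

section lin

variable {φ : W6 → W6} {d : ZMod 3} (ha : ∀ v w, φ (v + w) = φ v + φ w) (hβ : ∀ v w, β6 (φ v) (φ w) = d * β6 v w)
  (hd : d ≠ 0)
include hβ hd

theorem ne_zero (i : Fin 3) : φ (sn i e0) ≠ 0 := fun e => by
  have := hβ (sn i e0) (sn i f0)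
  rw [e, β6_zero', β6_sn, sn_self, d2_ef, mul_one] at this
  exact hd this.symm

include ha

theorem one_col (hs : Function.Surjective φ) {i : Fin 3} {A : A3} (hA : ∀ j, (A j).det = 1)
    (h : ∀ v, mon 1 A (φ v) = φ (mon 1 (sgn i) v)) : ∃ j, ∀ x, φ (sn i x) = sn j (φ (sn i x) j) := by
  have z0 : φ 0 = 0 := by simpa using ha 0 0
  have h1 : A * A = 1 := (mon_inj (π := 1) (π' := 1) (fun j => by
    rw [Pi.mul_apply, Matrix.det_mul, hA, mul_one]; decide) fun w => by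
      obtain ⟨v, rfl⟩ := hs w
      have := mon_mon 1 1 A A (φ v)
      rw [h, h, mon_mon, tw_one, sgn_spec.1, mul_one, mon_one, tw_one] at this
      rw [← this, mon_one]).2
  have h2 : ∀ j, A j = 1 ∨ A j = -1 := fun j => q8_sq _ (hA j) (congrFun h1 j)
  have h3 : ∀ x j, A j = 1 → φ (sn i x) j = 0 := fun x j e => by
    have := congrFun (h (sn i x)) j
    rw [mon_base, e, Matrix.one_mulVec, mon_sgn, sn_self, ha, Pi.add_apply] at this
    exact left_eq_add.1 this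
  have h4 : ∀ j, A j = -1 → ∀ y, ∃ x, sn j y = φ (sn i x) := fun j e y => by
    obtain ⟨v, hv⟩ := hs (sn j y)
    have := h v
    rw [mon_sgn, ha, hv, mon_sn, Perm.one_apply, e, Matrix.neg_mulVec, Matrix.one_mulVec, sn_neg, ← add3] at this
    exact ⟨_, add_left_cancel this⟩
  obtain ⟨j, hj⟩ := Function.ne_iff.1 (ne_zero hβ hd i)
  have h5 := (h2 j).resolve_left fun e => hj (h3 _ j e)
  refine ⟨j, fun x => eq_sn fun k hk => h3 x k ((h2 k).resolve_right fun e => ?_)⟩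
  obtain ⟨x1, e1⟩ := h4 j h5 e0
  obtain ⟨x2, e2⟩ := h4 j h5 f0
  obtain ⟨x3, e3⟩ := h4 k e e0
  have k1 : ∀ x y, β6 (φ (sn i x)) (φ (sn i y)) = d * d2 x y := fun x y => by rw [hβ, β6_sn, sn_self]
  have a1 := k1 x1 x2
  have a2 := k1 x1 x3
  have a3 := k1 x2 x3
  rw [← e1, ← e2, β6_sn, sn_self, d2_ef] at a1
  rw [← e1, ← e3, β6_sn', sn_ne (Ne.symm hk)] at a2
  rw [← e2, ← e3, β6_sn', sn_ne (Ne.symm hk)] at a3
  have z1 : ∀ x, d2 x 0 = 0 := fun x => by simp [d2]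
  rw [z1] at a2 a3
  have a4 := d2_three x1 x2 x3 (fun e => by simp [e] at a1) ((mul_eq_zero.1 a2.symm).resolve_left hd)
    ((mul_eq_zero.1 a3.symm).resolve_left hd)
  rw [a4, sn_zero, z0] at e3
  have a5 := congrFun e3 k
  rw [sn_self] at a5
  exact (by decide : e0 ≠ 0) a5

theorem mono (h : ∀ i, ∃ j, ∀ x, φ (sn i x) = sn j (φ (sn i x) j)) :
    ∃ π A, (∀ v, φ v = mon π A v) ∧ ∀ i, (A i).det = d := by
  choose p hp using h
  have k : ∀ i i' x y, p i = p i' → d2 (φ (sn i x) (p i)) (φ (sn i' y) (p i)) = d * β6 (sn i x) (sn i' y) :=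
    fun i i' x y e => by rw [← hβ, hp i x, β6_sn', sn_self]
  have hi : Function.Injective p := fun i i' e => by
    by_contra hn
    have z1 : ∀ x y, β6 (sn i x) (sn i' y) = 0 := fun x y => by
      rw [β6_sn, sn_ne (Ne.symm hn)]; simp [d2]
    have := d2_three _ _ _ (by rw [k i i e0 f0 rfl, β6_sn, sn_self, d2_ef, mul_one]; exact hd)
      (by rw [k i i' e0 e0 e, z1, mul_zero]) (by rw [k i i' f0 e0 e, z1, mul_zero])
    refine ne_zero hβ hd i' ?_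
    rw [hp i' e0, ← e, this, sn_zero]
  choose B hB using fun i => ex_mat (fun x => φ (sn i x) (p i)) fun x y => by rw [sn_add, ha, Pi.add_apply]
  let π : P3 := Equiv.ofBijective p (Finite.injective_iff_bijective.1 hi)
  have e : ∀ i x, φ (sn i x) = mon π (tw π B) (sn i x) := fun i x => by
    rw [mon_sn, tw, Perm.coe_inv, symm_apply_apply, ← hB]; exact hp i x
  refine ⟨π, tw π B, fun v => ?_, fun i => ?_⟩
  · rw [sn_sum v, ha, ha, mon_add, mon_add, e, e, e]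
  · have := k (π⁻¹ i) _ e0 f0 rfl
    rwa [hB, hB, d2_mulVec, β6_sn, sn_self, d2_ef, mul_one, mul_one] at this

end lin

variable {G : Type u} [Group G] [Finite G] {z t g c : G} {κ : W6 → G} {R : Subgroup G} {r : Fin 3 → G}
  (h : MS0 z t κ R r)
include h

theorem ex_d (hg : g ∈ normalizer (zpowers z : Set G)) : ∃ d, g * z * g⁻¹ = zp z d := (mem_zp h.z3).1 (mem_nz.1 hg)

theorem nPq (hg : g ∈ normalizer (zpowers z : Set G)) {τ : G} (hτ : τ ∈ R) : ∃ q, ∃ τ' ∈ R, ∃ A, InQ z κ q ∧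
    g * τ * g⁻¹ = q * τ' ∧ (∀ i, Q8m (A i)) ∧ Mt κ τ' 1 A ∧ Mq z κ (g * τ * g⁻¹) 1 A := by
  obtain ⟨q, τ', h1, h2, e⟩ := h.nP g hg τ hτ
  obtain ⟨A, h3, h4⟩ := h.Ract τ' h1
  exact ⟨q, τ', h1, A, h2, e, h3, h4, by simpa [e] using (h.inQ_mq h2).mul' h.z3 (h.inQ_cz h2) (h4.mq z)⟩

theorem dec (hg : g ∈ normalizer (zpowers z : Set G)) : ∃ v c, c * t = t * c ∧ g = κ v * c := by
  obtain ⟨q, τ, h1, A, ⟨u, k, rfl⟩, e, h3, h4, h5⟩ := nPq h hg h.tR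
  obtain ⟨d, hd⟩ := ex_d h hg
  have h6 : Mq z κ (g * t * g⁻¹) 1 (-1) := fun v => by
    obtain ⟨w, l, e1⟩ := h.nQ _ (inv_mem hg) v
    have e2 : t * (g⁻¹ * κ v * g⁻¹⁻¹) * t⁻¹ = (g⁻¹ * κ v * g⁻¹⁻¹)⁻¹ * zp z (l + l) := by
      rw [e1, ← conj_mul, h.tk, zp_comm h.tz, mul_inv_cancel_right, mul_inv_rev, h.kinv, ← zp_neg h.z3, ← h.kzp,
        mul_assoc, ← zp_add h.z3, neg_add_cancel_left]
    refine ⟨(l + l) * d, ?_⟩
    rw [mon_neg_one, ← h.kinv, ← zp_conj h.z3 hd]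
    calc _ = g * (t * (g⁻¹ * κ v * g⁻¹⁻¹) * t⁻¹) * g⁻¹ := by group
      _ = _ := by rw [e2]; group
  obtain rfl := (h.mq_uniq (fun i => by rw [(h3 i).1]; decide) h5 h6).2
  obtain rfl := h.R_inj h1 h.tR h4 h.tm
  have e1 : κ u * g * τ * (κ u * g)⁻¹ = τ * zp z k := by
    have e2 : τ * (κ u)⁻¹ = κ u * τ := by rw [h.kinv, ← mul_inv_eq_iff_eq_mul, h.tk, neg_neg]
    calc _ = κ u * (g * τ * g⁻¹) * (κ u)⁻¹ := by group
      _ = κ u * κ u * zp z k * (τ * (κ u)⁻¹) := by rw [e]; group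
      _ = κ u ^ 3 * (zp z k * τ) := by rw [e2, mul_assoc _ (zp z k), ← mul_assoc (zp z k), ← h.kzp, pow_three]; group
      _ = _ := by rw [h.k3, one_mul, zp_comm h.tz]
  rw [h.four (k := k) h.tz (h.R4 _ h1) (by rw [← e1, conj_pow, h.R4 _ h1]; group), zp_zero, mul_one] at e1
  exact ⟨-u, κ u * g, mul_inv_eq_iff_eq_mul.1 e1, by rw [← h.kinv, inv_mul_cancel_left]⟩

theorem exact (hc : c ∈ normalizer (zpowers z : Set G)) (ht : c * t = t * c) (v : W6) : ∃ w, c * κ v * c⁻¹ = κ w := by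
  obtain ⟨w, k, e⟩ := h.nQ c hc v
  have e1 : t * (c * κ v * c⁻¹) * t⁻¹ = (c * κ v * c⁻¹)⁻¹ := by
    rw [conj_inv, h.kinv, ← h.tk, ← mul_assoc, ← mul_assoc, ← ht, mul_assoc _ c⁻¹, ← mul_inv_rev, ← ht]; group
  rw [e, ← conj_mul, h.tk, zp_comm h.tz, mul_inv_cancel_right, mul_inv_rev, h.kinv, ← zp_neg h.z3, ← h.kzp] at e1
  exact ⟨w, by rw [e, (by decide : ∀ k : ZMod 3, k = -k → k = 0) k (h.keq e1).2, zp_zero, mul_one]⟩

theorem act (hc : c ∈ normalizer (zpowers z : Set G)) (ht : c * t = t * c) :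
    ∃ π A d, Mt κ c π A ∧ (∀ i, (A i).det = d) ∧ c * z * c⁻¹ = zp z d := by
  obtain ⟨d, hd⟩ := ex_d h hc
  choose φ hφ using exact h hc ht
  have k : ∀ v w, κ (φ v + φ w) * zp z (β6 (φ v) (φ w)) = κ (φ (v + w)) * zp z (β6 v w * d) := fun v w => by
    rw [← h.mul, ← hφ, ← hφ, ← hφ, ← zp_conj h.z3 hd, conj_mul, conj_mul, h.mul]
  have ha : ∀ v w, φ (v + w) = φ v + φ w := fun v w => (h.keq (k v w)).1.symm
  have hβ : ∀ v w, β6 (φ v) (φ w) = d * β6 v w := fun v w => (h.keq (k v w)).2.trans (mul_comm _ _)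
  have hs : Function.Surjective φ := Finite.injective_iff_surjective.1 fun v w e => h.k_inj (by
    have := hφ v
    rw [e, ← hφ] at this
    exact mul_left_cancel (mul_right_cancel this))
  obtain ⟨π, A, h1, h2⟩ := mono ha hβ (h.det_ne hd) fun i => by
    obtain ⟨-, -, -, A, -, -, h3, -, h4⟩ := nPq h hc (h.rR i)
    refine one_col ha hβ (h.det_ne hd) hs (fun j => (h3 j).1) fun v => ?_
    obtain ⟨l, e⟩ := h4 (φ v)
    rw [← hφ, conj_mul, conj_inv, conj_mul, h.ra, hφ] at e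
    exact (h.keq (k := l) (l := 0) (by rw [← e, zp_zero, mul_one])).1
  exact ⟨π, A, d, fun v => by rw [hφ, h1], h2, hd⟩

theorem mq (hg : g * z = z * g) : ∃ π A, Mq z κ g π A ∧ ∀ i, (A i).det ≠ 0 := by
  obtain ⟨v, c, hc, rfl⟩ := dec h (CL.U63.MS.nz hg)
  obtain ⟨π, A, d, h1, h2, h3⟩ := act h ((mul_mem_cancel_left (CL.U63.MS.nz (h.kz v))).1 (CL.U63.MS.nz hg)) hc
  exact ⟨π, A, h.kmq v (h1.mq z), fun i => h2 i ▸ h.det_ne h3⟩

theorem triv_q (hg : g * z = z * g) (h1 : Mq z κ g 1 1) : InQ z κ g := by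
  obtain ⟨v, c, hc, rfl⟩ := dec h (CL.U63.MS.nz hg)
  have h2 := h.kmq (-v) h1
  rw [← h.kinv, inv_mul_cancel_left] at h2
  obtain ⟨k, rfl⟩ := h.triv_t (h.mt_of_mq hc h2)
  exact ⟨v, k, rfl⟩

/-- the elements of `C(z)` which act as `Q₈ × Q₈ × Q₈` -/
def NN : Subgroup G where
  carrier := {x | x * z = z * x ∧ ∃ A, (∀ i, Q8m (A i)) ∧ Mq z κ x 1 A}
  one_mem' := ⟨by rw [one_mul, mul_one], 1, fun _ => ⟨Matrix.det_one, one_pow _⟩, (Mt.one κ).mq z⟩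
  mul_mem' := fun ⟨a1, A, a2, a3⟩ ⟨b1, B, b2, b3⟩ =>
    ⟨(Commute.mul_left a1 b1).eq, A * B, fun i => q8_mul _ (a2 i) _ (b2 i), a3.mul' h.z3 a1 b3⟩
  inv_mem' := fun ⟨a1, A, a2, a3⟩ => ⟨(Commute.inv_left a1).eq, A * A * A,
    fun i => q8_mul _ (q8_mul _ (a2 i) _ (a2 i)) _ (a2 i), by
      have := a3.inv h.z3 a1 (A' := A * A * A) (by
        rw [tw_one, ← (funext fun i => (a2 i).2 : A ^ 4 = 1), pow_succ', pow_three, mul_assoc])
      rwa [inv_one] at this⟩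

theorem rmax {A : A3} (hc : c * z = z * c) (m : Mt κ c 1 A) (hA : ∀ i, Q8m (A i)) : ∃ τ ∈ R, Mt κ τ 1 A := by
  obtain ⟨q, τ, h1, h2, e⟩ := h.Pmax (NN h) (fun x hx => hx.1) (fun g hg x ⟨a1, C, a2, a3⟩ => by
    obtain ⟨π, B, b1, b2⟩ := mq h hg
    choose B' b3 b4 _ using fun i => m_inv _ (b2 i)
    have b5 := ((b1.mulc h.z3 hg a3).mulc h.z3 (Commute.mul_left hg a1).eq (b1.inv h.z3 hg (A' := tw π⁻¹ B') (by
      rw [tw_tw, mul_inv_cancel, tw_one]; exact funext b3)))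
    rw [tw_tw, mul_one, mul_inv_cancel, tw_one] at b5
    exact ⟨(Commute.mul_left (Commute.mul_left hg a1) (Commute.inv_left hg)).eq, _,
      fun i => q8_conj (a2 (π⁻¹ i)) (b4 i) (b3 i), b5⟩) (fun x ⟨a1, C, a2, a3⟩ => triv_q h (Commute.pow_left a1 4).eq
    ((funext fun i => (a2 i).2 : C ^ 4 = 1) ▸ a3.pow h.z3 a1 4)) c ⟨hc, A, hA, m.mq z⟩
  obtain ⟨B, -, h4⟩ := h.Ract τ h1
  have h5 := (h.inQ_mq h2).mul' h.z3 (h.inQ_cz h2) (h4.mq z)
  rw [← e, one_mul] at h5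
  exact ⟨τ, h1, (h.mq_uniq (fun i => by rw [(hA i).1]; decide) (m.mq z) h5).2 ▸ h4⟩

end P2J

theorem p2Thm : P2Thm.{u} := fun h =>
  ⟨h.toMB, fun _ hg => P2J.dec h hg, fun _ hc ht => P2J.act h hc ht, fun _ _ hc m hA => P2J.rmax h hc m hA⟩

end CL.F3

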