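/-
Recognition of `²E₆(2)` from a 3-centraliser (S3337): the monomial action of `N(Z)`.
-/
import Cfsg.Agent.Rec.E63Base
import Cfsg.Agent.Rec.F3P2

set_option autoImplicit false
set_option linter.unusedSectionVars false

namespace CL.E63

open Subgroup Cfsg CL.Grp CL.G23 CL.Even Equiv
open CL.U63 hiding Mt Mq MS P1Thm WCThm
open CL.F3 hiding MB MS0 MS PM P1Thm PKThm P2Thm p2Thm
open scoped Matrix

universe u

namespace P2K

open CL.F3.P2J hiding ex_d nPq dec exact act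

variable {G : Type u} [Group G] [Finite G] {z t g c : G} {κ : W6 → G} {R : Subgroup G} {r : Fin 3 → G}
  (h : MS0 z t κ R r)
include h

theorem ex_d (hg : g ∈ normalizer (zpowers z : Set G)) : ∃ d, g * z * g⁻¹ = zp z d := (mem_zp h.z3).1 (mem_nz.1 hg)

theorem nPq (hg : g ∈ normalizer (zpowers z : Set G)) {τ : G} (hτ : τ ∈ R) : ∃ q, ∃ τ' ∈ R, ∃ A, InQ z κ q ∧
    g * τ * g⁻¹ = q * τ' ∧ (∀ i, Q8m (A i)) ∧ Mt κ τ' 1 A ∧ Mq z κ (g * τ * g⁻¹) 1 A := by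
  obtain ⟨q, τ', h1, h2, e⟩ := h.nP g hg τ hτ
  obtain ⟨A, h3, h4⟩ := h.Ract τ' h1
  exact ⟨q, τ', h1, A, h2, e, h3, h4, by simpa [e] using (h.inQ_mq h2).mul' h.z3 (h.inQ_cz h2) (h4.mq z)⟩

theorem dec (hg : g ∈ normalizer (zpowers z : Set G)) : ∃ v c, c * t = t * c ∧ g = κ v * c := by
  obtain ⟨q, τ, h1, A, ⟨u, k, rfl⟩, e, h3, h4, h5⟩ := nPq h hg h.tR
  obtain ⟨d, hd⟩ := ex_d h hg
  have h6 : Mq z κ (g * t * g⁻¹) 1 (-1) := fun v => by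
    obtain ⟨w, l, e1⟩ := h.nQ _ (inv_mem hg) v
    have e2 : t * (g⁻¹ * κ v * g⁻¹⁻¹) * t⁻¹ = (g⁻¹ * κ v * g⁻¹⁻¹)⁻¹ * zp z (l + l) := by
      rw [e1, ← conj_mul, h.tk, zp_comm h.tz, mul_inv_cancel_right, mul_inv_rev, h.kinv, ← zp_neg h.z3, ← h.kzp,
        mul_assoc, ← zp_add h.z3, neg_add_cancel_left]
    refine ⟨(l + l) * d, ?_⟩
    rw [mon_neg_one, ← h.kinv, ← zp_conj h.z3 hd]
    calc _ = g * (t * (g⁻¹ * κ v * g⁻¹⁻¹) * t⁻¹) * g⁻¹ := by group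
      _ = _ := by rw [e2]; group
  obtain rfl := (h.mq_uniq (fun i => by rw [(h3 i).1]; decide) h5 h6).2
  obtain rfl := h.R_inj h1 h.tR h4 h.tm
  have e1 : κ u * g * τ * (κ u * g)⁻¹ = τ * zp z k := by
    have e2 : τ * (κ u)⁻¹ = κ u * τ := by rw [h.kinv, ← mul_inv_eq_iff_eq_mul, h.tk, neg_neg]
    calc _ = κ u * (g * τ * g⁻¹) * (κ u)⁻¹ := by group
      _ = κ u * κ u * zp z k * (τ * (κ u)⁻¹) := by rw [e]; group
      _ = κ u ^ 3 * (zp z k * τ) := by rw [e2, mul_assoc _ (zp z k), ← mul_assoc (zp z k), ← h.kzp, pow_three]; group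
      _ = _ := by rw [h.k3, one_mul, zp_comm h.tz]
  rw [h.four (k := k) h.tz (h.R4 _ h1) (by rw [← e1, conj_pow, h.R4 _ h1]; group), zp_zero, mul_one] at e1
  exact ⟨-u, κ u * g, mul_inv_eq_iff_eq_mul.1 e1, by rw [← h.kinv, inv_mul_cancel_left]⟩

theorem exact (hc : c ∈ normalizer (zpowers z : Set G)) (ht : c * t = t * c) (v : W6) : ∃ w, c * κ v * c⁻¹ = κ w := by
  obtain ⟨w, k, e⟩ := h.nQ c hc v
  have e1 : t * (c * κ v * c⁻¹) * t⁻¹ = (c * κ v * c⁻¹)⁻¹ := by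
    rw [conj_inv, h.kinv, ← h.tk, ← mul_assoc, ← mul_assoc, ← ht, mul_assoc _ c⁻¹, ← mul_inv_rev, ← ht]; group
  rw [e, ← conj_mul, h.tk, zp_comm h.tz, mul_inv_cancel_right, mul_inv_rev, h.kinv, ← zp_neg h.z3, ← h.kzp] at e1
  exact ⟨w, by rw [e, (by decide : ∀ k : ZMod 3, k = -k → k = 0) k (h.keq e1).2, zp_zero, mul_one]⟩

theorem act (hc : c ∈ normalizer (zpowers z : Set G)) (ht : c * t = t * c) :
    ∃ π A d, Mt κ c π A ∧ (∀ i, (A i).det = d) ∧ c * z * c⁻¹ = zp z d := by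
  obtain ⟨d, hd⟩ := ex_d h hc
  choose φ hφ using exact h hc ht
  have k : ∀ v w, κ (φ v + φ w) * zp z (β6 (φ v) (φ w)) = κ (φ (v + w)) * zp z (β6 v w * d) := fun v w => by
    rw [← h.mul, ← hφ, ← hφ, ← hφ, ← zp_conj h.z3 hd, conj_mul, conj_mul, h.mul]
  have ha : ∀ v w, φ (v + w) = φ v + φ w := fun v w => (h.keq (k v w)).1.symm
  have hβ : ∀ v w, β6 (φ v) (φ w) = d * β6 v w := fun v w => (h.keq (k v w)).2.trans (mul_comm _ _)
  have hs : Function.Surjective φ := Finite.injective_iff_surjective.1 fun v w e => h.k_inj (by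
    have := hφ v
    rw [e, ← hφ] at this
    exact mul_left_cancel (mul_right_cancel this))
  obtain ⟨π, A, h1, h2⟩ := mono ha hβ (h.det_ne hd) fun i => by
    obtain ⟨-, -, -, A, -, -, h3, -, h4⟩ := nPq h hc (h.rR i)
    refine one_col ha hβ (h.det_ne hd) hs (fun j => (h3 j).1) fun v => ?_
    obtain ⟨l, e⟩ := h4 (φ v)
    rw [← hφ, conj_mul, conj_inv, conj_mul, h.ra, hφ] at e
    exact (h.keq (k := l) (l := 0) (by rw [← e, zp_zero, mul_one])).1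
  exact ⟨π, A, d, fun v => by rw [hφ, h1], h2, hd⟩

end P2K

theorem p2Thm : P2Thm.{u} := fun h => ⟨h.toMB, fun _ hg => P2K.dec h hg, fun _ hc ht => P2K.act h hc ht⟩

end CL.E63
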