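/-
Recognition of `Fi₂₂` from a 3-centraliser (S3368), 3-local part: coordinates on the extraspecial group.
-/
import Cfsg.Agent.Rec.F3Base

set_option autoImplicit false

namespace CL.F3

open Subgroup Cfsg CL.Grp CL.G23 CL.Even Equiv
open CL.U63 hiding Mt Mq MS P1Thm WCThm
open scoped Matrix

universe u

namespace PK

variable {G : Type u} [Group G] {z t a b : G}

theorem swap (h3 : z ^ 3 = 1) (hb : Commute b z) (ha : Commute a z) (e : b * a = a * b * z) (i j : ZMod 3) :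
    zp b i * zp a j = zp a j * zp b i * zp z (j * i) := by
  have h1 : ∀ n : ℕ, b * a ^ n = a ^ n * b * z ^ n := fun n => by
    induction n with
    | zero => simp
    | succ n ih =>
      rw [pow_succ, ← mul_assoc, ih, mul_assoc _ (z ^ n), ← (ha.pow_right n).eq, ← mul_assoc, mul_assoc _ b, e, pow_succ' z]
      group
  have h2 : ∀ m n : ℕ, b ^ m * a ^ n = a ^ n * b ^ m * z ^ (n * m) := fun m n => by
    induction m with
    | zero => simp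
    | succ m ih =>
      rw [pow_succ, mul_assoc, h1, ← mul_assoc, ← mul_assoc, ih, mul_assoc _ (z ^ (n * m)), ← (hb.pow_right _).eq, mul_add,
        mul_one, pow_add]
      group
  rw [show j * i = ((j.val * i.val : ℕ) : ZMod 3) by simp, zp_nat h3]
  exact h2 _ _

/-- coordinates on one factor -/
structure H1 (z t : G) (D : Subgroup G) (k : V2 → G) : Prop where
  mem : ∀ x, k x ∈ D
  k0 : k 0 = 1
  mul : ∀ x y, k x * k y = k (x + y) * zp z (d2 x y)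
  tk : ∀ x, t * k x * t⁻¹ = k (-x)

theorem exists_H1 {D : Subgroup G} (h3 : z ^ 3 = 1) (zD : z ∈ D) (Dz : ∀ q ∈ D, q * z = z * q)
    (nab : ∃ a ∈ D, ∃ b ∈ D, a * b ≠ b * a) (com : ∀ a ∈ D, ∀ b ∈ D, a * b * a⁻¹ * b⁻¹ ∈ zpowers z)
    (cube : ∀ a ∈ D, a ^ 3 ∈ zpowers z) (tt : t * t = 1) (tz : t * z = z * t) (tD : ∀ q ∈ D, t * q * t⁻¹ ∈ D)
    (ti : ∀ q ∈ D, t * q * t⁻¹ * q ∈ zpowers z) : ∃ k, H1 z t D k := by
  have cz : ∀ q, q * z = z * q → ∀ ζ ∈ zpowers z, Commute q ζ := fun q hq ζ hζ => by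
    obtain ⟨k, rfl⟩ := (mem_zp h3).1 hζ
    exact zp_comm hq k
  have s1 : ∀ q ∈ D, ∃ w ∈ D, t * w * t⁻¹ = w⁻¹ ∧ w ^ 3 = 1 ∧ ∃ ζ ∈ zpowers z, q = w * ζ := fun q hq => by
    have hw : t * q * t⁻¹ * q⁻¹ ∈ D := mul_mem (tD q hq) (inv_mem hq)
    have e : t * (t * q * t⁻¹ * q⁻¹) * t⁻¹ = (t * q * t⁻¹ * q⁻¹)⁻¹ := by
      rw [show t * (t * q * t⁻¹ * q⁻¹) * t⁻¹ = t * t * q * t⁻¹ * q⁻¹ * t⁻¹ by group, tt, inv_eq_of_mul_eq_one_right tt]
      simp [mul_assoc, inv_eq_of_mul_eq_one_right tt]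
    refine ⟨_, hw, e, ?_, q ^ 3 * (t * q * t⁻¹ * q)⁻¹, mul_mem (cube q hq) (inv_mem (ti q hq)), ?_⟩
    · generalize t * q * t⁻¹ * q⁻¹ = w at hw e
      obtain ⟨l, hl⟩ := (mem_zp h3).1 (cube w hw)
      have e1 : w ^ 3 = (w ^ 3)⁻¹ := by
        rw [← inv_pow, ← e, conj_pow, (cz t tz _ (cube w hw)).eq, mul_inv_cancel_right]
      rw [hl, ← zp_neg h3] at e1
      by_cases z1 : z = 1
      · rw [hl, z1, zp, one_pow]
      · rw [hl, (by decide : ∀ a : ZMod 3, a = -a → a = 0) _ (zp_inj h3 z1 e1), zp_zero]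
    · have := (cz q (Dz q hq) _ (ti q hq)).eq
      generalize hζ : t * q * t⁻¹ * q = ζ at this ⊢
      rw [show t * q * t⁻¹ = ζ * q⁻¹ by rw [← hζ]; group,
        show ζ * q⁻¹ * q⁻¹ * (q ^ 3 * ζ⁻¹) = ζ * q * ζ⁻¹ by group, ← this, mul_inv_cancel_right]
  obtain ⟨a, ha, b, hb, ia, ib, a3, b3, e⟩ : ∃ a ∈ D, ∃ b ∈ D, t * a * t⁻¹ = a⁻¹ ∧ t * b * t⁻¹ = b⁻¹ ∧ a ^ 3 = 1 ∧
      b ^ 3 = 1 ∧ b * a = a * b * z := by
    obtain ⟨a0, ha0, b0, hb0, ne⟩ := nab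
    obtain ⟨a, ha, ia, a3, ζ, hζ, rfl⟩ := s1 a0 ha0
    obtain ⟨b, hb, ib, b3, ξ, hξ, rfl⟩ := s1 b0 hb0
    obtain ⟨k, hk⟩ := (mem_zp h3).1 (com b hb a ha)
    have e : b * a = a * b * zp z k := by rw [zp_comm (Dz _ (mul_mem ha hb)), ← hk]; group
    rcases (by decide : ∀ k : ZMod 3, k = 0 ∨ k = 1 ∨ k = -1) k with rfl | rfl | rfl
    · rw [zp_zero, mul_one] at e
      exact absurd ((Commute.mul_right e.symm (cz a (Dz a ha) ξ hξ)).mul_left (cz _ (Dz _ hb0) ζ hζ).symm).eq ne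
    · exact ⟨a, ha, b, hb, ia, ib, a3, b3, by rw [e, zp_one]⟩
    · exact ⟨b, hb, a, ha, ib, ia, b3, a3, by rw [e, zp_neg_one h3, inv_mul_cancel_right]⟩
  have zpD : ∀ {g}, g ∈ D → ∀ k, zp g k ∈ D := fun hg k => pow_mem hg _
  refine ⟨fun x => zp a (x 0) * zp b (x 1) * zp z (-(x 0 * x 1)),
    fun x => mul_mem (mul_mem (zpD ha _) (zpD hb _)) (zpD zD _), by simp [zp_zero], fun x y => ?_, fun x => ?_⟩
  · have c1 : ∀ k g, g ∈ D → Commute (zp z k) g := fun k g hg => (zp_comm (Dz g hg) k).symm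
    rw [(c1 _ _ (mul_mem (zpD ha _) (zpD hb _))).mul_mul_mul_comm, ← zp_add h3, mul_assoc (zp a (x 0)),
      ← mul_assoc (zp b (x 1)), swap h3 (Dz b hb) (Dz a ha) e, mul_assoc _ (zp z _), (c1 _ _ (zpD hb _)).eq,
      Pi.add_apply, Pi.add_apply, zp_add a3, zp_add b3]
    simp only [mul_assoc, ← zp_add h3]
    congr 5
    rw [d2]
    generalize x 0 = p, x 1 = q, y 0 = p', y 1 = q'
    revert p q p' q'
    decide
  · rw [← conj_mul, ← conj_mul, zp_cj, zp_cj, zp_cj, ia, ib, tz, mul_inv_cancel_right, zp_inv a3, zp_inv b3]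
    simp

/-- the multiplication rule and its consequences -/
structure M0 (z : G) (κ : W6 → G) : Prop where
  z3 : z ^ 3 = 1
  z1 : z ≠ 1
  kz : ∀ v, κ v * z = z * κ v
  mul : ∀ v w, κ v * κ w = κ (v + w) * zp z (β6 v w)

namespace M0

variable {κ : W6 → G} (h : M0 z κ)
include h

theorem k0 : κ 0 = 1 := by simpa [β6_zero, zp_zero] using h.mul 0 0

theorem kinv (v : W6) : (κ v)⁻¹ = κ (-v) :=
  inv_eq_of_mul_eq_one_right (by rw [h.mul, add_neg_cancel, β6_neg, β6_self, neg_zero, h.k0, zp_zero, mul_one])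

theorem kzp (v : W6) (k : ZMod 3) : κ v * zp z k = zp z k * κ v := zp_comm (h.kz v) k

theorem inj (v : W6) (hv : κ v ∈ zpowers z) : v = 0 := by
  by_contra ne
  obtain ⟨w, hw⟩ := exists_β6 ne 1
  obtain ⟨k, hk⟩ := (mem_zp h.z3).1 hv
  have e : κ w * κ v = κ v * κ w := by rw [hk, h.kzp]
  rw [h.mul, h.mul, add_comm w, β6_swap w v, hw] at e
  exact absurd (zp_inj h.z3 h.z1 (mul_left_cancel e)) (by decide)

theorem keq {v w : W6} {k l : ZMod 3} (e : κ v * zp z k = κ w * zp z l) : v = w ∧ k = l := by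
  have e1 : κ (-w + v) * zp z (β6 (-w) v + k) = zp z l := by
    rw [zp_add h.z3, ← mul_assoc, ← h.mul, mul_assoc, e, ← h.kinv, inv_mul_cancel_left]
  have e2 : v = w := (neg_add_eq_zero.1 (h.inj _ ((mul_mem_cancel_right (zp_mem z _)).1 (e1 ▸ zp_mem z l)))).symm
  subst e2
  exact ⟨rfl, zp_inj h.z3 h.z1 (mul_left_cancel e)⟩

def QQ : Subgroup G where
  carrier := {g | InQ z κ g}
  one_mem' := ⟨0, 0, by rw [h.k0, zp_zero, one_mul]⟩
  mul_mem' := by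
    rintro _ _ ⟨v, k, rfl⟩ ⟨w, l, rfl⟩
    exact ⟨v + w, β6 v w + k + l, by
      rw [mul_assoc, ← mul_assoc (zp z k), ← h.kzp, mul_assoc, ← mul_assoc, h.mul, zp_add h.z3, zp_add h.z3]; group⟩
  inv_mem' := by
    rintro _ ⟨v, k, rfl⟩
    exact ⟨-v, -k, by rw [mul_inv_rev, h.kinv, ← zp_neg h.z3, h.kzp]⟩

theorem onto [Finite G] {D : Subgroup G} (i : Fin 3) (hD : Nat.card D = 27) (zD : z ∈ D) (hk : ∀ x, κ (sn i x) ∈ D)
    {q : G} (hq : q ∈ D) : ∃ x l, q = κ (sn i x) * zp z l := by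
  let f : V2 × ZMod 3 → D := fun p => ⟨κ (sn i p.1) * zp z p.2, mul_mem (hk _) (pow_mem zD _)⟩
  have hf : Function.Injective f := fun p p' e => by
    obtain ⟨e1, e2⟩ := h.keq (congrArg Subtype.val e)
    exact Prod.ext (by simpa [sn_self] using congrFun e1 i) e2
  obtain ⟨p, hp⟩ := (hf.bijective_of_nat_card_le (by rw [hD]; simp)).2 ⟨q, hq⟩
  exact ⟨p.1, p.2, (congrArg Subtype.val hp).symm⟩

theorem act {τ : G} (tk : ∀ v, t * κ v * t⁻¹ = κ (-v)) (tz : t * z = z * t) (τt : τ * t = t * τ) (τz : τ * z = z * τ)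
    (τ4 : τ ^ 4 = 1) (hQ : ∀ v, InQ z κ (τ * κ v * τ⁻¹)) (hi : ∀ i x, ∃ y l, τ * κ (sn i x) * τ⁻¹ = κ (sn i y) * zp z l) :
    ∃ A, (∀ i, Q8m (A i)) ∧ Mt κ τ 1 A := by
  have ex : ∀ v, ∃ w, τ * κ v * τ⁻¹ = κ w := fun v => by
    obtain ⟨w, k, e⟩ := hQ v
    have e1 : t * (τ * κ v * τ⁻¹) * t⁻¹ = (τ * κ v * τ⁻¹)⁻¹ := by
      rw [show t * (τ * κ v * τ⁻¹) * t⁻¹ = t * τ * κ v * (t * τ)⁻¹ by group, ← τt,
        show τ * t * κ v * (τ * t)⁻¹ = τ * (t * κ v * t⁻¹) * τ⁻¹ by group, tk, ← h.kinv]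
      group
    rw [e, ← conj_mul, tk, zp_comm tz, mul_inv_cancel_right, mul_inv_rev, h.kinv, ← zp_neg h.z3, ← h.kzp] at e1
    exact ⟨w, by rw [e, (by decide : ∀ a : ZMod 3, a = -a → a = 0) _ (h.keq e1).2, zp_zero, mul_one]⟩
  choose ψ hψ using ex
  have hm : ∀ v w, ψ v + ψ w = ψ (v + w) ∧ β6 (ψ v) (ψ w) = β6 v w := fun v w => h.keq (by
    rw [← h.mul, ← hψ, ← hψ, ← hψ, conj_mul, h.mul, ← conj_mul, zp_comm τz, mul_inv_cancel_right])
  let φ : Fin 3 → V2 →+ V2 := fun i => AddMonoidHom.mk' (fun x => ψ (sn i x) i) fun x y => by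
    rw [sn_add, ← (hm _ _).1]; rfl
  let A : A3 := fun i => LinearMap.toMatrix' ((φ i).toZModLinearMap 3)
  have hA : ∀ i x, ψ (sn i x) = sn i (A i *ᵥ x) := fun i x => by
    obtain ⟨y, l, e⟩ := hi i x
    have e1 : ψ (sn i x) = sn i y := (h.keq (k := 0) (l := l) (by rw [zp_zero, mul_one, ← hψ, e])).1
    have e2 : A i *ᵥ x = ψ (sn i x) i := LinearMap.toMatrix'_mulVec _ x
    rw [e2, e1, sn_self]
  have mt : Mt κ τ 1 A := fun v => by
    rw [hψ]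
    congr 1
    conv_lhs => rw [sn_sum v, ← (hm _ _).1, ← (hm _ _).1, hA, hA, hA]
    conv_rhs => rw [sn_sum (mon 1 A v), mon_base, mon_base, mon_base]
  refine ⟨A, fun i => ⟨?_, ?_⟩, mt⟩
  · have := (hm (sn i e0) (sn i f0)).2
    rwa [hA, hA, β6_sn, β6_sn, sn_self, sn_self, d2_mulVec, U0_spec.2.2.2.2.2, mul_one] at this
  · have := (mon_inj (π := 1) (π' := 1) (A := 1) (A' := A ^ 4) (by simp) fun v => (h.keq (k := 0) (l := 0) (by
      rw [← mt.pow 4 v, τ4, mon_one]; simp)).1).2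
    exact (congrFun this i).symm

end M0

end PK

open PK in
theorem pkThm : PKThm.{u} := by
  intro G _ _ z t Q R Qi r P
  have le : ∀ i, Qi i ≤ Q := fun i => by
    rw [← P.gen]
    fin_cases i
    exacts [le_sup_of_le_left le_sup_left, le_sup_of_le_left le_sup_right, le_sup_right]
  have tR : t ∈ R := P.tr ▸ mul_mem (mul_mem (P.rR 0) (P.rR 1)) (P.rR 2)
  have Rt : ∀ τ ∈ R, τ * t = t * τ := fun τ hτ =>
    P.tr ▸ (((show Commute τ _ from P.rc 0 τ hτ).mul_right (P.rc 1 τ hτ)).mul_right (P.rc 2 τ hτ)).eq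
  have rr : ∀ i j, Commute (r i) (r j) := fun i j => P.rc j _ (P.rR i)
  have tt : t * t = 1 := by
    rw [P.tr, ((rr 2 0).mul_right (rr 2 1)).mul_mul_mul_comm, (rr 1 0).mul_mul_mul_comm, P.r2, P.r2, P.r2]; simp
  have zc : ∀ τ ∈ R, ∀ ζ ∈ zpowers z, τ * ζ * τ⁻¹ = ζ := fun τ hτ ζ hζ => by
    obtain ⟨k, rfl⟩ := (mem_zp P.z3).1 hζ
    rw [zp_comm (P.Rz τ hτ), mul_inv_cancel_right]
  have ti : ∀ i, ∀ q ∈ Qi i, t * q * t⁻¹ * q ∈ zpowers z := fun i q hq => by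
    obtain ⟨j, l, hj, hl, e⟩ : ∃ j l, j ≠ i ∧ l ≠ i ∧ t = r i * r j * r l := by
      fin_cases i
      · exact ⟨1, 2, by decide, by decide, P.tr⟩
      · exact ⟨0, 2, by decide, by decide, by rw [P.tr, (rr 0 1).eq]; rfl⟩
      · exact ⟨0, 1, by decide, by decide, by rw [P.tr, ((rr 0 2).mul_left (rr 1 2)).eq, mul_assoc]; rfl⟩
    have h1 := P.rfix l i hl q hq
    have h2 := P.rfix j i hj q hq
    have e1 : t * q * t⁻¹ * q = r i * (r j * (r l * q * (r l)⁻¹ * q⁻¹) * (r j)⁻¹ * (r j * q * (r j)⁻¹ * q⁻¹)) * (r i)⁻¹ *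
        (r i * q * (r i)⁻¹ * q) := by rw [e]; group
    rw [e1, zc _ (P.rR j) _ h1, zc _ (P.rR i) _ (mul_mem h1 h2)]
    exact mul_mem (mul_mem h1 h2) (P.rinv i q hq)
  choose k hk using fun i => exists_H1 P.z3 (P.zi i) (fun q hq => P.Qz q (le i hq)) (P.nab i)
    (fun a ha b hb => P.com a (le i ha) b (le i hb)) (fun a ha => P.cube a (le i ha)) tt (P.Rz t tR) (P.Rn t tR i) (ti i)
  let κ : W6 → G := fun v => k 0 (v 0) * k 1 (v 1) * k 2 (v 2)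
  have kQ : ∀ i x, k i x ∈ Q := fun i x => le i ((hk i).mem x)
  have κQ : ∀ v, κ v ∈ Q := fun v => mul_mem (mul_mem (kQ _ _) (kQ _ _)) (kQ _ _)
  have c1 : ∀ i j, i ≠ j → ∀ x y, Commute (k i x) (k j y) := fun i j h x y => P.cm i j h _ ((hk i).mem x) _ ((hk j).mem y)
  have c2 : ∀ l i x, Commute (zp z l) (k i x) := fun l i x => (zp_comm (P.Qz _ (kQ i x)) l).symm
  have M : M0 z κ := ⟨P.z3, P.z1, fun v => P.Qz _ (κQ v), fun v w => by
    simp only [κ]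
    rw [((c1 2 0 (by decide) _ _).mul_right (c1 2 1 (by decide) _ _)).mul_mul_mul_comm,
      (c1 1 0 (by decide) _ _).mul_mul_mul_comm, (hk 0).mul, (hk 1).mul, (hk 2).mul, (c2 _ _ _).mul_mul_mul_comm,
      ← zp_add P.z3, (c2 _ _ _).mul_mul_mul_comm, ← zp_add P.z3]
    rfl⟩
  have κi : ∀ i x, κ (sn i x) ∈ Qi i := fun i x => by
    have : κ (sn i x) = k i x := by fin_cases i <;> simp [κ, sn, (hk _).k0]
    exact this ▸ (hk i).mem x
  have oi := fun i {q} => M.onto i (P.card i) (P.zi i) (κi i) (q := q)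
  have on : ∀ q ∈ Q, InQ z κ q := fun q hq => by
    have : ∀ i, Qi i ≤ M.QQ := fun i q hq => let ⟨x, l, e⟩ := oi i hq; ⟨_, l, e⟩
    exact (P.gen ▸ sup_le (sup_le (this 0) (this 1)) (this 2) : Q ≤ M.QQ) hq
  have on' : ∀ q, InQ z κ q → q ∈ Q := by
    rintro _ ⟨v, l, rfl⟩
    exact mul_mem (κQ v) (pow_mem (le 0 (P.zi 0)) _)
  have tk : ∀ v, t * κ v * t⁻¹ = κ (-v) := fun v => by
    simp only [κ]
    rw [← conj_mul, ← conj_mul, (hk 0).tk, (hk 1).tk, (hk 2).tk]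
    rfl
  have nz : ∀ τ ∈ R, τ ∈ normalizer (zpowers z : Set G) := fun τ hτ =>
    mem_normalizer_fintype fun ζ hζ => by rwa [zc τ hτ ζ hζ]
  have ra : ∀ τ ∈ R, ∃ A, (∀ i, Q8m (A i)) ∧ Mt κ τ 1 A := fun τ hτ => M.act tk (P.Rz t tR) (Rt τ hτ) (P.Rz τ hτ)
    (P.R4 τ hτ) (fun v => on _ (P.nQ τ (nz τ hτ) _ (κQ v))) fun i x => oi i (P.Rn τ hτ i _ (κi i x))
  refine ⟨κ, ⟨⟨P.z3, P.z1, M.kz, M.mul, M.inj, fun g hg => P.cQ g fun q hq => ?_, tR, tk, P.Rz, Rt, P.R4, ra, P.rR,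
    fun i => ?_, P.Rcard⟩, fun g hg v => on _ (P.nQ g hg _ (κQ v)), fun g hg τ hτ => ?_, fun N n1 n2 n3 x hx => ?_⟩, κQ⟩
  · have gz : g * z = z * g := by
      have e := M.mul (sn 0 e0) (sn 0 f0)
      rw [β6_sn, sn_self, U0_spec.2.2.2.2.2, zp_one] at e
      rw [show z = (κ (sn 0 e0 + sn 0 f0))⁻¹ * (κ (sn 0 e0) * κ (sn 0 f0)) by rw [e]; group]
      exact ((show Commute g _ from hg _).inv_right.mul_right ((show Commute g _ from hg _).mul_right (hg _))).eq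
    obtain ⟨v, l, rfl⟩ := on q hq
    exact ((show Commute g _ from hg v).mul_right (zp_comm gz l)).eq
  · obtain ⟨A, -, mt⟩ := ra _ (P.rR i)
    have key : ∀ j x y, r i * κ (sn j x) * (r i)⁻¹ * κ (sn j y) ∈ zpowers z → A j *ᵥ x + y = 0 := fun j x y e => by
      rw [mt, mon_sn, M.mul] at e
      simpa [sn_self] using congrFun (M.inj _ ((mul_mem_cancel_right (zp_mem z _)).1 e)) j
    suffices A = sgn i from this ▸ mt
    funext j
    by_cases hj : j = i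
    · subst hj
      have : ∀ x, A j *ᵥ x = sgn j j *ᵥ x := fun x => by
        rw [eq_neg_of_add_eq_zero_left (key j x x (P.rinv j _ (κi j x)))]; simp [sgn, Matrix.neg_mulVec]
      exact m2_ext (this _) (this _)
    · have : ∀ x, A j *ᵥ x = sgn i j *ᵥ x := fun x => by
        rw [eq_neg_of_add_eq_zero_left (key j x (-x) (by
          rw [sn_neg, ← M.kinv]; exact P.rfix i j (Ne.symm hj) _ (κi j x)))]; simp [sgn, hj]
      exact m2_ext (this _) (this _)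
  · obtain ⟨q, hq, τ', h1, e⟩ := P.nP g hg τ hτ
    exact ⟨q, τ', h1, on q hq, e⟩
  · obtain ⟨q, hq, τ', h1, e⟩ := P.Pmax N n1 n2 (fun x hx => on' _ (n3 x hx)) x hx
    exact ⟨q, τ', h1, on q hq, e⟩

end CL.F3
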