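/-
Recognition of `²E₆(2)` from a 3-centraliser (S3337): coordinates on the extraspecial group.
-/
import Cfsg.Agent.Rec.E63Base
import Cfsg.Agent.Rec.F3PK

set_option autoImplicit false
set_option linter.unusedSectionVars false

namespace CL.E63

open Subgroup Cfsg CL.Grp CL.G23 CL.Even Equiv
open CL.U63 hiding Mt Mq MS P1Thm WCThm
open CL.F3 hiding MB MS0 MS PM P1Thm PKThm P2Thm pkThm
open scoped Matrix

universe u

open CL.F3.PK in
theorem pkThm : PKThm.{u} := by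
  intro G _ _ z t Q R Qi r P
  have le : ∀ i, Qi i ≤ Q := fun i => by
    rw [← P.gen]
    fin_cases i
    exacts [le_sup_of_le_left le_sup_left, le_sup_of_le_left le_sup_right, le_sup_right]
  have tR : t ∈ R := P.tr ▸ mul_mem (mul_mem (P.rR 0) (P.rR 1)) (P.rR 2)
  have Rt : ∀ τ ∈ R, τ * t = t * τ := fun τ hτ =>
    P.tr ▸ (((show Commute τ _ from P.rc 0 τ hτ).mul_right (P.rc 1 τ hτ)).mul_right (P.rc 2 τ hτ)).eq
  have rr : ∀ i j, Commute (r i) (r j) := fun i j => P.rc j _ (P.rR i)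
  have tt : t * t = 1 := by
    rw [P.tr, ((rr 2 0).mul_right (rr 2 1)).mul_mul_mul_comm, (rr 1 0).mul_mul_mul_comm, P.r2, P.r2, P.r2]; simp
  have zc : ∀ τ ∈ R, ∀ ζ ∈ zpowers z, τ * ζ * τ⁻¹ = ζ := fun τ hτ ζ hζ => by
    obtain ⟨k, rfl⟩ := (mem_zp P.z3).1 hζ
    rw [zp_comm (P.Rz τ hτ), mul_inv_cancel_right]
  have ti : ∀ i, ∀ q ∈ Qi i, t * q * t⁻¹ * q ∈ zpowers z := fun i q hq => by
    obtain ⟨j, l, hj, hl, e⟩ : ∃ j l, j ≠ i ∧ l ≠ i ∧ t = r i * r j * r l := by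
      fin_cases i
      · exact ⟨1, 2, by decide, by decide, P.tr⟩
      · exact ⟨0, 2, by decide, by decide, by rw [P.tr, (rr 0 1).eq]; rfl⟩
      · exact ⟨0, 1, by decide, by decide, by rw [P.tr, ((rr 0 2).mul_left (rr 1 2)).eq, mul_assoc]; rfl⟩
    have h1 := P.rfix l i hl q hq
    have h2 := P.rfix j i hj q hq
    have e1 : t * q * t⁻¹ * q = r i * (r j * (r l * q * (r l)⁻¹ * q⁻¹) * (r j)⁻¹ * (r j * q * (r j)⁻¹ * q⁻¹)) * (r i)⁻¹ *
        (r i * q * (r i)⁻¹ * q) := by rw [e]; group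
    rw [e1, zc _ (P.rR j) _ h1, zc _ (P.rR i) _ (mul_mem h1 h2)]
    exact mul_mem (mul_mem h1 h2) (P.rinv i q hq)
  choose k hk using fun i => exists_H1 P.z3 (P.zi i) (fun q hq => P.Qz q (le i hq)) (P.nab i)
    (fun a ha b hb => P.com a (le i ha) b (le i hb)) (fun a ha => P.cube a (le i ha)) tt (P.Rz t tR) (P.Rn t tR i) (ti i)
  let κ : W6 → G := fun v => k 0 (v 0) * k 1 (v 1) * k 2 (v 2)
  have kQ : ∀ i x, k i x ∈ Q := fun i x => le i ((hk i).mem x)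
  have κQ : ∀ v, κ v ∈ Q := fun v => mul_mem (mul_mem (kQ _ _) (kQ _ _)) (kQ _ _)
  have c1 : ∀ i j, i ≠ j → ∀ x y, Commute (k i x) (k j y) := fun i j h x y => P.cm i j h _ ((hk i).mem x) _ ((hk j).mem y)
  have c2 : ∀ l i x, Commute (zp z l) (k i x) := fun l i x => (zp_comm (P.Qz _ (kQ i x)) l).symm
  have M : M0 z κ := ⟨P.z3, P.z1, fun v => P.Qz _ (κQ v), fun v w => by
    simp only [κ]
    rw [((c1 2 0 (by decide) _ _).mul_right (c1 2 1 (by decide) _ _)).mul_mul_mul_comm,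
      (c1 1 0 (by decide) _ _).mul_mul_mul_comm, (hk 0).mul, (hk 1).mul, (hk 2).mul, (c2 _ _ _).mul_mul_mul_comm,
      ← zp_add P.z3, (c2 _ _ _).mul_mul_mul_comm, ← zp_add P.z3]
    rfl⟩
  have κi : ∀ i x, κ (sn i x) ∈ Qi i := fun i x => by
    have : κ (sn i x) = k i x := by fin_cases i <;> simp [κ, sn, (hk _).k0]
    exact this ▸ (hk i).mem x
  have oi := fun i {q} => M.onto i (P.card i) (P.zi i) (κi i) (q := q)
  have on : ∀ q ∈ Q, InQ z κ q := fun q hq => by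
    have : ∀ i, Qi i ≤ M.QQ := fun i q hq => let ⟨x, l, e⟩ := oi i hq; ⟨_, l, e⟩
    exact (P.gen ▸ sup_le (sup_le (this 0) (this 1)) (this 2) : Q ≤ M.QQ) hq
  have tk : ∀ v, t * κ v * t⁻¹ = κ (-v) := fun v => by
    simp only [κ]
    rw [← conj_mul, ← conj_mul, (hk 0).tk, (hk 1).tk, (hk 2).tk]
    rfl
  have nz : ∀ τ ∈ R, τ ∈ normalizer (zpowers z : Set G) := fun τ hτ =>
    mem_normalizer_fintype fun ζ hζ => by rwa [zc τ hτ ζ hζ]
  have ra : ∀ τ ∈ R, ∃ A, (∀ i, Q8m (A i)) ∧ Mt κ τ 1 A := fun τ hτ => M.act tk (P.Rz t tR) (Rt τ hτ) (P.Rz τ hτ)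
    (P.R4 τ hτ) (fun v => on _ (P.nQ τ (nz τ hτ) _ (κQ v))) fun i x => oi i (P.Rn τ hτ i _ (κi i x))
  refine ⟨κ, ⟨⟨P.z3, P.z1, M.kz, M.mul, M.inj, fun g hg => P.cQ g fun q hq => ?_, tR, tk, P.Rz, Rt, P.R4, ra, P.rR,
    fun i => ?_, P.Rcard⟩, fun g hg v => on _ (P.nQ g hg _ (κQ v)), fun g hg τ hτ => ?_⟩, κQ⟩
  · have gz : g * z = z * g := by
      have e := M.mul (sn 0 e0) (sn 0 f0)
      rw [β6_sn, sn_self, U0_spec.2.2.2.2.2, zp_one] at e
      rw [show z = (κ (sn 0 e0 + sn 0 f0))⁻¹ * (κ (sn 0 e0) * κ (sn 0 f0)) by rw [e]; group]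
      exact ((show Commute g _ from hg _).inv_right.mul_right ((show Commute g _ from hg _).mul_right (hg _))).eq
    obtain ⟨v, l, rfl⟩ := on q hq
    exact ((show Commute g _ from hg v).mul_right (zp_comm gz l)).eq
  · obtain ⟨A, -, mt⟩ := ra _ (P.rR i)
    have key : ∀ j x y, r i * κ (sn j x) * (r i)⁻¹ * κ (sn j y) ∈ zpowers z → A j *ᵥ x + y = 0 := fun j x y e => by
      rw [mt, mon_sn, M.mul] at e
      simpa [sn_self] using congrFun (M.inj _ ((mul_mem_cancel_right (zp_mem z _)).1 e)) j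
    suffices A = sgn i from this ▸ mt
    funext j
    by_cases hj : j = i
    · subst hj
      have : ∀ x, A j *ᵥ x = sgn j j *ᵥ x := fun x => by
        rw [eq_neg_of_add_eq_zero_left (key j x x (P.rinv j _ (κi j x)))]; simp [sgn, Matrix.neg_mulVec]
      exact m2_ext (this _) (this _)
    · have : ∀ x, A j *ᵥ x = sgn i j *ᵥ x := fun x => by
        rw [eq_neg_of_add_eq_zero_left (key j x (-x) (by
          rw [sn_neg, ← M.kinv]; exact P.rfix i j (Ne.symm hj) _ (κi j x)))]; simp [sgn, hj]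
      exact m2_ext (this _) (this _)
  · obtain ⟨q, hq, τ', h1, e⟩ := P.nP g hg τ hτ
    exact ⟨q, τ', h1, on q hq, e⟩

end CL.E63
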