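/-
Recognition of `²E₆(2)` from a 3-centraliser (S3337): the group `Σ = 2^(1+20)`.
-/
import Cfsg.Agent.Rec.E63Sd

set_option autoImplicit false

namespace CL.E63

open Subgroup Cfsg CL.Grp CL.G23 CL.Even Equiv
open CL.U63 hiding Mt Mq MS P1Thm WCThm
open CL.F3 hiding MB MS0 MS PM P1Thm PKThm P2Thm W0 Pr2 YM W0Thm WAThm WCThm WBThm WGThm Y1Thm YAThm YBThm YCThm
open scoped Matrix

universe u

namespace SGJ

/-- the ten pure vectors -/
def zs (i : Fin 10) : X6 :=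
  ![![1, 1, 1, 0, 0, 0], ![1, 1, 0, 1, 0, 0], ![1, 1, 0, 0, 1, 0], ![1, 1, 0, 0, 0, 1], ![1, 0, 1, 1, 0, 0],
    ![1, 0, 1, 0, 1, 0], ![1, 0, 1, 0, 0, 1], ![1, 0, 0, 1, 1, 0], ![1, 0, 0, 1, 0, 1], ![1, 0, 0, 0, 1, 1]] i

def ws (i : Fin 3) : X6 := ![zs 1, zs 4, zs 2] i

theorem zs_ok : ∀ i, ok false (zs i) ∧ ty (zs i) = 54 := by decide +kernel

theorem zs_ne : ∀ i j, i ≠ j → ∀ k : ZMod 3, ¬ Cst (zs i) (k • zs j) := by decide +kernel

theorem fin1' : ∀ a b c d e f : ZMod 3, ty ![a, b, c, d, e, f] = 54 →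
    ∃ i, ∃ k : ZMod 3, Cst ![a, b, c, d, e, f] (k • zs i) := by decide +kernel

theorem fin1 {u : X6} (h : ty u = 54) : ∃ i, ∃ k : ZMod 3, Cst u (k • zs i) := by
  have e : u = ![u 0, u 1, u 2, u 3, u 4, u 5] := by
    funext i; fin_cases i <;> rfl
  rw [e] at h ⊢
  exact fin1' _ _ _ _ _ _ h

theorem trans9 : ∀ i j : Fin 10, i ≠ 0 → j ≠ 0 → ∃ a b : Fin 3, Cst (pa false (σ0 ^ a.val * τ0 ^ b.val) zv) zv ∧
    ∃ k : ZMod 3, Cst (pa false (σ0 ^ a.val * τ0 ^ b.val) (zs i)) (k • zs j) := by decide +kernel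

theorem wt : ∀ (e : Bool) (π : P6), s1 (pa e π pv) = s2 (pa e π pv) → ∀ a b c : ZMod 3,
    s1 (pa e π ![a, a, b, b, c, c]) = s2 (pa e π ![a, a, b, b, c, c]) := by decide +kernel

theorem ws_ok : ∀ i, ok false (ws i) ∧ ∀ k : ZMod 3, ¬ Cst (ws i) (k • zv) := by decide +kernel

theorem comb : ∀ a0 c0 a1 c1 a2 c2 : ZMod 3, ¬ Cst (a0 • zv + c0 • ws 0) 0 → ¬ Cst (a1 • zv + c1 • ws 1) 0 →
    ¬ Cst (a2 • zv + c2 • ws 2) 0 → ∃ α β γ : ZMod 3,
      ty (α • (a0 • zv + c0 • ws 0) + β • (a1 • zv + c1 • ws 1) + γ • (a2 • zv + c2 • ws 2)) = 54 := by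
  decide +kernel

variable {G : Type u} [Group G] {bg : Bool} {ι : X6 → G} {J L U P Y : Subgroup G} {r g g' : G} {u v : X6}

theorem mc {r g : G} : g ∈ centralizer {r} ↔ g * r = r * g := mem_centralizer_singleton_iff

theorem nk_mul (h : NK J r g) (h' : NK J r g') : NK J r (g * g') :=
  ⟨by rw [mul_assoc, h'.1, ← mul_assoc, h.1, mul_assoc], mul_mem h.2 h'.2⟩

theorem nk_inv (h : NK J r g) : NK J r g⁻¹ := ⟨(show Commute g r from h.1).inv_left.eq, inv_mem h.2⟩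

theorem q8cj (h : CL.Ast.Q8 r P) (hg : g * r = r * g) : CL.Ast.Q8 r (cj g P) := by
  have e : g⁻¹ * r * g = r := by rw [mul_assoc, ← hg, inv_mul_cancel_left]
  have e' : ∀ {y : G}, g⁻¹ * y * g = r → y = r := fun {y} e1 => by
    calc y = g * (g⁻¹ * y * g) * g⁻¹ := by group
      _ = r := by rw [e1, hg, mul_inv_cancel_right]
  refine ⟨(card_cj g P).trans h.card, h.t2, h.t1, mem_cj.2 (e.symm ▸ h.mem), fun p hp => ?_⟩
  refine (h.sq _ (mem_cj.1 hp)).imp (fun e1 => ?_) (Or.imp e' fun e1 => e' ?_)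
  · exact conj_eq_one_iff.1 (show g⁻¹ * p * g⁻¹⁻¹ = 1 by rwa [inv_inv])
  · rw [← e1]; group

variable [Finite G] (k : KF bg ι J L U P r)
include k

omit [Finite G] in
theorem Jr (hg : g ∈ J) : g * r = r * g := k.Lr g (k.JL hg)

omit [Finite G] in
theorem nkJ (hg : g ∈ J) : NK J r g := ⟨Jr k hg, le_normalizer hg⟩

theorem eqP (h : NK J r g) (h' : NK J r g') (e : g * ι zv * g⁻¹ ∈ zpowers (g' * ι zv * g'⁻¹)) :
    cj g P = cj g' P := by
  have h1 := nk_mul (nk_inv h') h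
  have h2 : g'⁻¹ * g ∈ normalizer (zpowers (ι zv) : Set G) := by
    refine mem_norm_of_cj_le (cj_le_iff.2 (zpowers_le.2 (mem_cj.2 ?_)))
    obtain ⟨n, hn⟩ := mem_zpowers_iff.1 e
    refine mem_zpowers_iff.2 ⟨n, ?_⟩
    rw [conj_zpow] at hn
    calc ι zv ^ n = g'⁻¹ * (g' * ι zv ^ n * g'⁻¹) * g' := by group
      _ = _ := by rw [hn]; group
  rw [← mul_inv_cancel_left g' g, cj_mul, cj_eq (k.nP _ ⟨h1.1, h2⟩)]

omit [Finite G] in
theorem exn : ∃ n : Fin 10 → G, ∀ i, NK J r (n i) ∧ n i * ι zv * (n i)⁻¹ = ι (zs i) := by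
  choose n h1 h2 h3 using fun i => k.np (zs i) ((zs_ok i).1.mono bg) (zs_ok i).2
  exact ⟨n, fun i => ⟨⟨k.Lr _ (k.UL (h1 i)), h2 i⟩, h3 i⟩⟩

omit [Finite G] in
theorem idx (h : NK J r g) : ∃ i, g * ι zv * g⁻¹ ∈ zpowers (ι (zs i)) := by
  obtain ⟨e, π, h1⟩ := (k.act g h).2
  obtain ⟨i, hi⟩ := fin1 ((ty_pa e π zv).trans (by decide))
  have h2 := (ok_vecs bg).1
  exact ⟨i, h1 zv h2 ▸ (k.toEJ.mem_zpowers (h2.pa e π) ((zs_ok i).1.mono bg)).2 hi⟩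

theorem cm1 (h : NK J r g) (hz : g * ι zv * g⁻¹ ∉ zpowers (ι zv)) : ∀ a ∈ P, ∀ b ∈ cj g P, a * b = b * a := by
  obtain ⟨n, hn⟩ := exn k
  obtain ⟨g0, h0, hz0, hc⟩ := k.cm
  obtain ⟨i, hi⟩ := idx k h0
  obtain ⟨j, hj⟩ := idx k h
  obtain ⟨a, b, h1, h2⟩ := trans9 i j (by rintro rfl; exact hz0 hi) (by rintro rfl; exact hz hj)
  obtain ⟨m, hm, h3⟩ := k.onto (σ0 ^ a.val * τ0 ^ b.val)
  have h4 : NK J r m := ⟨k.Lr _ (k.UL hm), k.toEJ.norm h3⟩
  have h5 := (ok_vecs bg).1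
  have h6 : cj m P = P := by
    have := eqP k h4 ⟨by simp, one_mem _⟩ (g' := 1) (by
      rw [k.toEJ.conj_eq h3 h5 h5 h1, one_mul, inv_one, mul_one]; exact mem_zpowers _)
    rwa [cj_one] at this
  have h7 : cj g P = cj m (cj g0 P) := by
    rw [eqP k h (hn j).1 ((hn j).2 ▸ hj), eqP k h0 (hn i).1 ((hn i).2 ▸ hi), ← cj_mul]
    refine (eqP k (nk_mul h4 (hn i).1) (hn j).1 ?_).symm
    have := (k.toEJ.mem_zpowers (((zs_ok i).1.mono bg).pa false _) ((zs_ok j).1.mono bg)).2 h2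
    rw [← h3 _ ((zs_ok i).1.mono bg), ← (hn i).2] at this
    rw [(hn j).2]
    convert this using 1
    group
  intro x hx y hy
  rw [← h6] at hx
  rw [h7] at hy
  have := hc _ (mem_cj.1 hx) _ (mem_cj.1 hy)
  calc x * y = m * (m⁻¹ * x * m * (m⁻¹ * y * m)) * m⁻¹ := by group
    _ = _ := by rw [this]; group

theorem cm (h : NK J r g) (h' : NK J r g') (hz : g * ι zv * g⁻¹ ∉ zpowers (g' * ι zv * g'⁻¹)) :
    ∀ a ∈ cj g P, ∀ b ∈ cj g' P, a * b = b * a := by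
  intro a ha b hb
  have := cm1 k (nk_mul (nk_inv h') h) (fun e => hz ?_) _ (mem_cj.1 hb) (g'⁻¹ * a * g') (mem_cj.2 (by
    simpa [mul_assoc] using mem_cj.1 ha))
  · calc a * b = g' * (g'⁻¹ * a * g' * (g'⁻¹ * b * g')) * g'⁻¹ := by group
      _ = _ := by rw [← this]; group
  · obtain ⟨n, hn⟩ := mem_zpowers_iff.1 e
    refine mem_zpowers_iff.2 ⟨n, ?_⟩
    rw [conj_zpow, hn]; group

theorem sig_eq {n : Fin 10 → G} (hn : ∀ i, NK J r (n i) ∧ n i * ι zv * (n i)⁻¹ = ι (zs i)) :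
    Sig J P r = ⨆ i, cj (n i) P := by
  refine le_antisymm ((closure_le _).2 fun x ⟨g, hg, hx⟩ => ?_) (iSup_le fun i x hx => subset_closure ⟨_, (hn i).1, hx⟩)
  obtain ⟨i, hi⟩ := idx k hg
  rw [eqP k hg (hn i).1 ((hn i).2 ▸ hi)] at hx
  exact le_iSup (fun i => cj (n i) P) i hx

theorem cpf (c : CPThm.{u}) {n : Fin 10 → G} (hn : ∀ i, NK J r (n i) ∧ n i * ι zv * (n i)⁻¹ = ι (zs i)) :
    CPF r fun i => cj (n i) P :=
  c (by decide) (fun i => q8cj k.q8 (hn i).1.1) fun i j hij => cm k (hn i).1 (hn j).1 fun e => by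
    rw [(hn i).2, (hn j).2, k.toEJ.mem_zpowers ((zs_ok i).1.mono bg) ((zs_ok j).1.mono bg)] at e
    obtain ⟨l, hl⟩ := e
    exact zs_ne i j hij l hl

theorem cw (c : CPThm.{u}) : ∀ a ∈ Sig J P r, a * ι pv = ι pv * a → CW bg ι a := by
  obtain ⟨n, hn⟩ := exn k
  have hp := (ok_vecs bg).2.2.2.2.2.1
  have hy := k.toEJ.memJ hp
  intro x hx hc a b d hw
  rw [sig_eq k hn] at hx
  refine mc.1 ((cpf k c hn).fix (ι pv) (k.toEJ.cube hp) (Jr k hy) (fun i => ?_) _ (fun i y h1 h2 => mc.2 ?_) x hx hc)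
  · refine cj_eq_iff_mem.1 ?_
    rw [← cj_mul]
    refine eqP k (nk_mul (nkJ k hy) (hn i).1) (hn i).1 ?_
    rw [show ι pv * n i * ι zv * (ι pv * n i)⁻¹ = ι pv * (n i * ι zv * (n i)⁻¹) * (ι pv)⁻¹ by group, (hn i).2,
      k.toEJ.comm hp ((zs_ok i).1.mono bg), mul_inv_cancel_right]
    exact mem_zpowers _
  · obtain ⟨e, π, h3⟩ := (k.act _ (nk_inv (hn i).1)).2
    have key : ∀ {t : X6}, ok bg t → (y * ι t = ι t * y ↔
        (n i)⁻¹ * y * n i * ι (pa e π t) = ι (pa e π t) * ((n i)⁻¹ * y * n i)) := fun {t} ht => by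
      rw [← h3 t ht, inv_inv]
      constructor
      · intro e1
        calc _ = (n i)⁻¹ * (y * ι t) * n i := by group
          _ = _ := by rw [e1]; group
      · intro e1
        calc _ = n i * ((n i)⁻¹ * y * n i * ((n i)⁻¹ * ι t * n i)) * (n i)⁻¹ := by group
          _ = _ := by rw [e1]; group
    refine (key hw).2 ?_
    by_cases e1 : s1 (pa e π pv) = s2 (pa e π pv)
    · exact k.wt0 _ (hw.pa e π) (wt e π e1 a b d) _ (mem_cj.1 h1)
    · rcases k.wt1 _ (hp.pa e π) e1 _ (mem_cj.1 h1) ((key hp).1 h2) with e2 | e2 <;> rw [e2]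
      · simp
      · exact (Jr k (k.toEJ.memJ (hw.pa e π))).symm

omit [Finite G] in
theorem pure (hu : ok false u) (ht : ty u = 54) (hY : (Nat.card Y).Coprime 3) (hr : ∀ g ∈ Y, g * r = r * g)
    (hn : J ⊓ U ≤ normalizer (Y : Set G)) (hc : Y ≤ centralizer {ι u}) : Y ≤ Sig J P r := by
  obtain ⟨g, h1, h2, h3⟩ := k.np u (hu.mono bg) ht
  have h4 : g * r = r * g := k.Lr _ (k.UL h1)
  have h5 : ∀ {t : X6}, ok false t → ι t ∈ normalizer ((cj g⁻¹ Y : Subgroup G) : Set G) := fun {t} h6 => by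
    rw [← cj_norm, mem_cj, inv_inv]
    exact hn ⟨conj_mem h2 (k.toEJ.memJ (h6.mono bg)),
      U.mul_mem (U.mul_mem h1 ((k.JU t (h6.mono bg)).2 h6)) (U.inv_mem h1)⟩
  have h6 := k.sigz (cj g⁻¹ Y) (by rwa [card_cj]) (fun x hx => ?_) (h5 (ok_vecs false).2.2.1)
    (h5 (ok_vecs false).2.2.2.2.1)
  · exact fun x hx => subset_closure ⟨g, ⟨h4, h2⟩, le_cj_iff.2 h6 hx⟩
  · rw [mem_cj, inv_inv] at hx
    have e1 := hr _ hx
    have e2 := mc.1 (hc hx)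
    rw [← h3] at e2
    constructor
    · calc x * r = g⁻¹ * (g * x * g⁻¹ * (g * r)) := by group
        _ = g⁻¹ * (g * x * g⁻¹ * r) * g := by rw [h4]; group
        _ = g⁻¹ * (r * g) * x := by rw [e1]; group
        _ = _ := by rw [← h4]; group
    · calc _ = g⁻¹ * (g * x * g⁻¹ * (g * ι zv * g⁻¹)) * g := by group
        _ = _ := by rw [e2]; group

theorem sig : ∀ (m : ℕ) (Y : Subgroup G), Nat.card Y = m → (Nat.card Y).Coprime 3 → (∀ g ∈ Y, g * r = r * g) →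
    J ⊓ U ≤ normalizer (Y : Set G) → Y ≤ Sig J P r := by
  intro m
  induction m using Nat.strong_induction_on with
  | _ m ih =>
  intro Y hm hY hr hn
  by_contra hc
  have hz := (ok_vecs false).1
  have mJ : ∀ {t : X6}, ok false t → ι t ∈ J ⊓ U := fun {t} h6 =>
    ⟨k.toEJ.memJ (h6.mono bg), (k.JU t (h6.mono bg)).2 h6⟩
  have key : ∀ i, ∃ a c : ZMod 3, ¬ Cst (a • zv + c • ws i) 0 ∧ Y ≤ centralizer {ι (a • zv + c • ws i)} := fun i => by
    by_contra! h1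
    have hw := (ws_ok i).1
    have p := k.toEJ.pr (hz.mono bg) (hw.mono bg) (by decide) (ws_ok i).2
    have := p.ea.1
    refine hc (le_of_forall_centralizer_le p.ncyc (sup_le (zpowers_le.2 (hn (mJ hz))) (zpowers_le.2 (hn (mJ hw))))
      (p.card ▸ hY.symm.pow_left 2) fun b hb b1 => ?_)
    obtain ⟨a, c, rfl⟩ := (k.toEJ.mem_sup (hz.mono bg) (hw.mono bg)).1 hb
    have h5 := ((hz.smul a).add (hw.smul c)).mono bg
    have h6 := h1 a c fun e => b1 (((k.toEJ.eq_iff h5 (ok_const bg 0)).2 e).trans k.toEJ.zero)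
    refine ih _ (hm ▸ ?_) _ rfl (hY.coprime_dvd_left (card_dvd_of_le inf_le_left)) (fun g hg => hr g hg.1)
      (le_norm_inf hn (le_norm_of_le fun g hg => mc.2 (k.toEJ.commJ hg.1 (k.toEJ.memJ h5))))
    refine lt_of_le_of_ne (card_le_of_le inf_le_left) fun e => h6 ?_
    rw [← eq_of_le_of_card_ge (inf_le_left (a := Y) (b := centralizer {ι (a • zv + c • ws i)})) e.ge]
    exact inf_le_right
  choose a c h1 h2 using key
  obtain ⟨α, β, γ, h3⟩ := comb (a 0) (c 0) (a 1) (c 1) (a 2) (c 2) (h1 0) (h1 1) (h1 2)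
  have h4 : ∀ i, ok false (a i • zv + c i • ws i) := fun i => (hz.smul _).add ((ws_ok i).1.smul _)
  refine hc (pure k ((((h4 0).smul α).add ((h4 1).smul β)).add ((h4 2).smul γ)) h3 hY hr hn fun y hy => mc.2 ?_)
  have h5 : ∀ i (l : ZMod 3), Commute y (ι (l • (a i • zv + c i • ws i))) := fun i l => by
    rw [k.toEJ.smul ((h4 i).mono bg)]
    exact zp_comm (mc.1 (h2 i hy)) l
  rw [k.toEJ.add _ _ ((((h4 0).smul α).add ((h4 1).smul β)).mono bg) (((h4 2).smul γ).mono bg),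
    k.toEJ.add _ _ (((h4 0).smul α).mono bg) (((h4 1).smul β).mono bg)]
  exact (((h5 0 α).mul_right (h5 1 β)).mul_right (h5 2 γ)).eq

end SGJ

open SGJ in
theorem sgThm : SGThm.{u} := by
  intro c G _ _ bg ι J L U P r k
  obtain ⟨n, hn⟩ := exn k
  have f := cpf k c hn
  have e := sig_eq k hn
  exact ⟨e ▸ f.extra, e ▸ f.card, e ▸ f.cen, e ▸ f.sq, e ▸ f.com, fun _ _ h h' => cm k h h',
    fun Y => sig k _ Y rfl, cw k c⟩

end CL.E63
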