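/-
Recognition of `Fi₂₂` from a 3-centraliser (S3368), 3-local part: the 3-elements of `C(z)` modulo `Q`.
-/
import Cfsg.Agent.Rec.F3Base2

set_option autoImplicit false

namespace CL.F3

open Subgroup Cfsg CL.Grp CL.G23 CL.Even Equiv
open CL.U63 hiding Mt Mq MS P1Thm WCThm
open scoped Matrix

universe u

namespace W0a

theorem m_tr : ∀ A : M2, A ^ 3 = 1 → A ≠ 1 → ∀ x : M2, x.det = 1 → x ^ 4 = 1 →
    1 = x * (A * x * A ^ 2) * (A * (A * x * A ^ 2) * A ^ 2) ∨ 1 = -(x * (A * x * A ^ 2) * (A * (A * x * A ^ 2) * A ^ 2)) := by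
  simp only [Matrix.det_fin_two]
  decide +kernel

theorem m_lab : ∀ U : M2, U ^ 3 = 1 → U ≠ 1 → ∀ B : M2, B ^ 3 = 1 → B * U = U * B → ∃ i : Fin 3, B = U ^ i.1 := by
  decide +kernel

theorem p_lab : ∀ U : P3, U ^ 3 = 1 → U ≠ 1 → ∀ B : P3, B ^ 3 = 1 → B * U = U * B → ∃ i : Fin 3, B = U ^ i.1 := by
  decide +kernel

set_option synthInstance.maxSize 2000 in
theorem p_gam : ∀ α β : P3, α ≠ 1 → β ≠ 1 → α * α = 1 → β * β = 1 → α * β = β * α → α * β = 1 := by decide +kernel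

theorem m_com : ∀ A : M2, A ^ 3 = 1 → ∀ B : M2, B ^ 3 = 1 → (A * B * A ^ 2 * B ^ 2) ^ 3 = 1 → A * B * A ^ 2 * B ^ 2 = 1 := by
  decide +kernel

theorem m_l1 : ∀ S : M2, S * S = 1 → S.det = 1 → ∀ B : M2, B ^ 3 = 1 → S * B = B ^ 2 * S → B = 1 := by
  simp only [Matrix.det_fin_two]
  decide +kernel

theorem lab {M V : Type} [Monoid M] (H : ∀ U : M, U ^ 3 = 1 → U ≠ 1 → ∀ B : M, B ^ 3 = 1 → B * U = U * B →
    ∃ i : Fin 3, B = U ^ i.1) {f : V → M} (h3 : ∀ x, f x ^ 3 = 1) (hc : ∀ x y, f x * f y = f y * f x) :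
    ∃ l : V → Fin 3, ∀ x y, l x = l y → f x = f y := by
  by_cases e : ∀ x, f x = 1
  · exact ⟨fun _ => 0, fun x y _ => by rw [e, e]⟩
  obtain ⟨u, hu⟩ := not_forall.1 e
  choose l hl using fun x => H _ (h3 u) hu _ (h3 x) (hc x u)
  exact ⟨l, fun x y e => by rw [hl x, hl y, e]⟩

variable {G : Type u} [Group G] {z t c g g' a b w : G} {κ : W6 → G} {R : Subgroup G} {r : Fin 3 → G} {π : P3}
  {A B D X Y : A3}

/-- the matrices of the elements of `R` -/
def XR (κ : W6 → G) (R : Subgroup G) : Submonoid A3 where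
  carrier := {A | ∃ τ ∈ R, Mt κ τ 1 A}
  one_mem' := ⟨1, one_mem _, Mt.one κ⟩
  mul_mem' := fun ⟨_, a, b⟩ ⟨_, c, d⟩ => ⟨_, mul_mem a c, b.mul' d⟩

noncomputable def pm (z : G) (κ : W6 → G) (g : G) : P3 × A3 := Classical.epsilon fun x : P3 × A3 => Mq z κ g x.1 x.2

theorem cube_mul (a3 : a ^ 3 = 1) (b3 : b ^ 3 = 1) (w3 : w ^ 3 = 1) (e : a * b = w * b * a) (h1 : w * a = a * w)
    (h2 : w * b = b * w) : (b * a) ^ 3 = 1 := by
  have e1 : ∀ x, a * (b * x) = w * (b * (a * x)) := fun x => by rw [← mul_assoc, e]; group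
  have e2 : ∀ x, a * (w * x) = w * (a * x) := fun x => by rw [← mul_assoc, ← h1, mul_assoc]
  have e3 : ∀ x, b * (w * x) = w * (b * x) := fun x => by rw [← mul_assoc, ← h2, mul_assoc]
  have : (b * a) ^ 3 = w ^ 3 * b ^ 3 * a ^ 3 := by simp only [pow_succ, pow_zero, one_mul, mul_assoc, e1, e2, e3]
  rw [this, a3, b3, w3, mul_one, mul_one]

variable (h : MS z t κ R r)
include h

theorem xq (hX : X ∈ XR κ R) (i : Fin 3) : Q8m (X i) := by
  obtain ⟨τ, h1, h2⟩ := hX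
  obtain ⟨A, h3, h4⟩ := h.Ract τ h1
  exact (h.mq_uniq (fun i => by rw [(h3 i).1]; decide) (h4.mq z) (h2.mq z)).2 ▸ h3 i

theorem xcard : Nat.card (XR κ R) = 128 := by
  choose f f1 f2 using h.Ract
  rw [← h.Rcard]
  exact (Nat.card_congr (Equiv.ofBijective (fun τ : R => (⟨f τ τ.2, τ, τ.2, f2 _ _⟩ : XR κ R))
    ⟨fun a b e => Subtype.ext (h.R_inj a.2 b.2 (f2 _ _) ((show f b b.2 = f a a.2 from (congrArg Subtype.val e).symm) ▸ f2 _ _)),
      fun ⟨X, τ, h1, h2⟩ => ⟨⟨τ, h1⟩, Subtype.ext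
        (h.mq_uniq (fun i => by rw [(f1 _ _ i).1]; decide) ((f2 _ _).mq z) (h2.mq z)).2⟩⟩)).symm

theorem xconj (hz : c * z = z * c) (m : Mt κ c π B) (hD : B * D = 1) (hX : X ∈ XR κ R) : B * tw π X * D ∈ XR κ R := by
  have q := xq h hX
  obtain ⟨τ, h1, h2⟩ := hX
  have e : tw π (tw π⁻¹ D) = D := by rw [tw_tw, mul_inv_cancel, tw_one]
  have := (m.mul h2).mul (m.inv (A' := tw π⁻¹ D) (by rw [e, hD]))
  rw [mul_one, mul_inv_cancel, e] at this
  exact h.Rmax _ _ (Commute.mul_left (Commute.mul_left hz (h.Rz τ h1)) (Commute.inv_left hz)).eq this fun i =>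
    q8_conj (q _) (mul_eq_one_comm.1 (congrFun hD i)) (congrFun hD i)

theorem xfix (hY : Y ∈ XR κ R) (e : ∀ i, X i = Y i ∨ X i = -Y i) : X ∈ XR κ R := by
  have s : ∀ i, (fun j => if j = i ∧ X i ≠ Y i then -1 else 1) ∈ XR κ R := fun i => by
    by_cases k : X i = Y i
    · simp only [k, ne_eq, not_true, and_false, if_false]; exact one_mem _
    · simp only [k, ne_eq, not_false_iff, and_true]; exact ⟨_, h.rR i, h.ra i⟩
  convert mul_mem hY (mul_mem (mul_mem (s 0) (s 1)) (s 2)) using 1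
  funext i
  by_cases k : X i = Y i
  · fin_cases i <;> simp_all
  · have := (e i).resolve_left k
    fin_cases i <;> simp_all

theorem xsplit (hz : c * z = z * c) (m : Mt κ c 1 A) (h3 : ∀ i, A i ^ 3 = 1) {j k : Fin 3} (hj : A j = 1) (hk : A k ≠ 1) :
    ∃ n, ∀ X ∈ XR κ R, Pi.mulSingle n (X n) ∈ XR κ R := by
  have hD : A * A ^ 2 = 1 := by rw [← pow_succ']; exact funext h3
  have k1 : ∀ X ∈ XR κ R, ∃ Y ∈ XR κ R, ∀ i, (A i = 1 → Y i = X i ^ 3) ∧ (A i ≠ 1 → 1 = Y i ∨ 1 = -Y i) := fun X hX =>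
    ⟨_, mul_mem (mul_mem hX (xconj h hz m hD hX)) (xconj h hz m hD (xconj h hz m hD hX)), fun i =>
      ⟨fun e => by simp [tw_one, e, pow_succ], fun e => m_tr _ (h3 i) e _ (xq h hX i).1 (xq h hX i).2⟩⟩
  by_cases e : ∀ i, i ≠ j → A i ≠ 1
  · refine ⟨j, fun X hX => ?_⟩
    obtain ⟨Y, y1, y2⟩ := k1 _ (pow_mem hX 3)
    refine xfix h y1 fun i => ?_
    by_cases k : i = j
    · subst k
      rw [Pi.mulSingle_eq_same, (y2 i).1 hj, Pi.pow_apply, ← pow_mul, show 3 * 3 = 4 * 2 + 1 from rfl, pow_succ, pow_mul,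
        (xq h hX i).2, one_pow, one_mul]
      exact .inl rfl
    · rw [Pi.mulSingle_eq_of_ne k]
      exact (y2 i).2 (e i k)
  push Not at e
  obtain ⟨j', e1, e2⟩ := e
  refine ⟨k, fun X hX => ?_⟩
  obtain ⟨Y, y1, y2⟩ := k1 _ hX
  refine xfix h (mul_mem hX y1) fun i => ?_
  rw [Pi.mul_apply]
  by_cases l : i = k
  · subst l
    rw [Pi.mulSingle_eq_same, ← mul_neg]
    exact ((y2 i).2 hk).imp (fun e => by rw [← e, mul_one]) fun e => by rw [← e, mul_one]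
  · have : i = j ∨ i = j' := by
      have : k ≠ j := fun e => hk (e ▸ hj)
      have : k ≠ j' := fun e => hk (e ▸ e2)
      omega
    rw [Pi.mulSingle_eq_of_ne l, (y2 i).1 (this.elim (· ▸ hj) (· ▸ e2)), ← pow_succ', (xq h hX i).2]
    exact .inl rfl

variable [Finite G]

theorem dfact (cy : Cyc z κ) {j : Fin 3} (hg : g * z = z * g) (m : Mq z κ g 1 A) (h3 : ∀ i, A i ^ 3 = 1) (hj : A j = 1) :
    InQ z κ g := by
  by_cases e : A = 1
  · exact h.triv_q hg (e ▸ m)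
  obtain ⟨k, hk⟩ := Function.ne_iff.1 e
  obtain ⟨-, c, -, -, hz, m⟩ := h.nfq hg m
  obtain ⟨n, hn⟩ := xsplit h hz m h3 hj hk
  obtain ⟨s, π, S, s1, s2, s3, s4⟩ := cy
  choose D d1 d2 _ using fun i => m_inv (S i) (by rw [h.det_one s1 s2]; decide)
  obtain ⟨-, s, -, -, s1, s2⟩ := h.nfq s1 s2
  have a1 : ∀ n x, Pi.mulSingle n x ∈ XR κ R → Pi.mulSingle (π n) (S (π n) * x * D (π n)) ∈ XR κ R := fun n x hx => by
    convert xconj h s1 s2 (funext d1) hx using 1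
    funext i
    obtain ⟨i, rfl⟩ := π.surjective i
    by_cases k : i = n <;> simp [tw, k, d1]
  have a2 : ∀ m : ℕ, ∀ X ∈ XR κ R, Pi.mulSingle ((π ^ m) n) (X ((π ^ m) n)) ∈ XR κ R := fun m => by
    induction m with
    | zero => exact hn
    | succ m ih =>
      intro X hX
      have := a1 _ _ (ih _ (xconj h (Commute.inv_left s1).eq (s2.inv (A' := tw π⁻¹ D) (by
        rw [tw_tw, mul_inv_cancel, tw_one]; exact funext d1)) (D := tw π⁻¹ S) (funext fun i => d2 _) hX))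
      simpa [tw, pow_succ', ← mul_assoc, d1, mul_assoc _ (S _) (D _)] using this
  let f := fun i : Fin 3 => {x : M2 // Pi.mulSingle i x ∈ XR κ R}
  have a3 : ∀ m : ℕ, ∀ i, Nat.card (f i) ≤ Nat.card (f ((π ^ m) i)) := fun m i => by
    induction m with
    | zero => exact le_rfl
    | succ m ih =>
      rw [pow_succ', Perm.mul_apply]
      refine ih.trans (Nat.card_le_card_of_injective (fun x => ⟨_, a1 _ _ x.2⟩) fun x y e => Subtype.ext ?_)
      have := congrArg (fun u : f _ => D (π ((π ^ m) i)) * u.1 * S (π ((π ^ m) i))) e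
      simpa only [← mul_assoc, d2, one_mul, mul_assoc _ (D _) (S _), mul_one] using this
  have a4 : ∀ i j, Nat.card (f i) ≤ Nat.card (f j) := fun i j => by
    obtain ⟨m, -, rfl⟩ := p3_trans π s3 s4 i j
    exact a3 m i
  have a5 := Nat.card_congr (α := XR κ R) (β := ∀ i, f i)
    { toFun X i := ⟨X.1 i, by obtain ⟨m, -, rfl⟩ := p3_trans π s3 s4 n i; exact a2 m _ X.2⟩
      invFun x := ⟨fun i => (x i).1, by
        convert mul_mem (mul_mem (x 0).2 (x 1).2) (x 2).2 using 1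
        funext i; fin_cases i <;> simp⟩
      left_inv _ := rfl
      right_inv _ := rfl }
  rw [xcard h, Nat.card_pi, Fin.prod_univ_three, le_antisymm (a4 1 0) (a4 0 1), le_antisymm (a4 2 0) (a4 0 2)] at a5
  generalize Nat.card (f 0) = N at a5
  rcases le_or_gt N 5 with k | k
  · interval_cases N <;> omega
  · have := Nat.mul_le_mul (Nat.mul_le_mul k k) k
    omega

theorem pm_spec (hg : g * z = z * g) : Mq z κ g (pm z κ g).1 (pm z κ g).2 := by
  obtain ⟨-, -, π, A, -, -, -, -, -, m⟩ := h.nfc hg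
  exact Classical.epsilon_spec (p := fun x : P3 × A3 => Mq z κ g x.1 x.2) ⟨(π, A), m⟩

theorem pm_mul (hg : g * z = z * g) (hg' : g' * z = z * g') : (pm z κ (g * g')).1 = (pm z κ g).1 * (pm z κ g').1 ∧
    (pm z κ (g * g')).2 = (pm z κ g).2 * tw (pm z κ g).1 (pm z κ g').2 :=
  have c := (Commute.mul_left hg hg').eq
  h.uniq c (pm_spec h c) ((pm_spec h hg).mulc h.z3 hg (pm_spec h hg'))

theorem base (cy : ¬ Cyc z κ) (ha : T3 z a) : (pm z κ a).1 = 1 :=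
  by_contra fun e => cy ⟨a, _, _, ha.1, pm_spec h ha.1, e, (h.three' ha (pm_spec h ha.1)).1⟩

/-- the pigeonhole principle for an elementary abelian group -/
theorem pig {V L ι : Type} [AddCommGroup V] [Fintype V] [Fintype L] [Fintype ι] [DecidableEq ι] {E : V → G}
    (hE : ∀ x y, E (x + y) = E x * E y) (h3 : ∀ x, T3 z (E x)) (l : V → L)
    (hl : ∀ x y, l x = l y → (pm z κ (E x)).1 = (pm z κ (E y)).1) (I : ι → Fin 3)
    (hc : Fintype.card L * 3 ^ Fintype.card ι < Fintype.card V) :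
    ∃ x ≠ 0, ∃ A, Mq z κ (E x) 1 A ∧ (∀ i, A i ^ 3 = 1) ∧ ∀ i, A (I i) = 1 := by
  have mul := fun x y => hE x y ▸ pm_mul h (h3 x).1 (h3 y).1
  have sub : ∀ x y, (pm z κ (E x)).1 = (pm z κ (E y)).1 → (pm z κ (E (x - y))).1 = 1 := fun x y e => by
    have := (mul (x - y) y).1
    rwa [sub_add_cancel, e, right_eq_mul] at this
  let s := fun x => x - Function.invFun l (l x)
  have s1 : ∀ x, (pm z κ (E (s x))).1 = 1 := fun x => sub _ _ (hl _ _ (Function.invFun_eq ⟨x, rfl⟩).symm)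
  choose l' hl' using fun i => lab m_lab (f := fun x => (pm z κ (E (s x))).2 (I i))
    (fun x => (h.three' (h3 _) (pm_spec h (h3 _).1)).2 (s1 x) _) fun x y => by
      have e := (mul (s x) (s y)).2
      rw [add_comm, (mul (s y) (s x)).2, s1, s1] at e
      exact (congrFun e _).symm
  obtain ⟨x, y, n, e⟩ := Fintype.exists_ne_map_eq_of_card_lt (fun x => (l x, fun i => l' i x)) (by simpa using hc)
  obtain ⟨e1, e2⟩ := Prod.mk.inj e
  have p := sub x y (hl x y e1)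
  have m := pm_spec h (h3 (x - y)).1
  refine ⟨x - y, sub_ne_zero.2 n, _, p ▸ m, (h.three' (h3 _) m).2 p, fun i => ?_⟩
  have k := congrFun (mul (x - y) (s y)).2 (I i)
  obtain ⟨D, d, -⟩ := m_inv _ (by rw [h.det_one (h3 (s y)).1 (pm_spec h (h3 _).1) (I i)]; decide)
  rw [show x - y + s y = s x by simp [s, e1], hl' i x y (congrFun e2 i), p] at k
  simpa [tw_one, mul_assoc, d] using (congrArg (· * D) k).symm

omit h [Finite G] in
theorem t3_zp (ha : T3 z a) (i : ZMod 3) : T3 z (zp a i) := ⟨(zp_comm ha.1.symm i).symm, zp_cube ha.2 i⟩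

omit h [Finite G] in
theorem t3_mul (ha : T3 z a) (hb : T3 z b) (e : Commute a b) : T3 z (a * b) :=
  ⟨(Commute.mul_left ha.1 hb.1).eq, by rw [e.mul_pow, ha.2, hb.2, mul_one]⟩

omit h [Finite G] in
theorem czp (e : a * b = b * a) (i j : ZMod 3) : Commute (zp a i) (zp b j) := Commute.pow_pow e _ _

omit h [Finite G] in
/-- one more generator -/
theorem ext {V : Type} [Add V] {E : V → G} (hE : (∀ x y, E (x + y) = E x * E y) ∧ ∀ x, T3 z (E x)) (ha : T3 z a)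
    (hc : ∀ x k, Commute (E x) (zp a k)) : (∀ x y : V × ZMod 3, E (x + y).1 * zp a (x + y).2 =
      E x.1 * zp a x.2 * (E y.1 * zp a y.2)) ∧ ∀ x : V × ZMod 3, T3 z (E x.1 * zp a x.2) :=
  ⟨fun x y => by rw [Prod.fst_add, Prod.snd_add, hE.1, zp_add ha.2, (hc y.1 x.2).mul_mul_mul_comm],
    fun x => t3_mul (hE.2 _) (t3_zp ha _) (hc _ _)⟩

omit h [Finite G] in
theorem ext2 (ha : T3 z a) (hb : T3 z b) (e : a * b = b * a) : (∀ x y : ZMod 3 × ZMod 3, zp a (x + y).1 * zp b (x + y).2 =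
    zp a x.1 * zp b x.2 * (zp a y.1 * zp b y.2)) ∧ ∀ x : ZMod 3 × ZMod 3, T3 z (zp a x.1 * zp b x.2) :=
  ext ⟨zp_add ha.2, t3_zp ha⟩ hb (czp e)

theorem triv (hg : g * z = z * g) (m : Mq z κ g 1 A) (e : ∀ i, A i = 1) : InQ z κ g :=
  h.triv_q hg ((funext e : A = 1) ▸ m)

omit [Finite G] in
theorem inQ_of_zp (w3 : w ^ 3 = 1) {j : ZMod 3} (hj : j ≠ 0) (e : InQ z κ (zp w j)) : InQ z κ w := by
  have : InQ z κ (zp (zp w j) j) := h.QQ.pow_mem e _
  rwa [zp_zp w3, (by decide : ∀ j : ZMod 3, j ≠ 0 → j * j = 1) j hj, zp_one] at this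

theorem f1c (ha : T3 z a) (hw : T3 z w) (p1 : (pm z κ a).1 ≠ 1) (p2 : (pm z κ w).1 = 1) (h1 : w * a = a * w)
    (hb : T3 z b) (e : a * b = w * b * a) (h2 : w * b = b * w) : InQ z κ w := by
  have a3 := (h.three' ha (pm_spec h ha.1)).1
  have k : ∀ m : ℕ, ∃ b', T3 z b' ∧ a * b' = w * b' * a ∧ w * b' = b' * w ∧
      (pm z κ b').1 = (pm z κ b).1 * (pm z κ a).1 ^ m := fun m => by
    induction m with
    | zero => exact ⟨b, hb, e, h2, by simp⟩
    | succ m ih =>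
      obtain ⟨b', b1, b2, b3, b4⟩ := ih
      exact ⟨b' * a, ⟨(Commute.mul_left b1.1 ha.1).eq, cube_mul ha.2 b1.2 hw.2 b2 h1 b3⟩, by rw [← mul_assoc, b2]; group,
        (Commute.mul_right b3 h1).eq, by rw [(pm_mul h b1.1 ha.1).1, b4, pow_succ, mul_assoc]⟩
  obtain ⟨m, hm⟩ := (by decide : ∀ α β : P3, α ≠ 1 → α ^ 3 = 1 → β ^ 3 = 1 → ∃ m : Fin 3, β * α ^ m.1 = 1) _ _ p1 a3
    (h.three' hb (pm_spec h hb.1)).1
  obtain ⟨b, hb, e, h2, p3⟩ := k m
  have p : ∀ {x}, T3 z x → (pm z κ x).1 = 1 → ∀ i, (pm z κ (zp x i)).1 = 1 := fun {x} hx p i =>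
    (h.uniq (t3_zp hx i).1 (pm_spec h (t3_zp hx i).1) ((p ▸ pm_spec h hx.1).pow h.z3 hx.1 _)).1
  obtain ⟨E1, E2⟩ := ext2 hw hb h2
  obtain ⟨x, x0, A, m, A3, A1⟩ := pig h E1 E2 (fun _ => ()) (fun x y _ => by
    simp only [(pm_mul h (t3_zp hw _).1 (t3_zp hb _).1).1, p hw p2, p hb (p3.trans hm)]) (fun _ : Unit => 0) (by simp)
  have q := dfact h ⟨a, _, _, ha.1, pm_spec h ha.1, p1, a3⟩ (E2 x).1 m A3 (A1 ())
  by_cases j : x.2 = 0
  · rw [j, zp_zero, mul_one] at q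
    exact inQ_of_zp h hw.2 (fun i => x0 (Prod.ext i j)) q
  have := h.inQ_mul (h.inQ_normc ha.1 q) (h.inQ_inv q)
  rw [← conj_mul, zp_comm h1.symm, mul_inv_cancel_right, zp_cj, e, mul_inv_cancel_right, zp.eq_1 (w * b),
    Commute.mul_pow h2, ← zp, ← zp, ← mul_assoc, (czp rfl _ _).eq, mul_assoc (zp w x.2), mul_inv_cancel_right] at this
  exact inQ_of_zp h hw.2 j this

theorem f1 (ha : T3 z a) (hb : T3 z b) (e : w = a * b * a⁻¹ * b⁻¹) (h1 : w * a = a * w) (h2 : w * b = b * w) :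
    InQ z κ w := by
  have i : ∀ {x : G}, x ^ 3 = 1 → x⁻¹ = x ^ 2 := fun e => inv_eq_of_mul_eq_one_right (by rw [← pow_succ', e])
  have e1 : a * b = w * b * a := by rw [e]; group
  have hw : T3 z w := ⟨e ▸ (((Commute.mul_left ha.1 hb.1).mul_left (Commute.inv_left ha.1)).mul_left
    (Commute.inv_left hb.1)).eq, by
      have : (a * b * a⁻¹) ^ 3 = 1 := by rw [conj_pow, hb.2]; group
      rwa [e1, mul_inv_cancel_right, Commute.mul_pow h2, hb.2, mul_one] at this⟩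
  have ma := pm_spec h ha.1
  have mb := pm_spec h hb.1
  have mw := pm_spec h hw.1
  have p : (pm z κ w).1 = 1 := by
    have := congrArg (fun x => (pm z κ x).1) e1
    simp only [(pm_mul h ha.1 hb.1).1, (pm_mul h (Commute.mul_left hw.1 hb.1).eq ha.1).1, (pm_mul h hw.1 hb.1).1] at this
    exact (by decide : ∀ α β γ : P3, α ^ 3 = 1 → β ^ 3 = 1 → α * β = γ * β * α → γ = 1) _ _ _ (h.three' ha ma).1
      (h.three' hb mb).1 this
  by_cases pa : (pm z κ a).1 = 1; swap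
  · exact f1c h ha hw pa p h1 hb e1 h2
  by_cases pb : (pm z κ b).1 = 1; swap
  · refine inv_inv w ▸ h.inQ_inv (f1c h hb ⟨(Commute.inv_left hw.1).eq, by rw [inv_pow, hw.2, inv_one]⟩ pb ?_
      (Commute.inv_left h2).eq ha (by rw [mul_assoc, e1]; group) (Commute.inv_left h1).eq)
    exact (h.uniq (Commute.inv_left hw.1).eq (pm_spec h (Commute.inv_left hw.1).eq)
      (by rw [i hw.2]; exact (p ▸ mw).pow h.z3 hw.1 2)).1
  have a3 := (h.three' ha ma).2 pa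
  have b3 := (h.three' hb mb).2 pb
  rw [pa] at ma
  rw [pb] at mb
  have c := Commute.mul_left ha.1 hb.1
  have m := ((ma.mul' h.z3 ha.1 mb).mul' h.z3 c (ma.pow h.z3 ha.1 2)).mul' h.z3
    (c.mul_left (Commute.pow_left ha.1 2)) (mb.pow h.z3 hb.1 2)
  rw [← i ha.2, ← i hb.2, ← e] at m
  exact triv h hw.1 m fun i => m_com _ (a3 i) _ (b3 i) ((h.three' hw m).2 rfl i)

theorem l1 {ρ : G} (hρ : ρ * z = z * ρ) (h2 : ρ * ρ = 1) (m : Mq z κ ρ 1 A) (ha : T3 z a) (e : ρ * a * ρ⁻¹ = a⁻¹) :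
    InQ z κ a := by
  have ma := pm_spec h ha.1
  rw [mul_inv_eq_iff_eq_mul, inv_eq_of_mul_eq_one_right (by rw [← sq, ← pow_succ', ha.2] : a * (a * a) = 1)] at e
  have k := h.uniq (Commute.mul_left hρ ha.1).eq (m.mulc h.z3 hρ ma)
    (e ▸ (ma.mulc h.z3 ha.1 ma).mulc h.z3 (Commute.mul_left ha.1 ha.1).eq m)
  have p : (pm z κ a).1 = 1 := by simpa using k.1
  have a3 := (h.three' ha ma).2 p
  rw [p] at ma k
  have s := (h.mq_one ((Mt.one κ).mq z) (h2 ▸ m.mul' h.z3 hρ m)).2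
  exact triv h ha.1 ma fun i => m_l1 _ (congrFun s i) (h.det_one hρ m i) _ (a3 i) (by rw [sq]; exact congrFun k.2 i)

end W0a

open W0a in
theorem w0Thm : W0Thm.{u} := by
  intro G _ _ z t κ R r h
  have e3 := fun {a b c : G} (ha : T3 z a) (hb : T3 z b) (hc : T3 z c) (ab : a * b = b * a) (ac : a * c = c * a)
    (bc : b * c = c * b) => ext (ext2 ha hb ab) hc fun x k => (czp ac _ _).mul_left (czp bc _ _)
  have f2a : Cyc z κ → ∀ a b c, T3 z a → T3 z b → T3 z c → a * b = b * a → a * c = c * a → b * c = c * b →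
      ∃ i j k : ZMod 3, ¬ (i = 0 ∧ j = 0 ∧ k = 0) ∧ InQ z κ (zp a i * zp b j * zp c k) := fun cy a b c ha hb hc ab ac bc => by
    obtain ⟨E1, E2⟩ := e3 ha hb hc ab ac bc
    obtain ⟨l, hl⟩ := lab p_lab (fun x => (h.three' (E2 x) (pm_spec h (E2 x).1)).1) fun x y => by
      rw [← (pm_mul h (E2 x).1 (E2 y).1).1, ← (pm_mul h (E2 y).1 (E2 x).1).1, ← E1, ← E1, add_comm]
    obtain ⟨x, x0, A, m, A3, A1⟩ := pig h E1 E2 l hl (fun _ : Unit => 0) (by simp)
    exact ⟨_, _, _, fun e => x0 (Prod.ext (Prod.ext e.1 e.2.1) e.2.2), dfact h cy (E2 x).1 m A3 (A1 ())⟩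
  refine ⟨fun cy g A j => dfact h cy, fun a b w => f1 h, f2a, fun a b c d ha hb hc hd ab ac bc ad bd cd => ?_,
    fun cy a b c ha hb hc ab ac bc n => ?_, fun ρ a A => l1 h, fun ρ ρ' a a' z1 z2 s1 s2 c ha ha' e1 e2 e3 => ?_⟩
  · by_cases cy : Cyc z κ
    · obtain ⟨i, j, k, n, q⟩ := f2a cy a b c ha hb hc ab ac bc
      exact ⟨i, j, k, 0, fun e => n ⟨e.1, e.2.1, e.2.2.1⟩, by rwa [zp_zero, mul_one]⟩
    obtain ⟨E1, E2⟩ := ext (E := fun x : (_ × _) × _ => zp a x.1.1 * zp b x.1.2 * zp c x.2) (e3 ha hb hc ab ac bc) hd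
      fun x k => ((czp ad _ _).mul_left (czp bd _ _)).mul_left (czp cd _ _)
    obtain ⟨x, x0, A, m, -, A1⟩ := pig h E1 E2 (fun _ => ()) (fun x y _ => by rw [base h cy (E2 x), base h cy (E2 y)])
      id (by simp)
    exact ⟨_, _, _, _, fun e => x0 (Prod.ext (Prod.ext (Prod.ext e.1 e.2.1) e.2.2.1) e.2.2.2),
      triv h (E2 x).1 m A1⟩
  · obtain ⟨E1, E2⟩ := e3 ha hb hc ab ac bc
    obtain ⟨x, x0, A, m, -, A1⟩ := pig h E1 E2 (fun _ => ()) (fun x y _ => by rw [base h cy (E2 x), base h cy (E2 y)])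
      n.succAbove (by simp)
    exact ⟨_, _, _, fun e => x0 (Prod.ext (Prod.ext e.1 e.2.1) e.2.2), A, m, fun i hi =>
      let ⟨j, e⟩ := Fin.exists_succAbove_eq hi; e ▸ A1 j⟩
  · by_cases p : (pm z κ ρ).1 = 1
    · exact .inl (l1 h z1 s1 (p ▸ pm_spec h z1) ha e1)
    by_cases p' : (pm z κ ρ').1 = 1
    · exact .inr (l1 h z2 s2 (p' ▸ pm_spec h z2) ha' e3)
    have o : (pm z κ 1).1 = 1 := (h.mq_one ((Mt.one κ).mq z) (pm_spec h (by simp))).1
    have z3 := (Commute.mul_left z1 z2).eq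
    have q := (pm_mul h z1 z2).1.trans (p_gam _ _ p p' (by rw [← (pm_mul h z1 z1).1, s1, o]) (by rw [← (pm_mul h z2 z2).1, s2, o])
      (by rw [← (pm_mul h z1 z2).1, ← (pm_mul h z2 z1).1, c]))
    refine .inl (l1 h z3 (by rw [Commute.mul_mul_mul_comm c.symm, s1, s2, mul_one]) (q ▸ pm_spec h z3) ha ?_)
    rw [← e1, mul_assoc ρ, e2]; group

end CL.F3
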