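/-
Recognition of `²E₆(2)` from a 3-centraliser (S3337): the 3-elements of `C(z)` modulo `Q`.
-/
import Cfsg.Agent.Rec.E63Fd
import Cfsg.Agent.Rec.F3W0

set_option autoImplicit false

namespace CL.E63

open Subgroup Cfsg CL.Grp CL.G23 CL.Even Equiv
open CL.U63 hiding Mt Mq MS P1Thm WCThm
open CL.F3 hiding MB MS0 MS PM P1Thm PKThm P2Thm W0 Pr2 YM W0Thm WAThm WCThm WBThm WGThm Y1Thm YAThm YBThm YCThm w0Thm
open CL.F3.W0a (m_lab p_lab p_gam m_com m_l1 lab pm cube_mul t3_zp t3_mul czp ext ext2)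
open scoped Matrix

universe u

namespace W0J

variable {G : Type u} [Group G] {z t c g g' a b w s n : G} {κ : W6 → G} {R : Subgroup G} {r : Fin 3 → G} {π : P3}
  {A B : A3}

theorem cub (a3 : a ^ 3 = 1) (b3 : b ^ 3 = 1) (w3 : w ^ 3 = 1) (e : a * b = w * b * a) (h1 : w * a = a * w)
    (h2 : w * b = b * w) : ∀ m : ℕ, (a * b ^ m) ^ 3 = 1
  | 0 => by simpa using a3
  | m + 1 => by
    rw [pow_succ b, ← mul_assoc]
    refine cube_mul b3 (cub a3 b3 w3 e h1 h2 m) (w := w⁻¹) (by rw [inv_pow, w3, inv_one]) ?_ (Commute.inv_left h2).eq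
      (Commute.inv_left (Commute.mul_right h1 (Commute.pow_right h2 m))).eq
    rw [mul_assoc, mul_assoc, ← pow_succ, pow_succ', ← mul_assoc a, e]; group

variable [Finite G] (h : MS z t κ R r)
include h

theorem pm_spec (hg : g * z = z * g) : Mq z κ g (pm z κ g).1 (pm z κ g).2 := by
  obtain ⟨-, -, π, A, -, -, -, -, -, m⟩ := h.nfc hg
  exact Classical.epsilon_spec (p := fun x : P3 × A3 => Mq z κ g x.1 x.2) ⟨(π, A), m⟩

theorem pm_mul (hg : g * z = z * g) (hg' : g' * z = z * g') : (pm z κ (g * g')).1 = (pm z κ g).1 * (pm z κ g').1 ∧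
    (pm z κ (g * g')).2 = (pm z κ g).2 * tw (pm z κ g).1 (pm z κ g').2 :=
  have c := (Commute.mul_left hg hg').eq
  h.uniq c (pm_spec h c) ((pm_spec h hg).mulc h.z3 hg (pm_spec h hg'))

/-- the pigeonhole principle for an elementary abelian group -/
theorem pig {V L ι : Type} [AddCommGroup V] [Fintype V] [Fintype L] [Fintype ι] [DecidableEq ι] {E : V → G}
    (hE : ∀ x y, E (x + y) = E x * E y) (h3 : ∀ x, T3 z (E x)) (l : V → L)
    (hl : ∀ x y, l x = l y → (pm z κ (E x)).1 = (pm z κ (E y)).1) (I : ι → Fin 3)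
    (hc : Fintype.card L * 3 ^ Fintype.card ι < Fintype.card V) :
    ∃ x ≠ 0, ∃ A, Mq z κ (E x) 1 A ∧ (∀ i, A i ^ 3 = 1) ∧ ∀ i, A (I i) = 1 := by
  have mul := fun x y => hE x y ▸ pm_mul h (h3 x).1 (h3 y).1
  have sub : ∀ x y, (pm z κ (E x)).1 = (pm z κ (E y)).1 → (pm z κ (E (x - y))).1 = 1 := fun x y e => by
    have := (mul (x - y) y).1
    rwa [sub_add_cancel, e, right_eq_mul] at this
  let s := fun x => x - Function.invFun l (l x)
  have s1 : ∀ x, (pm z κ (E (s x))).1 = 1 := fun x => sub _ _ (hl _ _ (Function.invFun_eq ⟨x, rfl⟩).symm)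
  choose l' hl' using fun i => lab m_lab (f := fun x => (pm z κ (E (s x))).2 (I i))
    (fun x => (h.three' (h3 _) (pm_spec h (h3 _).1)).2 (s1 x) _) fun x y => by
      have e := (mul (s x) (s y)).2
      rw [add_comm, (mul (s y) (s x)).2, s1, s1] at e
      exact (congrFun e _).symm
  obtain ⟨x, y, n, e⟩ := Fintype.exists_ne_map_eq_of_card_lt (fun x => (l x, fun i => l' i x)) (by simpa using hc)
  obtain ⟨e1, e2⟩ := Prod.mk.inj e
  have p := sub x y (hl x y e1)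
  have m := pm_spec h (h3 (x - y)).1
  refine ⟨x - y, sub_ne_zero.2 n, _, p ▸ m, (h.three' (h3 _) m).2 p, fun i => ?_⟩
  have k := congrFun (mul (x - y) (s y)).2 (I i)
  obtain ⟨D, d, -⟩ := m_inv _ (by rw [h.det_one (h3 (s y)).1 (pm_spec h (h3 _).1) (I i)]; decide)
  rw [show x - y + s y = s x by simp [s, e1], hl' i x y (congrFun e2 i), p] at k
  simpa [tw_one, mul_assoc, d] using (congrArg (· * D) k).symm

theorem triv (hg : g * z = z * g) (m : Mq z κ g 1 A) (e : ∀ i, A i = 1) : InQ z κ g :=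
  h.triv_q hg ((funext e : A = 1) ▸ m)

omit [Finite G] in
theorem inQ_of_zp (w3 : w ^ 3 = 1) {j : ZMod 3} (hj : j ≠ 0) (e : InQ z κ (zp w j)) : InQ z κ w := by
  have : InQ z κ (zp (zp w j) j) := h.QQ.pow_mem e _
  rwa [zp_zp w3, (by decide : ∀ j : ZMod 3, j ≠ 0 → j * j = 1) j hj, zp_one] at this

theorem l1 {ρ : G} (hρ : ρ * z = z * ρ) (h2 : ρ * ρ = 1) (m : Mq z κ ρ 1 A) (ha : T3 z a) (e : ρ * a * ρ⁻¹ = a⁻¹) :
    InQ z κ a := by
  have ma := pm_spec h ha.1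
  rw [mul_inv_eq_iff_eq_mul, inv_eq_of_mul_eq_one_right (by rw [← sq, ← pow_succ', ha.2] : a * (a * a) = 1)] at e
  have k := h.uniq (Commute.mul_left hρ ha.1).eq (m.mulc h.z3 hρ ma)
    (e ▸ (ma.mulc h.z3 ha.1 ma).mulc h.z3 (Commute.mul_left ha.1 ha.1).eq m)
  have p : (pm z κ a).1 = 1 := by simpa using k.1
  have a3 := (h.three' ha ma).2 p
  rw [p] at ma k
  have s := (h.mq_one ((Mt.one κ).mq z) (h2 ▸ m.mul' h.z3 hρ m)).2
  exact triv h ha.1 ma fun i => m_l1 _ (congrFun s i) (h.det_one hρ m i) _ (a3 i) (by rw [sq]; exact congrFun k.2 i)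

/-- a base element commuting with a cyclic element -/
theorem cy (hs : T3 z s) (p : (pm z κ s).1 ≠ 1) (hg : g * z = z * g) (m : Mq z κ g 1 B) (e : s * g = g * s) {j : Fin 3}
    (hj : B j = 1) : InQ z κ g := by
  have ms := pm_spec h hs.1
  have k := (h.uniq (Commute.mul_left hg hs.1).eq (e ▸ ms.mulc h.z3 hs.1 m) (m.mulc h.z3 hg ms)).2
  have k1 : ∀ n : ℕ, B (((pm z κ s).1 ^ n) j) = 1 := fun n => by
    induction n with
    | zero => exact hj
    | succ n ih =>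
      have := congrFun k (((pm z κ s).1 ^ (n + 1)) j)
      obtain ⟨D, d, -⟩ := m_inv _ (by rw [h.det_one hs.1 ms (((pm z κ s).1 ^ (n + 1)) j)]; decide)
      rw [Pi.mul_apply, Pi.mul_apply, tw_one, tw, show (pm z κ s).1⁻¹ (((pm z κ s).1 ^ (n + 1)) j) =
        ((pm z κ s).1 ^ n) j by simp [pow_succ'], ih] at this
      simpa [mul_assoc, d] using (congrArg (· * D) this).symm
  refine triv h hg m fun i => ?_
  obtain ⟨n, -, rfl⟩ := p3_trans _ p (h.three' hs ms).1 j i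
  exact k1 n

theorem two (hs : T3 z s) (p : (pm z κ s).1 ≠ 1) (hg : T3 z g) (hw : T3 z w) (pg : (pm z κ g).1 = 1)
    (pw : (pm z κ w).1 = 1) (e : g * w = w * g) (e1 : s * g = g * s) (e2 : s * w = w * s) :
    InQ z κ w ∨ ∃ k, InQ z κ (g * zp w k) := by
  have q : ∀ {x}, T3 z x → (pm z κ x).1 = 1 → ∀ i, (pm z κ (zp x i)).1 = 1 := fun {x} hx p i =>
    (h.uniq (t3_zp hx i).1 (pm_spec h (t3_zp hx i).1) ((p ▸ pm_spec h hx.1).pow h.z3 hx.1 _)).1
  obtain ⟨E1, E2⟩ := ext2 hg hw e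
  obtain ⟨x, x0, A, m, -, A1⟩ := pig h E1 E2 (fun _ => ()) (fun x y _ => by
    simp only [(pm_mul h (t3_zp hg _).1 (t3_zp hw _).1).1, q hw pw, q hg pg]) (fun _ : Unit => 0) (by simp)
  have k := cy h hs p (E2 x).1 m (Commute.mul_right (zp_comm e1 _) (zp_comm e2 _)).eq (A1 ())
  by_cases j : x.1 = 0
  · rw [j, zp_zero, one_mul] at k
    exact .inl (inQ_of_zp h hw.2 (fun i => x0 (Prod.ext j i)) k)
  have : InQ z κ ((zp g x.1 * zp w x.2) ^ x.1.val) := h.QQ.pow_mem k _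
  rw [(czp e _ _).mul_pow, ← zp, ← zp, zp_zp hg.2, zp_zp hw.2, (by decide : ∀ j : ZMod 3, j ≠ 0 → j * j = 1) _ j,
    zp_one] at this
  exact .inr ⟨_, this⟩

theorem p1 (ha : T3 z a) (hb : T3 z b) (hn : T3 z n) (e : w = a * b * a⁻¹ * b⁻¹) (h1 : w * a = a * w)
    (h2 : w * b = b * w) (n1 : n * a = a * n) (n2 : n * b = b * n) : InQ z κ w ∨ (∃ k, InQ z κ (n * zp w k)) ∨
      ∃ i j k : ZMod 3, ¬ (i = 0 ∧ j = 0) ∧ InQ z κ (zp a i * zp b j * zp w k) := by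
  have i : ∀ {x : G}, x ^ 3 = 1 → x⁻¹ = x ^ 2 := fun e => inv_eq_of_mul_eq_one_right (by rw [← pow_succ', e])
  have e1 : a * b = w * b * a := by rw [e]; group
  have hw : T3 z w := ⟨e ▸ (((Commute.mul_left ha.1 hb.1).mul_left (Commute.inv_left ha.1)).mul_left
    (Commute.inv_left hb.1)).eq, by
      have : (a * b * a⁻¹) ^ 3 = 1 := by rw [conj_pow, hb.2]; group
      rwa [e1, mul_inv_cancel_right, Commute.mul_pow h2, hb.2, mul_one] at this⟩
  have nw : n * w = w * n := e ▸ (((Commute.mul_right n1 n2).mul_right (Commute.inv_right n1)).mul_right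
    (Commute.inv_right n2)).eq
  have ma := pm_spec h ha.1
  have mb := pm_spec h hb.1
  have p : (pm z κ w).1 = 1 := by
    have := congrArg (fun x => (pm z κ x).1) e1
    simp only [(pm_mul h ha.1 hb.1).1, (pm_mul h (Commute.mul_left hw.1 hb.1).eq ha.1).1, (pm_mul h hw.1 hb.1).1] at this
    exact (by decide : ∀ α β γ : P3, α ^ 3 = 1 → β ^ 3 = 1 → α * β = γ * β * α → γ = 1) _ _ _ (h.three' ha ma).1
      (h.three' hb mb).1 this
  by_cases pn : (pm z κ n).1 = 1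
  · by_cases pa : (pm z κ a).1 = 1; swap
    · exact (two h ha pa hn hw pn p nw n1.symm h1.symm).imp_right .inl
    by_cases pb : (pm z κ b).1 = 1; swap
    · exact (two h hb pb hn hw pn p nw n2.symm h2.symm).imp_right .inl
    have a3 := (h.three' ha ma).2 pa
    have b3 := (h.three' hb mb).2 pb
    rw [pa] at ma
    rw [pb] at mb
    have c := Commute.mul_left ha.1 hb.1
    have m := ((ma.mul' h.z3 ha.1 mb).mul' h.z3 c (ma.pow h.z3 ha.1 2)).mul' h.z3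
      (c.mul_left (Commute.pow_left ha.1 2)) (mb.pow h.z3 hb.1 2)
    rw [← i ha.2, ← i hb.2, ← e] at m
    exact .inl (triv h hw.1 m fun i => m_com _ (a3 i) _ (b3 i) ((h.three' hw m).2 rfl i))
  by_cases pb : (pm z κ b).1 = 1
  · exact (two h hn pn hb hw pb p h2.symm n2 nw).imp_right fun ⟨k, q⟩ =>
      .inr ⟨0, 1, k, by decide, by rwa [zp_zero, zp_one, one_mul]⟩
  obtain ⟨m, hm⟩ := (by decide : ∀ α β : P3, α ≠ 1 → α ^ 3 = 1 → β ^ 3 = 1 → ∃ m : Fin 3, β * α ^ m.1 = 1) _ _ pb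
    (h.three' hb mb).1 (h.three' ha ma).1
  obtain ⟨B, hB⟩ := mb.pow' h.z3 hb.1 m
  have c := (Commute.mul_left ha.1 (Commute.pow_left hb.1 m)).eq
  exact (two h hn pn ⟨c, cub ha.2 hb.2 hw.2 e1 h1 h2 m⟩ hw
    ((h.uniq c (pm_spec h c) (ma.mulc h.z3 ha.1 hB)).1.trans hm) p
    (Commute.mul_right h1 (Commute.pow_right h2 m)).eq.symm (Commute.mul_right n1 (Commute.pow_right n2 m)).eq
    nw).imp_right fun ⟨k, q⟩ => .inr ⟨1, (m.1 : ZMod 3), k, fun e => absurd e.1 (by decide), by rwa [zp_one, zp_nat hb.2]⟩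

theorem f3c {E : (ZMod 3 × ZMod 3) × ZMod 3 → G} (E1 : ∀ x y, E (x + y) = E x * E y) (E2 : ∀ x, T3 z (E x)) :
    (∃ x ≠ 0, InQ z κ (E x)) ∨ ∀ x, (pm z κ (E x)).1 = 1 := by
  refine or_iff_not_imp_right.2 fun e => ?_
  obtain ⟨y, hy⟩ := not_forall.1 e
  obtain ⟨l, hl⟩ := lab p_lab (fun x => (h.three' (E2 x) (pm_spec h (E2 x).1)).1) fun x y => by
    rw [← (pm_mul h (E2 x).1 (E2 y).1).1, ← (pm_mul h (E2 y).1 (E2 x).1).1, ← E1, ← E1, add_comm]
  obtain ⟨x, x0, A, m, -, A1⟩ := pig h E1 E2 l hl (fun _ : Unit => 0) (by simp)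
  exact ⟨x, x0, cy h (E2 y) hy (E2 x).1 m (by rw [← E1, ← E1, add_comm]) (A1 ())⟩

end W0J

open W0J in
theorem w0Thm : W0Thm.{u} := by
  intro G _ _ z t κ R r h
  have e3 := fun {a b c : G} (ha : T3 z a) (hb : T3 z b) (hc : T3 z c) (ab : a * b = b * a) (ac : a * c = c * a)
    (bc : b * c = c * b) => ext (ext2 ha hb ab) hc fun x k => (czp ac _ _).mul_left (czp bc _ _)
  refine ⟨fun a b w n => p1 h, fun a b c ha hb hc ab ac bc n => ?_, fun a b c ha hb hc ab ac bc => ?_,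
    fun ρ a A => l1 h, fun ρ ρ' a a' z1 z2 s1 s2 c ha ha' e1 e2 e3 => ?_⟩
  · obtain ⟨E1, E2⟩ := e3 ha hb hc ab ac bc
    rcases f3c h E1 E2 with ⟨x, x0, q⟩ | q
    · exact ⟨_, _, _, fun e => x0 (Prod.ext (Prod.ext e.1 e.2.1) e.2.2), 1, h.inQ_mq q, fun _ _ => rfl⟩
    obtain ⟨x, x0, A, m, -, A1⟩ := pig h E1 E2 (fun _ => ()) (fun x y _ => by rw [q x, q y]) n.succAbove (by simp)
    exact ⟨_, _, _, fun e => x0 (Prod.ext (Prod.ext e.1 e.2.1) e.2.2), A, m, fun i hi =>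
      let ⟨j, e⟩ := Fin.exists_succAbove_eq hi; e ▸ A1 j⟩
  · obtain ⟨E1, E2⟩ := e3 ha hb hc ab ac bc
    rcases f3c h E1 E2 with ⟨x, x0, q⟩ | q
    · exact .inl ⟨_, _, _, fun e => x0 (Prod.ext (Prod.ext e.1 e.2.1) e.2.2), q⟩
    obtain ⟨E1, E2⟩ := ext2 ha hb ab
    have q' : ∀ x : ZMod 3 × ZMod 3, (pm z κ (zp a x.1 * zp b x.2)).1 = 1 := fun x => by
      simpa [zp_zero] using q (x, 0)
    obtain ⟨x, x0, A, m, -, A1⟩ := pig h E1 E2 (fun _ => ()) (fun x y _ => by rw [q' x, q' y]) (fun _ : Unit => 0)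
      (by simp)
    exact .inr ⟨_, _, fun e => x0 (Prod.ext e.1 e.2), A, m, A1 ()⟩
  · by_cases p : (pm z κ ρ).1 = 1
    · exact .inl (l1 h z1 s1 (p ▸ pm_spec h z1) ha e1)
    by_cases p' : (pm z κ ρ').1 = 1
    · exact .inr (l1 h z2 s2 (p' ▸ pm_spec h z2) ha' e3)
    have o : (pm z κ 1).1 = 1 := (h.mq_one ((Mt.one κ).mq z) (pm_spec h (by simp))).1
    have z3 := (Commute.mul_left z1 z2).eq
    have q := (pm_mul h z1 z2).1.trans (p_gam _ _ p p' (by rw [← (pm_mul h z1 z1).1, s1, o]) (by rw [← (pm_mul h z2 z2).1, s2, o])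
      (by rw [← (pm_mul h z1 z2).1, ← (pm_mul h z2 z1).1, c]))
    refine .inl (l1 h z3 (by rw [Commute.mul_mul_mul_comm c.symm, s1, s2, mul_one]) (q ▸ pm_spec h z3) ha ?_)
    rw [← e1, mul_assoc ρ, e2]; group

end CL.E63
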