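/-
Recognition of `Fi₂₂` from a 3-centraliser (S3368), 3-local part: weak closure, the bad case.
-/
import Cfsg.Agent.Rec.F3Base2

set_option autoImplicit false
set_option linter.unusedSectionVars false

namespace CL.F3

open Subgroup Cfsg CL.Grp CL.G23 CL.Even Equiv
open CL.U63 hiding Mt Mq MS P1Thm WCThm
open scoped Matrix

universe u

variable {G : Type u} [Group G]

namespace WB

set_option synthInstance.maxSize 2000 in
theorem m1 : ∀ A : M2, A ^ 3 = 1 → A ≠ 1 → ∃ e : V2, e ≠ 0 ∧ A *ᵥ e = e ∧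
    ∀ w, d2 w e = 0 → A *ᵥ w = w ∧ ∃ x, x - A *ᵥ x = w := by decide +kernel

theorem m2 : ∀ B : M2, B ≠ 1 → ∀ e w : V2, B *ᵥ e = e → B *ᵥ w = w → d2 w e = 0 := by decide +kernel

set_option synthInstance.maxSize 2000 in
theorem la : ∀ a : Fin 3 → ZMod 3, ∃ k l : Fin 3 → ZMod 3, k 0 * a 0 + k 1 * a 1 + k 2 * a 2 = 0 ∧
    l 0 * a 0 + l 1 * a 1 + l 2 * a 2 = 0 ∧ ∀ s t : ZMod 3, (∀ i, s * k i + t * l i = 0) → s = 0 ∧ t = 0 := by
  decide +kernel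

theorem ph : ∀ a : Fin 3 → ZMod 3, (∃ i k, i ≠ k ∧ a i = 0 ∧ a k = 0) ∨ ∃ i j, i ≠ j ∧ a i ≠ 0 ∧ a j ≠ 0 := by decide

theorem sm : ∀ (k : ZMod 3) (e : V2), e ≠ 0 → k • e = 0 → k = 0 := by decide

/-- normal form of `y` -/
structure NY (z t : G) (κ : W6 → G) (y c : G) (u : W6) (A : A3) (e : W6) : Prop where
  hy : y = κ u * c
  ct : c * t = t * c
  cz : c * z = z * c
  m : Mt κ c 1 A
  ne : ∀ i, A i ≠ 1
  e0 : ∀ i, e i ≠ 0
  fix : ∀ i, A i *ᵥ e i = e i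
  im : ∀ i w, d2 w (e i) = 0 → A i *ᵥ w = w ∧ ∃ x, x - A i *ᵥ x = w

variable [Finite G] {z t y c t' : G} {κ κ' : W6 → G} {R R' : Subgroup G} {r r' : Fin 3 → G} {u e w : W6} {A : A3}
  (h : MS z t κ R r)
include h

theorem exists_ny (hy : T3 z y) (ha : Act z κ y) : ∃ c u A e, NY z t κ y c u A e := by
  obtain ⟨A, h1, h2⟩ := ha
  obtain ⟨u, c, h3, h4, h5, h6⟩ := h.nfq hy.1 h1
  choose e e0 e1 e2 using fun i => m1 (A i) ((h.three' hy h1).2 rfl i) (h2 i)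
  exact ⟨c, u, A, e, h3, h4, h5, h6, h2, e0, e1, e2⟩

variable (n : NY z t κ y c u A e)
include n

theorem conj_y (x : W6) : ∃ k, κ x * y * (κ x)⁻¹ = κ (u + (x - mon 1 A x)) * zp z k * c :=
  ⟨_, by rw [n.hy, ← conj_mul, h.kk, h.conj_k n.m, ← mul_assoc, ← mul_assoc, mul_assoc (κ u), ← h.kzp, ← mul_assoc, h.mul,
    mul_assoc (κ _), ← zp_add h.z3, mul_assoc (κ _), ← zp_add h.z3]⟩

theorem cfix (hw : mon 1 A w = w) : κ w * y * (κ w)⁻¹ = zp z (2 * β6 w u) * y := by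
  rw [n.hy, ← conj_mul, h.kk, ← n.m.comm hw, mul_inv_cancel_right, h.kzp, mul_assoc]

theorem ccomm (hw : mon 1 A w = w) (e : β6 u w = 0) : κ w * y = y * κ w :=
  mul_inv_eq_iff_eq_mul.1 (by rw [cfix h n hw, β6_swap, e, neg_zero, mul_zero, zp_zero, one_mul])

omit h in
theorem imW (hw : ∀ i, d2 (w i) (e i) = 0) : ∃ x, x - mon 1 A x = w := by
  choose x hx using fun i => (n.im i _ (hw i)).2
  exact ⟨x, funext hx⟩

omit h in
theorem fix_sn (i : Fin 3) (k : ZMod 3) : mon 1 A (sn i (k • e i)) = sn i (k • e i) := by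
  rw [mon_sn, Perm.one_apply, Matrix.mulVec_smul, n.fix]

theorem triple : ∃ a b, InQ z κ a ∧ InQ z κ b ∧ T3 y a ∧ T3 y b ∧ a * b = b * a ∧
    ∀ i j k, zp z i * zp a j * zp b k = 1 → i = 0 ∧ j = 0 ∧ k = 0 := by
  obtain ⟨k, l, h1, h2, h3⟩ := la fun i => d2 (u i) (e i)
  have c1 : ∀ k : Fin 3 → ZMod 3, k 0 * d2 (u 0) (e 0) + k 1 * d2 (u 1) (e 1) + k 2 * d2 (u 2) (e 2) = 0 →
      T3 y (κ fun i => k i • e i) := fun k hk =>
    ⟨ccomm h n (funext fun i => by rw [mon_base, Matrix.mulVec_smul, n.fix])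
      (by rw [← hk]; simp only [β6, d2, Pi.smul_apply, smul_eq_mul]; ring), h.k3 _⟩
  have c2 : ∀ k l : Fin 3 → ZMod 3, β6 (fun i => k i • e i) (fun i => l i • e i) = 0 := fun k l => by
    simp only [β6, d2, Pi.smul_apply, smul_eq_mul]; ring
  refine ⟨_, _, h.inQ_k _, h.inQ_k _, c1 k h1, c1 l h2, h.kcomm (c2 k l), fun i s s' e1 => ?_⟩
  rw [← h.ksmul, ← h.ksmul, mul_assoc, ← h.kadd (by rw [β6_smul, β6_smul', c2, mul_zero, mul_zero]), ← h.kzp,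
    ← one_mul 1, ← zp_zero z] at e1
  nth_rw 1 [zp_zero, ← h.k0] at e1
  exact ⟨(h.keq e1).2, h3 s s' fun i => sm _ _ (n.e0 i) (by
    simpa [add_smul, mul_smul] using congrFun (h.keq e1).1 i)⟩

variable (h' : MS y t' κ' R' r') (p : Pr2 z κ y κ')
include h' p

theorem disj {j : Fin 3} (hj : d2 (u j) (e j) ≠ 0) {a : G} (h1 : InQ z κ a) (h2 : InQ y κ' a) : a = 1 := by
  have h3 : ∃ g, g * y * g⁻¹ = a * y := by
    obtain ⟨w, k, rfl⟩ := h1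
    have e1 : y * κ w * y⁻¹ = κ w * zp z 0 := by
      have := h'.inQ_cz h2
      rw [mul_assoc, ← zp_comm p.cm, ← mul_assoc, ← mul_assoc, mul_left_inj] at this
      rw [← this, mul_inv_cancel_right, zp_zero, mul_one]
    obtain ⟨l, e2⟩ := (n.hy ▸ h.kmq u (n.m.mq z) : Mq z κ y 1 A) w
    have e3 := (h.keq (e2.symm.trans e1)).1
    obtain ⟨x, hx⟩ := imW n (w := w) fun i => m2 _ (n.ne i) _ _ (n.fix i) (congrFun e3 i)
    obtain ⟨l, e4⟩ := conj_y h n x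
    obtain ⟨s, hs⟩ := (by decide : ∀ a b : ZMod 3, a ≠ 0 → ∃ s, 2 * -(s * a) = b) _ (β6 w u + k - l) hj
    refine ⟨κ x * κ (sn j (s • e j)), ?_⟩
    rw [show κ x * κ (sn j (s • e j)) * y * (κ x * κ (sn j (s • e j)))⁻¹ =
      κ x * (κ (sn j (s • e j)) * y * (κ (sn j (s • e j)))⁻¹) * (κ x)⁻¹ by group, cfix h n (fix_sn n j s), β6_swap,
      sn_smul, β6_smul, β6_sn, hs, ← conj_mul, e4, h.kzp, mul_inv_cancel_right, hx, n.hy, ← mul_assoc, ← mul_assoc,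
      ← h.kzp, mul_assoc (κ _), ← zp_add h.z3, sub_add_cancel, ← mul_assoc, mul_assoc (κ w), ← h.kzp, ← mul_assoc, h.mul,
      mul_assoc (κ (w + u)), ← zp_add h.z3, add_comm w]
  obtain ⟨g, e1⟩ := h3
  obtain ⟨k, e2⟩ := (mem_zp h'.z3).1 ((mul_mem_cancel_right (mem_zpowers y)).1
    (e1 ▸ p.wy g (e1 ▸ h'.inQ_mul h2 h'.inQ_z)))
  rcases (by decide : ∀ k : ZMod 3, k = 0 ∨ k = 1 ∨ k = -1) k with rfl | rfl | rfl
  · exact e2.trans (zp_zero y)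
  · exact absurd (by rwa [e2, zp_one] at h1) p.yQ
  · exact absurd (by simpa [e2, zp_neg_one h'.z3] using h.inQ_inv h1) p.yQ

theorem two (D : ∀ a, InQ z κ a → InQ y κ' a → a = 1) {i k : Fin 3} (ik : i ≠ k) (hi : d2 (u i) (e i) = 0)
    (hk : d2 (u k) (e k) = 0) : False := by
  obtain ⟨x, hx⟩ := imW n (w := -(sn i (u i) + sn k (u k))) fun j => by
    have := hi
    have := hk
    simp only [sn, Pi.neg_apply, Pi.add_apply]
    split_ifs <;> simp_all [d2, neg_add_eq_zero, sub_eq_zero]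
  obtain ⟨l, e1⟩ := conj_y h n x
  rw [hx] at e1
  generalize hv : u + -(sn i (u i) + sn k (u k)) = v at e1
  have v0 : ∀ j, j = i ∨ j = k → v j = 0 := by
    rintro j (rfl | rfl) <;> simp [← hv, sn_self, sn_ne ik, sn_ne ik.symm]
  have k1 : ∀ {a : G}, a * κ v = κ v * a → a * z = z * a → a * c = c * a → (κ x)⁻¹ * a * κ x * y = y * ((κ x)⁻¹ * a * κ x) :=
    fun {a} h1 h2 h3 => BTJ.cm_of_conj (g := κ x) (by
      rw [e1]; simpa [mul_assoc] using (Commute.mul_right (Commute.mul_right h1 (zp_comm h2 l)) h3).eq)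
  have k2 : ∀ j, j = i ∨ j = k → (κ x)⁻¹ * r j * κ x * y = y * ((κ x)⁻¹ * r j * κ x) := fun j hj =>
    k1 ((h.ra j).comm (by rw [mon_sgn, v0 j hj, sn_zero, add_zero])) (h.rz j) (h.r_comm n.cz n.m j).symm
  have k3 : ∀ j, j = i ∨ j = k → T3 y ((κ x)⁻¹ * κ (sn j (e j)) * κ x) := fun j hj =>
    ⟨k1 (h.kcomm (by rw [β6_sn', v0 j hj]; simp [d2])) (h.kz _) (n.m.comm (by simpa using fix_sn n j 1)).symm, by
      rw [← inv_inv (κ x), inv_inv (κ x)⁻¹, conj_pow, h.k3]; group⟩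
  have k4 : ∀ j, (κ x)⁻¹ * r j * κ x * ((κ x)⁻¹ * r j * κ x) = 1 := fun j => by
    simp only [mul_assoc, mul_inv_cancel_left]
    rw [← mul_assoc (r j), h.r2, one_mul, inv_mul_cancel]
  have k5 : ∀ j, (κ x)⁻¹ * r j * κ x * ((κ x)⁻¹ * κ (sn j (e j)) * κ x) * ((κ x)⁻¹ * r j * κ x)⁻¹ =
      ((κ x)⁻¹ * κ (sn j (e j)) * κ x)⁻¹ := fun j => by
    have := h.ra j (sn j (e j))
    rw [mon_sgn, sn_self, add3, ← h.kinv] at this
    rw [mul_inv_rev _ (κ x), mul_inv_rev _ (κ x), mul_inv_rev, mul_inv_rev, ← this]; group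
  have k6 : ∀ j, ¬ InQ y κ' ((κ x)⁻¹ * κ (sn j (e j)) * κ x) := fun j e2 => by
    have := D _ (h.inQ_mul (h.inQ_mul (h.inQ_inv (h.inQ_k x)) (h.inQ_k _)) (h.inQ_k x)) e2
    rw [mul_assoc, inv_mul_eq_one, eq_comm, mul_eq_right, ← h.k0] at this
    exact n.e0 j (by simpa [sn_self] using congrFun (h.k_inj this) j)
  have k7 : ∀ {a b : G}, a * b = b * a → (κ x)⁻¹ * a * κ x * ((κ x)⁻¹ * b * κ x) = (κ x)⁻¹ * b * κ x * ((κ x)⁻¹ * a * κ x) :=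
    fun e => by simpa using BTJ.cm_conj (κ x)⁻¹ e
  exact (p.w'.gam _ _ _ _ (k2 i (.inl rfl)) (k2 k (.inr rfl)) (k4 i) (k4 k) (k7 (h.rr i k)) (k3 i (.inl rfl))
    (k3 k (.inr rfl)) (k5 i) (k7 ((h.ra k).comm (by rw [mon_sgn, sn_ne ik.symm, sn_zero, add_zero]))) (k5 k)).elim
    (k6 i) (k6 k)

theorem four (D : ∀ a, InQ z κ a → InQ y κ' a → a = 1) (ha : Act y κ' z) {i j : Fin 3} (ij : i ≠ j)
    (hi : d2 (u i) (e i) ≠ 0) (hj : d2 (u j) (e j) ≠ 0) : False := by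
  have zq : ∀ {z κ t R r} (h : MS z t κ R r) {a : G} (k), InQ z κ a → InQ z κ (zp a k) := fun h a k ha =>
    h.QQ.pow_mem ha _
  have nc : ¬ Cyc z κ := fun hc => by
    obtain ⟨a, b, a1, b1, a2, b2, ab, ind⟩ := triple h n
    obtain ⟨i, j, k, h1, h2⟩ := p.w'.f2a (p.c1 hc) z a b ⟨p.cm.symm, h.z3⟩ a2 b2 (h.inQ_cz a1).symm
      (h.inQ_cz b1).symm ab
    exact h1 (ind i j k (D _ (h.inQ_mul (h.inQ_mul (h.inQ_zp i) (zq h j a1)) (zq h k b1)) h2))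
  obtain ⟨c', u', A', e', n'⟩ := exists_ny h' ⟨p.cm.symm, h.z3⟩ ha
  obtain ⟨a, b, a1, b1, a2, b2, ab, ind⟩ := triple h' n'
  obtain ⟨i0, j0, k0, h1, B, h2, h3⟩ := p.w.f2d nc y a b ⟨p.cm, h'.z3⟩ a2 b2 (h'.inQ_cz a1).symm
    (h'.inQ_cz b1).symm ab j
  have q1 := h'.inQ_mul (h'.inQ_mul (h'.inQ_zp i0) (zq h' j0 a1)) (zq h' k0 b1)
  have q2 : zp y i0 * zp a j0 * zp b k0 * z = z * (zp y i0 * zp a j0 * zp b k0) :=
    (Commute.mul_right (Commute.mul_right (zp_comm p.cm.symm i0) (zp_comm a2.1.symm j0)) (zp_comm b2.1.symm k0)).eq.symm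
  have q3 := fun e => h1 (ind i0 j0 k0 e)
  generalize zp y i0 * zp a j0 * zp b k0 = d at h2 q1 q2 q3
  have B1 : B j ≠ 1 := fun e => q3 (D _ (h.triv_q q2 ((funext fun m => by
    by_cases hm : m = j
    exacts [hm ▸ e, h3 m hm] : B = 1) ▸ h2)) q1)
  obtain ⟨w, hw⟩ : ∃ w, w = sn i (d2 (u j) (e j) • e i) + sn j (-d2 (u i) (e i) • e j) := ⟨_, rfl⟩
  have bw : ∀ v, β6 v w = d2 (u j) (e j) * d2 (v i) (e i) - d2 (u i) (e i) * d2 (v j) (e j) := fun v => by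
    rw [hw, β6_add, sn_smul, sn_smul, β6_smul, β6_smul, β6_sn, β6_sn]; ring
  have c1 := ccomm h n (w := w) (by rw [hw, mon_add, fix_sn n, fix_sn n]) (by rw [bw]; ring)
  have c2 := D (d * κ w * d⁻¹ * (κ w)⁻¹) (h.inQ_mul (h.inQ_normc q2 (h.inQ_k w)) (h.inQ_inv (h.inQ_k w)))
    (by simpa only [mul_assoc] using h'.inQ_mul q1 (h'.inQ_normc c1 (h'.inQ_inv q1)))
  obtain ⟨v, c'', rfl, d1, d2', d3⟩ := h.nfq q2 h2
  rw [mul_inv_eq_one, show κ v * c'' * κ w * (κ v * c'')⁻¹ = κ v * (c'' * κ w * c''⁻¹) * (κ v)⁻¹ by group, d3, h.kk,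
    ← mul_one (κ w), ← zp_zero z] at c2
  obtain ⟨c3, c4⟩ := h.keq c2
  have k : ∀ {a b : G} {A B : A3} (v w : W6), Mt κ a 1 A → a * t = t * a → b * t = t * b →
      ∃ g, g * t = t * g ∧ κ v * a * (κ w * b) = κ (v + mon 1 A w) * g := fun {a b A B} v w m e1 e2 =>
    ⟨zp z (β6 v (mon 1 A w)) * a * b, (Commute.mul_left (Commute.mul_left (zp_comm h.tz _).symm e1) e2).eq, by
      rw [← mul_assoc, ← mul_assoc, ← mul_assoc, ← h.mul, ← m]; group⟩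
  obtain ⟨g1, g2, g3⟩ := k (B := A) v u d3 d1 n.ct
  obtain ⟨g4, g5, g6⟩ := k (B := A) u v n.m n.ct d1
  have c5 := (h.ct_eq g2 g5 (by rw [← g3, ← g6, ← n.hy, h'.inQ_cz q1])).1
  have c6 := congrFun c5 i
  have c7 := congrFun c5 j
  have c8 := congrFun c3 j
  simp only [Pi.add_apply, mon_base] at c6 c7 c8
  rw [h3 i ij, Matrix.one_mulVec, add_comm, add_right_inj] at c6
  rw [c3, bw, m2 _ (n.ne i) _ _ (n.fix i) c6.symm] at c4
  rw [(n.im j _ ((by decide : ∀ a b c : ZMod 3, a ≠ 0 → 2 * (c * 0 - a * b) = 0 → b = 0) _ _ _ hi c4)).1, add_comm,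
    add_left_inj] at c7
  rw [hw, Pi.add_apply, sn_ne ij.symm, sn_self, zero_add] at c8
  have := m2 _ B1 _ _ c8 c7
  simp only [d2, Pi.smul_apply, smul_eq_mul] at this hi hj
  exact mul_ne_zero hi hj (by linear_combination -this)

end WB

open WB in
theorem wbThm : WBThm.{u} := fun {G} _ _ {z t y t' κ κ' R R' r r'} h h' p ha ha' => by
  obtain ⟨c, u, A, e, n⟩ := exists_ny h ⟨p.cm, h'.z3⟩ ha
  by_cases h0 : ∀ i, d2 (u i) (e i) = 0
  · obtain ⟨x, hx⟩ := imW n (w := -u) fun i => by simpa [d2, neg_add_eq_zero, sub_eq_zero] using h0 i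
    obtain ⟨k, e1⟩ := conj_y h n x
    refine ⟨x, ?_⟩
    rw [e1, hx, add_neg_cancel, h.k0, one_mul]
    exact (Commute.mul_left (zp_comm h.tz k).symm n.ct).eq
  obtain ⟨j, hj⟩ := not_forall.1 h0
  have D := fun a => disj h n h' p hj (a := a)
  rcases ph fun i => d2 (u i) (e i) with ⟨i, k, ik, hi, hk⟩ | ⟨i, k, ik, hi, hk⟩
  exacts [(two h n h' p D ik hi hk).elim, (four h n h' p D ha' ik hi hk).elim]

end CL.F3
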