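/-
Recognition of `²E₆(2)` from a 3-centraliser (S3337), weak closure: two nontrivial factors, and the bad case.
-/
import Cfsg.Agent.Rec.E63Fd
import Cfsg.Agent.Rec.U63C21
import Cfsg.Agent.Rec.F3WA
import Cfsg.Agent.Rec.F3WB

set_option autoImplicit false
set_option linter.unusedSectionVars false

namespace CL.E63

open Subgroup Cfsg CL.Grp CL.G23 CL.Even Equiv
open CL.U63 hiding Mt Mq MS P1Thm WCThm
open CL.F3 hiding MB MS0 MS PM P1Thm PKThm P2Thm W0 Pr2 YM W0Thm WAThm WCThm WBThm WGThm Y1Thm YAThm YBThm YCThm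
open scoped Matrix

universe u

namespace WA2

set_option synthInstance.maxSize 2000 in
theorem la2 : ∀ (m : Fin 3) (a : Fin 3 → ZMod 3), (∀ n, n ≠ m → a n = 0) → ∃ k l : Fin 3 → ZMod 3, k m = 0 ∧ l m = 0 ∧
    k 0 * a 0 + k 1 * a 1 + k 2 * a 2 = 0 ∧ l 0 * a 0 + l 1 * a 1 + l 2 * a 2 = 0 ∧
    ∀ s t : ZMod 3, (∀ i, s * k i + t * l i = 0) → s = 0 ∧ t = 0 := by
  decide +kernel

theorem la1 : ∀ (m : Fin 3) (a : Fin 3 → ZMod 3), ∃ k : Fin 3 → ZMod 3, k m = 0 ∧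
    k 0 * a 0 + k 1 * a 1 + k 2 * a 2 = 0 ∧ ∃ n, k n ≠ 0 := by
  decide +kernel

theorem sol : ∀ a b : ZMod 3, a ≠ 0 → ∃ s, b + s * a = 0 := by decide

/-- the vector with components `a n • e n` -/
def EE (e : W6) (a : Fin 3 → ZMod 3) : W6 := fun n => a n • e n

theorem β6_EE (u e : W6) (a : Fin 3 → ZMod 3) :
    β6 u (EE e a) = a 0 * d2 (u 0) (e 0) + a 1 * d2 (u 1) (e 1) + a 2 * d2 (u 2) (e 2) := by
  simp only [β6, EE, d2, Pi.smul_apply, smul_eq_mul]; ring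

theorem EE_EE (e : W6) (a b : Fin 3 → ZMod 3) : β6 (EE e a) (EE e b) = 0 := by
  simp only [β6, EE, d2, Pi.smul_apply, smul_eq_mul]; ring

theorem EE_fix {A : A3} {e : W6} (hf : ∀ n, A n *ᵥ e n = e n) (a : Fin 3 → ZMod 3) : mon 1 A (EE e a) = EE e a :=
  funext fun n => by rw [mon_base, EE, Matrix.mulVec_smul, hf]

theorem EE_lin (e : W6) (a b : Fin 3 → ZMod 3) (s t : ZMod 3) :
    s • EE e a + t • EE e b = EE e fun n => s * a n + t * b n :=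
  funext fun n => by simp only [EE, Pi.add_apply, Pi.smul_apply, add_smul, mul_smul]

theorem EE_im {A : A3} {e : W6} {a : Fin 3 → ZMod 3} (H : ∀ n, ∃ x, x - A n *ᵥ x = a n • e n) :
    ∃ x, x - mon 1 A x = EE e a := by
  choose x hx using H
  exact ⟨x, funext hx⟩

variable {G : Type u} [Group G] [Finite G] {z t y c t' : G} {κ κ' : W6 → G} {R R' : Subgroup G} {r r' : Fin 3 → G}
  {u e w : W6} {A : A3} (h : MS z t κ R r)
include h

theorem conj_y (hy : y = κ u * c) (m : Mt κ c 1 A) (x : W6) :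
    ∃ k, κ x * y * (κ x)⁻¹ = κ (u + (x - mon 1 A x)) * zp z k * c :=
  ⟨_, by rw [hy, ← conj_mul, h.kk, h.conj_k m, ← mul_assoc, ← mul_assoc, mul_assoc (κ u), ← h.kzp, ← mul_assoc, h.mul,
    mul_assoc (κ _), ← zp_add h.z3, mul_assoc (κ _), ← zp_add h.z3]⟩

theorem cfix (hy : y = κ u * c) (m : Mt κ c 1 A) (hw : mon 1 A w = w) : κ w * y * (κ w)⁻¹ = zp z (2 * β6 w u) * y := by
  rw [hy, ← conj_mul, h.kk, ← m.comm hw, mul_inv_cancel_right, h.kzp, mul_assoc]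

theorem yc (hy : y = κ u * c) (m : Mt κ c 1 A) (hw : mon 1 A w = w) (e : β6 u w = 0) : T3 y (κ w) :=
  ⟨mul_inv_eq_iff_eq_mul.1 (by rw [cfix h hy m hw, β6_swap, e, neg_zero, mul_zero, zp_zero, one_mul]), h.k3 _⟩

theorem all (hy : y = κ u * c) (hc : c * z = z * c) (m : Mt κ c 1 A) {s x : W6} (hs : mon 1 A s = s) (hsu : β6 u s ≠ 0)
    (hx : x - mon 1 A x = w) (hw : mon 1 A w = w) (l : ZMod 3) : ∃ g, g * y * g⁻¹ = y * (κ w * zp z l) := by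
  obtain ⟨k, e1⟩ := conj_y h hy m x
  obtain ⟨a, ha⟩ := (by decide : ∀ a b : ZMod 3, a ≠ 0 → ∃ s, 2 * -(s * a) = b) _ (β6 u w + l - k) hsu
  refine ⟨κ x * κ (a • s), ?_⟩
  have e2 : κ x * κ (a • s) * y * (κ x * κ (a • s))⁻¹ = κ x * (κ (a • s) * y * (κ (a • s))⁻¹) * (κ x)⁻¹ := by group
  have e3 : y * (κ w * zp z l) = κ (u + w) * zp z (β6 u w + l) * c := by
    rw [hy, mul_assoc, ← mul_assoc c, m.comm hw, mul_assoc _ c, zp_comm hc, ← mul_assoc, ← mul_assoc, h.mul,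
      mul_assoc (κ _) (zp _ _), ← zp_add h.z3]
  rw [e2, cfix h hy m (by rw [mon_smul, hs]), β6_swap, β6_smul, ha, ← conj_mul, e1, h.kzp, mul_inv_cancel_right, hx, e3,
    ← mul_assoc, ← mul_assoc, ← h.kzp, mul_assoc (κ _) (zp _ _), ← zp_add h.z3, sub_add_cancel]

theorem one_of {v : W6} {l : ZMod 3} (e : κ v * zp z l = 1) : v = 0 ∧ l = 0 :=
  h.keq (e.trans (by rw [h.k0, zp_zero, mul_one]))

variable (h' : MS y t' κ' R' r') (p : Pr2 z κ y κ')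
include h' p

theorem zq0 {k : ZMod 3} (e : InQ y κ' (zp z k)) : k = 0 := by
  by_contra a
  exact p.zQ ((zpowers_le.2 e : _ ≤ h'.QQ) (C21J.sym3 h.z3 (fun e => a (zp_eq_one h.z3 h.z1 e)) (zp_mem z _)))

theorem nc0 {n : G} (h1 : InQ z κ n) (h2 : n ∈ zpowers y) : n = 1 := by
  by_contra a
  exact p.yQ ((zpowers_le.2 h1 : _ ≤ h.QQ) (C21J.sym3 h'.z3 a h2))

theorem nc {n g : G} (h1 : InQ z κ n) (h2 : InQ y κ' n) (e : g * y * g⁻¹ = y * n) : n = 1 :=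
  nc0 h h' p h1 ((mul_mem_cancel_left (mem_zpowers y)).1 (e ▸ p.wy g (e ▸ h'.inQ_mul h'.inQ_z h2)))

theorem cen {x v : W6} {l : ZMod 3} (h2 : InQ y κ' (κ x * zp z l)) (hv : κ v * y = y * κ v) : β6 v x = 0 := by
  have e1 : κ v * (κ x * zp z l) * (κ v)⁻¹ = κ x * zp z l * zp z (2 * β6 v x) := by
    rw [← conj_mul, h.kk, h.kzp v, mul_inv_cancel_right, mul_assoc, mul_assoc, ← zp_add h.z3, ← zp_add h.z3, add_comm]
  have e2 := h'.inQ_mul (h'.inQ_inv h2) (e1 ▸ h'.inQ_normc hv h2)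
  rw [inv_mul_cancel_left] at e2
  linear_combination -zq0 h h' p e2 + β6 v x * (by decide : (3 : ZMod 3) = 0)

theorem p1 {v x : W6} (hv : T3 y (κ v)) (hw : T3 y (κ w)) (hx : T3 y (κ x)) (b : β6 v w ≠ 0) (b1 : β6 x v = 0)
    (b2 : β6 x w = 0) : ∃ k, InQ y κ' (κ x * zp z k) := by
  have e1 : zp z (2 * β6 v w) = κ v * κ w * (κ v)⁻¹ * (κ w)⁻¹ := by rw [h.kk, h.kzp, mul_inv_cancel_right]
  rcases p.w'.p1 _ _ _ _ hv hw hx e1 (h.kzp _ _).symm (h.kzp _ _).symm (h.kcomm b1) (h.kcomm b2) with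
    a | ⟨k, a⟩ | ⟨i, j, k, a1, a⟩
  · exact absurd (by linear_combination -zq0 h h' p a + β6 v w * (by decide : (3 : ZMod 3) = 0)) b
  · exact ⟨_, by rwa [zp_zp h.z3] at a⟩
  · rw [← h.ksmul, ← h.ksmul, h.mul, zp_zp h.z3, mul_assoc, ← zp_add h.z3] at a
    have c1 := cen h h' p a hv.1
    have c2 := cen h h' p a hw.1
    rw [β6_add, β6_smul, β6_smul, β6_self, mul_zero] at c1 c2
    rw [β6_swap, add_zero, mul_neg, neg_eq_zero] at c2
    rw [zero_add] at c1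
    exact absurd ⟨(mul_eq_zero.1 c2).resolve_right b, (mul_eq_zero.1 c1).resolve_right b⟩ a1

theorem p3 (N : N1 y κ') {v : W6} (hv : T3 y (κ v)) (hw : T3 y (κ w)) (b : β6 v w = 0)
    (ind : ∀ s t : ZMod 3, s • v + t • w = 0 → s = 0 ∧ t = 0)
    (hcj : ∀ s t l : ZMod 3, ∃ g, g * y * g⁻¹ = y * (κ (s • v + t • w) * zp z l)) : False := by
  obtain ⟨i, j, k, n1, B, n2, n3⟩ := p.w'.f3a z _ _ ⟨p.cm.symm, h.z3⟩ hv hw (h.kz _).symm (h.kz _).symm (h.kcomm b) 0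
  have q : y * (zp z i * zp (κ v) j * zp (κ w) k) = zp z i * zp (κ v) j * zp (κ w) k * y :=
    (Commute.mul_right (Commute.mul_right (zp_comm p.cm i) (zp_comm hv.1.symm j)) (zp_comm hw.1.symm k)).eq
  rw [← h.ksmul, ← h.ksmul, mul_assoc (zp z i), ← h.kadd (by rw [β6_smul, β6_smul', b, mul_zero, mul_zero]),
    ← h.kzp] at n2 q
  obtain ⟨g, e1⟩ := hcj j k i
  have e2 := N g (1 * B) 0 (by rw [e1, mul_assoc, ← q]) (e1 ▸ Mq.mul' h'.z3 rfl (h'.inQ_mq h'.inQ_z) n2)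
    fun n hn => by rw [one_mul, n3 n hn]
  rw [e1] at e2
  obtain ⟨e3, e4⟩ := one_of h (nc0 h h' p ⟨_, _, rfl⟩ ((mul_mem_cancel_left (mem_zpowers y)).1 e2))
  exact n1 ⟨e4, ind j k e3⟩

theorem core (N : N1 y κ') (hy : y = κ u * c) (hc : c * z = z * c) (m : Mt κ c 1 A) {s : W6} (hs : mon 1 A s = s)
    (hsu : β6 u s ≠ 0) (e0 : ∀ n, e n ≠ 0) (hf : ∀ n, A n *ᵥ e n = e n) {a b : Fin 3 → ZMod 3}
    (ha : β6 u (EE e a) = 0) (hb : β6 u (EE e b) = 0) (ind : ∀ s t : ZMod 3, (∀ i, s * a i + t * b i = 0) → s = 0 ∧ t = 0)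
    (im : ∀ (s t : ZMod 3) n, ∃ x, x - A n *ᵥ x = (s * a n + t * b n) • e n) : False := by
  refine p3 h h' p N (yc h hy m (EE_fix hf a) ha) (yc h hy m (EE_fix hf b) hb) (EE_EE e a b)
    (fun s t e1 => ind s t fun i => WB.sm _ _ (e0 i) (congrFun ((EE_lin e a b s t).symm.trans e1) i)) fun s' t l => ?_
  rw [EE_lin]
  obtain ⟨x, hx⟩ := EE_im (im s' t)
  exact all h hy hc m hs hsu hx (EE_fix hf _) l

end WA2

open WA2 in
theorem wa2Thm : WA2Thm.{u} := by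
  intro G _ _ z t y t' κ κ' R R' r r' h h' p hl N A j hq hA hj
  obtain ⟨u, c, hy, ct, hc, m⟩ := h.nfq p.cm hq
  have A3 := (h.three' ⟨p.cm, h'.z3⟩ hq).2 rfl
  have uj : u j ≠ 0 := fun e => by
    obtain ⟨k, hk⟩ := (mem_zp h.z3).1 (hl u c A j hy ct hc m e hj)
    exact p.yQ (hk ▸ h.inQ_zp k)
  have fj : ∀ x, mon 1 A (sn j x) = sn j x := fun x => by rw [mon_sn]; simp [hj]
  obtain ⟨x0, hx0⟩ := C21J.d2_surj _ uj 1
  have su : β6 u (sn j x0) ≠ 0 := by rw [β6_sn, hx0]; exact one_ne_zero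
  have E : ∀ n, ∃ e : V2, e ≠ 0 ∧ A n *ᵥ e = e ∧ ∀ a : ZMod 3, (n = j → a = 0) → ∃ w, w - A n *ᵥ w = a • e := fun n => by
    by_cases hn : n = j
    · exact ⟨e0, by decide, by simp [hn, hj], fun a ha => ⟨0, by simp [ha hn]⟩⟩
    · obtain ⟨e, h1, h2, h3⟩ := C21J.m_fix _ (A3 n) (hA n hn)
      exact ⟨e, h1, h2, fun a _ => h3 a⟩
  choose e e0' hf im using E
  by_cases h0 : ∀ n, n ≠ j → d2 (u n) (e n) = 0
  · obtain ⟨k, l, k0, l0, h1, h2, h3⟩ := la2 j _ h0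
    exact core h h' p N hy hc m (fj x0) su e0' hf ((β6_EE u e k).trans h1) ((β6_EE u e l).trans h2) h3
      fun s t n => im n _ fun hn => by rw [hn, k0, l0]; ring
  obtain ⟨i, hi⟩ := not_forall.1 h0
  obtain ⟨ij, hi⟩ := Classical.not_imp.1 hi
  obtain ⟨k, k0, h1, n, hn⟩ := la1 j fun n => d2 (u n) (e n)
  have V : ∀ x, ∃ v, T3 y (κ v) ∧ β6 (EE e k) v = 0 ∧ ∃ s : ZMod 3, v = sn j x + s • sn i (e i) := fun x => by
    obtain ⟨s, hs⟩ := sol _ (d2 (u j) x) hi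
    refine ⟨_, yc h hy m ?_ ?_, ?_, s, rfl⟩
    · rw [mon_add, fj, mon_smul, mon_sn, Perm.one_apply, hf]
    · rw [β6_add, β6_smul, β6_sn, β6_sn, hs]
    · rw [β6_add, β6_smul, β6_sn, β6_sn]
      simp only [EE, k0, d2, Pi.smul_apply, smul_eq_mul]; ring
  obtain ⟨v, v1, v2, s, rfl⟩ := V e0
  obtain ⟨w, w1, w2, s', rfl⟩ := V f0
  obtain ⟨l, hl⟩ := p1 h h' p v1 w1 (yc h hy m (EE_fix hf k) ((β6_EE u e k).trans h1)) (by
    simp only [β6_add, β6_add', β6_smul, β6_smul', WA.β6_ne ij, WA.β6_ne (Ne.symm ij), β6_self]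
    rw [β6_sn, sn_self, U0_spec.2.2.2.2.2]; simp) v2 w2
  obtain ⟨x, hx⟩ := EE_im (A := A) (e := e) (a := k) fun n => im n _ fun hn => hn ▸ k0
  obtain ⟨g, hg⟩ := all h hy hc m (fj x0) su hx (EE_fix hf k) l
  exact hn (WB.sm _ _ (e0' n) (congrFun (one_of h (nc h h' p ⟨_, _, rfl⟩ hl hg)).1 n))

open WA2 in
theorem wbThm : WBThm.{u} := by
  intro G _ _ z t y t' κ κ' R R' r r' h h' p N ⟨A, h1, h2⟩
  obtain ⟨u, c, hy, ct, hc, m⟩ := h.nfq p.cm h1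
  choose e e0 hf im using fun i => WB.m1 (A i) ((h.three' ⟨p.cm, h'.z3⟩ h1).2 rfl i) (h2 i)
  by_cases h0 : ∀ i, d2 (u i) (e i) = 0
  · choose x hx using fun i => (im i ((-u) i) (by simpa [d2, neg_add_eq_zero, sub_eq_zero] using h0 i)).2
    obtain ⟨k, e1⟩ := conj_y h hy m x
    refine ⟨x, ?_⟩
    rw [e1, show x - mon 1 A x = -u from funext hx, add_neg_cancel, h.k0, one_mul]
    exact (Commute.mul_left (zp_comm h.tz k).symm ct).eq
  obtain ⟨j, hj⟩ := not_forall.1 h0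
  obtain ⟨k, l, h3, h4, h5⟩ := WB.la fun i => d2 (u i) (e i)
  exact (core h h' p N hy hc m (s := sn j (e j)) (by rw [mon_sn, Perm.one_apply, hf]) (by rwa [β6_sn]) e0 hf
    ((β6_EE u e k).trans h3) ((β6_EE u e l).trans h4) h5 fun s t n =>
    (im n _ (by simp only [d2, Pi.smul_apply, smul_eq_mul]; ring)).2).elim

end CL.E63
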