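/-
Recognition of `Fi₂₂` from a 3-centraliser (S3368): weak closure, the case of a cyclic action.
-/
import Cfsg.Agent.Rec.F3Base2

set_option autoImplicit false

namespace CL.F3

open Subgroup Cfsg CL.Grp CL.G23 CL.Even Equiv
open CL.U63 hiding Mt Mq MS P1Thm WCThm
open scoped Matrix

universe u

namespace WC

theorem cyc3 : ∀ π : P3, π ≠ 1 → π ^ 3 = 1 → π 0 ≠ 0 ∧ π (π 0) ≠ 0 ∧ π (π 0) ≠ π 0 ∧ π (π (π 0)) = 0 ∧
    π⁻¹ 0 = π (π 0) ∧ π⁻¹ (π (π 0)) = π 0 ∧ ∀ i, i = 0 ∨ i = π 0 ∨ i = π (π 0) := by decide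

variable {π : P3} {A : A3}

theorem mon_sub (v w : W6) : mon π A (v - w) = mon π A v - mon π A w := by
  rw [sub_eq_add_neg, sub_eq_add_neg, mon_add, mon_neg]

/-- the norm map -/
def nm (π : P3) (A : A3) (v : W6) : W6 := v + mon π A v + mon π A (mon π A v)

theorem solve (h1 : π ≠ 1) (h3 : π ^ 3 = 1) {u : W6} (h : nm π A u = 0) : ∃ x, u + (x - mon π A x) = 0 := by
  obtain ⟨c1, c2, c3, c4, c5, c6, c7⟩ := cyc3 π h1 h3
  have e0 : u 0 + A 0 *ᵥ u (π (π 0)) + A 0 *ᵥ (A (π (π 0)) *ᵥ u (π 0)) = 0 := by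
    simpa only [nm, mon, Pi.add_apply, c5, c6, Pi.zero_apply] using congrFun h 0
  have e1 : u = sn 0 (u 0) + sn (π 0) (u (π 0)) + sn (π (π 0)) (u (π (π 0))) := funext fun i => by
    rcases c7 i with rfl | rfl | rfl <;> simp [sn, c1, c2, c3, c1.symm, c2.symm, c3.symm]
  have e2 : sn 0 (u 0) + mon π A (sn (π (π 0)) (u (π (π 0)))) + mon π A (mon π A (sn (π 0) (u (π 0)))) = 0 := by
    rw [mon_sn, mon_sn, mon_sn, c4, ← sn_add, ← sn_add, e0, sn_zero]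
  refine ⟨-sn (π 0) (u (π 0)) - mon π A (sn (π 0) (u (π 0))) - sn (π (π 0)) (u (π (π 0))), ?_⟩
  rw [mon_sub, mon_sub, mon_neg, ← e2]
  nth_rw 1 [e1]
  abel

theorem nm_ne (h1 : π ≠ 1) (h3 : π ^ 3 = 1) {a : V2} (h : nm π A (sn 0 a) = 0) : a = 0 := by
  obtain ⟨c1, c2, -⟩ := cyc3 π h1 h3
  have := congrFun h 0
  rwa [nm, mon_sn, mon_sn, Pi.add_apply, Pi.add_apply, sn_self, sn_ne c1.symm, sn_ne c2.symm, add_zero,
    add_zero] at this

theorem nm_lin (j k : ZMod 3) (v w : W6) : nm π A (j • v + k • w) = j • nm π A v + k • nm π A w := by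
  simp only [nm, mon_add, mon_smul, smul_add]
  abel

section
variable (hd : ∀ i, (A i).det = 1) (h3 : ∀ v, mon π A (mon π A (mon π A v)) = v)
include h3

theorem nm_fix (v : W6) : mon π A (nm π A v) = nm π A v := by
  rw [nm, mon_add, mon_add, h3]
  abel

include hd

theorem nm_β (v w : W6) : β6 (nm π A v) (nm π A w) = 0 := by
  have e : ∀ x, β6 (mon π A x) (nm π A w) = β6 x (nm π A w) := fun x => by
    nth_rw 1 [← nm_fix h3 w]
    rw [β6_mon hd, one_mul]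
  generalize nm π A w = n at e
  rw [nm, β6_add', β6_add', e (mon π A v), e v]
  exact (by decide : ∀ a : ZMod 3, a + a + a = 0) _

theorem sub_β (v : W6) : β6 (v - mon π A v) (mon π A (v - mon π A v)) = 0 := by
  have e1 : β6 (mon π A v) (mon π A (mon π A v)) = β6 v (mon π A v) := by rw [β6_mon hd, one_mul]
  have e2 : β6 v (mon π A (mon π A v)) = -β6 v (mon π A v) := by
    nth_rw 1 [← h3 v]
    rw [β6_mon hd, one_mul, ← e1, β6_swap]
  rw [mon_sub, sub_eq_add_neg, sub_eq_add_neg, β6_add, β6_add', β6_add', β6_neg, β6_neg, β6_neg', β6_neg',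
    β6_self, e1, e2]
  exact (by decide : ∀ a : ZMod 3, a + -0 + (- -a + - -a) = 0) _

end

theorem sub_nm (v : W6) : v - mon π A v - mon π A (v - mon π A v) = nm π A v := by
  rw [mon_sub, nm]
  nth_rw 4 [← neg_neg (mon π A v)]
  rw [← add3]
  abel

variable {G : Type u} [Group G] [Finite G] {z t y t' : G} {κ κ' : W6 → G} {R R' : Subgroup G} {r r' : Fin 3 → G}

theorem core (h : MS z t κ R r) (h' : MS y t' κ' R' r') (yz : y * z = z * y) (yt : y * t = t * y)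
    (m : Mq z κ y π A) (h1 : π ≠ 1) (h3 : π ^ 3 = 1) (yQ : ¬ InQ z κ y) (w' : W0 y κ') (cy : Cyc y κ')
    (zQ : ¬ InQ y κ' z) (wy : ∀ g, InQ y κ' (g * y * g⁻¹) → g * y * g⁻¹ ∈ zpowers y) : False := by
  have hd := h.det_one yz m
  have mt := h.mt_of_mq yt m
  have c3 : ∀ v, mon π A (mon π A (mon π A v)) = v := fun v => h.k_inj (by
    rw [← mt, ← mt, ← mt]
    calc _ = y ^ 3 * κ v * (y ^ 3)⁻¹ := by simp only [pow_succ, pow_zero, one_mul, mul_inv_rev, mul_assoc]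
      _ = _ := by rw [h'.z3]; group)
  have tn : ∀ v, T3 y (κ (nm π A v)) := fun v => ⟨(mt.comm (nm_fix c3 v)).symm, h.k3 _⟩
  obtain ⟨i, j, k, n0, hn⟩ := w'.f2a cy z _ _ ⟨yz.symm, h.z3⟩ (tn (sn 0 e0)) (tn (sn 0 f0)) (h.kz _).symm
    (h.kz _).symm (h.kcomm (nm_β hd c3 _ _))
  rw [mul_assoc, ← h.ksmul, ← h.ksmul, ← h.kadd (by rw [β6_smul, β6_smul', nm_β hd c3, mul_zero, mul_zero]),
    ← nm_lin, ← sn_smul, ← sn_smul, ← sn_add] at hn
  have n1 := @nm_ne π A h1 h3 (j • e0 + k • f0)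
  have n2 := h.conj_k mt (sn 0 (j • e0 + k • f0) - mon π A (sn 0 (j • e0 + k • f0)))
  rw [sub_β hd c3, sub_nm, neg_zero, zp_zero, mul_one] at n2
  generalize nm π A (sn 0 (j • e0 + k • f0)) = n at hn n1 n2
  have q1 : InQ y κ' (κ n) := by
    have e1 := h'.inQ_normc yt.symm hn
    rw [← conj_mul, zp_comm h.tz, mul_inv_cancel_right, h.tk] at e1
    have e2 := h'.inQ_mul (h'.inQ_inv e1) hn
    rw [mul_inv_rev, mul_assoc, inv_mul_cancel_left, h.kinv, neg_neg, ← h.kadd (β6_self n), add3, ← h.kinv] at e2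
    simpa using h'.inQ_inv e2
  have sq1 : ∀ {a : G} {l : ZMod 3}, a ^ 3 = 1 → l ≠ 0 → zp (zp a l) l = a := fun {a l} ha hl => by
    rw [zp_zp ha, (by decide : ∀ l : ZMod 3, l ≠ 0 → l * l = 1) l hl, zp_one]
  have i0 : i = 0 := by
    by_contra hi
    have e1 : zp z i ∈ h'.QQ := (mul_mem_cancel_right (show κ n ∈ h'.QQ from q1)).1 hn
    exact zQ (sq1 h.z3 hi ▸ pow_mem e1 _)
  have n3 : n ≠ 0 := fun e => n0 ⟨i0, (by decide : ∀ j k : ZMod 3, j • e0 + k • f0 = 0 → j = 0 ∧ k = 0) j k (n1 e)⟩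
  have q2 := wy _ (n2 ▸ h'.inQ_mul q1 h'.inQ_z)
  rw [n2] at q2
  obtain ⟨l, hl⟩ := (mem_zp h'.z3).1 ((mul_mem_cancel_right (mem_zpowers y)).1 q2)
  by_cases l0 : l = 0
  · exact n3 (h.k_inj (by rw [hl, l0, zp_zero, h.k0]))
  · exact yQ (by rw [← sq1 h'.z3 l0, ← hl, ← h.ksmul]; exact h.inQ_k _)

end WC

open WC in
theorem wcThm : WCThm.{u} := by
  intro G _ _ z t y t' κ κ' R R' r r' h h' p
  obtain ⟨u, c, π, A, e, ct, cz, mc, -, m⟩ := h.nfc p.cm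
  by_cases h1 : π = 1
  · exact ⟨A, h1 ▸ m⟩
  exfalso
  have h3 := (h.three' ⟨p.cm, h'.z3⟩ m).1
  have e1 : κ u * κ (mon π A u) * κ (mon π A (mon π A u)) * c ^ 3 = κ 0 * 1 := by
    rw [h.k0, mul_one, ← h'.z3, ← mc (mon π A u), ← mc u, e]
    simp only [pow_succ, pow_zero, one_mul, mul_assoc, inv_mul_cancel_left]
  rw [h.mul, mul_assoc (κ _), ← h.kzp, ← mul_assoc, h.mul, mul_assoc, mul_assoc] at e1
  have zt : ∀ k, Commute (zp z k) t := fun k => (zp_comm h.tz k).symm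
  obtain ⟨x, hx⟩ := solve h1 h3 (h.ct_eq ((zt _).mul_left ((zt _).mul_left (Commute.pow_left ct 3))).eq
    (Commute.one_left t).eq e1).1
  have e2 : Commute (κ x * y * (κ x)⁻¹) t := by
    rw [e, ← conj_mul, h.kk, h.conj_k mc, mul_assoc (κ u), ← mul_assoc (zp z _), ← mul_assoc (zp z _), ← h.kzp,
      ← mul_assoc, ← mul_assoc, ← mul_assoc, h.mul, hx, h.k0, one_mul]
    exact (((zt _).mul_left (zt _)).mul_left (zt _)).mul_left ct
  refine core (h.conjQ (-x)) h' p.cm ?_ ((h.mq_conjQ _ p.cm).2 m) h1 h3 (fun q => p.yQ ((h.inQ_conjQ _).1 q)) p.w'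
    (p.c1 ⟨y, π, A, p.cm, m, h1, h3⟩) p.zQ p.wy
  rw [← h.kinv]
  simpa [mul_assoc] using (e2.conj (κ x)⁻¹).eq

end CL.F3
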