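/-
Recognition of `²E₆(2)` from a 3-centraliser (S3337): the case of a cyclic action, and `Z` is not weakly closed in `Q`.
-/
import Cfsg.Agent.Rec.E63Fd
import Cfsg.Agent.Rec.F3WC

set_option autoImplicit false

namespace CL.E63

open Subgroup Cfsg CL.Grp CL.G23 CL.Even Equiv
open CL.U63 hiding Mt Mq MS P1Thm WCThm
open CL.F3 hiding MB MS0 MS PM P1Thm PKThm P2Thm W0 Pr2 YM W0Thm WAThm WCThm WBThm WGThm Y1Thm YAThm YBThm YCThm
open scoped Matrix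

universe u

namespace WC

open CL.F3.WC

variable {G : Type u} [Group G] [Finite G] {z t y t' : G} {κ κ' : W6 → G} {R R' : Subgroup G} {r r' : Fin 3 → G}
  {π : P3} {A : A3}

theorem core (h : MS z t κ R r) (h' : MS y t' κ' R' r') (yz : y * z = z * y) (yt : y * t = t * y)
    (m : Mq z κ y π A) (h1 : π ≠ 1) (h3 : π ^ 3 = 1) (yQ : ¬ InQ z κ y) (w' : W0 y κ') (N : N2 y κ')
    (zQ : ¬ InQ y κ' z) (wy : WCl y κ') : False := by
  have hd := h.det_one yz m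
  have mt := h.mt_of_mq yt m
  have c3 : ∀ v, mon π A (mon π A (mon π A v)) = v := fun v => h.k_inj (by
    rw [← mt, ← mt, ← mt]
    calc _ = y ^ 3 * κ v * (y ^ 3)⁻¹ := by simp only [pow_succ, pow_zero, one_mul, mul_inv_rev, mul_assoc]
      _ = _ := by rw [h'.z3]; group)
  have tn : ∀ v, T3 y (κ (nm π A v)) := fun v => ⟨(mt.comm (nm_fix c3 v)).symm, h.k3 _⟩
  have sq1 : ∀ {a : G} {l : ZMod 3}, a ^ 3 = 1 → l ≠ 0 → zp (zp a l) l = a := fun {a l} ha hl => by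
    rw [zp_zp ha, (by decide : ∀ l : ZMod 3, l ≠ 0 → l * l = 1) l hl, zp_one]
  have e0' : ∀ j k, zp (κ (nm π A (sn 0 e0))) j * zp (κ (nm π A (sn 0 f0))) k = κ (nm π A (sn 0 (j • e0 + k • f0))) :=
    fun j k => by
      rw [← h.ksmul, ← h.ksmul, ← h.kadd (by rw [β6_smul, β6_smul', nm_β hd c3, mul_zero, mul_zero]),
        ← nm_lin, ← sn_smul, ← sn_smul, ← sn_add]
  have n2 : ∀ v, κ (v - mon π A v) * y * (κ (v - mon π A v))⁻¹ = κ (nm π A v) * y := fun v => by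
    rw [h.conj_k mt, sub_β hd c3, sub_nm, neg_zero, zp_zero, mul_one]
  have fin : ∀ j k : ZMod 3, κ (nm π A (sn 0 (j • e0 + k • f0))) * y ∈ zpowers y → j = 0 ∧ k = 0 := fun j k q2 => by
    obtain ⟨l, hl⟩ := (mem_zp h'.z3).1 ((mul_mem_cancel_right (mem_zpowers y)).1 q2)
    by_cases l0 : l = 0
    · exact (by decide : ∀ j k : ZMod 3, j • e0 + k • f0 = 0 → j = 0 ∧ k = 0) j k
        (nm_ne h1 h3 (h.k_inj (by rw [hl, l0, zp_zero, h.k0])))
    · exact absurd (by rw [← sq1 h'.z3 l0, ← hl, ← h.ksmul]; exact h.inQ_k _) yQ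
  obtain ⟨j, k, i, n0, hn⟩ | ⟨j, k, n0, B, hn, b0⟩ := w'.f3b _ _ z (tn (sn 0 e0)) (tn (sn 0 f0)) ⟨yz.symm, h.z3⟩
    (h.kcomm (nm_β hd c3 _ _)) (h.kz _) (h.kz _) <;> rw [e0'] at hn
  · have q1 : InQ y κ' (κ (nm π A (sn 0 (j • e0 + k • f0)))) := by
      generalize nm π A (sn 0 (j • e0 + k • f0)) = n at hn
      have e1 := h'.inQ_normc yt.symm hn
      rw [← conj_mul, zp_comm h.tz, mul_inv_cancel_right, h.tk] at e1
      have e2 := h'.inQ_mul hn (h'.inQ_inv e1)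
      rw [mul_inv_rev, mul_assoc, mul_inv_cancel_left, h.kinv, neg_neg, ← h.kadd (β6_self n), add3, ← h.kinv] at e2
      simpa using h'.inQ_inv e2
    obtain ⟨rfl, rfl⟩ := fin j k (n2 _ ▸ wy _ (n2 _ ▸ h'.inQ_mul q1 h'.inQ_z))
    have e1 : zp z i ∈ h'.QQ := (mul_mem_cancel_left (show _ ∈ h'.QQ from q1)).1 hn
    exact zQ (sq1 h.z3 (fun e => n0 ⟨rfl, rfl, e⟩) ▸ pow_mem e1 _)
  · refine n0 (fin j k (n2 _ ▸ N _ (B * 1) 0 ?_ ?_ (by simpa using b0))) <;> rw [n2]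
    · rw [(tn _).1, mul_assoc, (tn _).1]
    · exact hn.mul' h'.z3 (tn _).1 (h'.inQ_mq h'.inQ_z)

omit [Finite G] in
theorem zpow_conj {g a : G} (h : a ∈ zpowers z) : g * a * g⁻¹ ∈ zpowers (g * z * g⁻¹) :=
  let ⟨k, e⟩ := h; ⟨k, by rw [← e]; exact conj_zpow⟩

omit [Finite G] in
theorem wcl_conj (w : WCl z κ) (g : G) : WCl (g * z * g⁻¹) fun v => g * κ v * g⁻¹ := fun a e => by
  simpa [mul_assoc] using zpow_conj (g := g) (w (g⁻¹ * a * g) ((inQ_conj g _).1 (by simpa [mul_assoc] using e)))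

theorem pr2 (w0 : W0Thm.{u}) (h : MS z t κ R r) (wz : WCl z κ) {g : G} (h1 : g * z * g⁻¹ * z = z * (g * z * g⁻¹))
    (h2 : g * z * g⁻¹ ∉ zpowers z) : Pr2 z κ (g * z * g⁻¹) fun v => g * κ v * g⁻¹ :=
  ⟨h1, w0 h, w0 (h.conj g), fun e => h2 (wz g e), fun e => by
    have e1 := wcl_conj wz g g⁻¹ (by simpa [mul_assoc] using e)
    simp only [mul_assoc, inv_inv, inv_mul_cancel_left, inv_mul_cancel, mul_one] at e1
    rw [← mul_assoc] at e1
    rcases tri3 (h.conj g).z3 e1 with e | e | e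
    · exact h.z1 e
    · exact h2 (e ▸ mem_zpowers z)
    · exact h2 (inv_eq_iff_eq_inv.2 e ▸ inv_mem (mem_zpowers z)), wz, wcl_conj wz g⟩

theorem n1 (w0 : W0Thm.{u}) (la : LAThm.{u}) (a1 : WA1Thm.{u}) (h : MS z t κ R r) (wz : WCl z κ) : N1 z κ :=
  fun g A m c q e => by_contra fun k =>
    a1 h (h.conj g) (pr2 w0 h wz c k) (la h (h.conj g) (w0 (h.conj g))) A m q e

theorem n2 (w0 : W0Thm.{u}) (la : LAThm.{u}) (a1 : WA1Thm.{u}) (a2 : WA2Thm.{u}) (h : MS z t κ R r) (wz : WCl z κ) :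
    N2 z κ := fun g A m c q e => by_contra fun k => by
  refine a2 h (h.conj g) (pr2 w0 h wz c k) (la h (h.conj g) (w0 (h.conj g)))
    (n1 w0 la a1 (h.conj g) (wcl_conj wz g)) A m q (fun n hn e' => k ?_) e
  obtain ⟨l, hl⟩ := (by decide : ∀ m n : Fin 3, n ≠ m → ∃ l, ∀ i, i ≠ l → i = m ∨ i = n) m n hn
  exact n1 w0 la a1 h wz g A l c q fun i hi => (hl i hi).elim (· ▸ e) (· ▸ e')

end WC

open WC CL.F3.WC in
theorem wcThm : WCThm.{u} := by
  intro G _ _ z t y t' κ κ' R R' r r' h h' p N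
  obtain ⟨u, c, π, A, e, ct, cz, mc, -, m⟩ := h.nfc p.cm
  by_cases h1 : π = 1
  · exact ⟨A, h1 ▸ m⟩
  exfalso
  have h3 := (h.three' ⟨p.cm, h'.z3⟩ m).1
  have e1 : κ u * κ (mon π A u) * κ (mon π A (mon π A u)) * c ^ 3 = κ 0 * 1 := by
    rw [h.k0, mul_one, ← h'.z3, ← mc (mon π A u), ← mc u, e]
    simp only [pow_succ, pow_zero, one_mul, mul_assoc, inv_mul_cancel_left]
  rw [h.mul, mul_assoc (κ _), ← h.kzp, ← mul_assoc, h.mul, mul_assoc, mul_assoc] at e1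
  have zt : ∀ k, Commute (zp z k) t := fun k => (zp_comm h.tz k).symm
  obtain ⟨x, hx⟩ := solve h1 h3 (h.ct_eq ((zt _).mul_left ((zt _).mul_left (Commute.pow_left ct 3))).eq
    (Commute.one_left t).eq e1).1
  have e2 : Commute (κ x * y * (κ x)⁻¹) t := by
    rw [e, ← conj_mul, h.kk, h.conj_k mc, mul_assoc (κ u), ← mul_assoc (zp z _), ← mul_assoc (zp z _), ← h.kzp,
      ← mul_assoc, ← mul_assoc, ← mul_assoc, h.mul, hx, h.k0, one_mul]
    exact (((zt _).mul_left (zt _)).mul_left (zt _)).mul_left ct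
  refine E63.WC.core (h.conjQ (-x)) h' p.cm ?_ ((h.mq_conjQ _ p.cm).2 m) h1 h3
    (fun q => p.yQ ((h.inQ_conjQ _).1 q)) p.w' N p.zQ p.wy
  rw [← h.kinv]
  simpa [mul_assoc] using (e2.conj (κ x)⁻¹).eq

open WC in
theorem nwqThm : NWQThm.{u} := by
  intro w0 la a1 a2 wb wc wg G _ _ z t κ R r h ⟨g, h1, h2⟩
  by_contra hq
  have wz : WCl z κ := fun g e => by_contra fun e' => hq ⟨g, e, e'⟩
  have h' := h.conj g
  have p := pr2 w0 h wz h1 h2
  have N := n2 w0 la a1 a2 h wz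
  have N' := n2 w0 la a1 a2 h' p.wy
  have c1 : Act z κ (g * z * g⁻¹) := (wc h h' p N').imp fun A m => ⟨m, fun j e => h2 (N g A j h1 m e)⟩
  have c2 : Act _ _ z := (wc h' h p.symm N).imp fun A m => ⟨m, fun j e => p.zQ (by
    have e1 := N' g⁻¹ A j (by simpa [mul_assoc] using h1.symm) (by simpa [mul_assoc] using m) e
    simp only [mul_assoc, inv_inv, inv_mul_cancel_left, inv_mul_cancel, mul_one] at e1
    rw [← mul_assoc] at e1
    obtain ⟨k, hk⟩ := (mem_zp h'.z3).1 e1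
    have := h'.inQ_zp k
    rwa [← hk] at this)⟩
  exact wg h h' p c1 c2 (wb h h' p (n1 w0 la a1 h' p.wy) c1) (wb h' h p.symm (n1 w0 la a1 h wz) c2)

end CL.E63
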