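/-
Recognition of `²E₆(2)` from a 3-centraliser (S3337), copied from `F3WG`, 3-local part: weak closure, the good case.
-/
import Cfsg.Agent.Rec.E63Fd

set_option autoImplicit false

namespace CL.E63

open Subgroup Cfsg CL.Grp CL.G23 CL.Even Equiv
open CL.U63 hiding Mt Mq MS P1Thm WCThm
open CL.F3 hiding MB MS0 MS PM P1Thm PKThm P2Thm W0 Pr2 YM W0Thm WAThm WCThm WBThm WGThm Y1Thm YAThm YBThm YCThm
open scoped Matrix

universe u

namespace WG

variable {G : Type u} [Group G] {z t y t' : G} {κ κ' : W6 → G} {R R' : Subgroup G} {r r' : Fin 3 → G}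

def PP (z : G) (κ : W6 → G) (y : G) (κ' : W6 → G) : Prop :=
  (∃ a b x x' k l, a ≠ b ∧ x ≠ 0 ∧ x' ≠ 0 ∧ InQ y κ' (κ (sn a x) * zp z k) ∧ InQ y κ' (κ (sn b x') * zp z l)) ∧
  ∃ ρ e, ρ * ρ = 1 ∧ ρ * y = y * ρ ∧ (∀ n, InQ z κ n → InQ y κ' n → ρ * n = n * ρ) ∧ T3 y e ∧
    ρ * e * ρ⁻¹ = e⁻¹ ∧ ¬ InQ y κ' e

theorem ksum (h : MB z t κ R r) (v : W6) : κ v = κ (sn 0 (v 0)) * κ (sn 1 (v 1)) * κ (sn 2 (v 2)) := by
  rw [← h.kadd, ← h.kadd, ← sn_sum]
  · rw [β6_sn]; simp [sn, d2]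
  · rw [β6_sn]; simp [sn, d2]

theorem rinv (h : MB z t κ R r) (i : Fin 3) (x : V2) : r i * κ (sn i x) * (r i)⁻¹ = (κ (sn i x))⁻¹ := by
  rw [h.ra, mon_sgn, sn_self, add3, h.kinv]

theorem rfix (h : MB z t κ R r) (i : Fin 3) {v : W6} (e : v i = 0) : r i * κ v = κ v * r i :=
  (h.ra i).comm (by rw [mon_sgn, e, sn_zero, add_zero])

theorem zp_in {H : Subgroup G} {a : G} (ha : a ∈ H) (k : ZMod 3) : zp a k ∈ H := pow_mem ha _

theorem sol : ∀ ε : Fin 3 → ZMod 3, (∀ i, ε i ≠ 0) → ∃ b : Fin 3 → ZMod 3, ∃ i, b i * ε i ≠ 0 ∧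
    b 0 * b 0 * ε 0 + b 1 * b 1 * ε 1 + b 2 * b 2 * ε 2 = 0 := by decide +kernel

theorem main0 [Finite G] (h : MB z t κ R r) (h' : MS y t' κ' R' r') (cm : y * z = z * y) (w' : W0 y κ')
    (yQ : ¬ InQ z κ y) (wy : ∀ g, InQ y κ' (g * y * g⁻¹) → g * y * g⁻¹ ∈ zpowers y) {A : A3} (m : Mt κ y 1 A)
    (h3 : ∀ i, A i ^ 3 = 1) (h1 : ∀ i, A i ≠ 1) : PP z κ y κ' := by
  choose e f ε hε he hef hAe hAf hfix using fun i => m3_frame (A i) (h3 i) (h1 i)
  have ry : ∀ i, r i * y = y * r i := fun i => (h.r_comm cm m i).symm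
  have ey : ∀ i, T3 y (κ (sn i (e i))) := fun i =>
    ⟨(m.comm (by rw [mon_sn]; exact congrArg _ (hAe i))).symm, h.k3 _⟩
  have key : ∀ v k, InQ y κ' (κ v * zp z k) → ∀ i, v i = 0 ∨ InQ y κ' (κ (sn i (e i))) := fun v k hn i => by
    have e1 : mon 1 A v = v := (h.keq (k := k) (l := k) (by
      rw [← m, mul_assoc, (show Commute y (zp z k) from zp_comm cm k).inv_left.eq, ← mul_assoc, mul_assoc y,
        ← h'.inQ_cz hn, mul_inv_cancel_right])).1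
    obtain ⟨a, ha⟩ := hfix i (v i) (congrFun e1 i)
    have e2 : (κ v * zp z k)⁻¹ * (r i * (κ v * zp z k) * (r i)⁻¹) = κ (sn i (v i)) := by
      rw [← conj_mul, h.ra, zp_comm (h.rz i), mul_inv_cancel_right, mon_sgn,
        h.kadd (by rw [β6_sn]; simp only [d2]; ring), mul_assoc (κ v), h.kzp (sn i (v i))]
      group
    have e3 : κ (sn i (v i)) ∈ h'.QQ := e2 ▸ h'.inQ_mul (h'.inQ_inv hn) (h'.inQ_normc (ry i) hn)
    by_cases a0 : a = 0
    · exact Or.inl (by rw [ha, a0, zero_smul])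
    · refine Or.inr ?_
      have := zp_in e3 a
      rwa [← h.ksmul, ← sn_smul, ha, smul_smul, (by decide : ∀ a : ZMod 3, a ≠ 0 → a * a = 1) a a0, one_smul] at this
  have nall : ∃ j, ¬ InQ y κ' (κ (sn j (e j))) := by
    by_contra hc
    push Not at hc
    obtain ⟨b, i, hb, hs⟩ := sol ε hε
    have e1 : (fun i => b i • f i) - mon 1 A (fun i => b i • f i) = fun i => (-(b i * ε i)) • e i := funext fun i => by
      rw [Pi.sub_apply, mon_base, Matrix.mulVec_smul, hAf, smul_add, smul_smul, neg_smul]; abel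
    have e2 : β6 (fun i => b i • f i) (mon 1 A (fun i => b i • f i)) = 0 := by
      have e3 : ∀ i, d2 (b i • f i) (A i *ᵥ (b i • f i)) = -(b i * b i * ε i) := fun i => by
        have := hef i
        rw [Matrix.mulVec_smul, hAf]
        simp only [d2, Pi.smul_apply, Pi.add_apply, smul_eq_mul] at this ⊢
        linear_combination (-(b i * b i * ε i)) * this
      simp only [β6, mon_base, e3]
      linear_combination -hs
    have e4 := h.conj_k m fun i => b i • f i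
    rw [e1, e2, neg_zero, zp_zero, mul_one] at e4
    have e5 : κ (fun i => (-(b i * ε i)) • e i) ∈ h'.QQ := by
      rw [ksum h]
      simp only [sn_smul, h.ksmul]
      exact mul_mem (mul_mem (zp_in (hc 0) _) (zp_in (hc 1) _)) (zp_in (hc 2) _)
    have e6 := wy _ (e4 ▸ h'.inQ_mul e5 h'.inQ_z)
    rw [e4, mul_mem_cancel_right (mem_zpowers y), mem_zp h'.z3] at e6
    obtain ⟨k, e7⟩ := e6
    by_cases k0 : k = 0
    · rw [k0, zp_zero, ← h.k0] at e7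
      have := congrFun (h.k_inj e7) i
      exact (by decide : ∀ c : ZMod 3, ∀ x : V2, c ≠ 0 → x ≠ 0 → (-c) • x ≠ 0) _ _ hb (he i) this
    · have := zp_in (H := h.QQ) (h.inQ_k fun i => (-(b i * ε i)) • e i) k
      rw [e7, zp_zp h'.z3, (by decide : ∀ a : ZMod 3, a ≠ 0 → a * a = 1) k k0, zp_one] at this
      exact yQ this
  obtain ⟨j, hj⟩ := nall
  have oth : ∀ i, i ≠ j → InQ y κ' (κ (sn i (e i))) := fun i hi =>
    (w'.gam (r i) (r j) _ _ (ry i) (ry j) (h.r2 i) (h.r2 j) (h.rr i j) (ey i) (ey j) (rinv h i _)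
      (rfix h j (sn_ne hi.symm _)) (rinv h j _)).resolve_right hj
  obtain ⟨a, b, hab, ha, hb⟩ := (by decide : ∀ j : Fin 3, ∃ a b, a ≠ b ∧ a ≠ j ∧ b ≠ j) j
  refine ⟨⟨a, b, e a, e b, 0, 0, hab, he a, he b, by simpa only [zp_zero, mul_one] using oth a ha,
    by simpa only [zp_zero, mul_one] using oth b hb⟩, r j, _, h.r2 j, ry j, ?_, ey j, rinv h j _, hj⟩
  rintro n ⟨v, k, rfl⟩ hn
  exact (Commute.mul_right (rfix h j ((key v k hn j).resolve_right hj)) (zp_comm (h.rz j) k)).eq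

theorem main [Finite G] (h : MS z t κ R r) (h' : MS y t' κ' R' r') (p : Pr2 z κ y κ') (ha : Act z κ y)
    (hg : Good t κ y) : PP z κ y κ' := by
  obtain ⟨A, m, h1⟩ := ha
  obtain ⟨w, hw⟩ := hg
  have h2 := h.conjQ (-w)
  have m2 := h2.mt_of_mq (c := y) (by
    rw [← h.kinv, inv_inv]
    calc y * ((κ w)⁻¹ * t * κ w) = (κ w)⁻¹ * (κ w * y * (κ w)⁻¹ * t) * κ w := by group
      _ = _ := by rw [hw]; group) ((h.mq_conjQ (-w) p.cm).2 m)
  obtain ⟨⟨a, b, x, x', k, l, hab, hx, hx', ea, eb⟩, ρ, e, q1, q2, q3, q4⟩ := main0 h2.toMB h' p.cm p.w'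
    (fun c => p.yQ ((h.inQ_conjQ _).1 c)) p.wy m2 ((h.three' ⟨p.cm, h'.z3⟩ m).2 rfl) h1
  simp only [h.kk, mul_assoc, ← zp_add h.z3] at ea eb
  exact ⟨⟨a, b, x, x', _, _, hab, hx, hx', ea, eb⟩, ρ, e, q1, q2, fun n hn => q3 n ((h.inQ_conjQ _).2 hn), q4⟩

end WG

theorem wgThm : WGThm.{u} := by
  intro G _ _ z t y t' κ κ' R R' r r' h h' p a a' g g'
  obtain ⟨-, ρ, e, q1, q2, q3, q4, q5, q6⟩ := WG.main h h' p a g
  obtain ⟨⟨i, j, x, x', k, l, hij, hx, hx', ei, ej⟩, -⟩ := WG.main h' h p.symm a' g'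
  obtain ⟨-, -, π, B, -, -, -, -, hB, m⟩ := h'.nfc q2
  have fx : ∀ i x k, x ≠ 0 → InQ z κ (κ' (sn i x) * zp y k) → π i = i := fun i x k hx hn => by
    obtain ⟨l, e1⟩ := m (sn i x)
    have e2 := q3 _ hn ⟨_, _, rfl⟩
    rw [← mul_assoc, mul_assoc _ _ ρ, ← zp_comm q2, ← mul_assoc, mul_left_inj] at e2
    rw [e2, mul_inv_cancel_right, ← mul_one (κ' _), ← zp_zero y] at e1
    by_contra c
    have := congrFun (h'.keq e1).1 (π i)
    rw [mon_sn, sn_self, sn_ne c] at this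
    exact mulVec_ne _ (by rw [hB]; decide) x hx this.symm
  obtain rfl := (by decide : ∀ π : P3, ∀ a b, a ≠ b → π a = a → π b = b → π = 1) π i j hij (fx _ _ _ hx ei)
    (fx _ _ _ hx' ej)
  exact q6 (p.w'.l1 ρ e B q2 q1 m q4 q5)

end CL.E63
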