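/-
Recognition of `Fi₂₂` from a 3-centraliser (S3368): a conjugate of `z` in `Q`, symmetry and a cyclic element.
-/
import Cfsg.Agent.Rec.F3Base2

set_option autoImplicit false

namespace CL.F3

open Subgroup Cfsg CL.Grp CL.G23 CL.Even Equiv
open CL.U63 hiding Mt Mq MS P1Thm WCThm
open scoped Matrix

universe u

namespace Y1

variable {G : Type u} [Group G] {z t y b b' : G} {κ : W6 → G} {R : Subgroup G} {r : Fin 3 → G} {v w : W6}
  {k m : ZMod 3} {A A' : A3} {j : Fin 3}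

theorem hyp (hv : v ≠ 0) : ∃ e f e' f', β6 e v = 0 ∧ β6 f v = 0 ∧ β6 e' v = 0 ∧ β6 f' v = 0 ∧ β6 e f = 1 ∧
    β6 e' f' = 1 ∧ ∀ u, u = e ∨ u = f → β6 e' u = 0 ∧ β6 f' u = 0 := by
  obtain ⟨i, hi⟩ := Function.ne_iff.1 hv
  obtain ⟨x, hx⟩ := (by decide +kernel : ∀ a : V2, a ≠ 0 → ∃ x, d2 x a = 1) _ hi
  let g : Fin 3 → V2 → W6 := fun j a => sn j a + (-d2 a (v j)) • sn i x
  have h1 : ∀ j a, β6 (g j a) v = 0 := fun j a => by
    simp only [g, β6_add', β6_smul', β6_sn', hx]; ring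
  have h2 : ∀ j a j' a', j ≠ i → j' ≠ i → β6 (g j a) (g j' a') = d2 a (sn j' a' j) := fun j a j' a' n n' => by
    simp only [g, β6_add', β6_add, β6_smul', β6_smul, β6_self]
    rw [β6_sn', β6_sn, β6_sn', sn_ne n, sn_ne n']; simp [d2]
  obtain ⟨n1, n2, n3⟩ := (by decide : ∀ i : Fin 3, i + 1 ≠ i ∧ i + 2 ≠ i ∧ i + 2 ≠ i + 1) i
  refine ⟨g (i + 1) ![1, 0], g (i + 1) ![0, 1], g (i + 2) ![1, 0], g (i + 2) ![0, 1], h1 _ _, h1 _ _, h1 _ _, h1 _ _,
    by rw [h2 _ _ _ _ n1 n1, sn_self]; rfl, by rw [h2 _ _ _ _ n2 n2, sn_self]; rfl, ?_⟩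
  rintro _ (rfl | rfl) <;> rw [h2 _ _ _ _ n2 n1, h2 _ _ _ _ n2 n1, sn_ne n3] <;> simp [d2]

theorem comm (h : MB z t κ R r) (hy : y = κ v * zp z k) (e : β6 w v = 0) : κ w * y = y * κ w := by
  rw [hy, ← mul_assoc, h.kcomm e, mul_assoc, h.kzp, mul_assoc]

theorem key (h : MB z t κ R r) (hy : y = κ v * zp z k) (c : b * z = z * b) (c' : b' * z = z * b') (q : Mq z κ b 1 A)
    (q' : Mq z κ b' 1 A') (a : A j = 1) (a' : A' j = 1) (e : b * b' * b⁻¹ = b' * zp y 2) : v j = 0 := by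
  have hq : InQ z κ y := ⟨v, k, hy⟩
  refine (by decide +kernel : ∀ a : V2, (∀ x, d2 a x = 0) → a = 0) _ fun x => ?_
  obtain ⟨α, h1⟩ := q (sn j x)
  obtain ⟨α', h2⟩ := q' (sn j x)
  rw [mon_sn, Perm.one_apply, a, Matrix.one_mulVec] at h1
  rw [mon_sn, Perm.one_apply, a', Matrix.one_mulVec] at h2
  have c1 : Commute b z := c
  have c2 : Commute b' z := c'
  have c3 : Commute y z := h.inQ_cz hq
  have h3 : Commute (zp y 2) (κ (sn j x) * zp z α) := mul_inv_eq_iff_eq_mul.1 (by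
    have e1 : b' * zp y 2 * b * κ (sn j x) * (b' * zp y 2 * b)⁻¹ = b' * b * κ (sn j x) * (b' * b)⁻¹ := by
      calc _ = b * (b' * κ (sn j x) * b'⁻¹) * b⁻¹ := by rw [← e]; group
        _ = b * κ (sn j x) * b⁻¹ * zp z α' := by rw [h2, ← mul_assoc, mul_assoc _ _ b⁻¹, ← zp_comm c1.inv_left]; group
        _ = b' * κ (sn j x) * b'⁻¹ * zp z α := by
          rw [h1, h2, mul_assoc, mul_assoc, ← zp_add h.z3, ← zp_add h.z3, add_comm]
        _ = b' * (b * κ (sn j x) * b⁻¹) * b'⁻¹ := by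
          rw [h1, ← mul_assoc, mul_assoc _ (zp z α) b'⁻¹, ← zp_comm c2.inv_left]; group
        _ = _ := by group
    calc _ = b'⁻¹ * (b' * zp y 2 * b * κ (sn j x) * (b' * zp y 2 * b)⁻¹) * b' := by rw [← h1]; group
      _ = _ := by rw [e1, ← h1]; group)
  have h4 : Commute (zp y 2) (κ (sn j x)) := by
    have h6 : Commute (zp y 2) (zp z α) := c3.pow_pow _ _
    simpa using h3.mul_right h6.inv_right
  have h5 : Commute y (κ (sn j x)) := by
    have := h4.pow_left 2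
    rwa [zp_pow (h.inQ_cube hq), show ((2 : ℕ) : ZMod 3) * 2 = 1 from rfl, zp_one] at this
  rw [← β6_sn]
  refine h.β_of_comm ?_
  simpa [hy] using (h5.mul_left (Commute.inv_left (h.kzp (sn j x) k).symm)).eq

end Y1

open Y1 in
theorem y1Thm : Y1Thm.{u} := by
  intro G _ _ z t y t' κ κ' R R' r r' h h' _ w' hq hz
  have nz : ∀ v k, y = κ v * zp z k → v ≠ 0 := by
    rintro v k e rfl
    exact hz (by rw [e, h.k0, one_mul]; exact zp_mem z k)
  obtain ⟨v, k, hy⟩ := id hq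
  have ha : InQ y κ' z := by
    obtain ⟨e, f, -, -, a1, a2, -, -, a3, -⟩ := hyp (nz v k hy)
    have := w'.f1 (κ e) (κ f) (zp z 2) ⟨comm h.toMB hy a1, h.k3 _⟩ ⟨comm h.toMB hy a2, h.k3 _⟩
      (by rw [h.kk, a3, mul_one, h.kzp, mul_inv_cancel_right]) (h.kzp _ _).symm (h.kzp _ _).symm
    have := h'.inQ_mul this this
    rwa [← zp_add h.z3, show (2 : ZMod 3) + 2 = 1 from rfl, zp_one] at this
  have hb : ∃ b π A, InQ y κ' b ∧ b * z = z * b ∧ Mq z κ b π A ∧ π ≠ 1 ∧ π ^ 3 = 1 := by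
    by_contra! hn
    obtain ⟨v', l, e⟩ := id ha
    obtain ⟨e1, f1, e2, f2, a1, a2, a3, a4, a5, a6, a7⟩ := hyp (v := v') (by
      rintro rfl
      rw [h'.k0, one_mul] at e
      have l0 : l * l = 1 := (by decide : ∀ l : ZMod 3, l ≠ 0 → l * l = 1) l fun e' => h.z1 (by rw [e, e', zp_zero])
      exact hz (by simpa only [e, zp_zp h'.z3, l0, zp_one] using zp_mem z l))
    have bs : ∀ w, β6 w v' = 0 → ∃ A, Mq z κ (κ' w) 1 A ∧ ∀ i, A i ^ 3 = 1 := fun w hw => by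
      have c := comm h'.toMB e hw
      obtain ⟨_, _, π, A, -, -, -, -, -, q⟩ := h.nfc c
      obtain ⟨p1, p2⟩ := h.three' ⟨c, h'.k3 w⟩ q
      obtain rfl : π = 1 := by_contra fun n => hn _ _ _ (h'.inQ_k w) c q n p1
      exact ⟨A, q, p2 rfl⟩
    refine nz v k hy (funext fun j => ?_)
    have big : ∀ u, u = e1 ∨ u = f1 → ∀ U, Mq z κ (κ' u) 1 U → U j ^ 3 = 1 → U j ≠ 1 → v j = 0 := fun u hu U q p n => by
      have cu : κ' u * z = z * κ' u := comm h'.toMB e (by rcases hu with rfl | rfl <;> assumption)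
      have adj : ∀ w, β6 w v' = 0 → β6 w u = 0 → ∃ n : ℕ, ∃ A, κ' w * κ' u ^ n * z = z * (κ' w * κ' u ^ n) ∧
          Mq z κ (κ' w * κ' u ^ n) 1 A ∧ A j = 1 := fun w b1 b2 => by
        obtain ⟨B, qb, pb⟩ := bs w b1
        have c := comm h'.toMB e b1
        have h1 := (h.uniq (Commute.mul_left c cu) (qb.mul' h.z3 c q) (h'.kcomm b2 ▸ q.mul' h.z3 cu qb)).2
        obtain ⟨n, -, hn⟩ := (by decide +kernel : ∀ α : M2, α ^ 3 = 1 → α ≠ 1 → ∀ γ : M2, γ ^ 3 = 1 → γ * α = α * γ →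
          ∃ n < 3, γ * α ^ n = 1) _ p n _ (pb j) (congrFun h1 j)
        exact ⟨n, _, Commute.mul_left c (Commute.pow_left cu n), qb.mul' h.z3 c (q.pow h.z3 cu n), hn⟩
      obtain ⟨n, B, c, qb, hB⟩ := adj e2 a3 (a7 u hu).1
      obtain ⟨n', B', c', qb', hB'⟩ := adj f2 a4 (a7 u hu).2
      refine key h.toMB hy c c' qb qb' hB hB' ?_
      have c1 : Commute (κ' e2) (κ' u) := h'.kcomm (a7 u hu).1
      have c2 : Commute (κ' f2) (κ' u) := h'.kcomm (a7 u hu).2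
      have c3 : Commute (κ' u) (zp y 2) := h'.kzp u 2
      calc _ = κ' e2 * (κ' u ^ n * (κ' f2 * κ' u ^ n')) * (κ' u ^ n)⁻¹ * (κ' e2)⁻¹ := by group
        _ = κ' e2 * κ' f2 * (κ' e2)⁻¹ * κ' u ^ n' := by
          rw [((c2.symm.mul_right ((Commute.refl _).pow_right n')).pow_left n).eq, ← mul_assoc, mul_inv_cancel_right,
            ← mul_assoc, mul_assoc _ _ (κ' e2)⁻¹, ← (c1.inv_left.pow_right n').eq, ← mul_assoc]
        _ = _ := by rw [h'.kk, a6, mul_one, mul_assoc, ← (c3.pow_left n').eq, mul_assoc]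
    obtain ⟨A, q, p⟩ := bs e1 a1
    obtain ⟨A', q', p'⟩ := bs f1 a2
    by_cases n : A j = 1; swap
    · exact big _ (.inl rfl) _ q (p j) n
    by_cases n' : A' j = 1; swap
    · exact big _ (.inr rfl) _ q' (p' j) n'
    exact key h.toMB hy (comm h'.toMB e a1) (comm h'.toMB e a2) q q' n n' (by rw [h'.kk, a5, mul_one])
  refine ⟨ha, hb, fun v k hy i hi => nz v k hy (funext fun j => ?_)⟩
  obtain ⟨b, π, A, b1, b2, b3, b4, b5⟩ := hb
  obtain ⟨α, e⟩ := b3 v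
  have h1 : mon π A v = v := (h.keq (k := α + k) (l := k) (by
    rw [zp_add h.z3, ← mul_assoc, ← e, mul_assoc _ b⁻¹, zp_comm (Commute.inv_left b2), ← mul_assoc, mul_assoc b, ← hy,
      h'.inQ_cz b1, mul_inv_cancel_right])).1
  have h2 : ∀ n : ℕ, v ((π ^ n) i) = 0 := fun n => by
    induction n with
    | zero => exact hi
    | succ n ih => rw [← h1, mon, ← Perm.mul_apply, pow_succ', inv_mul_cancel_left, ih, Matrix.mulVec_zero]
  obtain ⟨n, -, rfl⟩ := p3_trans π b4 b5 i j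
  exact h2 n

end CL.F3
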