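/-
Recognition of `²E₆(2)` from a 3-centraliser (S3337): a conjugate of `z` in `Q`, symmetry and a cyclic element.
-/
import Cfsg.Agent.Rec.E63Fd
import Cfsg.Agent.Rec.F3Y1

set_option autoImplicit false

namespace CL.E63

open Subgroup Cfsg CL.Grp CL.G23 CL.Even Equiv
open CL.U63 hiding Mt Mq MS P1Thm WCThm
open CL.F3 hiding MB MS0 MS PM P1Thm PKThm P2Thm W0 Pr2 YM W0Thm WAThm WCThm WBThm WGThm Y1Thm YAThm YBThm YCThm
open scoped Matrix

universe u

namespace Y1a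

variable {G : Type u} [Group G] {z t y b b' : G} {κ : W6 → G} {R : Subgroup G} {r : Fin 3 → G} {v w : W6}
  {k m : ZMod 3} {A A' : A3} {j : Fin 3}

theorem comm (h : MB z t κ R r) (hy : y = κ v * zp z k) (e : β6 w v = 0) : κ w * y = y * κ w := by
  rw [hy, ← mul_assoc, h.kcomm e, mul_assoc, h.kzp, mul_assoc]

theorem key (h : MB z t κ R r) (hy : y = κ v * zp z k) (c : b * z = z * b) (c' : b' * z = z * b') (q : Mq z κ b 1 A)
    (q' : Mq z κ b' 1 A') (a : A j = 1) (a' : A' j = 1) (e : b * b' * b⁻¹ = b' * zp y 2) : v j = 0 := by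
  have hq : InQ z κ y := ⟨v, k, hy⟩
  refine (by decide +kernel : ∀ a : V2, (∀ x, d2 a x = 0) → a = 0) _ fun x => ?_
  obtain ⟨α, h1⟩ := q (sn j x)
  obtain ⟨α', h2⟩ := q' (sn j x)
  rw [mon_sn, Perm.one_apply, a, Matrix.one_mulVec] at h1
  rw [mon_sn, Perm.one_apply, a', Matrix.one_mulVec] at h2
  have c1 : Commute b z := c
  have c2 : Commute b' z := c'
  have c3 : Commute y z := h.inQ_cz hq
  have h3 : Commute (zp y 2) (κ (sn j x) * zp z α) := mul_inv_eq_iff_eq_mul.1 (by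
    have e1 : b' * zp y 2 * b * κ (sn j x) * (b' * zp y 2 * b)⁻¹ = b' * b * κ (sn j x) * (b' * b)⁻¹ := by
      calc _ = b * (b' * κ (sn j x) * b'⁻¹) * b⁻¹ := by rw [← e]; group
        _ = b * κ (sn j x) * b⁻¹ * zp z α' := by rw [h2, ← mul_assoc, mul_assoc _ _ b⁻¹, ← zp_comm c1.inv_left]; group
        _ = b' * κ (sn j x) * b'⁻¹ * zp z α := by
          rw [h1, h2, mul_assoc, mul_assoc, ← zp_add h.z3, ← zp_add h.z3, add_comm]
        _ = b' * (b * κ (sn j x) * b⁻¹) * b'⁻¹ := by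
          rw [h1, ← mul_assoc, mul_assoc _ (zp z α) b'⁻¹, ← zp_comm c2.inv_left]; group
        _ = _ := by group
    calc _ = b'⁻¹ * (b' * zp y 2 * b * κ (sn j x) * (b' * zp y 2 * b)⁻¹) * b' := by rw [← h1]; group
      _ = _ := by rw [e1, ← h1]; group)
  have h4 : Commute (zp y 2) (κ (sn j x)) := by
    have h6 : Commute (zp y 2) (zp z α) := c3.pow_pow _ _
    simpa using h3.mul_right h6.inv_right
  have h5 : Commute y (κ (sn j x)) := by
    have := h4.pow_left 2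
    rwa [zp_pow (h.inQ_cube hq), show ((2 : ℕ) : ZMod 3) * 2 = 1 from rfl, zp_one] at this
  rw [← β6_sn]
  refine h.β_of_comm ?_
  simpa [hy] using (h5.mul_left (Commute.inv_left (h.kzp (sn j x) k).symm)).eq

end Y1a

open Y1a in
theorem y1Thm : Y1Thm.{u} := by
  intro G _ _ z t y t' κ κ' R R' r r' h h' _ w' hq hz
  have nz : ∀ v k, y = κ v * zp z k → v ≠ 0 := by
    rintro v k e rfl
    exact hz (by rw [e, h.k0, one_mul]; exact zp_mem z k)
  obtain ⟨v, k, hy⟩ := id hq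
  have ha : InQ y κ' z := by
    by_contra hn
    obtain ⟨e, f, e', f', a1, a2, a3, a4, a5, a6, a7⟩ := CL.F3.Y1.hyp (nz v k hy)
    have z0 : ∀ m, InQ y κ' (zp z m) → m = 0 := fun m q => by_contra fun n => hn (by
      have l0 : m * m = 1 := (by decide : ∀ l : ZMod 3, l ≠ 0 → l * l = 1) m n
      have := h'.QQ.pow_mem (x := zp z m) q m.val
      rwa [← zp, zp_zp h.z3, l0, zp_one] at this)
    have L : ∀ u m, InQ y κ' (κ u * zp z m) → ∀ x, β6 x v = 0 → β6 x u = 0 := fun u m q x hx => by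
      have q1 := h'.inQ_mul (h'.inQ_inv q) (h'.inQ_normc (comm h.toMB hy hx) q)
      have e1 : (κ u * zp z m)⁻¹ * (κ x * (κ u * zp z m) * (κ x)⁻¹) = zp z (2 * β6 x u) := by
        rw [← mul_assoc (κ x), mul_assoc (κ x * κ u), ← (show Commute (κ x) (zp z m) from h.kzp x m).inv_left.eq,
          ← mul_assoc (κ x * κ u), h.kk, mul_assoc (κ u), ← zp_add h.z3, add_comm, zp_add h.z3, ← mul_assoc (κ u),
          inv_mul_cancel_left]
      exact (by decide : ∀ l : ZMod 3, 2 * l = 0 → l = 0) _ (z0 _ (e1 ▸ q1))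
    rcases w'.p1 (κ e) (κ f) (zp z 2) (κ e') ⟨comm h.toMB hy a1, h.k3 _⟩ ⟨comm h.toMB hy a2, h.k3 _⟩
      ⟨comm h.toMB hy a3, h.k3 _⟩ (by rw [h.kk, a5, mul_one, h.kzp, mul_inv_cancel_right]) (h.kzp _ _).symm
      (h.kzp _ _).symm (h.kcomm (a7 e (.inl rfl)).1) (h.kcomm (a7 f (.inr rfl)).1) with q | ⟨m, q⟩ | ⟨i, j, m, n, q⟩
    · exact absurd (z0 _ q) (by decide)
    · rw [zp_zp h.z3] at q
      have := L _ _ q f' a4
      rw [β6_swap, a6] at this
      exact absurd this (by decide)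
    · rw [zp_zp h.z3, ← h.ksmul, ← h.ksmul, h.mul, mul_assoc, ← zp_add h.z3] at q
      have h1 := L _ _ q e a1
      have h2 := L _ _ q f a2
      rw [β6_add, β6_smul, β6_smul, β6_self, a5] at h1
      rw [β6_add, β6_smul, β6_smul, β6_self, β6_swap, a5] at h2
      exact n ⟨by simpa using h2, by simpa using h1⟩
  have hb : ∃ b π A, InQ y κ' b ∧ b * z = z * b ∧ Mq z κ b π A ∧ π ≠ 1 ∧ π ^ 3 = 1 := by
    by_contra! hn
    obtain ⟨v', l, e⟩ := id ha
    obtain ⟨e1, f1, e2, f2, a1, a2, a3, a4, a5, a6, a7⟩ := CL.F3.Y1.hyp (v := v') (by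
      rintro rfl
      rw [h'.k0, one_mul] at e
      have l0 : l * l = 1 := (by decide : ∀ l : ZMod 3, l ≠ 0 → l * l = 1) l fun e' => h.z1 (by rw [e, e', zp_zero])
      exact hz (by simpa only [e, zp_zp h'.z3, l0, zp_one] using zp_mem z l))
    have bs : ∀ w, β6 w v' = 0 → ∃ A, Mq z κ (κ' w) 1 A ∧ ∀ i, A i ^ 3 = 1 := fun w hw => by
      have c := comm h'.toMB e hw
      obtain ⟨_, _, π, A, -, -, -, -, -, q⟩ := h.nfc c
      obtain ⟨p1, p2⟩ := h.three' ⟨c, h'.k3 w⟩ q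
      obtain rfl : π = 1 := by_contra fun n => hn _ _ _ (h'.inQ_k w) c q n p1
      exact ⟨A, q, p2 rfl⟩
    refine nz v k hy (funext fun j => ?_)
    have big : ∀ u, u = e1 ∨ u = f1 → ∀ U, Mq z κ (κ' u) 1 U → U j ^ 3 = 1 → U j ≠ 1 → v j = 0 := fun u hu U q p n => by
      have cu : κ' u * z = z * κ' u := comm h'.toMB e (by rcases hu with rfl | rfl <;> assumption)
      have adj : ∀ w, β6 w v' = 0 → β6 w u = 0 → ∃ n : ℕ, ∃ A, κ' w * κ' u ^ n * z = z * (κ' w * κ' u ^ n) ∧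
          Mq z κ (κ' w * κ' u ^ n) 1 A ∧ A j = 1 := fun w b1 b2 => by
        obtain ⟨B, qb, pb⟩ := bs w b1
        have c := comm h'.toMB e b1
        have h1 := (h.uniq (Commute.mul_left c cu) (qb.mul' h.z3 c q) (h'.kcomm b2 ▸ q.mul' h.z3 cu qb)).2
        obtain ⟨n, -, hn⟩ := (by decide +kernel : ∀ α : M2, α ^ 3 = 1 → α ≠ 1 → ∀ γ : M2, γ ^ 3 = 1 → γ * α = α * γ →
          ∃ n < 3, γ * α ^ n = 1) _ p n _ (pb j) (congrFun h1 j)
        exact ⟨n, _, Commute.mul_left c (Commute.pow_left cu n), qb.mul' h.z3 c (q.pow h.z3 cu n), hn⟩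
      obtain ⟨n, B, c, qb, hB⟩ := adj e2 a3 (a7 u hu).1
      obtain ⟨n', B', c', qb', hB'⟩ := adj f2 a4 (a7 u hu).2
      refine key h.toMB hy c c' qb qb' hB hB' ?_
      have c1 : Commute (κ' e2) (κ' u) := h'.kcomm (a7 u hu).1
      have c2 : Commute (κ' f2) (κ' u) := h'.kcomm (a7 u hu).2
      have c3 : Commute (κ' u) (zp y 2) := h'.kzp u 2
      calc _ = κ' e2 * (κ' u ^ n * (κ' f2 * κ' u ^ n')) * (κ' u ^ n)⁻¹ * (κ' e2)⁻¹ := by group
        _ = κ' e2 * κ' f2 * (κ' e2)⁻¹ * κ' u ^ n' := by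
          rw [((c2.symm.mul_right ((Commute.refl _).pow_right n')).pow_left n).eq, ← mul_assoc, mul_inv_cancel_right,
            ← mul_assoc, mul_assoc _ _ (κ' e2)⁻¹, ← (c1.inv_left.pow_right n').eq, ← mul_assoc]
        _ = _ := by rw [h'.kk, a6, mul_one, mul_assoc, ← (c3.pow_left n').eq, mul_assoc]
    obtain ⟨A, q, p⟩ := bs e1 a1
    obtain ⟨A', q', p'⟩ := bs f1 a2
    by_cases n : A j = 1; swap
    · exact big _ (.inl rfl) _ q (p j) n
    by_cases n' : A' j = 1; swap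
    · exact big _ (.inr rfl) _ q' (p' j) n'
    exact key h.toMB hy (comm h'.toMB e a1) (comm h'.toMB e a2) q q' n n' (by rw [h'.kk, a5, mul_one])
  refine ⟨ha, hb, fun v k hy i hi => nz v k hy (funext fun j => ?_)⟩
  obtain ⟨b, π, A, b1, b2, b3, b4, b5⟩ := hb
  obtain ⟨α, e⟩ := b3 v
  have h1 : mon π A v = v := (h.keq (k := α + k) (l := k) (by
    rw [zp_add h.z3, ← mul_assoc, ← e, mul_assoc _ b⁻¹, zp_comm (Commute.inv_left b2), ← mul_assoc, mul_assoc b, ← hy,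
      h'.inQ_cz b1, mul_inv_cancel_right])).1
  have h2 : ∀ n : ℕ, v ((π ^ n) i) = 0 := fun n => by
    induction n with
    | zero => exact hi
    | succ n ih => rw [← h1, mon, ← Perm.mul_apply, pow_succ', inv_mul_cancel_left, ih, Matrix.mulVec_zero]
  obtain ⟨n, -, rfl⟩ := p3_trans π b4 b5 i j
  exact h2 n

end CL.E63
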