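/-
Recognition of `²E₆(2)` from a 3-centraliser (S3337), copied from `F3YA`, 3-local part: normalisation of the conjugate of `z` in `Q`.
-/
import Cfsg.Agent.Rec.E63Fd

set_option autoImplicit false

namespace CL.E63

open Subgroup Cfsg CL.Grp CL.G23 CL.Even Equiv
open CL.U63 hiding Mt Mq MS P1Thm WCThm
open CL.F3 hiding MB MS0 MS PM P1Thm PKThm P2Thm W0 Pr2 YM W0Thm WAThm WCThm WBThm WGThm Y1Thm YAThm YBThm YCThm
open scoped Matrix

universe u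

namespace YA

variable {G : Type u} [Group G] [Finite G] {t y t₁ : G} {κ : W6 → G} {R : Subgroup G} {r : Fin 3 → G}

theorem exists_w (h : MS y t₁ κ R r) (ht : t * t = 1) (hn : t ∈ normalizer (zpowers y : Set G)) :
    ∃ w, t * (κ w * t₁ * (κ w)⁻¹) = κ w * t₁ * (κ w)⁻¹ * t := by
  obtain ⟨u, c, π, A, d, rfl, hc, m, -⟩ := h.nf hn
  have e1 : κ (u + mon π A u) * (zp y (β6 u (mon π A u)) * (c * c)) = κ 0 * 1 := by
    rw [← mul_assoc, ← h.mul, ← m, h.k0, mul_one, ← ht]; group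
  have e2 := (h.ct_eq (Commute.mul_left (zp_comm h.tz _ : Commute t₁ _).symm (Commute.mul_left hc hc)).eq
    (by rw [one_mul, mul_one]) e1).1
  have e3 := m (-u)
  rw [mon_neg, ← neg_eq_of_add_eq_zero_right e2, neg_neg] at e3
  have e4 : κ u * c = κ (-u) * c * (κ (-u))⁻¹ := by
    rw [mul_inv_eq_iff_eq_mul.1 e3 |>.symm |> fun e => eq_mul_inv_iff_mul_eq.2 (show κ u * c * κ (-u) = κ (-u) * c by
      rw [mul_assoc, ← e, ← mul_assoc, ← h.kadd (β6_self u), add3])]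
  exact ⟨-u, by rw [e4, conj_mul, conj_mul, hc]⟩

end YA

theorem yaThm : YAThm.{u} := by
  intro hW hL hY G _ _ z t κ R r h ⟨g, ⟨v, k, e⟩, hn⟩
  have hv : v ≠ 0 := by
    rintro rfl
    exact hn (by rw [e, h.k0, one_mul]; exact zp_mem z k)
  obtain ⟨w, hw⟩ := exists_β6 hv k
  have e' : κ w * g * z * (κ w * g)⁻¹ = κ v := by
    rw [show κ w * g * z * (κ w * g)⁻¹ = κ w * (g * z * g⁻¹) * (κ w)⁻¹ by group, e, ← conj_mul, h.kk, h.kzp w,
      mul_inv_cancel_right, hw, mul_assoc, ← zp_add h.z3, (by decide : ∀ k : ZMod 3, 2 * k + k = 0), zp_zero, mul_one]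
  have h1 := h.conj (κ w * g)
  rw [e'] at h1
  have ty : t * κ v * t⁻¹ = zp (κ v) (-1) := by rw [h.tk, zp_neg_one (h.k3 v), h.kinv]
  have tn : t ∈ normalizer (zpowers (κ v) : Set G) := mem_nz.2 (ty ▸ zp_mem _ _)
  obtain ⟨x, hx⟩ := YA.exists_w h1 h.t2 tn
  obtain ⟨t', κ', R', r', h', hx⟩ : ∃ t' κ' R' r', MS (κ v) t' κ' R' r' ∧ t * t' = t' * t := ⟨_, _, _, _, h1.conjQ x, hx⟩
  obtain ⟨⟨v', l, ez⟩, cyc, vne⟩ := hY h h' (hW h) (hW h') (h.inQ_k v) fun e => hv (h.inj v e)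
  obtain ⟨-, -, vne'⟩ := hY h' h (hW h') (hW h) ⟨v', l, ez⟩ fun e => by
    obtain ⟨m, e⟩ := (mem_zp h'.z3).1 e
    rw [← h.ksmul] at e
    exact h.z1 (by rw [e, h.inj (m • v) (e ▸ mem_zpowers z), h.k0])
  obtain ⟨π, B, d, m, -, hd⟩ := h'.act t tn hx
  obtain rfl : l = 0 := by
    have e1 : t * z * t⁻¹ = z := by rw [h.tz, mul_inv_cancel_right]
    rw [ez, ← conj_mul, m, zp_conj h'.z3 ty] at e1
    exact (by decide : ∀ l : ZMod 3, l * -1 = l → l = 0) l (h'.keq e1).2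
  have m2 := m.mul m
  rw [h.t2] at m2
  obtain ⟨j, hj⟩ := (by decide : ∀ π : P3, π * π = 1 → ∃ j, π j = j) π (h'.mq_one ((Mt.one κ').mq _) (m2.mq _)).1
  have e2 := h'.r_conj hd m j
  rw [hj, mul_inv_eq_iff_eq_mul] at e2
  exact ⟨_, t', κ', R', r', r' j, j, v, v', h', hW h, hW h', rfl, by rw [ez, zp_zero, mul_one],
    vne v 0 (by rw [zp_zero, mul_one]), vne' v' 0 ez, e2.symm, h'.rz j, h'.r2 j, h'.ra j, cyc,
    hL h (h.conj _) (hW (h.conj _)), _, e'⟩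

end CL.E63
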