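/-
Recognition of `²E₆(2)` from a 3-centraliser (S3337), copied from `F3YC`, 3-local part: `ρ` commutes with one of the `r l`.
-/
import Cfsg.Agent.Rec.E63Fd

set_option autoImplicit false

namespace CL.E63

open Subgroup Cfsg CL.Grp CL.G23 CL.Even Equiv
open CL.U63 hiding Mt Mq MS P1Thm WCThm
open CL.F3 hiding MB MS0 MS PM P1Thm PKThm P2Thm W0 Pr2 YM W0Thm WAThm WCThm WBThm WGThm Y1Thm YAThm YBThm YCThm
open scoped Matrix

universe u

namespace YC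

variable {G : Type u} [Group G] {z t y t' ρ σ : G} {κ κ' : W6 → G} {R R' : Subgroup G} {r r' : Fin 3 → G}
  {j : Fin 3} {v v' : W6} {C : A3}

theorem m_pm : ∀ A : M2, A.det = 1 → A * A = 1 → A = 1 ∨ A = -1 := by
  simp only [Matrix.det_fin_two]
  decide +kernel

theorem pat (B : A3) (h : ∀ i, B i = 1 ∨ B i = -1) : B = 1 ∨ B = -1 ∨ ∃ l, B = sgn l ∨ B = sgn l * -1 := by
  have e : B = ![B 0, B 1, B 2] := funext fun i => by fin_cases i <;> rfl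
  rw [e]
  rcases h 0 with a | a <;> rcases h 1 with b | b <;> rcases h 2 with c | c <;> rw [a, b, c] <;> decide +kernel

theorem sgn_ne : (∀ i, 1 ≠ sgn i) ∧ (∀ i, sgn i ≠ -1) ∧ ∀ i l, sgn i ≠ sgn l * -1 := by decide +kernel

theorem perms : ∀ π : Fin 3 → P3, (∀ i, π i * π i = 1) → π 0 * π 1 * π 2 = 1 →
    (∀ i, π i = 1) ∨ ∃ i, π i = 1 ∧ ∀ l, π l = 1 → l = i := by decide +kernel

theorem mt_uniq (h : MB z t κ R r) {π : P3} {A : A3} {i : Fin 3} (m : Mt κ (r i) π A) : sgn i = A :=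
  (h.mq_uniq (fun k => by rw [(sgn_spec.2.2.2 i k).1]; decide) ((h.ra i).mq z) (m.mq z)).2

theorem invol (h : MB z t κ R r) {B : A3} (h2 : σ * σ = 1) (m : Mt κ σ 1 B) (hB : ∀ i, (B i).det = 1) :
    σ = 1 ∨ σ = t ∨ ∃ l, σ = r l ∨ σ = r l * t := by
  have h4 : σ ^ 4 = 1 := by rw [show 4 = 2 * 2 from rfl, pow_mul, pow_two σ, h2, one_pow]
  have e := (h.mq_one ((Mt.one κ).mq z) ((h2 ▸ m.mul' m : Mt κ 1 1 (B * B)).mq z)).2
  have k : ∀ τ ∈ R, Mt κ τ 1 B → σ = τ := fun τ hτ m' => h.eq_of_four (h.Rz _ hτ) h4 (h.R4 _ hτ) m m'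
  rcases pat B fun i => m_pm _ (hB i) (congrFun e i) with rfl | rfl | ⟨l, rfl | rfl⟩
  · exact .inl (k _ (one_mem _) (Mt.one κ))
  · exact .inr (.inl (k _ h.tR h.tm))
  · exact .inr (.inr ⟨l, .inl (k _ (h.rR l) (h.ra l))⟩)
  · exact .inr (.inr ⟨l, .inr (k _ (mul_mem (h.rR l) h.tR) ((h.ra l).mul' h.tm))⟩)

theorem excl [Finite G] (h : MS z t κ R r) (h' : MS y t' κ' R' r') (m : YM z t κ y κ' ρ j v v')
    (b : YB z t κ (ρ * z * ρ⁻¹) C) (l : Fin 3) : ρ * r l * ρ⁻¹ ≠ r l * t := fun e => by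
  have e1 : r l * y * (r l)⁻¹ = κ (v + sn l (v l)) := by rw [m.hy, h.ra l, mon_sgn]
  have e2 : t * y * t⁻¹ = y⁻¹ := by rw [m.hy, h.tk, h.kinv]
  have e3 : ρ * κ (v + sn l (v l)) * ρ⁻¹ = (κ (v + sn l (v l)))⁻¹ := by
    rw [← e1, ← conj_mul, ← conj_mul, ← conj_inv, e, m.ρy, mul_inv_cancel_right, conj_inv, ← e2]; group
  have hT : T3 y (κ (v + sn l (v l))) := ⟨by
    rw [m.hy]; exact h.kcomm (by rw [β6_add', β6_self, β6_sn', zero_add]; simp only [d2]; ring), h.k3 _⟩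
  obtain ⟨x, k, hx⟩ := m.w'.l1 ρ _ _ m.ρy m.ρ2 (m.ρa.mq y) hT e3
  rw [hx, ← conj_mul, m.ρa, mon_sgn, zp_comm m.ρy, mul_inv_cancel_right, mul_inv_rev, h'.kinv, ← zp_neg h'.z3,
    ← h'.kzp] at e3
  obtain ⟨e4, e5⟩ := h'.keq e3
  rw [(by decide : ∀ k : ZMod 3, k = -k → k = 0) k e5, zp_zero, mul_one] at hx
  have e6 : x = sn j (x j) := by
    rw [← add3, add_right_inj] at e4
    exact e4.symm
  have e7 : d2 (x j) (v' j) = 0 := by
    rw [← β6_sn', ← e6]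
    exact h'.β_of_comm (by rw [← hx, ← m.hz]; exact h.kz _)
  have hn : InQ z κ (κ' (sn j (v' j))) := by
    rcases (by decide : ∀ a b : V2, b ≠ 0 → d2 a b = 0 → a = 0 ∨ a = b ∨ -a = b) _ _ (m.vne' j) e7 with a | a | a
    · rw [e6, a, sn_zero, h'.k0, ← e1, conj_eq_one_iff] at hx
      exact absurd hx h'.z1
    · rw [← a, ← e6, ← hx]; exact h.inQ_k _
    · rw [← a, sn_neg, ← e6, ← h'.kinv, ← hx]; exact h.inQ_inv (h.inQ_k _)
  have hc : ρ * z * ρ⁻¹ = z * κ' (sn j (v' j)) := by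
    rw [m.hz, m.ρa, mon_sgn, h'.kadd (by rw [β6_sn]; simp only [d2]; ring)]
  exact b.C1 0 (congrFun (h.mq_one (h.inQ_mq (hc ▸ h.inQ_mul h.inQ_z hn)) (b.ca.mq z)).2 0)

end YC

theorem ycThm : YCThm.{u} := by
  intro G _ _ z t y t' ρ κ κ' R R' r r' j v v' C h h' m b
  have hi : ρ⁻¹ = ρ := inv_eq_of_mul_eq_one_right m.ρ2
  have back : ∀ a, ρ * (ρ * a * ρ⁻¹) * ρ⁻¹ = a := fun a => by
    rw [hi, show ρ * (ρ * a * ρ) * ρ = ρ * ρ * a * (ρ * ρ) by group, m.ρ2, one_mul, mul_one]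
  have ρt : ρ * t * ρ⁻¹ = t := mul_inv_eq_iff_eq_mul.2 m.ρt
  have σz : ∀ i, ρ * r i * ρ⁻¹ * z = z * (ρ * r i * ρ⁻¹) := fun i => by
    have := congrArg (fun a => ρ * a * ρ⁻¹) (h.r_comm b.cz b.ca i)
    beta_reduce at this
    rw [← conj_mul, ← conj_mul (a := r i), back] at this
    exact this.symm
  have σt : ∀ i, ρ * r i * ρ⁻¹ * t = t * (ρ * r i * ρ⁻¹) := fun i => by
    conv_lhs => rw [← ρt, conj_mul, h.rt, ← conj_mul, ρt]
  have σ2 : ∀ i, ρ * r i * ρ⁻¹ * (ρ * r i * ρ⁻¹) = 1 := fun i => by rw [conj_mul, h.r2, mul_one, mul_inv_cancel]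
  choose π B hB hd using fun i => h.nft (σz i) (σt i)
  have p2 : ∀ i, π i * π i = 1 := fun i =>
    (h.mq_one ((Mt.one κ).mq z) ((σ2 i ▸ (hB i).mul (hB i) : Mt κ 1 _ _).mq z)).1
  have p3 : π 0 * π 1 * π 2 = 1 := by
    have := ((hB 0).mul (hB 1)).mul (hB 2)
    rw [conj_mul, conj_mul, ← h.tr, ρt] at this
    exact (h.uniq h.tz (h.tm.mq z) (this.mq z)).1.symm
  let P : Fin 3 → Fin 3 → Prop := fun i l => ρ * r i * ρ⁻¹ = r l ∨ ρ * r i * ρ⁻¹ = r l * t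
  have symm : ∀ i l, P i l → P l i := by
    rintro i l (e | e)
    · exact .inl (by rw [← e, back])
    · right
      rw [← back (r i), e, ← conj_mul, ρt, mul_assoc _ t, h.t2, mul_one]
  have base : ∀ i l, P i l → π i = 1 := by
    rintro i l (e | e)
    · exact (h.uniq (σz i) ((hB i).mq z) (e ▸ (h.ra l).mq z)).1
    · exact (h.uniq (σz i) ((hB i).mq z) (e ▸ ((h.ra l).mul' h.tm).mq z)).1
  have ex : ∀ i, π i = 1 → ∃ l, P i l := fun i e => by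
    rcases YC.invol h.toMB (σ2 i) (e ▸ hB i) (hd i) with a | a | a
    · rw [conj_eq_one_iff] at a
      exact absurd (YC.mt_uniq h.toMB (a ▸ Mt.one κ)).symm (YC.sgn_ne.1 i)
    · have : r i = t := by rw [← back (r i), a, ρt]
      exact absurd (YC.mt_uniq h.toMB (this ▸ h.tm)) (YC.sgn_ne.2.1 i)
    · exact a
  have fn : ∀ i l l', P i l → P i l' → l = l' := by
    rintro i l l' (e | e) (e' | e')
    · exact h.r_inj (e.symm.trans e')
    · exact absurd (YC.mt_uniq h.toMB ((e.symm.trans e') ▸ (h.ra l').mul' h.tm)) (YC.sgn_ne.2.2 _ _)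
    · exact absurd (YC.mt_uniq h.toMB ((e'.symm.trans e) ▸ (h.ra l).mul' h.tm)) (YC.sgn_ne.2.2 _ _)
    · exact h.r_inj (mul_right_cancel (e.symm.trans e'))
  obtain ⟨l, hl⟩ : ∃ l, P l l := by
    rcases YC.perms π p2 p3 with a | ⟨i, a, a'⟩
    · choose p hp using fun i => ex i (a i)
      obtain ⟨i, e⟩ := (by decide : ∀ p : Fin 3 → Fin 3, (∀ i, p (p i) = i) → ∃ i, p i = i) p
        fun i => fn _ _ _ (hp (p i)) (symm _ _ (hp i))
      exact ⟨i, by simpa only [e] using hp i⟩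
    · obtain ⟨l, hl⟩ := ex i a
      obtain rfl := a' l (base _ _ (symm _ _ hl))
      exact ⟨l, hl⟩
  exact ⟨l, mul_inv_eq_iff_eq_mul.1 (hl.resolve_right (YC.excl h h' m b l))⟩

end CL.E63
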