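/-
Recognition of `²E₆(2)` from a 3-centraliser (S3337), copied from `F3YB`, 3-local part: the conjugate `ρ z ρ⁻¹` acts as a transvection on
each factor.
-/
import Cfsg.Agent.Rec.E63Fd

set_option autoImplicit false

namespace CL.E63

open Subgroup Cfsg CL.Grp CL.G23 CL.Even Equiv
open CL.U63 hiding Mt Mq MS P1Thm WCThm
open CL.F3 hiding MB MS0 MS PM P1Thm PKThm P2Thm W0 Pr2 YM W0Thm WAThm WCThm WBThm WGThm Y1Thm YAThm YBThm YCThm
open scoped Matrix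

universe u

namespace YBJ

theorem fix_zero {π : P3} {A : A3} {x : W6} (h1 : π ≠ 1) (h3 : π ^ 3 = 1) (e : mon π A x = x) (h0 : x 0 = 0) :
    x = 0 := by
  have key : ∀ m : ℕ, x ((π ^ m) 0) = 0 := fun m => by
    induction m with
    | zero => exact h0
    | succ m ih =>
      rw [← e, pow_succ', Perm.mul_apply, mon, Perm.inv_def, Equiv.symm_apply_apply, ih, Matrix.mulVec_zero]
  funext i
  obtain ⟨m, -, rfl⟩ := p3_trans π h1 h3 0 i
  exact key m

theorem d2_self (x : V2) : d2 x x = 0 := by simp only [d2]; ring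

variable {G : Type u} [Group G] [Finite G] {z t y t' ρ : G} {κ κ' : W6 → G} {R R' : Subgroup G}
  {r r' : Fin 3 → G} {j : Fin 3} {v v' : W6}

theorem few (h : MS z t κ R r) (h' : MS y t' κ' R' r') (m : YM z t κ y κ' ρ j v v') {w : W6} (hw : β6 w v = 0) :
    ∃ p : Fin 3 × ZMod 3, κ w * (z * κ' (sn j (v' j))) * (κ w)⁻¹ = z * (κ' (sn p.1 (v' p.1)) * zp y p.2) := by
  obtain ⟨-, -, π, A, -, -, -, -, -, hq⟩ := h'.nfc (g := κ w) (by rw [m.hy]; exact h.kcomm hw)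
  obtain ⟨k, e⟩ := hq v'
  obtain ⟨l, e'⟩ := hq (sn j (v' j))
  have e1 : κ w * z * (κ w)⁻¹ = z := by rw [h.kz, mul_inv_cancel_right]
  rw [← m.hz, e1, m.hz] at e
  have e2 := congrFun (h'.keq (((congrArg _ (zp_zero y)).trans (mul_one _)).trans e)).1 (π j)
  rw [mon, Perm.inv_def, Equiv.symm_apply_apply] at e2
  exact ⟨(π j, l), by rw [← conj_mul, e1, e', mon_sn, ← e2]⟩

theorem base (h : MS z t κ R r) (h' : MS y t' κ' R' r') (m : YM z t κ y κ' ρ j v v') {π : P3} {C : A3}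
    (hc : Mt κ (z * κ' (sn j (v' j))) π C) (h3 : π ^ 3 = 1) : π = 1 := by
  by_contra h1
  obtain ⟨x, hx⟩ := exists_β6 (v := v) (fun e => m.vne 0 (congrFun e 0)) 1
  have hp : ∀ w, β6 (w + (-β6 w v) • x) v = 0 := fun w => by rw [β6_add', β6_smul', hx]; ring
  choose p hp' using fun w => few h h' m (hp w)
  have := Fintype.card_le_of_injective (fun w : W6 => (β6 w v, p w, (w + (-β6 w v) • x) 0)) fun w w' e => by
    simp only [Prod.mk.injEq] at e
    obtain ⟨e1, e2, e3⟩ := e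
    have e4 := hp' w
    rw [e2, ← hp' w', h.conj_k hc, h.conj_k hc, mul_left_inj] at e4
    have e5 := fix_zero (A := C) (x := w + (-β6 w v) • x + -(w' + (-β6 w' v) • x)) h1 h3 (by
      rw [mon_add, mon_neg]; linear_combination -(h.keq e4).1) (by rw [Pi.add_apply, Pi.neg_apply, e3, add_neg_cancel])
    rw [e1] at e5
    linear_combination e5
  revert this
  simp [Fintype.card_prod, Fintype.card_pi, ZMod.card]

end YBJ

theorem ybThm : YBThm.{u} := by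
  intro G _ _ z t y t' ρ κ κ' R R' r r' j v v' h h' m
  have e0 : ρ * z * ρ⁻¹ = κ' (v' + sn j (v' j)) := by rw [m.hz, m.ρa, mon_sgn]
  have e1 : ρ * z * ρ⁻¹ = z * κ' (sn j (v' j)) := by rw [e0, h'.kadd (by rw [β6_sn, YBJ.d2_self]), ← m.hz]
  have cz : ρ * z * ρ⁻¹ * z = z * (ρ * z * ρ⁻¹) := by
    rw [e0, m.hz]
    exact h'.kcomm (by rw [β6_add', β6_self, β6_sn', YBJ.d2_self, add_zero])
  have ct : ρ * z * ρ⁻¹ * t = t * (ρ * z * ρ⁻¹) :=
    (Commute.mul_left (Commute.mul_left m.ρt h.tz.symm) (Commute.inv_left m.ρt)).eq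
  have c3 : T3 z (ρ * z * ρ⁻¹) := ⟨cz, by rw [e0, h'.k3]⟩
  obtain ⟨π, C, hc, -⟩ := h.nft cz ct
  obtain ⟨p3, a3⟩ := h.three' c3 (hc.mq z)
  obtain rfl := YBJ.base h h' m (e1 ▸ hc) p3
  obtain ⟨b, π, A, bq, bz, bm, b1, b3⟩ := m.cyc
  refine ⟨C, cz, ct, hc, fun i hi => ?_, ?_⟩
  · obtain ⟨k, e⟩ := (mem_zp h.z3).1 (m.la 0 _ C i (by rw [h.k0, one_mul]) ct cz hc rfl hi)
    rw [e0, m.hz, ← h'.ksmul] at e
    have e2 := h'.k_inj e
    obtain ⟨l, hl⟩ := exists_ne j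
    have e3 := congrFun e2 l
    have e4 := congrFun e2 j
    rw [Pi.add_apply, sn_ne hl, add_zero, Pi.smul_apply] at e3
    rw [Pi.add_apply, sn_self, Pi.smul_apply] at e4
    exact (by decide : ∀ (k : ZMod 3) (a b : V2), a ≠ 0 → b ≠ 0 → a = k • a → b + b ≠ k • b) k _ _ (m.vne' l)
      (m.vne' j) e3 e4
  · obtain ⟨u, s, -, st, sz, sm⟩ := h.nfq bz bm
    refine ⟨s, π, A, sz, st, sm, b1, b3, ?_⟩
    obtain ⟨k, e⟩ := h'.inQ_com bq (e0 ▸ h'.inQ_k _ : InQ y κ' (ρ * z * ρ⁻¹))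
    have m1 := bm.mulc h.z3 bz (hc.mq z)
    have m2 := (hc.mq z).mulc h.z3 cz (h.kmq (k • v) bm)
    rw [h.ksmul, ← m.hy, ← mul_assoc, ← e, inv_mul_cancel_right] at m2
    exact (h.uniq (Commute.mul_left bz cz).eq m1 m2).2

end CL.E63
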