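/-
Recognition of `Fi₂₂` from a 3-centraliser: the normaliser of `A` controls the fusion of `d` in `A`.
-/
import Cfsg.Agent.Rec.F3T2

set_option autoImplicit false

namespace CL.F3

open Subgroup Cfsg CL.MT

universe u

namespace FUS

variable {G H X : Type u} [Group G] [Group H] [Group X] [Finite G] {δ : H} {ι : H →* G} {π : H →* X}
  {D : Set X} {Δ : Finset X}

theorem core (S : S2 δ ι π D Δ) (T : TA δ ι π Δ) {F : Subgroup G} (hF : ∀ a ∈ F, a * a = 1)
    (hc : Nat.card F = 2 ^ 10) (hd : ι δ ∈ F) (hN : F ≤ normalizer (AG ι π Δ : Set G)) : F ≤ ι.range := by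
  have : Finite H := Finite.of_injective ι S.inj
  have cm : ∀ {a b}, a ∈ F → b ∈ F → Commute a b := elemAb_commute (elemAb_of hF)
  intro s hs
  by_contra h0
  obtain ⟨α, hα⟩ := T.ind s (cm hs hd)
  have h1 : (ι.range.subgroupOf F).index = 2 := index_eq_two_iff.2 ⟨⟨s, hs⟩, fun b => by
    by_cases hb : (b : G) ∈ ι.range
    · exact Or.inr ⟨hb, fun h => h0 ((mul_mem_cancel_left hb).1 h)⟩
    · exact Or.inl ⟨S.two _ _ (cm b.2 hd) (cm hs hd) hb h0, hb⟩⟩
  have h2 : Nat.card (F.comap ι) = Nat.card (ι.range.subgroupOf F) := by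
    rw [← card_map_of_injective S.inj, map_comap_eq, ← card_map_of_injective F.subtype_injective,
      subgroupOf_map_subtype]
  have h3 := (ι.range.subgroupOf F).index_mul_card
  have h4 := S.E.card_comap ((F.comap ι).map π)
  rw [comap_map_eq, sup_eq_left.2 (show π.ker ≤ F.comap ι from fun h e => by
    obtain rfl | rfl := (S.E.ker h).1 e
    exacts [one_mem _, hd])] at h4
  have h5 := S.O.rk α (T.outer s α (cm hs hd) h0 hα).1 (MulEquiv.ext fun x => by
    obtain ⟨h, rfl⟩ := S.E.surj x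
    obtain ⟨h', a1, a2⟩ := hα h
    obtain ⟨h'', b1, b2⟩ := hα h'
    rw [a1, show s * (s * ι h * s⁻¹) * s⁻¹ = s * s * ι h * (s * s)⁻¹ by group, hF s hs] at b1
    rw [MulAut.mul_apply, ← a2, ← b2, S.inj (b1.trans (by simp : _ = ι h))]
    rfl) ((T.nrm s α (cm hs hd) hα).1 (hN hs)) ((F.comap ι).map π) (by
      rintro _ ⟨h, hh, rfl⟩
      exact mem_NN.2 ((T.nrm (ι h) (MulAut.conj (π h)) (cm hh hd) fun k => ⟨h * k * h⁻¹, by simp, by simp⟩).1 (hN hh)))
    (elemAb_of (by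
      rintro _ ⟨h, hh, rfl⟩
      rw [← map_mul, S.inj (show ι (h * h) = ι 1 by rw [map_mul, hF _ hh, map_one]), map_one])) (by
      rintro _ ⟨h, hh, rfl⟩
      obtain ⟨h', a1, a2⟩ := hα h
      rw [(cm hs hh).eq, mul_inv_cancel_right] at a1
      rw [← a2, S.inj a1])
  rw [h1, hc] at h3
  omega

theorem le_range (S : S2 δ ι π D Δ) (T : TA δ ι π Δ) {F : Subgroup G} (hF : ∀ a ∈ F, a * a = 1)
    (hc : Nat.card F = 2 ^ 10) (hd : ι δ ∈ F) : F ≤ ι.range := by
  obtain ⟨k, hk, h⟩ := T.toN F (elemAb_isPGroup (elemAb_of hF)) fun g hg => elemAb_commute (elemAb_of hF) hg hd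
  have h1 := core S T (F := F.map (MulAut.conj k).toMonoidHom) (by
    rintro _ ⟨a, ha, rfl⟩
    rw [← map_mul, hF a ha, map_one]) (by rw [card_map_of_injective (MulAut.conj k).injective, hc])
    ⟨_, hd, by simp [hk.eq]⟩ (by rintro _ ⟨a, ha, rfl⟩; exact h a ha)
  intro a ha
  obtain ⟨b, hb⟩ := h1 ⟨a, ha, rfl⟩
  obtain ⟨α, hα⟩ := T.ind k⁻¹ hk.inv_left
  obtain ⟨c, hc, -⟩ := hα b
  exact ⟨c, by simp [hc, hb, mul_assoc]⟩

end FUS

theorem fusThm : FusThm.{u} := by
  intro G H X _ _ _ _ δ ι π D Δ S T e he h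
  have : Finite H := Finite.of_injective ι S.inj
  have : Finite X := Finite.of_surjective π S.E.surj
  obtain ⟨g, rfl⟩ := isConj_iff.1 h
  let φ : H →* G := (MulAut.conj g).toMonoidHom.comp ι
  have hφ : Function.Injective φ := (MulAut.conj g).injective.comp S.inj
  have h0 := FUS.le_range S T (F := (AG ι π Δ).map (MulAut.conj g⁻¹).toMonoidHom) (by
    rintro _ ⟨a, ha, rfl⟩
    rw [← map_mul, elemAb_sq T.elemAb ha, map_one])
    (by rw [card_map_of_injective (MulAut.conj g⁻¹).injective, T.card]) ⟨_, he, by simp [mul_assoc]⟩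
  have h1 : AG ι π Δ ≤ φ.range := fun a ha => by
    obtain ⟨b, hb⟩ := h0 ⟨a, ha, rfl⟩
    exact ⟨b, by simp [φ, hb, mul_assoc]⟩
  obtain ⟨b, hb⟩ := S.E.exists_conj_eq S.B (F := (AG ι π Δ).comap φ)
    (elemAb_of fun a ha => hφ (by rw [map_mul, map_one]; exact elemAb_sq T.elemAb ha))
    (by rw [← card_map_of_injective hφ, map_comap_eq_self h1, T.card])
  refine ⟨g * (ι b)⁻¹, ?_, ?_⟩
  · apply mem_normalizer_fintype
    rintro _ ⟨a, ha, rfl⟩
    rw [← hb] at ha
    obtain ⟨c, hc, rfl⟩ := ha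
    simpa [φ, mul_assoc] using hc
  · rw [mul_assoc g, ((S.E.comm b).map ι).symm.inv_left.eq]; group

end CL.F3
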