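/-
Recognition of `Fi₂₂` from a 3-centraliser (S3368): the `U₆(2)` hypothesis in `C(r 0)/⟨r 0⟩`.
-/
import Cfsg.Agent.Rec.F3Base2
import Cfsg.Agent.Spor.MT2

set_option autoImplicit false

namespace CL.F3

open Subgroup Cfsg CL.Grp CL.G23 CL.Even Equiv
open CL.U63 hiding Mt Mq MS P1Thm WCThm
open scoped Matrix

universe u

namespace KM

theorem β_emb (v w : W4) : β6 (emb v) (emb w) = β v w := by simp [β6, β, emb, d2]

theorem emb_add (v w : W4) : emb (v + w) = emb v + emb w := funext fun i => by fin_cases i <;> simp [emb]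

theorem emb_neg (v : W4) : emb (-v) = -emb v := funext fun i => by fin_cases i <;> simp [emb]

theorem emb_eq {v w : W4} (h : emb v = emb w) : v = w := Prod.ext (congrFun h 1) (congrFun h 2)

theorem emb_zero : emb 0 = 0 := funext fun i => by fin_cases i <;> simp [emb]

theorem eq_emb {v : W6} (h : v 0 = 0) : v = emb (v 1, v 2) := funext fun i => by fin_cases i <;> simp [emb, h]

theorem mon_one_emb (A : A3) (w : W4) : mon 1 A (emb w) = emb (mat false (A 1) (A 2) w) := funext fun i => by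
  fin_cases i <;> simp [emb, mon, mat]

theorem mon_swap_emb (A : A3) (w : W4) : mon (swap 1 2) A (emb w) = emb (mat true (A 1) (A 2) w) := funext fun i => by
  fin_cases i <;> simp [emb, mon, mat, swap_apply_of_ne_of_ne]

theorem p_cases : ∀ p : P3, p 0 = 0 → p = 1 ∨ p = swap 1 2 := by decide +kernel

theorem u_pow : ∀ B : M2, ∀ j : ZMod 3, B ^ 4 = 1 → B * U0 ^ j.val = 1 → j = 0 := by decide +kernel

theorem β_nd : ∀ u : W4, (∀ w, 2 * β u w = 0) → u = 0 := fun u h => by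
  have h1 := h (e0, 0)
  have h2 := h (f0, 0)
  have h3 := h (0, e0)
  have h4 := h (0, f0)
  clear h
  obtain ⟨a, b⟩ := u
  rw [Prod.mk_eq_zero]
  revert a b
  decide +kernel

variable {G K X : Type u} [Group G] [Group K] [Group X]

structure Cx (z t c : G) (κ : W6 → G) (R : Subgroup G) (r : Fin 3 → G) (ι : K →* G) (π : K →* X)
    (δ z' t' : K) (κ' : W4 → K) : Prop where
  h : MS z t κ R r
  y : Y3 z t κ r c
  x : XF z t κ R r c
  inj : Function.Injective ι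
  rng : ∀ g, g * r 0 = r 0 * g ↔ g ∈ ι.range
  E : CL.MT.Ext δ π
  hδ : ι δ = r 0
  hz : ι z' = z
  ht : ι t' = t
  hκ : ∀ w, ι (κ' w) = κ (emb w)

theorem map_zp {A B : Type u} [Group A] [Group B] (f : A →* B) (a : A) (k : ZMod 3) : f (zp a k) = zp (f a) k :=
  map_pow f a _

namespace Cx

variable {z t c : G} {κ : W6 → G} {R : Subgroup G} {r : Fin 3 → G} {ι : K →* G} {π : K →* X}
  {δ z' t' : K} {κ' : W4 → K} (C : Cx z t c κ R r ι π δ z' t' κ')
include C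

theorem r_ne : r 0 ^ 3 ≠ 1 := fun e => C.E.ne (C.inj (by
  rw [pow_succ, pow_two, C.h.r2, one_mul] at e
  rw [C.hδ, map_one, e]))

theorem kr (k : K) : ι k * r 0 = r 0 * ι k := (C.rng _).2 ⟨k, rfl⟩

theorem lift {a b : K} (ha : ι a ^ 3 = 1) (hb : ι b ^ 3 = 1) (e : π a = π b) : ι a = ι b := by
  rcases C.E.eq_or e with rfl | rfl
  · rfl
  · rw [map_mul, C.hδ, Commute.mul_pow (C.kr b), hb, one_mul] at ha
    exact absurd ha C.r_ne

theorem z3 : π z' ^ 3 = 1 := by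
  rw [← map_pow, C.inj (a₁ := z' ^ 3) (a₂ := 1) (by rw [map_pow, C.hz, C.h.z3, map_one]), map_one]

theorem cz3 (k : K) : ι (k * z' * k⁻¹) ^ 3 = 1 := by
  rw [map_mul, map_mul, map_inv, C.hz, conj_pow, C.h.z3, mul_one, mul_inv_cancel]

theorem q3 (w : W4) (m : ZMod 3) : ι (κ' w * zp z' m) ^ 3 = 1 := by
  rw [map_mul, map_zp, C.hκ, C.hz]
  exact C.h.inQ_cube ⟨_, _, rfl⟩

theorem zp3 (m : ZMod 3) : ι (zp z' m) ^ 3 = 1 := by
  rw [map_zp, C.hz]
  exact zp_cube C.h.z3 m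

theorem conj_zp {k : K} (e : π k * π z' * (π k)⁻¹ ∈ zpowers (π z')) : ∃ m, ι k * z * (ι k)⁻¹ = zp z m := by
  obtain ⟨m, hm⟩ := (mem_zp C.z3).1 e
  refine ⟨m, ?_⟩
  have := C.lift (C.cz3 k) (C.zp3 m) (by rw [map_mul, map_mul, map_inv, hm, map_zp])
  rwa [map_mul, map_mul, map_inv, map_zp, C.hz] at this

theorem perm {g : G} {p : P3} {A : A3} {d : ZMod 3} (hz : g * z * g⁻¹ = zp z d) (m : Mt κ g p A)
    (e : g * r 0 = r 0 * g) : p = 1 ∨ p = swap 1 2 :=
  p_cases p (C.h.r_inj (by rw [← C.h.r_conj hz m 0, e, mul_inv_cancel_right]))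

theorem mt1 {k : K} {A : A3} (m : Mt κ (ι k) 1 A) : CL.U63.Mt (fun w => π (κ' w)) (π k) false (A 1) (A 2) :=
  fun v => by
    rw [← map_inv, ← map_mul, ← map_mul]
    exact congrArg π (C.inj (by rw [map_mul, map_mul, map_inv, C.hκ, C.hκ, m, mon_one_emb]))

theorem mt2 {k : K} {A : A3} (m : Mt κ (ι k) (swap 1 2) A) : CL.U63.Mt (fun w => π (κ' w)) (π k) true (A 1) (A 2) :=
  fun v => by
    rw [← map_inv, ← map_mul, ← map_mul]
    exact congrArg π (C.inj (by rw [map_mul, map_mul, map_inv, C.hκ, C.hκ, m, mon_swap_emb]))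

theorem cm {a b : K} (e : ι a * ι b = ι b * ι a) : π a * π b = π b * π a := by
  rw [← map_mul, ← map_mul, C.inj (a₁ := a * b) (a₂ := b * a) (by rw [map_mul, map_mul, e])]

variable [Finite G]

theorem nz {k : K} (e : π k ∈ normalizer (zpowers (π z') : Set X)) : ι k ∈ normalizer (zpowers z : Set G) := by
  obtain ⟨m, hm⟩ := C.conj_zp (((mem_normalizer_iff.1 e) _).1 (mem_zpowers _))
  refine mem_normalizer_fintype fun n hn => ?_
  obtain ⟨l, rfl⟩ := (mem_zp C.h.z3).1 hn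
  rw [zp_conj C.h.z3 hm]
  exact zp_mem _ _

theorem dec {k : K} (e : ι k ∈ normalizer (zpowers z : Set G)) : ∃ w k' p A d, k = κ' w * k' ∧ ι k' * t = t * ι k' ∧
    Mt κ (ι k') p A ∧ (∀ i, (A i).det = d) ∧ d ≠ 0 ∧ ι k' * z * (ι k')⁻¹ = zp z d := by
  obtain ⟨v, c', p, A, d, h1, h2, h3, h4, h5, h6, -, -⟩ := C.h.nf e
  obtain ⟨h7, h8⟩ := C.h.comm_r h2 0 (by rw [← h1, C.kr])
  obtain ⟨k', rfl⟩ := (C.rng c').1 h8.symm
  exact ⟨(v 1, v 2), k', p, A, d, C.inj (by rw [map_mul, C.hκ, ← eq_emb h7, h1]), h2, h3, h4, h5, h6⟩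

theorem act {k : K} (e : π k ∈ normalizer (zpowers (π z') : Set X)) (e' : π k * π t' = π t' * π k) :
    ∃ s A B, CL.U63.Mt (fun w => π (κ' w)) (π k) s A B ∧ A.det = B.det ∧ π k * π z' * (π k)⁻¹ = zp (π z') A.det := by
  have hn := C.nz e
  have hc : ι k * t = t * ι k := by
    rcases C.E.eq_or (a := k * t' * k⁻¹) (b := t') (by rw [map_mul, map_mul, map_inv, e', mul_inv_cancel_right])
      with h1 | h1
    · have := congrArg ι h1
      rw [map_mul, map_mul, map_inv, C.ht] at this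
      exact mul_inv_eq_iff_eq_mul.1 this
    · have h2 := congrArg ι h1
      rw [map_mul, map_mul, map_inv, map_mul, C.ht, C.hδ] at h2
      obtain ⟨v, c', hc', h3⟩ := C.h.dec _ hn
      have h4 : r 0 = κ v * (t * κ v * t⁻¹)⁻¹ := by
        calc r 0 = t * r 0 * t⁻¹ := by rw [← C.h.rt, mul_inv_cancel_right]
          _ = κ v * (c' * t) * c'⁻¹ * (κ v)⁻¹ * t⁻¹ := by rw [← h2, h3]; group
          _ = _ := by rw [hc']; group
      rw [C.h.tk] at h4
      exact absurd (h4 ▸ C.h.inQ_cube (C.h.inQ_mul (C.h.inQ_k v) (C.h.inQ_inv (C.h.inQ_k (-v))))) C.r_ne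
  obtain ⟨p, A, d, h1, h2, h3⟩ := C.h.act _ hn hc
  have h4 : π k * π z' * (π k)⁻¹ = zp (π z') (A 1).det := by
    rw [← map_zp, ← map_inv, ← map_mul, ← map_mul]
    exact congrArg π (C.inj (by rw [map_mul, map_mul, map_inv, map_zp, C.hz, h3, h2]))
  rcases C.perm h3 h1 (C.kr k) with rfl | rfl
  · exact ⟨false, A 1, A 2, C.mt1 h1, by rw [h2, h2], h4⟩
  · exact ⟨true, A 1, A 2, C.mt2 h1, by rw [h2, h2], h4⟩

theorem cQ {k : K} (e : ∀ v, π k * π (κ' v) = π (κ' v) * π k) : π k ∈ zpowers (π z') := by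
  have h := C.h
  have h0 : ∀ v, ι k * κ (emb v) * (ι k)⁻¹ = κ (emb v) := fun v => by
    have := C.lift (a := k * κ' v * k⁻¹) (b := κ' v)
      (by rw [map_mul, map_mul, map_inv, C.hκ, conj_pow, h.k3, mul_one, mul_inv_cancel]) (by rw [C.hκ, h.k3])
      (by rw [map_mul, map_mul, map_inv, e, mul_inv_cancel_right])
    rwa [map_mul, map_mul, map_inv, C.hκ] at this
  have hz : ι k * z = z * ι k := by
    have h1 := h.kk (emb (f0, 0)) (emb (e0, 0))
    rw [β_emb, show 2 * β (f0, 0) (e0, 0) = 1 by decide +kernel, zp_one] at h1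
    have h2 : z = (κ (emb (e0, 0)))⁻¹ * (κ (emb (f0, 0)) * κ (emb (e0, 0)) * (κ (emb (f0, 0)))⁻¹) := by
      rw [h1]; group
    have h3 : ∀ v, Commute (ι k) (κ (emb v)) := fun v => mul_inv_eq_iff_eq_mul.1 (h0 v)
    have : Commute (ι k) z := h2 ▸ (h3 _).inv_right.mul_right (((h3 _).mul_right (h3 _)).mul_right (h3 _).inv_right)
    exact this
  obtain ⟨u, k', p, A, d, rfl, h2, h3, h4, h5, h6⟩ := C.dec (CL.U63.MS.nz hz)
  have h7 : ∀ w, mon p A (emb w) = emb w ∧ 2 * β6 (emb u) (mon p A (emb w)) = 0 := fun w => by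
    apply h.keq
    rw [← h.kk, ← h3, zp_zero, mul_one]
    refine Eq.trans ?_ (h0 w)
    rw [map_mul, C.hκ]
    group
  obtain rfl : u = 0 := β_nd u fun w => by rw [← β_emb, ← (h7 w).1]; exact (h7 w).2
  have hk : ι (κ' 0 * k') = ι k' := by rw [map_mul, C.hκ, emb_zero, h.k0, one_mul]
  rw [C.inj hk] at hz ⊢
  rcases C.perm h6 h3 (C.kr k') with rfl | rfl
  swap
  · have := congrFun (h7 (e0, 0)).1 1
    rw [mon_swap_emb] at this
    simp only [emb, mat, cond, Matrix.mulVec_zero, Matrix.cons_val_one, Matrix.cons_val_zero] at this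
    exact absurd this (by decide +kernel)
  have h8 : ∀ w, mat false (A 1) (A 2) w = w := fun w => emb_eq (by rw [← mon_one_emb, (h7 w).1])
  have hA1 : A 1 = 1 := m2_ext (by simpa [mat] using congrArg Prod.fst (h8 (e0, 0)))
    (by simpa [mat] using congrArg Prod.fst (h8 (f0, 0)))
  have hA2 : A 2 = 1 := m2_ext (by simpa [mat] using congrArg Prod.snd (h8 (0, e0)))
    (by simpa [mat] using congrArg Prod.snd (h8 (0, f0)))
  obtain ⟨τ, hτ, j, m, e1⟩ := C.x.base _ A hz h3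
  obtain ⟨B, hB, mB⟩ := h.Ract τ hτ
  have m1 : Mt κ (ι k') 1 (B * UU ^ j.val * 1) := e1 ▸ (mB.mul' (C.y.cU.pow j.val)).mul' (h.zq m)
  have e2 := (h.uniq hz (h3.mq z) (m1.mq z)).2
  have e3 : ∀ i, A i = B i * U0 ^ j.val := fun i => by rw [e2]; simp [UU]
  obtain rfl : j = 0 := u_pow (B 1) j (hB 1).2 (by rw [← e3, hA1])
  simp only [ZMod.val_zero, pow_zero, mul_one] at e3
  rw [zp_zero, mul_one] at e1
  rcases C.x.ker τ hτ B mB (by rw [← e3, hA1]) (by rw [← e3, hA2]) with rfl | rfl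
  · rw [C.inj (a₁ := k') (a₂ := zp z' m) (by rw [e1, one_mul, map_zp, C.hz]), map_zp]
    exact zp_mem _ _
  · rw [C.inj (a₁ := k') (a₂ := δ * zp z' m) (by rw [e1, map_mul, map_zp, C.hz, C.hδ]), map_mul, C.E.map_δ, one_mul,
      map_zp]
    exact zp_mem _ _

theorem nwc : ∃ g, g * π z' * g⁻¹ * π z' = π z' * (g * π z' * g⁻¹) ∧ g * π z' * g⁻¹ ∉ zpowers (π z') := by
  obtain ⟨g, h1, h2⟩ := C.y.nwK
  obtain ⟨k, rfl⟩ := (C.rng g).1 h1
  refine ⟨π k, ?_, fun e => ?_⟩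
  · rw [← map_inv, ← map_mul, ← map_mul]
    apply C.cm
    rw [map_mul, map_mul, map_inv, C.hz]
    rcases h2 with h2 | h2 <;> rw [h2]
    · exact C.y.cz
    · exact (show Commute c z from C.y.cz).inv_left
  · obtain ⟨m, hm⟩ := C.conj_zp e
    obtain ⟨l, hl⟩ : ∃ l, c = zp z l := by
      rcases h2 with h2 | h2
      · exact ⟨m, by rw [← h2, hm]⟩
      · exact ⟨-m, by rw [zp_neg C.h.z3, ← hm, h2, inv_inv]⟩
    have := (C.h.mq_one ((hl ▸ C.h.zq l : Mt κ c 1 1).mq z) (C.y.cU.mq z)).2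
    exact U0_spec.2.2.1 (congrFun this 0)

theorem ms : CL.U63.MS (π z') (π t') (fun w => π (κ' w)) ((R.comap ι).map π) where
  z3 := C.z3
  z1 := fun e => C.h.z1 (by
    rw [← C.hz, C.lift (a := z') (b := 1) (by rw [C.hz, C.h.z3]) (by simp) (by rw [e, map_one]), map_one])
  kz := fun v => C.cm (by rw [C.hκ, C.hz, C.h.kz])
  mul := fun v w => by
    rw [← map_zp, ← map_mul, ← map_mul]
    exact congrArg π (C.inj (by rw [map_mul, map_mul, map_zp, C.hκ, C.hκ, C.hκ, C.hz, C.h.mul, emb_add, β_emb]))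
  inj := fun v e => by
    obtain ⟨m, hm⟩ := (mem_zp C.z3).1 e
    have := C.lift (a := κ' v) (b := zp z' m) (by rw [C.hκ, C.h.k3]) (C.zp3 m) (by rw [map_zp]; exact hm)
    rw [C.hκ, map_zp, C.hz] at this
    exact emb_eq (by rw [emb_zero]; exact C.h.inj _ (this ▸ zp_mem z m))
  cQ := fun g e => by
    obtain ⟨k, rfl⟩ := C.E.surj g
    exact C.cQ e
  tT := ⟨t', by rw [SetLike.mem_coe, mem_comap, C.ht]; exact C.h.tR, rfl⟩
  tk := fun v => by
    rw [← map_inv, ← map_mul, ← map_mul]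
    exact congrArg π (C.inj (by rw [map_mul, map_mul, map_inv, C.hκ, C.hκ, C.ht, C.h.tk, emb_neg]))
  dec := fun g e => by
    obtain ⟨k, rfl⟩ := C.E.surj g
    obtain ⟨w, k', -, -, -, rfl, h2, -⟩ := C.dec (C.nz e)
    exact ⟨w, π k', C.cm (by rw [C.ht, h2]), map_mul _ _ _⟩
  act := fun g e e' => by
    obtain ⟨k, rfl⟩ := C.E.surj g
    exact C.act e e'
  Tz := by
    rintro _ ⟨k, hk, rfl⟩
    exact C.cm (by rw [C.hz]; exact C.h.Rz _ hk)
  Tt := by
    rintro _ ⟨k, hk, rfl⟩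
    exact C.cm (by rw [C.ht]; exact C.h.Rt _ hk)
  T4 := by
    rintro _ ⟨k, hk, rfl⟩
    rw [← map_pow, C.inj (a₁ := k ^ 4) (a₂ := 1) (by rw [map_pow, map_one]; exact C.h.R4 _ hk), map_one]
  Tact := by
    rintro _ ⟨k, hk, rfl⟩
    obtain ⟨A, h1, h2⟩ := C.h.Ract _ hk
    exact ⟨A 1, A 2, h1 1, h1 2, C.mt1 h2⟩
  Tsurj := fun A B hA hB => by
    obtain ⟨τ, h1, D, h2⟩ := C.x.surj A B hA hB
    obtain ⟨k, rfl⟩ := (C.rng τ).1 (C.h.r_comm (C.h.Rz τ h1) h2 0)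
    exact ⟨π k, ⟨k, h1, rfl⟩, C.mt1 h2⟩
  wc := fun g v m e => by
    obtain ⟨k, rfl⟩ := C.E.surj g
    have := C.lift (C.cz3 k) (C.q3 v m) (by rw [map_mul, map_mul, map_inv, map_mul, map_zp]; exact e)
    rw [map_mul, map_mul, map_inv, map_mul, map_zp, C.hz, C.hκ] at this
    rcases C.y.nz _ _ _ this with h1 | h1
    · exact emb_eq (by rw [h1, emb_zero])
    · exact absurd rfl (h1 0)
  nwc := C.nwc

end Cx

end KM

theorem kmThm : KMThm.{u} := fun h y x _ _ _ _ _ _ _ _ _ _ h1 h2 h3 h4 h5 h6 h7 =>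
  KM.Cx.ms ⟨h, y, x, h1, h2, h3, h4, h5, h6, h7⟩

end CL.F3
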