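/-
Recognition of `Fi₂₂` from a 3-centraliser (S3368), 3-local part: Sylow 3-subgroups of `C(r 0)` and `C(r 0 * r 1)`.
-/
import Cfsg.Agent.Rec.F3Base2

set_option autoImplicit false

namespace CL.F3

open Subgroup Cfsg CL.Grp CL.G23 CL.Even Equiv
open CL.U63 hiding Mt Mq MS P1Thm WCThm
open scoped Matrix Pointwise

universe u

namespace NFJ

set_option synthInstance.maxSize 2000 in
theorem m_norm : ∀ A : M2, A ^ 3 = 1 → ∀ l : ZMod 3, A * U0 = U0 ^ l.val * A →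
    (∃ m : ZMod 3, A * U0 ^ m.val = 1) ∧ ∀ m : ZMod 3, (A * U0 ^ m.val) ^ 3 = 1 := by decide +kernel

theorem u_fix : ∀ l : ZMod 3, U0 ^ l.val *ᵥ f0 = f0 → l = 0 := by decide +kernel

theorem u_det : ∀ l : ZMod 3, (U0 ^ l.val).det = 1 ∧ (U0 ^ l.val) ^ 3 = 1 := by
  simp only [Matrix.det_fin_two]
  decide +kernel

theorem card0 : Nat.card {v : W6 // ∀ i ∈ ({0} : Finset (Fin 3)), v i = 0} = 81 := by
  rw [Nat.card_eq_fintype_card]; decide +kernel

theorem card1 : Nat.card {v : W6 // ∀ i ∈ ({0, 1} : Finset (Fin 3)), v i = 0} = 9 := by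
  rw [Nat.card_eq_fintype_card]; decide +kernel

variable {G : Type u} [Group G] {z t c ρ g : G} {κ : W6 → G} {R : Subgroup G} {r : Fin 3 → G}
  (h : MS z t κ R r) (y : Y3 z t κ r c) {I : Finset (Fin 3)}
include y

theorem cm (l : ZMod 3) : Mt κ (zp c l) 1 (UU ^ l.val) := y.cU.pow _

theorem cz (l : ZMod 3) : zp c l * z = z * zp c l := (zp_comm y.cz.symm l).symm

theorem ct (l : ZMod 3) : zp c l * t = t * zp c l := (zp_comm y.ct.symm l).symm

include h

theorem zct (k l : ZMod 3) : zp z k * zp c l * t = t * (zp z k * zp c l) :=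
  (Commute.mul_left (zp_comm h.tz k : Commute t _).symm (ct y l)).eq

omit h in
theorem move (v : W6) (k l : ZMod 3) :
    zp c l * (κ v * zp z k) = κ (mon 1 (UU ^ l.val) v) * zp z k * zp c l := by
  rw [← cm y l v, mul_assoc _ (zp z k), ← zp_comm (cz y l)]; group

/-- the Sylow subgroup -/
def PI (I : Finset (Fin 3)) : Subgroup G where
  carrier := {g | ∃ v k l, (∀ i ∈ I, v i = 0) ∧ g = κ v * zp z k * zp c l}
  one_mem' := ⟨0, 0, 0, fun _ _ => rfl, by simp [h.k0, zp_zero]⟩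
  mul_mem' := by
    rintro _ _ ⟨v, k, l, h1, rfl⟩ ⟨w, k', l', h2, rfl⟩
    refine ⟨v + mon 1 (UU ^ l.val) w, β6 v (mon 1 (UU ^ l.val) w) + k + k', l + l', fun i hi => ?_, ?_⟩
    · rw [Pi.add_apply, mon_base, h1 i hi, h2 i hi, Matrix.mulVec_zero, add_zero]
    · rw [mul_assoc, ← mul_assoc (zp c l), move y, zp_add h.z3, zp_add h.z3, zp_add y.c3, ← mul_assoc (κ _),
        ← mul_assoc (κ _), ← h.mul, mul_assoc (κ v) (κ _) (zp z k), h.kzp (mon _ _ w) k]
      group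
  inv_mem' := by
    rintro _ ⟨v, k, l, h1, rfl⟩
    refine ⟨mon 1 (UU ^ (-l).val) (-v), -k, -l, fun i hi => ?_, ?_⟩
    · rw [mon_base, Pi.neg_apply, h1 i hi, neg_zero, Matrix.mulVec_zero]
    · rw [← move y, h.kzp (-v), zp_neg y.c3, zp_neg h.z3, ← h.kinv]; group

theorem k_mem {v : W6} (e : ∀ i ∈ I, v i = 0) : κ v ∈ PI h y I := ⟨v, 0, 0, e, by simp [zp_zero]⟩

theorem zc_mem (k l : ZMod 3) : zp z k * zp c l ∈ PI h y I := ⟨0, k, l, fun _ _ => rfl, by rw [h.k0, one_mul]⟩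

theorem z_mem : z ∈ PI h y I := by simpa [zp_zero, zp_one] using zc_mem h y (I := I) 1 0

theorem c_mem : c ∈ PI h y I := by simpa [zp_zero, zp_one] using zc_mem h y (I := I) 0 1

theorem mq (v : W6) (k l : ZMod 3) : Mq z κ (κ v * zp z k * zp c l) 1 (UU ^ l.val) := by
  simpa using (h.inQ_mq ⟨v, k, rfl⟩).mul' h.z3 (h.inQ_cz ⟨v, k, rfl⟩) ((cm y l).mq z)

theorem le_cz (hg : g ∈ PI h y I) : g * z = z * g := by
  obtain ⟨v, k, l, -, rfl⟩ := hg
  exact (Commute.mul_left (h.inQ_cz ⟨v, k, rfl⟩) (cz y l)).eq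

theorem card_PI : Nat.card (PI h y I) = Nat.card {v : W6 // ∀ i ∈ I, v i = 0} * 9 := by
  have : Nat.card ({v : W6 // ∀ i ∈ I, v i = 0} × ZMod 3 × ZMod 3) = Nat.card (PI h y I) := by
    refine Nat.card_congr (Equiv.ofBijective (fun p => ⟨_, p.1.1, p.2.1, p.2.2, p.1.2, rfl⟩) ⟨?_, ?_⟩)
    · rintro ⟨⟨v, hv⟩, k, l⟩ ⟨⟨w, hw⟩, k', l'⟩ e
      have e : κ v * zp z k * zp c l = κ w * zp z k' * zp c l' := congrArg Subtype.val e
      have e1 := congrFun (h.mq_uniq (fun i => by rw [show (UU ^ l.val) i = U0 ^ l.val from rfl, (u_det l).1]; decide)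
        (mq h y v k l) (e ▸ mq h y w k' l')).2 0
      obtain rfl : l = l' := by
        revert e1
        exact (by decide +kernel : ∀ l l' : ZMod 3, U0 ^ l.val = U0 ^ l'.val → l = l') l l'
      obtain ⟨rfl, rfl⟩ := h.keq (mul_right_cancel e)
      rfl
    · rintro ⟨_, v, k, l, h1, rfl⟩
      exact ⟨(⟨v, h1⟩, k, l), rfl⟩
  rw [← this, Nat.card_prod, Nat.card_prod, Nat.card_zmod]

theorem cen (h2 : 2 ∉ I) (hg : g ∈ PI h y I) (e : ∀ a ∈ PI h y I, g * a = a * g) : g ∈ zpowers z := by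
  obtain ⟨v, k, l, h1, rfl⟩ := hg
  have s : ∀ i ∉ I, ∀ x, κ (sn i x) ∈ PI h y I := fun i hi x => k_mem h y fun j hj => sn_ne (fun e : j = i => hi (e ▸ hj)) x
  obtain ⟨j, e1⟩ := mq h y v k l (sn 2 f0)
  rw [e _ (s 2 h2 f0), mul_inv_cancel_right, ← mul_one (κ _), ← zp_zero z] at e1
  have e2 := congrFun (h.keq e1).1 2
  rw [mon_base, sn_self] at e2
  obtain rfl := u_fix l e2.symm
  obtain rfl : v = 0 := funext fun i => by
    by_cases hi : i ∈ I
    · exact h1 i hi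
    refine (by decide : ∀ a : V2, (∀ x, d2 a x = 0) → a = 0) _ fun x => ?_
    have e3 := e _ (s i hi x)
    rw [zp_zero, mul_one, mul_assoc, ← h.kzp, ← mul_assoc, ← mul_assoc, mul_left_inj] at e3
    rw [← β6_sn, h.β_of_comm e3]
  rw [h.k0, zp_zero, one_mul, mul_one]
  exact zp_mem z k

variable [Finite G]

theorem nrm (h2 : 2 ∉ I) : normalizer (PI h y I : Set G) ≤ normalizer (zpowers z : Set G) := fun g hg =>
  mem_nz.2 (cen h y h2 (CL.Loc.conj_mem_of_mem_normalizer hg (z_mem h y)) fun a ha => by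
    have := BTJ.cm_conj g (le_cz h y (CL.Loc.conj_mem_of_mem_normalizer (inv_mem hg) ha))
    simpa [mul_assoc] using this.symm)

theorem pg : IsPGroup 3 (PI h y I) := by
  rintro ⟨_, v, k, l, h1, rfl⟩
  have e := le_cz h y (I := I) ⟨v, k, l, h1, rfl⟩
  have m := (mq h y v k l).pow h.z3 e 3
  rw [show (UU ^ l.val) ^ 3 = 1 from funext fun _ => (u_det l).2] at m
  exact ⟨2, Subtype.ext ((pow_mul _ 3 3).trans (h.inQ_cube (h.triv_q (Commute.pow_left e 3).eq m)))⟩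

theorem syl (h2 : 2 ∉ I) {σ : A3} (hz : ρ * z = z * ρ) (ht : ρ * t = t * ρ) (hc : ρ * c = c * ρ) (m : Mt κ ρ 1 σ)
    (hσ : ∀ i, σ i = if i ∈ I then -1 else 1) {j : Fin 3}
    (hj : ∀ d, d * t = t * d → ρ * d = d * ρ → d * r j = r j * d) : IsSylowIn 3 (PI h y I) (centralizer {ρ}) := by
  have := Fact.mk Nat.prime_three
  refine CL.Rec.isSylowIn_of_loc ?_ (pg h y) fun x hx hn n e => ?_
  · rintro _ ⟨v, k, l, h1, rfl⟩
    refine mem_centralizer_singleton_iff.2 (Commute.mul_right (Commute.mul_right (m.comm (funext fun i => ?_))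
      (zp_comm hz k)) (zp_comm hc l)).symm.eq
    rw [mon_base, hσ]
    split_ifs with hi
    · rw [h1 i hi, Matrix.mulVec_zero]
    · exact Matrix.one_mulVec _
  have xz := h.three_cz (nrm h y h2 hn) e
  obtain ⟨u, x', π, A, rfl, a1, a2, a3, a4, a5⟩ := h.nfc xz
  obtain ⟨b1, b2⟩ := h.comm_parts a1 ht m (mem_centralizer_singleton_iff.1 hx).symm
  have hu : κ u ∈ PI h y I := k_mem h y fun i hi => by
    have := congrFun b1 i
    rw [mon_base, hσ, if_pos hi, Matrix.neg_mulVec, Matrix.one_mulVec] at this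
    exact (by decide +revert : ∀ a : V2, -a = a → a = 0) _ this
  obtain ⟨c1, c2⟩ := h.three xz e a5
  obtain rfl := p3_fix π c1 j (h.r_inj (by rw [← h.r_conj' a2 a3, hj x' a1 b2, mul_inv_cancel_right]))
  obtain ⟨v, k, l, -, e1⟩ := CL.Loc.conj_mem_of_mem_normalizer ((mul_mem_cancel_left (le_normalizer hu)).1 hn) (c_mem h y)
  rw [mul_assoc (κ v), ← one_mul (x' * c * x'⁻¹), ← h.k0] at e1
  have e2 := mul_inv_eq_iff_eq_mul.1 (h.ct_eq
    (Commute.mul_left (Commute.mul_left a1 y.ct) (Commute.inv_left a1)).eq (zct h y k l) e1).2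
  have e3 := (h.mq_uniq (A := A * UU) (fun i => by
      rw [Pi.mul_apply, Matrix.det_mul, a4, show (UU i).det = 1 from by simpa [ZMod.val_one, UU] using (u_det 1).1]; simp)
    ((a3.mul' y.cU).mq z) (e2 ▸ (((h.zq k).mul' (cm y l)).mul' a3).mq z)).2
  rw [one_mul] at e3
  have d := fun i => m_norm (A i) (c2 rfl i) l (congrFun e3 i)
  obtain ⟨p, hp⟩ := (d 0).1
  obtain ⟨s, π, S, s1, -, s3, s4⟩ := y.cyc
  obtain ⟨k', e4⟩ := h.inQ_t (y.w.dfact ⟨s, π, S, s1, s3.mq z, s4⟩ _ _ 0 (Commute.mul_left a2 (cz y p)).eq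
    ((a3.mul' (cm y p)).mq z) (fun i => (d i).2 p) hp) (Commute.mul_left a1 (ct y p)).eq
  refine mul_mem hu ?_
  rw [eq_mul_inv_of_mul_eq e4, ← zp_neg y.c3]
  exact zc_mem h y _ _

omit [Finite G] in
theorem P0_eq : P0 z c κ = PI h y {0} := by
  refine le_antisymm ((closure_le _).2 ?_) ?_
  · rintro _ ((rfl | rfl) | ⟨v, hv, rfl⟩)
    exacts [z_mem h y, c_mem h y, k_mem h y (by simpa using hv)]
  · rintro _ ⟨v, k, l, h1, rfl⟩
    exact mul_mem (mul_mem (subset_closure (.inr ⟨v, h1 0 (by simp), rfl⟩)) (pow_mem (subset_closure (by simp)) _))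
      (pow_mem (subset_closure (by simp)) _)

end NFJ

open NFJ in
theorem nfThm : NFThm.{u} := fun {G} _ _ {z t c κ R r} h y => by
  have := Fact.mk Nat.prime_three
  have rc := fun i => (h.r_comm y.cz y.cU i).symm
  have s0 := syl h y (I := {0}) (by decide) (h.rz 0) (h.rt 0) (rc 0) (h.ra 0) (by decide +kernel) (j := 0)
    fun _ _ e => e.symm
  have s1 := syl h y (I := {0, 1}) (by decide) (Commute.mul_left (h.rz 0) (h.rz 1)).eq
    (Commute.mul_left (h.rt 0) (h.rt 1)).eq (Commute.mul_left (rc 0) (rc 1)).eq ((h.ra 0).mul' (h.ra 1))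
    (by decide +kernel) (j := 2) fun d e1 e2 => by
      rw [h.tr, ← mul_assoc, ← e2, mul_assoc, mul_assoc _ (r 2), mul_right_inj] at e1
      exact e1
  have c0 : Nat.card (PI h y {0}) = 729 := by rw [card_PI, card0]
  refine ⟨fun g => ?_, ?_, ?_, ?_, fun e => ?_⟩
  · rw [P0_eq h y]
    exact exists₃_congr fun v k l => and_congr_left fun _ => by simp
  · rw [P0_eq h y, c0]
  · rw [P0_eq h y]; exact s0
  · rw [P0_eq h y]; exact nrm h y (by decide)
  · obtain ⟨g, e⟩ := isConj_iff.1 e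
    have := s1.card_le (IsPGroup.conj_smul s0.isPGroup g) ((conj_smul_le_iff _ _ _).2 fun a ha =>
      mem_centralizer_singleton_iff.2 (e ▸ BTJ.cm_conj g (mem_centralizer_singleton_iff.1 (s0.le ha))))
    rw [card_conj_smul, c0, card_PI, card1] at this
    omega

end CL.F3
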