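/-
Recognition of `Fi₂₂` from a 3-centraliser (S3368), 3-local part: `t` is not conjugate to `r 0`.
-/
import Cfsg.Agent.Rec.F3Base2

set_option autoImplicit false

namespace CL.F3

open Subgroup Cfsg CL.Grp CL.G23 CL.Even Equiv
open CL.U63 hiding Mt Mq MS P1Thm WCThm
open scoped Matrix Pointwise

universe u

variable {G : Type u} [Group G]

namespace NT

theorem fin1 : (∀ i j : ZMod 3, i • sn 1 e0 + j • sn 2 e0 = 0 → i = 0 ∧ j = 0) ∧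
    (∀ i j : ZMod 3, β6 (i • sn 1 e0) (j • sn 2 e0) = 0) ∧ (∀ i, mon 1 UU (sn i e0) = sn i e0) ∧
    β6 (sn 1 e0) (sn 2 e0) = 0 ∧ (∀ l : ZMod 3, UU ^ l.val = 1 → l = 0) ∧
    ∀ l m : ZMod 3, l ≠ 0 → (UU ^ l.val) ^ m.val = 1 → m = 0 := by decide +kernel

set_option synthInstance.maxSize 2000 in
theorem fin2 : ∀ l : ZMod 3, l ≠ 0 → ∀ v : W6, v 0 = 0 →
    β6 (v + mon 1 (UU ^ l.val) v) (mon 1 (UU ^ l.val) (mon 1 (UU ^ l.val) v)) + β6 v (mon 1 (UU ^ l.val) v) = 0 →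
    β6 (sn 1 e0) v = 0 ∧ β6 (sn 2 e0) v = 0 := by decide +kernel

variable {z t c g : G} {κ : W6 → G} {R : Subgroup G} {r : Fin 3 → G} (h : MS z t κ R r) (y : Y3 z t κ r c)
include h

theorem kr {v : W6} (hv : v 0 = 0) : κ v * r 0 = r 0 * κ v :=
  ((h.ra 0).comm (by rw [mon_sgn, hv, sn_zero, add_zero])).symm

theorem prod (i j : ZMod 3) : zp (κ (sn 1 e0)) i * zp (κ (sn 2 e0)) j = κ (i • sn 1 e0 + j • sn 2 e0) := by
  rw [← h.ksmul, ← h.ksmul, h.kadd (fin1.2.1 i j)]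

theorem cube {d : G} {A : A3} (m : Mt κ d 1 A) (d3 : d ^ 3 = 1) {v : W6} (e : (κ v * d) ^ 3 = 1) :
    β6 (v + mon 1 A v) (mon 1 A (mon 1 A v)) + β6 v (mon 1 A v) = 0 := by
  have e1 : (κ v * d) ^ 3 = κ v * (d * κ v * d⁻¹) * (d * (d * κ v * d⁻¹) * d⁻¹) * d ^ 3 := by
    simp only [pow_succ, pow_zero]; group
  rw [e, d3, mul_one, m, m, h.mul, mul_assoc, ← h.kzp, ← mul_assoc, h.mul, mul_assoc, ← zp_add h.z3] at e1
  exact (h.keq (w := 0) (l := 0) (by rw [← e1, h.k0, zp_zero, mul_one])).2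

include y

theorem ind (hg : g * t * g⁻¹ = r 0) {a b d : G} (ha : T3 (g * z * g⁻¹) a) (hb : T3 (g * z * g⁻¹) b)
    (hd : T3 (g * z * g⁻¹) d) (ab : a * b = b * a) (ad : a * d = d * a) (bd : b * d = d * b)
    (ar : a * r 0 = r 0 * a) (br : b * r 0 = r 0 * b) (dr : d * r 0 = r 0 * d) :
    ∃ i j k m : ZMod 3, ¬ (i = 0 ∧ j = 0 ∧ k = 0) ∧ zp a i * zp b j * zp d k = zp (g * z * g⁻¹) m := by
  obtain ⟨s, π, S, s1, -, s2, s3⟩ := y.cyc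
  have k1 : ∀ {a b : G}, a * (g * b * g⁻¹) = g * b * g⁻¹ * a → g⁻¹ * a * g⁻¹⁻¹ * b = b * (g⁻¹ * a * g⁻¹⁻¹) :=
    fun {a b} e => BTJ.cm_of_conj (g := g) (by simpa [mul_assoc] using e)
  have k2 : ∀ {a : G}, T3 (g * z * g⁻¹) a → T3 z (g⁻¹ * a * g⁻¹⁻¹) := fun e =>
    ⟨k1 e.1, by rw [conj_pow, e.2]; group⟩
  obtain ⟨i, j, k, n, e⟩ := y.w.f2a ⟨s, π, S, s1, s2.mq z, s3⟩ _ _ _ (k2 ha) (k2 hb) (k2 hd) (BTJ.cm_conj _ ab)
    (BTJ.cm_conj _ ad) (BTJ.cm_conj _ bd)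
  rw [← hg] at ar br dr
  have k3 : ∀ {a : G} (i : ZMod 3), a * (g * t * g⁻¹) = g * t * g⁻¹ * a → Commute (zp (g⁻¹ * a * g⁻¹⁻¹) i) t :=
    fun i e => (zp_comm (k1 e).symm i).symm
  obtain ⟨m, e'⟩ := h.inQ_t e (((k3 i ar).mul_left (k3 j br)).mul_left (k3 k dr))
  refine ⟨i, j, k, m, n, ?_⟩
  rw [← zp_cj, ← e', ← zp_cj, ← zp_cj, ← zp_cj]
  group

end NT

open NT in
theorem ntThm : NTThm.{u} := by
  intro G _ _ z t c κ R r h y n hc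
  have : Fact (Nat.Prime 3) := ⟨Nat.prime_three⟩
  obtain ⟨g₀, hg₀⟩ := isConj_iff.1 hc.symm
  have z3 : ∀ g : G, (g * z * g⁻¹) ^ 3 = 1 := fun g => by rw [conj_pow, h.z3]; group
  obtain ⟨g, hg, hP⟩ : ∃ g, g * t * g⁻¹ = r 0 ∧ g * z * g⁻¹ ∈ P0 z c κ := by
    obtain ⟨k, hk, e⟩ := n.syl.exists_conj_le (U := zpowers (g₀ * z * g₀⁻¹))
      (IsPGroup.of_card (n := 1) (by
        rw [Nat.card_zpowers, orderOf_eq_prime (z3 g₀) fun e => h.z1 (conj_eq_one_iff.1 e), pow_one]))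
      (zpowers_le.2 (mem_centralizer_singleton_iff.2 (hg₀ ▸ BTJ.cm_conj g₀ h.tz.symm)))
    refine ⟨k * g₀, ?_, ?_⟩
    · rw [show k * g₀ * t * (k * g₀)⁻¹ = k * (g₀ * t * g₀⁻¹) * k⁻¹ by group, hg₀,
        mem_centralizer_singleton_iff.1 hk, mul_inv_cancel_right]
    · rw [show k * g₀ * z * (k * g₀)⁻¹ = k * (g₀ * z * g₀⁻¹) * k⁻¹ by group]
      exact e (smul_mem_pointwise_smul _ (MulAut.conj k) _ (mem_zpowers _))
  obtain ⟨v, k, l, v0, e⟩ := (n.mem _).1 hP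
  have r1 := kr h (v := sn 1 e0) rfl
  have r2 := kr h (v := sn 2 e0) rfl
  have k12 := h.kcomm fin1.2.2.2.1
  have kc : ∀ i, κ (sn i e0) * c = c * κ (sn i e0) := fun i => (y.cU.comm (fin1.2.2.1 i)).symm
  by_cases l0 : l = 0
  · rw [l0, zp_zero, mul_one] at e
    obtain rfl : v = 0 := (y.nz g v k e).resolve_right fun a => a 0 v0
    rw [h.k0, one_mul] at e
    obtain ⟨i, j, k', m, n0, e'⟩ := ind h y hg (a := κ (sn 1 e0)) (b := κ (sn 2 e0)) (d := c)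
      ⟨e ▸ h.kzp _ k, h.k3 _⟩ ⟨e ▸ h.kzp _ k, h.k3 _⟩ ⟨e ▸ zp_comm y.cz k, y.c3⟩ k12 (kc 1) (kc 2) r1 r2
      (h.r_comm y.cz y.cU 0)
    rw [prod h, e, zp_zp h.z3, ← one_mul (zp z _), ← h.k0] at e'
    obtain ⟨e1, e2⟩ := h.ct_eq (zp_comm y.ct.symm k').symm (zp_comm h.tz _).symm e'
    exact n0 ⟨(fin1.1 i j e1).1, (fin1.1 i j e1).2,
      fin1.2.2.2.2.1 k' (h.mq_one ((e2 ▸ h.zq _ : Mt κ (zp c k') 1 1).mq z) ((y.cU.pow _).mq z)).2⟩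
  · have m : Mt κ (zp z k * zp c l) 1 (UU ^ l.val) := one_mul (UU ^ l.val) ▸ (h.zq k).mul' (y.cU.pow l.val)
    have zc : Commute (zp z k) (zp c l) := zp_comm (zp_comm y.cz k).symm l
    rw [mul_assoc (κ v)] at e
    obtain ⟨b1, b2⟩ := fin2 l l0 v v0 (cube h m (by rw [zc.mul_pow, zp_cube h.z3, zp_cube y.c3, mul_one]) (e ▸ z3 g))
    have kz : ∀ i, β6 (sn i e0) v = 0 → T3 (g * z * g⁻¹) (κ (sn i e0)) := fun i b =>
      ⟨e ▸ (Commute.mul_right (h.kcomm b) (Commute.mul_right (h.kzp _ k) (zp_comm (kc i) l))).eq, h.k3 _⟩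
    have zz : z * (g * z * g⁻¹) = g * z * g⁻¹ * z :=
      e ▸ (Commute.mul_right (h.kz v).symm (Commute.mul_right (zp_comm rfl k) (zp_comm y.cz.symm l))).eq
    obtain ⟨i, j, k', m', n0, e'⟩ := ind h y hg (d := z) (kz 1 b1) (kz 2 b2) ⟨zz, h.z3⟩ k12 (h.kz _) (h.kz _) r1 r2
      (h.rz 0).symm
    rw [prod h] at e'
    have q : Mq z κ (g * z * g⁻¹) 1 (UU ^ l.val) := e ▸ h.kmq v (m.mq z)
    obtain rfl := fin1.2.2.2.2.2 l m' l0 (h.mq_one (h.inQ_mq ⟨_, _, e'.symm⟩) (q.pow h.z3 zz.symm _)).2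
    obtain ⟨e1, e2⟩ := h.keq (w := 0) (l := 0) (by rw [e', h.k0, zp_zero, zp_zero, mul_one])
    exact n0 ⟨(fin1.1 i j e1).1, (fin1.1 i j e1).2, e2⟩

end CL.F3
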