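/-
Recognition of `Fi₂₂` from a 3-centraliser (S3368): an outer involution in `C(r 0)`.
-/
import Cfsg.Agent.Rec.F3Base2

set_option autoImplicit false

namespace CL.F3

open Subgroup Cfsg CL.Grp CL.G23 CL.Even Equiv
open CL.U63 hiding Mt Mq MS P1Thm WCThm
open scoped Matrix

universe u

namespace OUT

set_option synthInstance.maxSize 2000 in
theorem mat : ∀ l < 3, ∀ A : M2, A.det ≠ 0 → A * U0 = U0 ^ l * A → (A * A) ^ 3 = 1 ∧ ∀ B : M2, B.det ≠ 0 →
    B * U0 = U0 ^ l * B → ((A * B) ^ 3 = 1 ∧ (B * A) ^ 3 = 1) ∨ ((A * -B) ^ 3 = 1 ∧ (-B * A) ^ 3 = 1) := by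
  simp only [Matrix.det_fin_two]
  decide +kernel

theorem perm : ∀ π : P3, π 0 = 0 → π = 1 ∨ π = swap 1 2 := by decide

end OUT

open OUT in
theorem outThm : OUTThm.{u} := by
  intro G _ _ z t c κ R r h y n L hLK hL hP hR
  have : Fact (Nat.Prime 3) := ⟨Nat.prime_three⟩
  have fin : ∀ d π A, d * r 0 = r 0 * d → d ∉ L → Mt κ d π A → π * π = 1 → (A * tw π A) ^ 3 = 1 →
      ∃ s, s * s = 1 ∧ s * r 0 = r 0 * s ∧ s ∉ L := fun d π A hd hn m hπ hA => by
    have m2 := m.mul m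
    rw [hπ] at m2
    have m3 := m2.pow 3
    rw [hA] at m3
    obtain ⟨k, e⟩ := h.triv_t m3
    refine ⟨d ^ 9, ?_, (Commute.pow_left hd 9).eq, fun hs => hn ?_⟩
    · rw [← zp_cube h.z3 k, ← e, ← sq d, ← pow_mul, ← pow_mul, ← pow_add]
    · have h1 : d ^ 4 * d ^ 4 ∈ L := mul_self_mem_of_index_two (H := L.subgroupOf (centralizer {r 0})) hL
        ⟨d ^ 4, pow_mem (mem_centralizer_singleton_iff.2 hd) 4⟩
      rw [← mul_mem_cancel_left h1, ← pow_add, ← pow_succ]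
      exact hs
  obtain ⟨g, hg, hgL⟩ : ∃ g ∈ centralizer {r 0}, g ∉ L := by
    by_contra! e
    rw [relIndex_eq_one.2 e] at hL
    omega
  obtain ⟨a, ha, hd⟩ := (n.syl.of_le hP hLK).frattini
    ((normal_subgroupOf_iff_le_normalizer hLK).1 (normal_of_index_eq_two hL)) hg
  obtain ⟨u, d, π, A, e, h1, dt, m, hA, he, dz, -⟩ := h.nf (n.nrm hd)
  obtain ⟨u0, dr⟩ := h.comm_r dt 0 (h1 ▸ (mem_centralizer_singleton_iff.1 (mul_mem (hLK ha) hg)).symm)
  have hu : κ u ∈ P0 z c κ := (n.mem _).2 ⟨u, 0, 0, u0, by simp [zp_zero]⟩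
  have dL : d ∉ L := fun e => hgL ((mul_mem_cancel_left ha).1 (h1 ▸ mul_mem (hP hu) e))
  rw [h1, mul_mem_cancel_left (le_normalizer hu)] at hd
  have π0 : π 0 = 0 := h.r_inj (by rw [← h.r_conj dz m 0, ← dr, mul_inv_cancel_right])
  obtain ⟨v, k, l, -, e1⟩ := (n.mem _).1 ((mem_normalizer_iff.1 hd c).1 ((n.mem _).2
    ⟨0, 0, 1, rfl, by simp [zp_zero, zp_one, h.k0]⟩))
  have e2 : d * c * d⁻¹ = zp z k * zp c l := (h.ct_eq (v := 0) (w := v)
    (Commute.mul_left (Commute.mul_left dt y.ct) (Commute.inv_left dt)).eq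
    (Commute.mul_left (zp_comm h.tz k : Commute t _).symm (zp_comm y.ct.symm l : Commute t _).symm).eq
    (by rw [h.k0, one_mul, e1, mul_assoc])).2
  have m1 := m.mul y.cU
  have m2 := ((h.zq k).mul' (y.cU.pow l.val)).mul m
  rw [mul_one, tw_UU, ← inv_mul_cancel_right (d * c) d, e2] at m1
  rw [one_mul π, one_mul, tw_one] at m2
  have hU : A * UU = UU ^ l.val * A := (h.mq_uniq (fun i => by
    rw [Pi.mul_apply, Matrix.det_mul, hA, show (UU i).det = 1 by rw [Matrix.det_fin_two]; rfl, mul_one]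
    exact he) (m1.mq z) (m2.mq z)).2
  have k1 := fun i => mat _ (ZMod.val_lt l) (A i) (hA i ▸ he) (congrFun hU i)
  rcases perm π π0 with rfl | rfl
  · exact fin d 1 A dr.symm dL m rfl (funext fun i => (k1 i).1)
  rcases (k1 1).2 (A 2) (hA 2 ▸ he) (congrFun hU 2) with k2 | k2
  · refine fin d _ A dr.symm dL m (swap_mul_self _ _) (funext fun i => ?_)
    fin_cases i
    exacts [(k1 0).1, k2.1, k2.2]
  · have m3 := m.mul (h.ra 1)
    rw [tw_sgn, mul_one, swap_apply_left] at m3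
    refine fin (d * r 1) _ _ (Commute.mul_left dr.symm (h.rr 1 0)).eq
      (fun e => dL ((mul_mem_cancel_right (hR (h.rR 1))).1 e)) m3 (swap_mul_self _ _) (funext fun i => ?_)
    fin_cases i
    · simpa [tw, sgn, swap_apply_of_ne_of_ne] using (k1 0).1
    · simpa [tw, sgn] using k2.1
    · simpa [tw, sgn] using k2.2

end CL.F3
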