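/-
Recognition of `Fi₂₂` from a 3-centraliser (S3368): the automorphisms of `U₆(2)` are semilinear.
-/
import Cfsg.Agent.Rec.F3T2
import Cfsg.Agent.Known.SkewAut3

set_option autoImplicit false

namespace CL.F3

open Subgroup Cfsg CL.MT CL.MT.U CL.Uni CL.Rec CL.Skew

universe u

namespace SL1

theorem rk6 : Module.finrank K4 V6 = 6 := by simp

theorem model : Model U.B (SUG U.B).subtype where
  invol := bar_bar
  skew x y := by rw [kneg, herm.symm]
  trace x := herm.bar.exists_sub_bar_eq (by rw [kneg, herm.symm])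
  nondeg := herm.nondeg
  iso2 x y hx := by
    have H := herm
    set z := y - (U.B x y / U.B x x) • x with hz
    have h1 : U.B x z = 0 := by simp [hz, hx]
    obtain ⟨t, ht⟩ := H.bar.exists_norm_eq (a := -U.B z z / U.B x x) (by simp [H.symm])
    refine ⟨t - U.B x y / U.B x x, ?_⟩
    rw [show y + (t - U.B x y / U.B x x) • x = z + t • x by rw [hz]; module]
    rw [eq_div_iff hx] at ht
    simp only [map_add, LinearMap.map_smulₛₗ, LinearMap.add_apply, LinearMap.smul_apply, map_smul, h1, H.flip_zero h1,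
      smul_eq_mul]
    linear_combination ht
  inj := subtype_injective _
  isom := iso_map
  eich r w c hr hrw hc := by
    obtain ⟨g, hg, he⟩ := herm.exists_eich (r := r) (w := w) (c := c) hr hrw (by rw [← hc, sub_eq_add_neg, kneg])
    refine ⟨⟨g, hg⟩, fun x => (he x).trans ?_⟩
    simp only [sub_eq_add_neg, ← neg_smul, kneg]
  gen M hM := by
    rw [eq_top_iff, ← herm.closure_tv_eq_top (by rw [rk6]; omega), closure_le]
    rintro g ⟨v, c, hv, hc, hg⟩
    exact hM v c g hv hc (isE_tv.2 hg)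
  center g hg := (herm.mem_center_SUG (by rw [rk6]; omega) g).1 hg

variable {X : Type u} [Group X] {ρ : SUG U.B →* X}

theorem semi (P : PQ ρ) (α : MulAut X) : ∃ (τ : K4 ≃+* K4) (f : V6 ≃+ V6), (∀ (c : K4) v, f (c • v) = τ c • f v) ∧
    (∀ u v, U.B (f u) (f v) = τ (U.B u v)) ∧
    ∀ g : SUG U.B, ∃ g' : SUG U.B, α (ρ g) = ρ g' ∧ ∀ v, g'.1 (f v) = f (g.1 v) := by
  have := P.finite
  let e : (SUG U.B ⧸ center (SUG U.B)) ≃* X :=
    (QuotientGroup.quotientMulEquivOfEq (Subgroup.ext fun g => (P.ker g).symm)).trans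
      (QuotientGroup.quotientKerEquivOfSurjective ρ P.surj)
  have he : ∀ g : SUG U.B, e g = ρ g := fun _ => rfl
  obtain ⟨τ, Φ, ζ, h0, h1, h2, h3, h4, h5⟩ := model.exists_semilinear (α := MulAut.congr e.symm α)
    (by rw [rk6]; omega) (model.presTv ⟨K4.w, by decide⟩ _) fun e f hef hW => by
      obtain ⟨w, hw, hw0⟩ := model.exists_W_ne (by rw [rk6]; omega) hef
      have := finrank_le_of_span_eq_top (R := K4) (v := ![w, f, e]) (eq_top_iff.2 fun x _ => by
        obtain ⟨a, ha⟩ := hW w hw _ (model.pr_mem hef x) hw0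
        refine (Submodule.mem_span_range_iff_exists_fun K4).2 ⟨![a, U.B e x, -U.B f x], ?_⟩
        simp only [Fin.sum_univ_three, Matrix.cons_val_zero, Matrix.cons_val_one, Matrix.cons_val_two,
          Matrix.head_cons, Matrix.tail_cons, ← ha, pr]
        module)
      rw [rk6] at this
      simp at this
  have k : ∀ c : K4, K4.bar c = c → c ≠ 0 → c = 1 := by decide
  obtain rfl := k ζ h1 h0
  let φ : V6 →+ V6 := AddMonoidHom.mk' Φ h2
  have hi : Function.Injective φ := (injective_iff_map_eq_zero φ).2 fun x hx => herm.nondeg x fun y => by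
    have := h4 x y
    rw [show Φ x = 0 from hx, one_mul] at this
    simpa using this.symm
  refine ⟨τ, AddEquiv.ofBijective φ (Finite.injective_iff_bijective.1 hi), h3, fun u v => (h4 u v).trans (one_mul _),
    fun g => ?_⟩
  obtain ⟨g', h6, h7⟩ := h5 g
  exact ⟨g', by simpa [← he] using congrArg e h6, h7⟩

theorem aut_K4 (τ : K4 ≃+* K4) : (∀ c, τ c = c) ∨ ∀ c, τ c = K4.bar c := by
  have h0 : τ .o = .o := map_zero τ
  have h1 : τ .i = .i := map_one τ
  have h2 : τ .v = τ .w * τ .w := map_mul τ .w .w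
  have h3 : τ .w ≠ τ .o := τ.injective.ne (by decide)
  have h4 : τ .w ≠ τ .i := τ.injective.ne (by decide)
  rw [h0] at h3
  rw [h1] at h4
  rcases h : τ .w with _ | _ | _ | _
  · exact absurd h h3
  · exact absurd h h4
  · exact .inl fun c => by cases c <;> simp only [h0, h1, h2, h] <;> decide
  · exact .inr fun c => by cases c <;> simp only [h0, h1, h2, h] <;> decide

theorem tr_map {α : MulAut X} {τ : K4 ≃+* K4} {f : V6 ≃+ V6} (h1 : ∀ (c : K4) v, f (c • v) = τ c • f v)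
    (h2 : ∀ u v, U.B (f u) (f v) = τ (U.B u v))
    (h3 : ∀ g : SUG U.B, ∃ g' : SUG U.B, α (ρ g) = ρ g' ∧ ∀ v, g'.1 (f v) = f (g.1 v)) {v : V6} (hv : Is v) :
    Is (f v) ∧ α (tr ρ v) = tr ρ (f v) := by
  obtain ⟨g, h4, h5⟩ := h3 (tau herm v)
  have hv' : U.B (f v) (f v) = 0 := by rw [h2, hv.2, map_zero]
  refine ⟨⟨by simpa using hv.1, hv'⟩, ?_⟩
  rw [tr, h4, tr]
  refine congrArg ρ (Subtype.ext (LinearEquiv.ext fun x => ?_))
  obtain ⟨x, rfl⟩ := f.surjective x
  rw [h5, tau_apply herm hv.2, tau_apply herm hv', tv, tv, map_add, h1, h2]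

end SL1

open SL1 in
theorem sl1Thm : SL1Thm.{u} := fun {X} _ {ρ} P α => by
  obtain ⟨τ, f, h1, h2, h3⟩ := semi P α
  refine ⟨?_, fun ⟨y, hy⟩ => ?_⟩
  · rintro _ ⟨v, hv, rfl⟩
    exact ⟨_, (tr_map h1 h2 h3 hv).1, (tr_map h1 h2 h3 hv).2.symm⟩
  refine (aut_K4 τ).imp (fun h => ?_) fun h =>
    ⟨f, fun c v => by rw [h1, h], fun u v => by rw [h2, h], h3⟩
  let φ : V6 ≃ₗ[K4] V6 := { f with map_smul' := fun c v => (h1 c v).trans (by rw [h]; rfl) }
  obtain ⟨u, rfl⟩ := P.surj y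
  obtain ⟨c, hc⟩ := herm.eq_smul_of_fix_isotropic (by rw [rk6]; omega)
    (g := ((u⁻¹.1 * (φ * φ) : V6 ≃ₗ[K4] V6) : V6 →ₗ[K4] V6)) fun v hv => by
      by_cases h0 : v = 0
      · exact ⟨0, by simp [h0]⟩
      obtain ⟨a1, a2⟩ := tr_map h1 h2 h3 (v := v) ⟨h0, hv⟩
      obtain ⟨b1, b2⟩ := tr_map h1 h2 h3 a1
      have e := hy (tr ρ v)
      rw [MulAut.mul_apply, a2, b2, tr_conj hv] at e
      obtain ⟨c, hc⟩ := P.tr_eq b1 (Is.map ⟨h0, hv⟩ u) e
      refine ⟨c, ?_⟩
      change u⁻¹.1 (f (f v)) = _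
      rw [hc, map_smul]
      exact congrArg _ (congrArg (fun s : SUG U.B => s.1 v) (inv_mul_cancel u))
  have hd : dt φ = 1 := by
    have e1 : dt (u⁻¹.1 * (φ * φ)) = c ^ 6 := by
      rw [dt_apply, show ((u⁻¹.1 * (φ * φ) : V6 ≃ₗ[K4] V6) : V6 →ₗ[K4] V6) = c • LinearMap.id from LinearMap.ext hc,
        LinearMap.det_smul, rk6, LinearMap.det_id, mul_one]
    rw [map_mul, map_mul, (mem_SUG.1 u⁻¹.2).2, one_mul] at e1
    have k : ∀ x c : K4, x ≠ 0 → x * x = c ^ 6 → x = 1 := by decide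
    exact k _ c (dt_ne_zero φ) e1
  let s : SUG U.B := ⟨φ, mem_SUG.2 ⟨fun u v => (h2 u v).trans (h _), hd⟩⟩
  refine ⟨ρ s, fun x => ?_⟩
  obtain ⟨g, rfl⟩ := P.surj x
  obtain ⟨g', h4, h5⟩ := h3 g
  rw [h4, ← map_inv, ← map_mul, ← map_mul]
  exact congrArg ρ (eq_mul_inv_of_mul_eq (Subtype.ext (LinearEquiv.ext h5)))

end CL.F3
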