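/-
Recognition of `Fi₂₂` from a 3-centraliser (S3368): the 2-rank of the centraliser of a graph automorphism of `U₆(2)`.
-/
import Cfsg.Agent.Rec.F3T2

set_option autoImplicit false

namespace CL.F3

open Subgroup Cfsg CL.MT CL.MT.U CL.Uni CL.Rec MulAction

universe u

namespace SL3

theorem four {V : Type*} [AddGroup V] (h8 : Nat.card V = 8) (θ : V →+ V) (h2 : ∀ v, θ (θ v) = 0)
    (h0 : ∃ v, θ v ≠ 0) : Nat.card θ.ker = 4 := by
  have : Finite V := Nat.finite_of_card_ne_zero (by omega)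
  have e := θ.ker.card_mul_index
  rw [AddSubgroup.index_ker, h8] at e
  have h1 : Nat.card θ.range ≤ Nat.card θ.ker := AddSubgroup.card_le_of_le (by rintro _ ⟨v, rfl⟩; exact h2 v)
  have h3 : Nat.card θ.ker ≠ 8 := fun h => by
    obtain ⟨v, hv⟩ := h0
    exact hv ((AddSubgroup.eq_top_of_card_eq _ (h.trans h8.symm)).ge (AddSubgroup.mem_top v))
  have h4 : Nat.card θ.ker ≤ 8 := Nat.le_of_dvd (by norm_num) ⟨_, e.symm⟩
  generalize Nat.card θ.ker = k at *
  generalize Nat.card θ.range = r at *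
  interval_cases k <;> omega

theorem burn {E V : Type*} [Group E] [Finite E] [MulAction E V] (h8 : Nat.card V = 8)
    (h4 : ∀ e : E, e ∉ (toPermHom E V).ker → Nat.card (fixedBy V e) = 4) :
    Nat.card E ≤ 4 * Nat.card (toPermHom E V).ker := by
  classical
  have : Finite V := Nat.finite_of_card_ne_zero (by omega)
  have := Fintype.ofFinite E
  have := fun e : E => Fintype.ofFinite (fixedBy V e)
  have := Fintype.ofFinite (Quotient (orbitRel E V))
  have e := sum_card_fixedBy_eq_card_orbits_mul_card_group E V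
  have h1 : ∀ a : E, Fintype.card (fixedBy V a) = 4 + if a ∈ (toPermHom E V).ker then 4 else 0 := fun a => by
    rw [← Nat.card_eq_fintype_card]
    split_ifs with h
    · rw [show fixedBy V a = Set.univ from Set.eq_univ_of_forall fun v => congrArg (fun s : Equiv.Perm V => s v) h,
        Nat.card_univ, h8]
    · exact h4 a h
  rw [Finset.sum_congr rfl fun a _ => h1 a, Finset.sum_add_distrib, ← Finset.sum_filter, Finset.sum_const,
    Finset.sum_const, Finset.card_univ, smul_eq_mul, smul_eq_mul, ← Fintype.card_subtype,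
    ← Nat.card_eq_fintype_card, ← Nat.card_eq_fintype_card] at e
  refine Nat.le_of_dvd (Nat.mul_pos (by norm_num) Nat.card_pos) ?_
  rw [mul_comm, ← Nat.dvd_add_right (dvd_mul_right (Nat.card E) 4)]
  exact ⟨_, e.trans (mul_comm _ _)⟩

variable {X : Type u} [Group X]

theorem card_cent [Finite X] {D : Set X} {Δ : Finset X} (B : Base D Δ 21 9) {α : MulAut X} (h1 : ∀ x ∈ Δ, α x ∈ Δ)
    (h2 : ∀ x, α (α x) = x) (h7 : {x | x ∈ Δ ∧ α x = x}.ncard = 7) :
    Nat.card (closure (Δ : Set X) ⊓ MonoidHom.eqLocus α.toMonoidHom (MonoidHom.id X) : Subgroup X) ≤ 64 := by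
  classical
  set A := closure (Δ : Set X)
  have hA : ∀ a ∈ A, α a ∈ A := fun a ha => (closure_le (A.comap α.toMonoidHom)).2
    (fun x hx => subset_closure (h1 x hx)) ha
  let θ : A →* X := MonoidHom.mk' (fun a => a.1 * α a.1) fun a b => by
    rw [coe_mul, map_mul, mul_assoc, mul_assoc, ← mul_assoc b.1, (elemAb_commute B.elemAb b.2 (hA _ a.2)).eq, mul_assoc]
  have hk : θ.ker = (MonoidHom.eqLocus α.toMonoidHom (MonoidHom.id X)).subgroupOf A := by
    ext a
    change a.1 * α a.1 = 1 ↔ α a.1 = a.1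
    rw [← elemAb_sq B.elemAb a.2, mul_right_inj]
  have e := θ.ker.card_mul_index
  rw [index_ker, B.cardA, hk, ← inf_subgroupOf_left,
    Nat.card_congr (subgroupOfEquivOfLe (inf_le_left (a := A))).toEquiv] at e
  let T := Δ.filter fun x => ¬ α x = x
  have hT : T.card = 14 := by
    have e1 := Finset.card_filter_add_card_filter_not (s := Δ) fun x => α x = x
    rw [← Set.ncard_coe_finset, Finset.coe_filter, B.card] at e1
    rw [h7] at e1
    change 7 + T.card = 21 at e1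
    omega
  have h3 : T.card ≤ 2 * (T.image fun x => x * α x).card := Finset.card_le_mul_card_image T 2 fun y hy => by
    obtain ⟨z, hz, rfl⟩ := Finset.mem_image.1 hy
    refine (Finset.card_le_card (t := {z, α z}) fun x hx => ?_).trans Finset.card_le_two
    obtain ⟨hx, e1⟩ := Finset.mem_filter.1 hx
    obtain ⟨hx, e2⟩ := Finset.mem_filter.1 hx
    have hz' := (Finset.mem_filter.1 hz).1
    simpa using B.no4 x hx _ (h1 x hx) z hz' _ (h1 z hz') (Ne.symm e2) e1
  have h4 : (1 : X) ∉ T.image fun x => x * α x := fun h => by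
    obtain ⟨x, hx, e1⟩ := Finset.mem_image.1 h
    obtain ⟨hx, e2⟩ := Finset.mem_filter.1 hx
    exact e2 (mul_left_cancel (e1.trans (B.sq (B.sub x hx)).symm))
  have h5 : (insert 1 (T.image fun x => x * α x)).card ≤ Nat.card θ.range := by
    rw [← Set.ncard_coe_finset]
    refine Set.ncard_le_ncard (t := (θ.range : Set X)) (fun y hy => ?_) (Set.toFinite _)
    rcases Finset.mem_insert.1 hy with rfl | hy
    · exact one_mem θ.range
    · obtain ⟨x, hx, rfl⟩ := Finset.mem_image.1 hy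
      exact ⟨⟨x, subset_closure (Finset.mem_filter.1 hx).1⟩, rfl⟩
  rw [Finset.card_insert_of_notMem h4] at h5
  have h6 : 8 ≤ Nat.card θ.range := by omega
  nlinarith

variable {ρ : SUG U.B →* X} {α : MulAut X} {f : V6 ≃+ V6}

theorem tr_map (hf : Anti ρ α f) {v : V6} (hv : U.B v v = 0) : α (tr ρ v) = tr ρ (f v) := by
  obtain ⟨g, h1, h2⟩ := hf.ind (tau herm v)
  have hv' : U.B (f v) (f v) = 0 := by rw [hf.iso, hv, map_zero]
  rw [tr, h1, tr]
  refine congrArg ρ (Subtype.ext (LinearEquiv.ext fun x => ?_))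
  obtain ⟨x, rfl⟩ := f.surjective x
  rw [h2, tau_apply herm hv, tau_apply herm hv', tv, tv, map_add, hf.smul, hf.iso]

/-- the involutions over `E` -/
def lift (P : PQ ρ) {E : Subgroup X} (hE : IsElementaryAbelian 2 E) : Subgroup (SUG U.B) where
  carrier := {g | g * g = 1 ∧ ρ g ∈ E}
  one_mem' := ⟨one_mul 1, by rw [map_one]; exact one_mem E⟩
  mul_mem' {a b} ha hb := ⟨by
    have h : a * b * a⁻¹ = b := P.eq_of_eq (by rw [conj_mul, hb.1]; simp) hb.1 (by
      rw [map_mul, map_mul, map_inv, (elemAb_commute hE ha.2 hb.2).eq, mul_inv_cancel_right])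
    rw [← eq_inv_of_mul_eq_one_left ha.1] at h
    rw [← mul_assoc, h, hb.1], by rw [map_mul]; exact mul_mem ha.2 hb.2⟩
  inv_mem' {a} ha := ⟨by rw [← mul_inv_rev, ha.1, inv_one], by rw [map_inv]; exact inv_mem ha.2⟩

theorem comm_f (P : PQ ρ) (hf : Anti ρ α f) {g : SUG U.B} (h1 : g * g = 1) (h2 : α (ρ g) = ρ g) (v : V6) :
    g.1 (f v) = f (g.1 v) := by
  obtain ⟨g', h3, h4⟩ := hf.ind g
  obtain rfl : g = g' := P.eq_of_eq h1 (Subtype.ext (LinearEquiv.ext fun x => by
    obtain ⟨x, rfl⟩ := f.surjective x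
    change g'.1 (g'.1 (f x)) = f x
    rw [h4, h4]
    exact congrArg f (congrArg (fun s : SUG U.B => s.1 x) h1))) (h2.symm.trans h3)
  exact h4 v

theorem is_of {w : V6} (h : InW w) (h0 : w ≠ 0) : Is w := ⟨h0, h.perp h⟩

theorem inW_map (P : PQ ρ) {g : SUG U.B} (h : ρ g ∈ NN (DW ρ)) {w : V6} (hw : InW w) : InW (g.1 w) := by
  by_cases h0 : w = 0
  · rwa [h0, map_zero, ← h0]
  obtain ⟨i, hi⟩ := mem_DW.1 (mem_NN.1 h _ (tr_mem_DW hw h0))
  rw [tr_conj (hw.perp hw)] at hi
  obtain ⟨c, hc⟩ := P.tr_eq ((is_of hw h0).map g) (p_is i) hi.symm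
  exact hc ▸ (p_inW i).smul c

/-- the fixed vectors of `f` on the isotropic 3-space -/
def Fx (f : V6 ≃+ V6) : AddSubgroup V6 where
  carrier := {w | InW w ∧ f w = w}
  zero_mem' := ⟨⟨rfl, rfl, rfl⟩, map_zero f⟩
  add_mem' ha hb := ⟨ha.1.add hb.1, by rw [map_add, ha.2, hb.2]⟩
  neg_mem' {a} ha := by rwa [neg_eq_of_add_eq_zero_left (vv a)]

end SL3

open SL3 in
theorem sl3Thm : SL3Thm.{u} := fun h2 X _ ρ α f P hf hα hΔ E hN hE hfix => by
  have := P.finite
  have hαα : ∀ x, α (α x) = x := fun x => congrArg (fun β : MulAut X => β x) hα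
  obtain ⟨-, h8, hsp, h7⟩ := h2 P hf hΔ fun x _ => hαα x
  have hC := card_cent P.l21.base hΔ hαα h7
  set C := closure (DW ρ : Set X) ⊓ MonoidHom.eqLocus α.toMonoidHom (MonoidHom.id X)
  let L := lift P hE
  have hb : Function.Bijective (fun g : L => (⟨ρ g.1, g.2.2⟩ : E)) :=
    ⟨fun a b e => Subtype.ext (P.eq_of_eq a.2.1 b.2.1 (congrArg Subtype.val e)), fun e =>
      let ⟨s, h1, h3⟩ := P.exists_lift (elemAb_sq hE e.2); ⟨⟨s, h1, h3 ▸ e.2⟩, Subtype.ext h3⟩⟩
  have : Finite L := Finite.of_injective _ hb.1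
  rw [← Nat.card_eq_of_bijective _ hb]
  let _ : MulAction L (Fx f) :=
    { smul := fun g v => ⟨g.1.1 v.1, inW_map P (hN g.2.2) v.2.1, by
        rw [← comm_f P hf g.2.1 (hfix _ g.2.2), v.2.2]⟩
      one_smul := fun _ => rfl
      mul_smul := fun _ _ _ => rfl }
  have hs : ∀ (g : L) (v : Fx f), (g • v).1 = g.1.1 v.1 := fun _ _ => rfl
  have h8' : Nat.card (Fx f) = 8 := h8
  set K := (toPermHom L (Fx f)).ker
  have hK : ∀ g, g ∈ K ↔ ∀ v : Fx f, g • v = v := fun g => Equiv.ext_iff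
  have h4 := burn (E := L) h8' fun e he => by
    let θ : Fx f →+ Fx f := AddMonoidHom.mk' (fun v => e • v + v) fun a b => Subtype.ext (by
      simp only [AddSubgroup.coe_add, hs, map_add]; abel)
    have hθ : ∀ v, θ v = 0 ↔ e • v = v := fun v => ⟨fun h => Subtype.ext (add_right_cancel
      ((congrArg Subtype.val h).trans (vv v.1).symm)), fun h => Subtype.ext (by
        change (e • v + v).1 = 0
        rw [h]; exact vv _)⟩
    rw [← four h8' θ (fun v => (hθ _).2 (Subtype.ext ?_)) ((not_forall.1 (mt (hK e).2 he)).imp fun v hv =>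
      mt (hθ v).1 hv)]
    · exact Nat.card_congr (Equiv.subtypeEquivRight fun v => (hθ v).symm)
    · change e.1.1 (e.1.1 v.1 + v.1) = e.1.1 v.1 + v.1
      rw [map_add, add_comm]
      exact congrArg _ (congrArg (fun s : SUG U.B => s.1 v.1) e.2.1)
  have hKC : ∀ g : L, g ∈ K → ρ g.1 ∈ C := fun g hg => ⟨P.mem_A_of_fix fun w hw => by
    obtain ⟨a, b, a1, a2, b1, b2, rfl⟩ := hsp w hw
    rw [map_add, map_smul, ← hs g ⟨a, a1, a2⟩, ← hs g ⟨b, b1, b2⟩, (hK g).1 hg, (hK g).1 hg], hfix _ g.2.2⟩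
  have hle : ∀ M : Subgroup X, (∀ g : L, g ∈ K → ρ g.1 ∈ M) → Nat.card K ≤ Nat.card M := fun M h =>
    Nat.card_le_card_of_injective (fun g : K => (⟨ρ g.1.1, h _ g.2⟩ : M)) fun a b e =>
      Subtype.ext (Subtype.ext (P.eq_of_eq a.1.2.1 b.1.2.1 (congrArg Subtype.val e)))
  by_cases h : ∀ g, g ∈ K
  · have := hle C hKC
    rw [(eq_top_iff' K).2 h, card_top] at this
    omega
  obtain ⟨e, he⟩ := not_forall.1 h
  obtain ⟨a, ha⟩ := not_forall.1 (mt (hK e).2 he)
  have a0 : a.1 ≠ 0 := fun h0 => ha (Subtype.ext (by rw [hs, h0, map_zero]))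
  have h5 := hle (C ⊓ centralizer {ρ e.1}) fun g hg =>
    ⟨hKC g hg, mem_centralizer_singleton_iff.2 (elemAb_commute hE g.2.2 e.2.2).eq⟩
  have h6 : ¬ C ≤ C ⊓ centralizer {ρ e.1} := fun h6 => by
    have h7 := mem_centralizer_singleton_iff.1 (h6 (x := tr ρ a.1) ⟨tr_mem_A a.2.1, by
      change α _ = _
      rw [tr_map hf (a.2.1.perp a.2.1), a.2.2]; rfl⟩).2
    have h9 : tr ρ (e.1.1 a.1) = tr ρ a.1 := by
      rw [← tr_conj (a.2.1.perp a.2.1), ← h7, mul_inv_cancel_right]
    obtain ⟨c, hc⟩ := P.tr_eq ((is_of a.2.1 a0).map e.1) (is_of a.2.1 a0) h9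
    have h10 := (e • a).2.2
    rw [hs, hc, hf.smul, a.2.2] at h10
    have h11 := smul_left_injective K4 a0 h10
    have h12 : c ≠ 0 := by
      rintro rfl
      exact ((is_of a.2.1 a0).map e.1).1 (by rw [hc, zero_smul])
    have k : ∀ c : K4, K4.bar c = c → c ≠ 0 → c = 1 := by decide
    exact ha (Subtype.ext (by rw [hs, hc, k c h11 h12, one_smul]))
  obtain ⟨k, hk⟩ := card_dvd_of_le (inf_le_left (a := C) (b := centralizer {ρ e.1}))
  have h7 : k ≠ 1 := by
    rintro rfl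
    exact h6 (eq_of_le_of_card_ge inf_le_left (by omega)).ge
  have h9 : k ≠ 0 := by
    rintro rfl
    exact Nat.card_pos.ne' hk
  have : 2 ≤ k := by omega
  nlinarith

end CL.F3
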