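/-
Recognition of `Fi₂₂` from a 3-centraliser (S3368): an antilinear involution on the isotropic 3-space has 7 fixed points.
-/
import Cfsg.Agent.Rec.F3SL3

set_option autoImplicit false

namespace CL.F3

open Subgroup Cfsg CL.MT CL.MT.U CL.Uni CL.Rec SL3

universe u

namespace SL2

theorem scalar_of {F : V6 → V6} (ha : ∀ u v, F (u + v) = F u + F v) (hs : ∀ (c : K4) v, F (c • v) = c • F v)
    (h : ∀ w, InW w → ∃ c : K4, F w = c • w) : ∃ c : K4, ∀ w, InW w → F w = c • w := by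
  obtain ⟨a, h1⟩ := h _ (inW_wv 1 0 0)
  obtain ⟨b, h2⟩ := h _ (inW_wv 0 1 0)
  obtain ⟨c, h3⟩ := h _ (inW_wv 0 0 1)
  obtain ⟨d, h4⟩ := h _ (((inW_wv 1 0 0).add (inW_wv 0 1 0)).add (inW_wv 0 0 1))
  rw [ha, ha, h1, h2, h3] at h4
  have e0 := congrFun h4 0
  have e1 := congrFun h4 1
  have e2 := congrFun h4 2
  simp [wv] at e0 e1 e2
  subst e0 e1 e2
  refine ⟨c, fun w hw => ?_⟩
  have e : w = w 0 • wv 1 0 0 + w 1 • wv 0 1 0 + w 2 • wv 0 0 1 := hw.eq.trans (by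
    funext i; fin_cases i <;> simp [wv])
  rw [e, ha, ha, hs, hs, hs, h1, h2, h3]
  simp only [smul_add, smul_comm c]

theorem card_W : Nat.card {w // InW w} = 64 := by
  rw [← Nat.card_eq_of_bijective (fun x : K4 × K4 × K4 => (⟨wv x.1 x.2.1 x.2.2, inW_wv _ _ _⟩ : {w // InW w}))
    ⟨fun x y e => Prod.ext (congrFun (congrArg Subtype.val e) 0) (Prod.ext (congrFun (congrArg Subtype.val e) 1)
      (congrFun (congrArg Subtype.val e) 2)), fun w => ⟨⟨_, _, _⟩, Subtype.ext w.2.eq.symm⟩⟩, Nat.card_eq_fintype_card]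
  rfl

end SL2

open SL2 in
theorem sl2Thm : SL2Thm.{u} := fun {X} _ {ρ α f} P hf hΔ hα => by
  have h1 : ∀ w, InW w → InW (f w) := fun w hw => by
    by_cases h0 : w = 0
    · rwa [h0, map_zero, ← h0]
    obtain ⟨i, hi⟩ := mem_DW.1 (hΔ _ (tr_mem_DW hw h0))
    rw [tr_map hf (hw.perp hw)] at hi
    obtain ⟨c, hc⟩ := P.tr_eq ⟨by simpa using h0, by rw [hf.iso, hw.perp hw, map_zero]⟩ (p_is i) hi.symm
    exact hc ▸ (p_inW i).smul c
  obtain ⟨l, hl⟩ := scalar_of (F := fun v => f (f v)) (fun u v => by rw [map_add, map_add])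
    (fun c v => by rw [hf.smul, hf.smul, bar_bar]) fun w hw => by
      by_cases h0 : w = 0
      · exact ⟨0, by simp [h0]⟩
      have e := hα _ (tr_mem_DW hw h0)
      rw [tr_map hf (hw.perp hw), tr_map hf ((h1 w hw).perp (h1 w hw))] at e
      exact P.tr_eq (is_of (h1 _ (h1 w hw)) (by simpa using h0)) (is_of hw h0) e
  have k1 : ∀ c : K4, K4.bar c = c → c ≠ 0 → c = 1 := by decide
  obtain rfl : l = 1 := by
    have h0 : wv 1 0 0 ≠ 0 := by decide
    have e1 := hl _ (inW_wv 1 0 0)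
    have e2 := hl _ (h1 _ (inW_wv 1 0 0))
    rw [e1, hf.smul] at e2
    refine k1 l (smul_left_injective K4 (by simpa using h0) e2) ?_
    rintro rfl
    exact h0 (by simpa using e1)
  have h2 : ∀ w, InW w → f (f w) = w := fun w hw => (hl w hw).trans (one_smul _ _)
  have hw : K4.bar K4.w = K4.v := by decide
  have hv : K4.bar K4.v = K4.w := by decide
  have hsp : ∀ w, InW w → ∃ a b, InW a ∧ f a = a ∧ InW b ∧ f b = b ∧ w = a + K4.w • b := fun w h =>
    ⟨K4.v • w + K4.w • f w, w + f w, (h.smul _).add ((h1 w h).smul _), by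
      rw [map_add, hf.smul, hf.smul, h2 w h, hw, hv, add_comm], h.add (h1 w h), by
      rw [map_add, h2 w h, add_comm], by
      rw [smul_add, add_add_add_comm, vv, add_zero, ← add_smul, show K4.v + K4.w = 1 by decide, one_smul]⟩
  have h8 : {w | InW w ∧ f w = w}.ncard = 8 := by
    have e := Nat.card_eq_of_bijective (fun x : Fx f × Fx f =>
      (⟨x.1.1 + K4.w • x.2.1, x.1.2.1.add (x.2.2.1.smul _)⟩ : {w // InW w})) ⟨fun x y e => ?_, fun w =>
        let ⟨a, b, a1, a2, b1, b2, e⟩ := hsp w.1 w.2; ⟨⟨⟨a, a1, a2⟩, ⟨b, b1, b2⟩⟩, Subtype.ext e.symm⟩⟩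
    · rw [card_W, Nat.card_prod, ← pow_two] at e
      exact Nat.pow_left_injective two_ne_zero (e.trans (by norm_num : 64 = 8 ^ 2))
    · have key : ∀ z : Fx f × Fx f, z.1.1 + K4.w • z.2.1 + f (z.1.1 + K4.w • z.2.1) = z.2.1 := fun z => by
        rw [map_add, hf.smul, z.1.2.2, z.2.2.2, hw, add_add_add_comm, vv, zero_add, ← add_smul,
          show K4.w + K4.v = 1 by decide, one_smul]
      have e1 : x.1.1 + K4.w • x.2.1 = y.1.1 + K4.w • y.2.1 := congrArg Subtype.val e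
      have e2 : x.2.1 = y.2.1 := by rw [← key x, e1, key]
      rw [e2] at e1
      exact Prod.ext (Subtype.ext (add_right_cancel e1)) (Subtype.ext e2)
  refine ⟨fun w h => ⟨h1 w h, h2 w h⟩, h8, hsp, ?_⟩
  have h7 : ({w | InW w ∧ f w = w} \ {0}).ncard = 7 := by
    rw [Set.ncard_diff_singleton_of_mem (s := {w | InW w ∧ f w = w}) (Fx f).zero_mem, h8]
  rw [← h7, ← Set.InjOn.ncard_image (f := tr ρ) fun a ha b hb e => ?_]
  · refine congrArg _ (Set.ext fun x => ⟨fun ⟨hx, e⟩ => ?_, ?_⟩)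
    · obtain ⟨i, rfl⟩ := mem_DW.1 hx
      rw [tr_map hf (p_is i).2] at e
      have h3 : f (p i) ≠ 0 := by simpa using (p_is i).1
      obtain ⟨m, hm⟩ := P.tr_eq (is_of (h1 _ (p_inW i)) h3) (p_is i) e
      have h4 : m ≠ 0 := by
        rintro rfl
        exact h3 (by rw [hm, zero_smul])
      have k2 : ∀ m : K4, K4.bar (m * m) * m = m * m := by decide
      exact ⟨(m * m) • p i, ⟨⟨(p_inW i).smul _, by rw [hf.smul, hm, smul_smul, k2]⟩,
        smul_ne_zero (mul_ne_zero h4 h4) (p_is i).1⟩, tr_smul (p_is i).2 (mul_ne_zero h4 h4)⟩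
    · rintro ⟨a, ⟨⟨a1, a2⟩, a0⟩, rfl⟩
      exact ⟨tr_mem_DW a1 a0, by rw [tr_map hf (a1.perp a1), a2]⟩
  · obtain ⟨c, hc⟩ := P.tr_eq (is_of ha.1.1 ha.2) (is_of hb.1.1 hb.2) e
    have h3 := ha.1.2
    rw [hc, hf.smul, hb.1.2] at h3
    have h4 : c ≠ 0 := by
      rintro rfl
      exact ha.2 (by rw [hc, zero_smul]; rfl)
    rw [hc, k1 c (smul_left_injective K4 hb.2 h3) h4, one_smul]

end CL.F3
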