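/-
Recognition of `Fi₂₂` from a 3-centraliser (S3368), 2-local part: the `2^10` and the outer elements of `C(d)`.
-/
import Cfsg.Agent.Rec.F3T2

set_option autoImplicit false

namespace CL.F3

open Subgroup Cfsg CL.MT

universe u

namespace TAx

variable {G H X : Type u} [Group G] [Group H] [Group X] {δ : H} {ι : H →* G} {π : H →* X} {D : Set X} {Δ : Finset X}
  {g g' : G} {α α' : MulAut X}

theorem ind_mul (a : Ind ι π g α) (b : Ind ι π g' α') : Ind ι π (g * g') (α * α') := fun h => by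
  obtain ⟨h1, e1, e2⟩ := b h
  obtain ⟨h2, e3, e4⟩ := a h1
  exact ⟨h2, by rw [e3, e1]; group, by rw [e4, e2]; rfl⟩

theorem ind_conj (h : H) : Ind ι π (ι h) (MulAut.conj (π h)) := fun k => ⟨h * k * h⁻¹, by simp, by simp⟩

variable (S : S2 δ ι π D Δ)
include S

theorem uniq (a : Ind ι π g α) (b : Ind ι π g α') : α = α' := MulEquiv.ext fun x => by
  obtain ⟨h, rfl⟩ := S.E.surj x
  obtain ⟨h1, e1, e2⟩ := a h
  obtain ⟨h2, e3, e4⟩ := b h
  rw [← e2, ← e4, S.inj (e1.trans e3.symm)]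

theorem cd (h : H) : Commute (ι h) (ι δ) := ((S.E.comm h).map ι).symm

theorem nrmL (hg : Commute g (ι δ)) (h : H) : ∃ h', ι h' = g * ι h * g⁻¹ :=
  conj_mem_of_idx2 (C := centralizer {ι δ}) (K := ι.range) (fun a ha b hb => S.two a b
    (mem_centralizer_singleton_iff.1 ha) (mem_centralizer_singleton_iff.1 hb))
    (mem_centralizer_singleton_iff.2 hg) (mem_centralizer_singleton_iff.2 (cd S h)) ⟨h, rfl⟩

theorem mem_AG {a : H} : ι a ∈ AG ι π Δ ↔ π a ∈ closure (Δ : Set X) := mem_map_iff_mem S.inj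

theorem d_mem : ι δ ∈ AG ι π Δ := (mem_AG S).2 (by rw [S.E.map_δ]; exact one_mem _)

theorem elemAb : IsElementaryAbelian 2 (AG ι π Δ) := elemAb_of <| by
  obtain ⟨y, hy⟩ := S.hex
  rintro _ ⟨a, ha, rfl⟩
  rw [← map_mul, S.E.sq_A S.B hy ha, map_one]

theorem outer (hg : Commute g (ι δ)) (hn : g ∉ ι.range) (a : Ind ι π g α) : ¬ Inr α ∧ Inr (α * α) := by
  constructor
  · rintro ⟨y, hy⟩
    obtain ⟨h, rfl⟩ := S.E.surj y
    have e : MulAut.conj (π h⁻¹) * α = 1 := MulEquiv.ext fun x => by simp [hy, mul_assoc]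
    have := S.cen _ ((cd S h⁻¹).mul_left hg) (e ▸ ind_mul (ind_conj h⁻¹) a)
    exact hn (by simpa using mul_mem (show ι h ∈ ι.range from ⟨h, rfl⟩) this)
  · obtain ⟨h, e⟩ := S.two g g hg hg hn hn
    exact ⟨π h, fun x => by rw [uniq S (ind_mul a a) (e ▸ ind_conj (π := π) h)]; rfl⟩

variable [Finite G]

theorem finH : Finite H := Finite.of_injective ι S.inj

theorem finX : Finite X := have := finH S; Finite.of_surjective π S.E.surj

theorem ind (hg : Commute g (ι δ)) : ∃ α, Ind ι π g α := by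
  have := finH S
  have := finX S
  choose γ hγ using nrmL S hg
  let γ' : H →* H := MonoidHom.mk' γ fun a b => S.inj (by rw [map_mul, hγ, hγ, hγ, map_mul]; group)
  have hi : Function.Injective γ := fun a b e => S.inj (by simpa [hγ] using congrArg ι e)
  have hk : π.ker ≤ (π.comp γ').ker := fun h hh => by
    rcases (S.E.ker h).1 hh with rfl | rfl
    · exact one_mem _
    · exact (S.E.ker _).2 (Or.inr (S.inj (by rw [show γ' h = γ h from rfl, hγ, hg.eq]; group)))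
  have ha := π.liftOfRightInverse_comp_apply _ (Function.rightInverse_surjInv S.E.surj) ⟨_, hk⟩
  have hs : Function.Surjective (π.liftOfRightInverse _ (Function.rightInverse_surjInv S.E.surj) ⟨_, hk⟩) := fun x => by
    obtain ⟨h, rfl⟩ := S.E.surj x
    obtain ⟨k, rfl⟩ := (Finite.injective_iff_surjective.1 hi) h
    exact ⟨π k, ha k⟩
  exact ⟨MulEquiv.ofBijective _ ⟨Finite.injective_iff_surjective.2 hs, hs⟩, fun h => ⟨γ h, hγ h, (ha h).symm⟩⟩

theorem card : Nat.card (AG ι π Δ) = 2 ^ 10 := by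
  have := finH S
  rw [AG, card_map_of_injective S.inj, S.E.card_A S.B]

theorem nrm (a : Ind ι π g α) : g ∈ normalizer (AG ι π Δ : Set G) ↔ ∀ x ∈ Δ, α x ∈ Δ := by
  constructor
  · intro hn x hx
    obtain ⟨h, rfl⟩ := S.E.surj x
    obtain ⟨h', e1, e2⟩ := a h
    refine S.B.inter _ (S.O.pres α _ (S.B.sub _ hx)) (e2 ▸ (mem_AG S).1 (e1 ▸ ?_))
    exact (mem_normalizer_iff.1 hn _).1 ((mem_AG S).2 (subset_closure hx))
  · intro hx
    have k : ∀ u ∈ closure (Δ : Set X), α u ∈ closure (Δ : Set X) := fun u hu =>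
      (closure_le ((closure (Δ : Set X)).comap α.toMonoidHom)).2 (fun x h => subset_closure (hx x h)) hu
    apply mem_normalizer_fintype
    rintro _ ⟨h, hh, rfl⟩
    obtain ⟨h', e1, e2⟩ := a h
    exact e1 ▸ (mem_AG S).2 (e2 ▸ k _ hh)

theorem toN (P : Subgroup G) (hP : IsPGroup 2 P) (hc : ∀ g ∈ P, Commute g (ι δ)) :
    ∃ k, Commute k (ι δ) ∧ ∀ g ∈ P, k * g * k⁻¹ ∈ normalizer (AG ι π Δ : Set G) := by
  obtain ⟨k, hk, T, t1, t2, t3, t4⟩ := exists_conj_le_pgroup (M := centralizer {ι δ}) hP (elemAb_isPGroup (elemAb S))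
    (fun g hg => mem_centralizer_singleton_iff.2 (hc g hg))
    (by rintro _ ⟨h, -, rfl⟩; exact mem_centralizer_singleton_iff.2 (cd S h))
  refine ⟨k, mem_centralizer_singleton_iff.1 hk, fun g hg => ?_⟩
  have ht := t4 g hg
  generalize k * g * k⁻¹ = t at ht
  obtain ⟨β, b⟩ := ind S (mem_centralizer_singleton_iff.1 (t1 ht))
  have hT : IsPGroup 2 ((T.comap ι).map π) := (t2.comap_of_injective ι S.inj).map π
  have hΔ : ∀ h, π h ∈ Δ → ι h ∈ T := fun h hh => t3 ((mem_AG S).2 (subset_closure hh))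
  refine (nrm S b).2 fun x hx => S.B.mem_of_commute (S.O.pres β _ (S.B.sub _ hx)) fun y hy => ?_
  obtain ⟨h, rfl⟩ := S.E.surj x
  obtain ⟨h1, rfl⟩ := S.E.surj y
  obtain ⟨h', e1, e2⟩ := b h
  refine commute_of_pgroup S.B.tt hT (S.O.pres β _ (S.B.sub _ hx)) (S.B.sub _ hy) ⟨h', ?_, e2⟩ ⟨h1, hΔ _ hy, rfl⟩
  show ι h' ∈ T
  rw [e1]
  exact mul_mem (mul_mem ht (hΔ _ hx)) (inv_mem ht)

theorem fix7 (hg : Commute g (ι δ)) (hn : g ∉ ι.range) (hN : g ∈ normalizer (AG ι π Δ : Set G))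
    (h2 : g * g ∈ AG ι π Δ) (a : Ind ι π g α) : {x | x ∈ Δ ∧ α x = x}.ncard = 7 := by
  obtain ⟨o1, o2⟩ := outer S hg hn a
  obtain ⟨h, hh, e⟩ := h2
  refine S.O.fix7 α o1 o2 ((nrm S a).1 hN) fun x hx => ?_
  have e1 : α (α x) = π h * x * (π h)⁻¹ := by
    rw [← MulAut.mul_apply, uniq S (ind_mul a a) (e ▸ ind_conj (π := π) h)]; rfl
  rw [e1, (elemAb_commute S.B.elemAb hh (subset_closure hx)).eq, mul_inv_cancel_right]

theorem cent (g : G) (h : ∀ a ∈ AG ι π Δ, Commute g a) : g ∈ AG ι π Δ := by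
  have hg := h _ (d_mem S)
  by_cases hn : g ∈ ι.range
  · obtain ⟨a, rfl⟩ := hn
    refine (mem_AG S).2 (S.B.cent _ fun x hx => ?_)
    obtain ⟨b, rfl⟩ := S.E.surj x
    exact (Commute.of_map S.inj (h _ ((mem_AG S).2 (subset_closure hx)))).map π
  · obtain ⟨β, b⟩ := ind S hg
    obtain ⟨o1, o2⟩ := outer S hg hn b
    have fx : ∀ x ∈ Δ, β x = x := fun x hx => by
      obtain ⟨k, rfl⟩ := S.E.surj x
      obtain ⟨k', e1, e2⟩ := b k
      rw [(h _ ((mem_AG S).2 (subset_closure hx))).eq, mul_inv_cancel_right] at e1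
      rw [← e2, S.inj e1]
    have := S.O.fix7 β o1 o2 (fun x hx => by rwa [fx x hx]) fun x hx => by rw [fx x hx, fx x hx]
    rw [show {x | x ∈ Δ ∧ β x = x} = (Δ : Set X) from Set.ext fun x => ⟨fun h => h.1, fun h => ⟨h, fx x h⟩⟩,
      Set.ncard_coe_finset, S.B.card] at this
    omega

end TAx

open TAx in
theorem taThm : TAThm.{u} := fun S =>
  ⟨fun _ => ind S, fun _ _ => outer S, elemAb S, card S, fun _ _ _ => nrm S, toN S, fun _ _ => fix7 S, cent S⟩

end CL.F3
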