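/-
Recognition of `Fi₂₂` from a 3-centraliser (S3368), 2-local part: `d` has 22 conjugates in the `2^10`.
-/
import Cfsg.Agent.Rec.F3TA

set_option autoImplicit false

namespace CL.F3

open Subgroup Cfsg CL.MT TAx

universe u

namespace TBx

/-- products of two distinct members of `Δ` -/
def P2 {X : Type u} [Group X] (Δ : Finset X) : Set X := {u | ∃ x ∈ Δ, ∃ y ∈ Δ, x ≠ y ∧ u = x * y}

theorem card_P2 {X : Type u} [Group X] {D : Set X} {Δ : Finset X} {k m : ℕ} (B : Base D Δ k m) :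
    2 * (P2 Δ).ncard = k * k - k := by
  classical
  have e : P2 Δ = (Δ.offDiag.image fun p => p.1 * p.2 : Finset X) := by
    ext u
    simp only [P2, Set.mem_ofPred_eq, Finset.coe_image, Set.mem_image, Finset.mem_coe, Finset.mem_offDiag]
    exact ⟨fun ⟨x, hx, y, hy, h, e⟩ => ⟨(x, y), ⟨hx, hy, h⟩, e.symm⟩,
      fun ⟨p, ⟨hx, hy, h⟩, e⟩ => ⟨p.1, hx, p.2, hy, h, e.symm⟩⟩
  rw [e, Set.ncard_coe_finset, ← B.card, ← Finset.offDiag_card,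
    Finset.card_eq_sum_card_image (fun p : X × X => p.1 * p.2) Δ.offDiag, Finset.sum_const_nat (m := 2), mul_comm]
  intro b hb
  obtain ⟨⟨x, y⟩, hp, rfl⟩ := Finset.mem_image.1 hb
  obtain ⟨hx, hy, hxy⟩ := Finset.mem_offDiag.1 hp
  rw [Finset.card_eq_two]
  refine ⟨(x, y), (y, x), fun e => hxy (congrArg Prod.fst e), ?_⟩
  ext ⟨z, w⟩
  simp only [Finset.mem_filter, Finset.mem_offDiag, Finset.mem_insert, Finset.mem_singleton, Prod.mk.injEq]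
  constructor
  · rintro ⟨⟨hz, hw, -⟩, e⟩
    rcases B.no4 x hx y hy z hz w hw hxy e.symm with rfl | rfl
    · exact Or.inl ⟨rfl, mul_left_cancel e⟩
    · rw [(B.comm _ hx _ hy).eq] at e
      exact Or.inr ⟨mul_right_cancel e, rfl⟩
  · rintro (⟨rfl, rfl⟩ | ⟨rfl, rfl⟩)
    · exact ⟨⟨hx, hy, hxy⟩, rfl⟩
    · exact ⟨⟨hy, hx, hxy.symm⟩, (B.comm _ hy _ hx).eq⟩

theorem num {a b c n : ℕ} (ha : a ≤ 2) (hb : b ≤ 2) (hc : c ≤ 2) (h1 : a = 1 ∨ b = 1 ∨ c = 1) (h0 : a = 0 ∨ b = 0 ∨ c = 0)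
    (hn : n = 1 + a * 21 + b * 210 + c * 280)
    (h : ∀ p : ℕ, p.Prime → p ≠ 2 → p ∣ n → ∃ j, 1 ≤ j ∧ j ≤ 10 ∧ p ∣ 2 ^ j - 1) : a = 1 ∧ b = 0 ∧ c = 0 := by
  have k : ∀ p ∈ [211, 281, 29, 151, 491, 97, 13, 257, 23, 701, 19], ¬ p ∣ n := fun p hp hd => by
    have : p.Prime ∧ p ≠ 2 ∧ ∀ j ∈ Finset.Icc 1 10, ¬ p ∣ 2 ^ j - 1 := by
      simp only [List.mem_cons, List.not_mem_nil, or_false] at hp
      rcases hp with rfl | rfl | rfl | rfl | rfl | rfl | rfl | rfl | rfl | rfl | rfl <;>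
        exact ⟨by norm_num, by norm_num, by decide⟩
    obtain ⟨j, j1, j2, j3⟩ := h p this.1 this.2.1 hd
    exact this.2.2 j (Finset.mem_Icc.2 ⟨j1, j2⟩) j3
  subst hn
  interval_cases a <;> interval_cases b <;> interval_cases c <;> simp at h1 h0 k ⊢

variable {G H X : Type u} [Group G] [Group H] [Group X] [Finite G] {δ : H} {ι : H →* G} {π : H →* X} {D : Set X}
  {Δ : Finset X} (S : S2 δ ι π D Δ)
include S

omit [Finite G] in
theorem sq {h : H} (q : IsConj (ι δ) (ι h)) : h * h = 1 ∧ h ≠ 1 := by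
  obtain ⟨g, e⟩ := isConj_iff.1 q
  constructor
  · apply S.inj
    rw [map_mul, ← e, show g * ι δ * g⁻¹ * (g * ι δ * g⁻¹) = g * ι (δ * δ) * g⁻¹ by rw [map_mul]; group, S.E.sq]
    simp
  · rintro rfl
    exact S.E.ne (S.inj (by simpa using e))

theorem count (T : TA δ ι π Δ) (Fu : Fus δ ι π Δ) :
    (∀ h, π h ∈ Δ → (IsConj (ι δ) (ι h) ↔ ¬ IsConj (ι δ) (ι (h * δ)))) ∧
    ∀ h, π h ∈ closure (Δ : Set X) → IsConj (ι δ) (ι h) → h = δ ∨ π h ∈ Δ := by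
  have := finH S
  have := finX S
  have hQ : ∀ g h : H, IsConj (ι δ) (ι h) → IsConj (ι δ) (ι (g * h * g⁻¹)) := fun g h q =>
    q.trans (isConj_iff.2 ⟨ι g, by simp⟩)
  have hQ' : ∀ g h : H, IsConj (ι δ) (ι (g * h * g⁻¹)) → IsConj (ι δ) (ι h) := fun g h q => by
    simpa [mul_assoc] using hQ g⁻¹ _ q
  have tr1 : ∀ u ∈ (Δ : Set X), ∀ v ∈ (Δ : Set X), ∃ n : X, n * u * n⁻¹ = v := fun u hu v hv =>
    (S.B.trans1 hu hv).imp fun _ h => h.2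
  have tr2 : ∀ u ∈ P2 Δ, ∀ v ∈ P2 Δ, ∃ n : X, n * u * n⁻¹ = v := by
    rintro _ ⟨x, hx, y, hy, h, rfl⟩ _ ⟨x', hx', y', hy', h', rfl⟩
    obtain ⟨n, -, e1, e2⟩ := S.B.trans2 x hx y hy x' hx' y' hy' h h'
    exact ⟨n, by rw [← e1, ← e2]; group⟩
  have tr3 : ∀ u ∈ O3 Δ, ∀ v ∈ O3 Δ, ∃ n : X, n * u * n⁻¹ = v := fun u hu v hv =>
    (S.B.transO3 u hu v hv).imp fun _ h => h.2
  obtain ⟨a, ha, a1, a2, a3⟩ := S.E.fibre_count tr1 _ hQ
  obtain ⟨b, hb, b1, b2, b3⟩ := S.E.fibre_count tr2 _ hQ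
  obtain ⟨c, hc, c1, c2, c3⟩ := S.E.fibre_count tr3 _ hQ
  have tri : ∀ h, π h ∈ closure (Δ : Set X) → h ≠ 1 → h ≠ δ → π h ∈ (Δ : Set X) ∨ π h ∈ P2 Δ ∨ π h ∈ O3 Δ := by
    intro h h1 h2 h3
    by_contra hc
    push Not at hc
    refine hc.2.2 ⟨h1, hc.1, fun x hx z hz e => ?_⟩
    by_cases hxz : x = z
    · rw [hxz, S.B.sq (S.B.sub z hz), S.E.ker] at e
      exact e.elim h2 h3
    · exact hc.2.1 ⟨x, hx, z, hz, hxz, e⟩
  have n1 : ∀ u, u ∈ (Δ : Set X) ∨ u ∈ P2 Δ ∨ u ∈ O3 Δ → u ∈ closure (Δ : Set X) ∧ u ≠ 1 := by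
    rintro u (h | ⟨x, hx, y, hy, h, rfl⟩ | h)
    · exact ⟨subset_closure h, fun e => S.B.one_notMem (e ▸ h)⟩
    · exact ⟨mul_mem (subset_closure hx) (subset_closure hy), fun e => h (mul_right_cancel
        (e.trans (S.B.sq (S.B.sub y hy)).symm))⟩
    · obtain ⟨x, hx, -⟩ := S.B.exists_third 1 1
      exact ⟨h.1, fun e => h.2.2 x hx x hx (e.trans (S.B.sq (S.B.sub x hx)).symm)⟩
  have cP : (P2 Δ).ncard = 210 := by have := card_P2 S.B; omega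
  have cO : (O3 Δ).ncard = 280 := by have := S.B.card_O3; norm_num [Nat.choose] at this; omega
  have hn : {e | e ∈ AG ι π Δ ∧ IsConj (ι δ) e}.ncard = 1 + a * 21 + b * 210 + c * 280 := by
    have e1 : {e | e ∈ AG ι π Δ ∧ IsConj (ι δ) e} = ι '' insert δ
        (({h | π h ∈ (Δ : Set X) ∧ IsConj (ι δ) (ι h)} ∪ {h | π h ∈ P2 Δ ∧ IsConj (ι δ) (ι h)}) ∪
          {h | π h ∈ O3 Δ ∧ IsConj (ι δ) (ι h)}) := by
      ext e
      constructor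
      · rintro ⟨⟨h, h1, rfl⟩, h2⟩
        refine ⟨h, ?_, rfl⟩
        by_cases hd : h = δ
        · exact Or.inl hd
        rcases tri h h1 (sq S h2).2 hd with e | e | e
        · exact Or.inr (Or.inl (Or.inl ⟨e, h2⟩))
        · exact Or.inr (Or.inl (Or.inr ⟨e, h2⟩))
        · exact Or.inr (Or.inr ⟨e, h2⟩)
      · rintro ⟨h, rfl | (h1 | h1) | h1, rfl⟩
        · exact ⟨d_mem S, IsConj.refl _⟩
        · exact ⟨(mem_AG S).2 (n1 _ (Or.inl h1.1)).1, h1.2⟩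
        · exact ⟨(mem_AG S).2 (n1 _ (Or.inr (Or.inl h1.1))).1, h1.2⟩
        · exact ⟨(mem_AG S).2 h1.1.1, h1.2⟩
    rw [e1, Set.ncard_image_of_injective _ S.inj, Set.ncard_insert_of_notMem, Set.ncard_union_eq, Set.ncard_union_eq,
      a1, b1, c1, Set.ncard_coe_finset, S.B.card, cP, cO]
    · ring
    · exact Set.disjoint_left.2 fun h h1 ⟨⟨x, hx, y, hy, _, e⟩, _⟩ => S.B.no3 x hx y hy (e ▸ h1.1)
    · exact Set.disjoint_left.2 fun h h1 h2 => h1.elim (fun h1 => h2.1.2.1 h1.1)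
        fun ⟨⟨x, hx, y, hy, _, e⟩, _⟩ => h2.1.2.2 x hx y hy e
    · rintro ((h | h) | h)
      · exact (n1 _ (Or.inl h.1)).2 S.E.map_δ
      · exact (n1 _ (Or.inr (Or.inl h.1))).2 S.E.map_δ
      · exact (n1 _ (Or.inr (Or.inr h.1))).2 S.E.map_δ
  have red : ∀ h : H, h * h = 1 → h ≠ 1 → h ≠ δ → ∃ g : H, π (g * h * g⁻¹) ∈ (Δ : Set X) ∨ π (g * h * g⁻¹) ∈ P2 Δ ∨
      π (g * h * g⁻¹) ∈ O3 Δ := fun h h1 h2 h3 => by
    obtain ⟨g, hg⟩ := S.E.exists_conj_A S.B (a := h) (by rw [← map_mul, h1, map_one])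
    refine ⟨g, tri _ hg (fun e => h2 (by simpa using e)) fun e => h3 ?_⟩
    rw [← S.E.conj_δ g] at e
    simpa using e
  have zero : ∀ (O : Set X) (n : ℕ), (∀ u ∈ O, ∀ v ∈ O, ∃ n : X, n * u * n⁻¹ = v) →
      {h | π h ∈ O ∧ IsConj (ι δ) (ι h)}.ncard = n * O.ncard → ∀ h, π h ∈ O → ¬ IsConj (ι δ) (ι h) →
      ¬ IsConj (ι δ) (ι (h * δ)) → n = 0 := fun O n tr e h hh q1 q2 => by
    have : {h | π h ∈ O ∧ IsConj (ι δ) (ι h)} = ∅ := Set.eq_empty_of_forall_notMem fun k hk => by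
      obtain ⟨m, hm⟩ := tr _ hk.1 _ hh
      obtain ⟨g, rfl⟩ := S.E.surj m
      rcases S.E.eq_or (show π (g * k * g⁻¹) = π h by simpa using hm) with e | e
      · exact q1 (e ▸ hQ g k hk.2)
      · exact q2 (e ▸ hQ g k hk.2)
    rw [this, Set.ncard_empty] at e
    exact (Nat.mul_eq_zero.1 e.symm).resolve_right (Set.ncard_ne_zero_of_mem hh)
  have habc : a = 1 ∧ b = 0 ∧ c = 0 := by
    refine num ha hb hc ?_ ?_ hn fun p hp p2 => prime_dvd_of_fusion T.elemAb T.card T.cent (d_mem S) Fu hp p2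
    · obtain ⟨h, h1, h2, h3⟩ := S.h1
      obtain ⟨g, hg⟩ := red h (sq S h2).1 (sq S h2).2 h1
      have k : ¬ IsConj (ι δ) (ι (g * h * g⁻¹ * δ)) := fun q => h3 (hQ' g _ (by rwa [S.E.conj_mul_δ]))
      by_contra hc
      push Not at hc
      rcases hg with e | e | e
      · exact k (a3 hc.1 _ e (hQ g h h2))
      · exact k (b3 hc.2.1 _ e (hQ g h h2))
      · exact k (c3 hc.2.2 _ e (hQ g h h2))
    · obtain ⟨h, h1, h2, h3, h4, h5⟩ := S.h0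
      obtain ⟨g, hg⟩ := red h h1 h2 h3
      have k : ¬ IsConj (ι δ) (ι (g * h * g⁻¹ * δ)) := fun q => h5 (hQ' g _ (by rwa [S.E.conj_mul_δ]))
      have k' : ¬ IsConj (ι δ) (ι (g * h * g⁻¹)) := fun q => h4 (hQ' g _ q)
      rcases hg with e | e | e
      · exact Or.inl (zero _ _ tr1 a1 _ e k' k)
      · exact Or.inr (Or.inl (zero _ _ tr2 b1 _ e k' k))
      · exact Or.inr (Or.inr (zero _ _ tr3 c1 _ e k' k))
  refine ⟨a2 habc.1, fun h h1 h2 => ?_⟩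
  by_cases hd : h = δ
  · exact Or.inl hd
  rw [habc.2.1, zero_mul, Set.ncard_eq_zero] at b1
  rw [habc.2.2, zero_mul, Set.ncard_eq_zero] at c1
  rcases tri h h1 (sq S h2).2 hd with e | e | e
  · exact Or.inr e
  · exact (b1 ▸ ⟨e, h2⟩ : h ∈ (∅ : Set H)).elim
  · exact (c1 ▸ ⟨e, h2⟩ : h ∈ (∅ : Set H)).elim

end TBx

open TBx in
theorem tbThm : TBThm.{u} := by
  intro G H X _ _ _ _ δ ι π D Δ S T Fu
  have := finH S
  have := finX S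
  obtain ⟨c1, c2⟩ := count S T Fu
  obtain ⟨y, hy⟩ := S.hex
  have h0 := S.B.sub _ (hy.mem 0)
  obtain ⟨s, hs, h1⟩ : ∃ s, IsLift D π s ∧ IsConj (ι δ) (ι (s (y 0))) := by
    obtain ⟨s, hs⟩ := S.E.exists_lift S.B hy
    by_cases h : IsConj (ι δ) (ι (s (y 0) * δ))
    · exact ⟨_, S.E.lift_mul_δ hs, h⟩
    · exact ⟨s, hs, (c1 _ (by rw [hs.lift _ h0]; exact hy.mem 0)).2 h⟩
  have h2 : ∀ x ∈ D, IsConj (ι δ) (ι (s x)) := fun x hx => by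
    obtain ⟨n, rfl⟩ := CL.TT.IsClass.exists_conj S.B.cls h0 hx
    obtain ⟨g, rfl⟩ := S.E.surj n
    rw [hs.equiv g _ h0]
    exact h1.trans (isConj_iff.2 ⟨ι g, by simp⟩)
  refine ⟨s, hs, h2, fun h hh => ?_⟩
  obtain ⟨b, hb⟩ := S.E.exists_conj_A S.B (a := h) (by rw [← map_mul, (sq S hh).1, map_one])
  have h3 : IsConj (ι δ) (ι (b * h * b⁻¹)) := hh.trans (isConj_iff.2 ⟨ι b, by simp⟩)
  rcases c2 _ hb h3 with e | e
  · left
    rw [mul_inv_eq_iff_eq_mul, (S.E.comm b).eq] at e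
    exact mul_left_cancel e
  · right
    have hx := S.B.sub _ e
    have h4 : b * h * b⁻¹ = s (π (b * h * b⁻¹)) :=
      (S.E.eq_or (hs.lift _ hx).symm).resolve_right fun e' =>
        (c1 _ (by rw [hs.lift _ hx]; exact e)).1 (h2 _ hx) (e' ▸ h3)
    refine ⟨_, S.B.conj (π b⁻¹) hx, ?_⟩
    rw [hs.equiv _ _ hx, ← h4]
    group

end CL.F3
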