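/-
Recognition of `Fi₂₂` from a 3-centraliser (S3368): the 22 points and the conjugates of `d` in `N(A)`.
-/
import Cfsg.Agent.Rec.F3T2
import Cfsg.Agent.Grp.SylowIn

set_option autoImplicit false
set_option linter.unusedSectionVars false

namespace CL.F3

open Subgroup Cfsg CL.MT

universe u

namespace TCJ

variable {G H X : Type u} [Group G] [Group H] [Group X]

structure Cx (δ : H) (ι : H →* G) (π : H →* X) (D : Set X) (Δ : Finset X) (s : X → H) : Prop where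
  S : S2 δ ι π D Δ
  T : TA δ ι π Δ
  F : Fus δ ι π Δ
  L : TB δ ι π D s

namespace Cx

variable {δ : H} {ι : H →* G} {π : H →* X} {D : Set X} {Δ : Finset X} {s : X → H} (C : Cx δ ι π D Δ s)
include C

theorem d_sq : ι δ * ι δ = 1 := by rw [← map_mul, C.S.E.sq, map_one]

theorem sq_of {e : G} (h : IsConj (ι δ) e) : e * e = 1 := by
  obtain ⟨g, rfl⟩ := isConj_iff.1 h
  rw [conj_mul, C.d_sq, mul_one, mul_inv_cancel]

theorem d_mem : ι δ ∈ AG ι π Δ := ⟨δ, show π δ ∈ Subgroup.closure _ from C.S.E.map_δ ▸ one_mem _, rfl⟩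

theorem d_hat : ι δ ∈ hat δ ι Δ s := mem_hat.2 (Or.inl rfl)

theorem s_hat {x : X} (hx : x ∈ Δ) : ι (s x) ∈ hat δ ι Δ s := mem_hat.2 (Or.inr ⟨x, hx, rfl⟩)

theorem s_ne_d {x : X} (hx : x ∈ D) : ι (s x) ≠ ι δ := fun h => C.L.L.ne_δ C.S.E C.S.B hx (C.S.inj h)

theorem s_inj {x z : X} (hx : x ∈ D) (hz : z ∈ D) (h : ι (s x) = ι (s z)) : x = z :=
  C.L.L.inj hx hz (C.S.inj h)

theorem hat_conj {e : G} (he : e ∈ hat δ ι Δ s) : IsConj (ι δ) e := by
  rcases mem_hat.1 he with rfl | ⟨x, hx, rfl⟩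
  · exact IsConj.refl _
  · exact C.L.cj x (C.S.B.sub x hx)

theorem hat_AG {e : G} (he : e ∈ hat δ ι Δ s) : e ∈ AG ι π Δ := by
  rcases mem_hat.1 he with rfl | ⟨x, hx, rfl⟩
  · exact C.d_mem
  · exact ⟨_, C.L.L.mem_A C.S.B hx, rfl⟩

theorem inter {e : G} (he : IsConj (ι δ) e) (hA : e ∈ AG ι π Δ) : e ∈ hat δ ι Δ s := by
  obtain ⟨h, hh, rfl⟩ := hA
  rcases C.L.onto h he with rfl | ⟨x, hx, rfl⟩
  · exact C.d_hat
  · exact C.s_hat (C.S.B.inter x hx (C.L.L.lift x hx ▸ hh))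

theorem closure_hat : closure (hat δ ι Δ s : Set G) = AG ι π Δ := by
  refine le_antisymm ((closure_le _).2 fun e he => C.hat_AG he) ?_
  rintro _ ⟨a, ha, rfl⟩
  obtain ⟨l, hl, e⟩ := exists_list (s := id) (S := (Δ : Set X)) (a := π a)
    (fun x hx => C.S.B.sq (C.S.B.sub x hx)) (by simpa using ha)
  have h1 : ι (l.map s).prod ∈ closure (hat δ ι Δ s : Set G) := by
    rw [map_list_prod]
    refine list_prod_mem fun b hb => ?_
    simp only [List.map_map, List.mem_map] at hb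
    obtain ⟨x, hx, rfl⟩ := hb
    exact subset_closure (C.s_hat (hl x hx))
  rcases C.S.E.eq_or (a := a) (b := (l.map s).prod)
    (by rw [C.L.L.map_prod fun x hx => C.S.B.sub x (hl x hx), ← e, List.map_id]) with rfl | rfl
  · exact h1
  · rw [map_mul]; exact mul_mem h1 (subset_closure C.d_hat)

theorem card_hat : (hat δ ι Δ s).card = 22 := by
  classical
  rw [hat, Finset.card_insert_of_notMem, Finset.card_image_of_injOn, C.S.B.card]
  · exact fun x hx z hz e => C.s_inj (C.S.B.sub x hx) (C.S.B.sub z hz) e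
  · intro h
    obtain ⟨x, hx, e⟩ := Finset.mem_image.1 h
    exact C.s_ne_d (C.S.B.sub x hx) e

variable [Finite G]

theorem nn : normalizer (AG ι π Δ : Set G) = NN (hat δ ι Δ s) :=
  le_antisymm (fun n hn => mem_NN.2 fun e he => C.inter ((C.hat_conj he).trans (isConj_iff.2 ⟨n, rfl⟩))
    ((mem_normalizer_iff.1 hn e).1 (C.hat_AG he))) fun n hn =>
    mem_normalizer_fintype fun a ha => by
      rw [SetLike.mem_coe, ← C.closure_hat] at ha ⊢
      exact NN_conj_closure hn ha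

theorem trans1 {e : G} (he : e ∈ hat δ ι Δ s) : ∃ n ∈ NN (hat δ ι Δ s), n * e * n⁻¹ = ι δ := by
  obtain ⟨n, hn, rfl⟩ := C.F e (C.hat_AG he) (C.hat_conj he)
  exact ⟨n⁻¹, inv_mem (C.nn ▸ hn), by group⟩

theorem no4 {e f g h : G} (he : e ∈ hat δ ι Δ s) (hf : f ∈ hat δ ι Δ s)
    (hg : g ∈ hat δ ι Δ s) (hh : h ∈ hat δ ι Δ s) (hef : e ≠ f) (e0 : e * f = g * h) : e = g ∨ e = h := by
  by_contra hc
  push Not at hc
  obtain ⟨n, hn, h1⟩ := C.trans1 he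
  obtain ⟨x, hx, e1⟩ := (mem_hat.1 (mem_NN.1 hn f hf)).resolve_left
    fun h => hef (by simpa using h1.trans h.symm)
  obtain ⟨z, hz, e2⟩ := (mem_hat.1 (mem_NN.1 hn g hg)).resolve_left
    fun h => hc.1 (by simpa using h1.trans h.symm)
  obtain ⟨w, hw, e3⟩ := (mem_hat.1 (mem_NN.1 hn h hh)).resolve_left
    fun h => hc.2 (by simpa using h1.trans h.symm)
  have : ι (δ * s x) = ι (s z * s w) := by
    rw [map_mul, map_mul, e1, e2, e3, ← h1, conj_mul, conj_mul, e0]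
  have := congrArg π (C.S.inj this)
  rw [map_mul, map_mul, C.S.E.map_δ, one_mul, C.L.L.lift _ (C.S.B.sub _ hx), C.L.L.lift _ (C.S.B.sub _ hz),
    C.L.L.lift _ (C.S.B.sub _ hw)] at this
  exact C.S.B.no3 z hz w hw (this ▸ hx)

omit [Finite G] in
theorem equiv {g : G} {α : MulAut X} (h : Ind ι π g α) {x : X} (hx : x ∈ D) :
    g * ι (s x) * g⁻¹ = ι (s (α x)) := by
  obtain ⟨h', e1, e2⟩ := h (s x)
  rw [C.L.L.lift x hx] at e2
  rcases C.L.onto h' (e1 ▸ (C.L.cj x hx).trans (isConj_iff.2 ⟨g, rfl⟩)) with rfl | ⟨y, hy, rfl⟩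
  · exact (CL.TT.ne_one C.S.B.tt hx ((map_eq_one_iff α α.injective).1 (e2.symm.trans C.S.E.map_δ))).elim
  · rw [← e1, ← e2, C.L.L.lift y hy]

theorem fix8 {g : G} (h1 : Commute g (ι δ)) (h2 : g ∉ ι.range) (h3 : g ∈ NN (hat δ ι Δ s)) (h4 : g * g = 1) :
    {e | e ∈ hat δ ι Δ s ∧ g * e * g⁻¹ = e}.ncard = 8 := by
  obtain ⟨α, hα⟩ := C.T.ind g h1
  have : {e | e ∈ hat δ ι Δ s ∧ g * e * g⁻¹ = e} = insert (ι δ) ((fun x => ι (s x)) '' {x | x ∈ Δ ∧ α x = x}) := by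
    ext e
    refine ⟨fun ⟨a, b⟩ => (mem_hat.1 a).imp_right fun ⟨x, hx, e⟩ => ⟨x, ⟨hx, ?_⟩, e⟩, ?_⟩
    · have hD := C.S.B.sub x hx
      exact C.s_inj (C.S.O.pres α x hD) hD (by rw [← C.equiv hα hD, e, b])
    · rintro (rfl | ⟨x, ⟨hx, e⟩, rfl⟩)
      · exact ⟨C.d_hat, by rw [h1.eq, mul_inv_cancel_right]⟩
      · exact ⟨C.s_hat hx, by rw [C.equiv hα (C.S.B.sub x hx), e]⟩
  rw [this, Set.ncard_insert_of_notMem (by rintro ⟨x, hx, e⟩; exact C.s_ne_d (C.S.B.sub x hx.1) e),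
    Set.ncard_image_of_injOn fun x hx z hz e => C.s_inj (C.S.B.sub x hx.1) (C.S.B.sub z hz.1) e,
    C.T.fix7 g α h1 h2 (C.nn ▸ h3) (h4 ▸ one_mem _) hα]

theorem g8d {U : Subgroup G} (h1 : ∀ u ∈ U, u * u = 1) (h2 : ∀ u ∈ U, Commute u (ι δ))
    (h3 : ∀ u ∈ U, IsConj (ι δ) (u * ι δ)) : Nat.card U ≤ 7 := by
  by_contra hc
  have := Finite.of_injective ι C.S.inj
  have := Finite.of_surjective π C.S.E.surj
  have hi : (ι.range.subgroupOf U).index ∣ 2 := index_dvd_two_iff.2 (by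
    by_cases h : ∃ a : U, (a : G) ∉ ι.range
    · obtain ⟨a, ha⟩ := h
      exact ⟨a, fun b => or_iff_not_imp_right.2 fun hb => C.S.two b a (h2 b b.2) (h2 a a.2) hb ha⟩
    · push Not at h
      exact ⟨1, fun b => .inr (h b)⟩)
  have h4 := (ι.range.subgroupOf U).card_mul_index
  have h5 := Nat.mul_le_mul_left (Nat.card (ι.range.subgroupOf U)) (Nat.le_of_dvd two_pos hi)
  have := Fintype.ofFinite (ι.range.subgroupOf U)
  obtain ⟨a, b, c, ab, ac, bc⟩ := Fintype.two_lt_card_iff.1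
    (show 2 < Fintype.card (ι.range.subgroupOf U) by rw [← Nat.card_eq_fintype_card]; omega)
  have key : ∀ v : ι.range.subgroupOf U, v ≠ 1 → ∃ x ∈ D, ι (s x) = v.1.1 * ι δ := fun v hv => by
    obtain ⟨h, e⟩ := mul_mem (show v.1.1 ∈ ι.range from v.2) ⟨δ, rfl⟩
    rcases C.L.onto h (e ▸ h3 _ v.1.2) with rfl | ⟨x, hx, rfl⟩
    · exact (hv (Subtype.ext (Subtype.ext (right_eq_mul.1 e)))).elim
    · exact ⟨x, hx, e⟩
  have sq : ∀ v : ι.range.subgroupOf U, v * v = 1 := fun v => Subtype.ext (Subtype.ext (h1 _ v.1.2))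
  have cm : ∀ v w : ι.range.subgroupOf U, v * w = w * v := fun v w => by
    rw [eq_inv_of_mul_eq_one_left (sq (v * w)), mul_inv_rev, ← eq_inv_of_mul_eq_one_left (sq v),
      ← eq_inv_of_mul_eq_one_left (sq w)]
  have ne : ∀ v w : ι.range.subgroupOf U, v ≠ w → v * w ≠ 1 := fun v w h e =>
    h (mul_right_cancel (e.trans (sq w).symm))
  have pr : ∀ {v w t : ι.range.subgroupOf U} {x y z}, x ∈ D → y ∈ D → z ∈ D → ι (s x) = v.1.1 * ι δ →
      ι (s y) = w.1.1 * ι δ → ι (s z) = t.1.1 * ι δ → v * w = t → x * y = z := fun {v w t x y z} hx hy hz a b c e => by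
    have : ι (s x * s y) = ι (s z * δ) := by
      rw [map_mul, map_mul, a, b, c, ← e, mul_assoc, ← mul_assoc (ι δ), ← (h2 _ w.1.2).eq]
      simp only [coe_mul, mul_assoc]
    have := congrArg π (C.S.inj this)
    rwa [map_mul, C.S.E.map_mul_δ, C.L.L.lift x hx, C.L.L.lift y hy, C.L.L.lift z hz] at this
  obtain ⟨x, hx, ex⟩ := key _ (ne a b ab)
  obtain ⟨y, hy, ey⟩ := key _ (ne a c ac)
  obtain ⟨z, hz, ez⟩ := key _ (ne _ _ fun e => bc (mul_left_cancel e) : a * b * (a * c) ≠ 1)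
  have e1 := pr hx hy hz ex ey ez rfl
  have cxy : Commute x y := e1.trans (pr hy hx hz ey ex ez (cm _ _)).symm
  obtain ⟨g, hg⟩ := C.S.B.exists_conj_mem (S := {x, y, z}) (by rintro _ (rfl | rfl | rfl) <;> assumption) (by
    subst e1
    have a := (Commute.refl x).mul_right cxy
    have b := cxy.symm.mul_right (Commute.refl y)
    rintro _ (rfl | rfl | rfl) _ (rfl | rfl | rfl)
    exacts [.refl _, cxy, a, cxy.symm, .refl _, b, a.symm, b.symm, .refl _])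
  exact C.S.B.no3 _ (hg x (by simp)) _ (hg y (by simp)) (by rw [conj_mul, e1]; exact hg z (by simp))

theorem g8 {e : G} (he : IsConj (ι δ) e) {U : Subgroup G} (h1 : ∀ u ∈ U, u * u = 1) (h2 : ∀ u ∈ U, Commute u e)
    (h3 : ∀ u ∈ U, IsConj (ι δ) (u * e)) : Nat.card U ≤ 7 := by
  obtain ⟨g, rfl⟩ := isConj_iff.1 he
  rw [← card_map_of_injective (f := (MulAut.conj g⁻¹).toMonoidHom) (MulAut.conj g⁻¹).injective]
  refine C.g8d ?_ ?_ ?_ <;> rintro _ ⟨u, hu, rfl⟩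
  · rw [← map_mul, h1 u hu, map_one]
  · simpa [mul_assoc] using (h2 u hu).map (MulAut.conj g⁻¹).toMonoidHom
  · exact (h3 u hu).trans (isConj_iff.2 ⟨g⁻¹, by simp [mul_assoc]⟩)

theorem cor {e : G} (he : IsConj (ι δ) e) (hn : e ∈ NN (hat δ ι Δ s)) :
    10 ≤ {p | p ∈ hat δ ι Δ s ∧ e * p * e⁻¹ = p}.ncard := by
  classical
  have hA : ∀ a ∈ AG ι π Δ, e * a * e⁻¹ ∈ AG ι π Δ := fun a => (mem_normalizer_iff.1 (C.nn ▸ hn) a).1
  have sq : ∀ a ∈ AG ι π Δ, a * (e * a * e⁻¹) * (a * (e * a * e⁻¹)) = 1 := fun a ha =>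
    elemAb_sq C.T.elemAb (mul_mem ha (hA a ha))
  let U : Subgroup G :=
    { carrier := {u | ∃ a ∈ AG ι π Δ, a * (e * a * e⁻¹) = u}
      one_mem' := ⟨1, one_mem _, by simp⟩
      mul_mem' := by
        rintro _ _ ⟨a, ha, rfl⟩ ⟨b, hb, rfl⟩
        refine ⟨_, mul_mem ha hb, ?_⟩
        rw [← conj_mul, mul_assoc a, ← mul_assoc b, (elemAb_commute C.T.elemAb hb (hA a ha)).eq]
        simp only [mul_assoc]
      inv_mem' := by
        rintro _ ⟨a, ha, rfl⟩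
        exact ⟨a, ha, eq_inv_of_mul_eq_one_left (sq a ha)⟩ }
  have h7 : Nat.card U ≤ 7 := by
    refine C.g8 he ?_ ?_ ?_ <;> rintro _ ⟨a, ha, rfl⟩
    · exact sq a ha
    · show _ = _
      conv_rhs => rw [(elemAb_commute C.T.elemAb ha (hA a ha)).eq]
      rw [← eq_inv_of_mul_eq_one_left (C.sq_of he)]
      simp only [← mul_assoc, C.sq_of he, one_mul]
      rw [mul_assoc _ e e, C.sq_of he, mul_one]
    · refine he.trans (isConj_iff.2 ⟨a, ?_⟩)
      rw [← eq_inv_of_mul_eq_one_left (elemAb_sq C.T.elemAb ha)]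
      simp only [mul_assoc, inv_mul_cancel, mul_one]
  obtain ⟨M, hM⟩ : ∃ M, M = (hat δ ι Δ s).filter fun p => ¬ e * p * e⁻¹ = p := ⟨_, rfl⟩
  have mM : ∀ {p}, p ∈ M → p ∈ hat δ ι Δ s ∧ ¬ e * p * e⁻¹ = p := fun h => Finset.mem_filter.1 (hM ▸ h)
  have h1 : M.card ≤ 2 * (M.image fun p => p * (e * p * e⁻¹)).card := Finset.card_le_mul_card_image _ _ fun u hu => by
    obtain ⟨p, hp, rfl⟩ := Finset.mem_image.1 hu
    refine le_trans (Finset.card_le_card (t := {p, e * p * e⁻¹}) fun q hq => ?_) Finset.card_le_two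
    obtain ⟨hq, e1⟩ := Finset.mem_filter.1 hq
    obtain ⟨q1, q2⟩ := mM hq
    have p1 := (mM hp).1
    simpa using C.no4 q1 (mem_NN.1 hn q q1) p1 (mem_NN.1 hn p p1) (Ne.symm q2) e1
  have h2 : (insert 1 (M.image fun p => p * (e * p * e⁻¹))).card ≤ Nat.card U := by
    rw [← Set.ncard_coe_finset]
    refine Set.ncard_le_ncard (t := (U : Set G)) fun u hu => ?_
    rcases Finset.mem_insert.1 hu with rfl | hu
    · exact one_mem U
    · obtain ⟨p, hp, rfl⟩ := Finset.mem_image.1 hu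
      exact ⟨p, C.hat_AG (mM hp).1, rfl⟩
  rw [Finset.card_insert_of_notMem fun h => by
    obtain ⟨p, hp, e1⟩ := Finset.mem_image.1 h
    obtain ⟨p1, p2⟩ := mM hp
    exact p2 (mul_left_cancel (e1.trans (C.sq_of (C.hat_conj p1)).symm))] at h2
  have h3 := Finset.card_filter_add_card_filter_not (s := hat δ ι Δ s) fun p => e * p * e⁻¹ = p
  rw [show {p | p ∈ hat δ ι Δ s ∧ e * p * e⁻¹ = p} = ((hat δ ι Δ s).filter fun p => e * p * e⁻¹ = p : Finset G) from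
    Set.ext fun p => by simp, Set.ncard_coe_finset]
  rw [← hM, C.card_hat] at h3
  omega

theorem dc {e : G} (he : IsConj (ι δ) e) (hc : Commute e (ι δ)) : e ∈ ι.range := by
  by_contra h
  obtain ⟨k, hk, h1⟩ := C.T.toN (zpowers e) (elemAb_isPGroup (by
    rw [zpowers_eq_closure]
    exact elemAb_closure (fun _ h => h ▸ C.sq_of he) fun _ h _ h' => h ▸ h' ▸ .refl _))
    fun g ⟨n, hn⟩ => hn ▸ hc.zpow_left n
  have h2 := C.nn ▸ h1 e (mem_zpowers e)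
  have h3 := he.trans (isConj_iff.2 ⟨k, rfl⟩)
  have h4 := C.cor h3 h2
  have h5 : Commute (k * e * k⁻¹) (ι δ) := (hk.mul_left hc).mul_left hk.inv_left
  rw [C.fix8 h5 (fun h6 => h ?_) h2 (C.sq_of h3)] at h4
  · omega
  · have := conj_mem_of_idx2 (C := centralizer {ι δ}) (fun a ha b hb => C.S.two a b
      (mem_centralizer_singleton_iff.1 ha) (mem_centralizer_singleton_iff.1 hb))
      (mem_centralizer_singleton_iff.2 hk.inv_left) (mem_centralizer_singleton_iff.2 h5) h6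
    rwa [show k⁻¹ * (k * e * k⁻¹) * k⁻¹⁻¹ = e by group] at this

theorem dn {e : G} (he : IsConj (ι δ) e) (hn : e ∈ NN (hat δ ι Δ s)) : e ∈ hat δ ι Δ s := by
  obtain ⟨p, hp, e1⟩ := Set.nonempty_of_ncard_ne_zero (ne_of_gt (lt_of_lt_of_le (by omega) (C.cor he hn)))
  obtain ⟨n, h1, h2⟩ := C.trans1 hp
  have h3 := he.trans (isConj_iff.2 ⟨n, rfl⟩)
  suffices h : n * e * n⁻¹ ∈ hat δ ι Δ s by
    have := mem_NN.1 (inv_mem h1) _ h
    rwa [show n⁻¹ * (n * e * n⁻¹) * n⁻¹⁻¹ = e by group] at this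
  have h4 := mul_mem (mul_mem h1 hn) (inv_mem h1)
  obtain ⟨h, e2⟩ := C.dc h3 (by rw [← h2]; exact (show Commute e p from mul_inv_eq_iff_eq_mul.1 e1).conj n)
  rw [← e2] at h3 h4 ⊢
  rcases C.L.onto h h3 with rfl | ⟨x, hx, rfl⟩
  · exact C.d_hat
  refine C.s_hat (C.S.B.mem_of_commute hx fun y hy => ?_)
  have hy' := C.S.B.sub y hy
  have h5 := mem_NN.1 h4 _ (C.s_hat hy)
  rw [← map_inv, ← map_mul, ← map_mul, ← C.L.L.equiv _ y hy', C.L.L.lift x hx] at h5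
  obtain ⟨z, hz, e3⟩ := (mem_hat.1 h5).resolve_left (C.s_ne_d (C.S.B.conj x hy'))
  have h6 := C.S.B.comm z hz y hy
  rw [C.s_inj (C.S.B.sub z hz) (C.S.B.conj x hy') e3] at h6
  by_contra h7
  rw [← eq_inv_of_mul_eq_one_left (C.S.B.sq hx), CL.TT.braid C.S.B.tt hx hy' h7] at h6
  refine h7 (Eq.symm ?_)
  have h8 := h6.eq
  rwa [mul_assoc _ y y, ← mul_assoc y, ← mul_assoc y, C.S.B.sq hy', mul_one, one_mul] at h8

theorem pg {T : Subgroup G} (hT : IsPGroup 2 T) (hA : AG ι π Δ ≤ T) : T ≤ NN (hat δ ι Δ s) := by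
  by_contra hn
  obtain ⟨x, hx, hx'⟩ := SetLike.exists_of_lt (CL.Grp.lt_inf_normalizer_of_isPGroup (D := T ⊓ NN (hat δ ι Δ s)) hT
    (lt_of_le_of_ne inf_le_left fun e => hn (inf_eq_left.mp e)))
  refine hx' ⟨hx.1, mem_NN.2 fun p hp => C.dn ((C.hat_conj hp).trans (isConj_iff.2 ⟨x, rfl⟩)) ?_⟩
  exact ((mem_normalizer_iff.1 hx.2 p).1 ⟨hA (C.hat_AG hp), C.nn ▸ le_normalizer (C.hat_AG hp)⟩).2

end Cx

end TCJ

theorem tcThm : TCThm.{u} := fun S T F L =>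
  have C : TCJ.Cx _ _ _ _ _ _ := ⟨S, T, F, L⟩
  ⟨fun _ => ⟨fun h => ⟨C.hat_conj h, C.hat_AG h⟩, fun h => C.inter h.1 h.2⟩, C.card_hat, C.nn,
    fun _ => C.trans1, fun _ => C.fix8, fun _ => C.dn, fun _ => C.pg⟩

end CL.F3
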