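/-
Recognition of `Fi₂₂` from a 3-centraliser (S3368), 2-local part: Thompson transfer.
-/
import Cfsg.Agent.Rec.F3T2

set_option autoImplicit false

namespace CL.F3

open Subgroup Cfsg CL.MT

universe u

namespace TD

variable {G H X : Type u} [Group G] [Group H] [Group X]

/-- the sign of the action on the base -/
theorem exists_chi (Δ : Finset G) : ∃ χ : NN Δ →* ℤˣ, ∀ n : NN Δ, n.1 * n.1 = 1 →
    χ n = (-1) ^ ((Δ.card - {e | e ∈ Δ ∧ n * e * (n : G)⁻¹ = e}.ncard) / 2) := by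
  classical
  let _ := actNN Δ
  refine ⟨Equiv.Perm.sign.comp (MulAction.toPermHom (NN Δ) Δ), fun n h => ?_⟩
  have h2 : MulAction.toPermHom (NN Δ) Δ n ^ 2 = 1 := by
    rw [← map_pow, pow_two, show n * n = 1 from Subtype.ext h, map_one]
  rw [MonoidHom.comp_apply, Equiv.Perm.sign_of_pow_two_eq_one h2, Fintype.card_coe, ← Nat.card_eq_fintype_card,
    ← Nat.card_coe_set_eq]
  congr 3
  exact Nat.card_congr ⟨fun x => ⟨x.1, x.1.2, congrArg Subtype.val x.2⟩, fun x => ⟨⟨x.1, x.2.1⟩, Subtype.ext x.2.2⟩,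
    fun _ => rfl, fun _ => rfl⟩

variable {δ : H} {ι : H →* G} {π : H →* X} {D : Set X} {Δ : Finset X} {s : X → H}

theorem ι_mem_NN (S : S2 δ ι π D Δ) (L : IsLift D π s) {h : H} : ι h ∈ NN (hat δ ι Δ s) ↔ π h ∈ NN Δ := by
  have sc : ∀ {x}, x ∈ D → ι h * ι (s x) * (ι h)⁻¹ = ι (s (π h * x * (π h)⁻¹)) := fun hx => by rw [L.equiv h _ hx]; simp
  rw [mem_NN, mem_NN]
  refine ⟨fun hh x hx => ?_, fun hh e he => ?_⟩
  · have hD := S.B.conj (π h) (S.B.sub x hx)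
    have := hh _ (mem_hat.2 (.inr ⟨x, hx, rfl⟩))
    rw [sc (S.B.sub x hx)] at this
    obtain ⟨z, hz, e⟩ := (mem_hat.1 this).resolve_left fun e => L.ne_δ S.E S.B hD (S.inj e)
    exact L.inj (S.B.sub z hz) hD (S.inj e) ▸ hz
  · rcases mem_hat.1 he with rfl | ⟨x, hx, rfl⟩
    · exact mem_hat.2 (.inl (by rw [← map_mul, ← map_inv, ← map_mul, S.E.conj_δ]))
    · rw [sc (S.B.sub x hx)]; exact mem_hat.2 (.inr ⟨_, hh x hx, rfl⟩)

theorem comm_d (S : S2 δ ι π D Δ) {a : G} (ha : a ∈ ι.range) : Commute a (ι δ) := by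
  obtain ⟨h, rfl⟩ := ha
  exact (S.E.comm h).symm.map ι

theorem conj_L (S : S2 δ ι π D Δ) {n a : G} (hn : Commute n (ι δ)) (ha : a ∈ ι.range) : n * a * n⁻¹ ∈ ι.range :=
  conj_mem_of_idx2 (C := centralizer {ι δ}) (fun a ha b hb =>
    S.two a b (mem_centralizer_singleton_iff.1 ha) (mem_centralizer_singleton_iff.1 hb))
    (mem_centralizer_singleton_iff.2 hn) (mem_centralizer_singleton_iff.2 (comm_d S ha)) ha

theorem not_L (S : S2 δ ι π D Δ) {n a : G} (hn : Commute n (ι δ)) (ha : a ∉ ι.range) : n * a * n⁻¹ ∉ ι.range := fun h =>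
  ha (by simpa [mul_assoc] using conj_L S hn.inv_left h)

theorem pg_zp {a : G} (h : a * a = 1) : IsPGroup 2 (zpowers a) := fun ⟨_, k, e⟩ =>
  ⟨1, Subtype.ext (by
    simp only [← e, SubgroupClass.coe_pow, OneMemClass.coe_one]
    rw [← zpow_natCast, ← zpow_mul, mul_comm, zpow_mul, zpow_natCast, pow_one, pow_two, h, one_zpow])⟩

/-- no conjugate of an outer element lies in `A` -/
theorem not_A [Finite G] (S : S2 δ ι π D Δ) (T : TA δ ι π Δ) (C : TC δ ι π Δ s) {t : G} (h1 : Commute t (ι δ))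
    (h2 : t ∉ ι.range) (g : G) : g * t * g⁻¹ ∉ AG ι π Δ := fun ha => by
  have d2 : g * ι δ * g⁻¹ * (g * ι δ * g⁻¹) = 1 := by rw [conj_mul, ← map_mul, S.E.sq, map_one, mul_one, mul_inv_cancel]
  obtain ⟨c, hc, P, -, hP, hA, h3⟩ := exists_conj_le_pgroup (M := centralizer {g * t * g⁻¹}) (pg_zp d2)
    (elemAb_isPGroup T.elemAb) (zpowers_le.2 (mem_centralizer_singleton_iff.2 (by rw [conj_mul, conj_mul, h1.eq])))
    fun a h => mem_centralizer_singleton_iff.2 (elemAb_commute T.elemAb h ha)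
  obtain ⟨n, hn, e⟩ := C.trans1 _ (C.dn _ (isConj_iff.2 ⟨c * g, by group⟩) (C.pg P hP hA (h3 _ (mem_zpowers _))))
  refine not_L S (n := n * c * g) (mul_inv_eq_iff_eq_mul.1 (Eq.trans (by group) e)) h2
    (map_le_range ι ((closure (Δ : Set X)).comap π) ?_)
  rw [show n * c * g * t * (n * c * g)⁻¹ = n * (c * (g * t * g⁻¹) * c⁻¹) * n⁻¹ by group,
    mem_centralizer_singleton_iff.1 hc, mul_inv_cancel_right]
  exact (mem_normalizer_iff.1 (C.nn.ge hn) _).1 ha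

end TD

open TD in
theorem tdThm : TDThm.{u} := fun {G H X} _ _ _ _ δ ι π D Δ s S T B C => by
  let N1 := NN (hat δ ι Δ s)
  obtain ⟨χ, hχ⟩ := exists_chi (hat δ ι Δ s)
  let M := χ.ker.map N1.subtype
  have mM : ∀ {a} (h : a ∈ N1), a ∈ M ↔ χ ⟨a, h⟩ = 1 := fun h =>
    ⟨fun ⟨_, h1, e⟩ => by subst e; exact h1, fun h1 => ⟨_, h1, rfl⟩⟩
  have hK : ∀ a ∈ N1, ∀ b ∈ N1, a ∉ M → b ∉ M → a * b ∈ M := fun a ha b hb h1 h2 => (mM (mul_mem ha hb)).2 (by
    rw [show (⟨a * b, _⟩ : N1) = ⟨a, ha⟩ * ⟨b, hb⟩ from rfl, map_mul,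
      (Int.units_eq_one_or _).resolve_left fun e => h1 ((mM ha).2 e),
      (Int.units_eq_one_or _).resolve_left fun e => h2 ((mM hb).2 e)]; simp)
  have dA : ι δ ∈ AG ι π Δ := ((C.mem _).1 (mem_hat.2 (.inl rfl))).2
  have dN : ι δ ∈ N1 := C.nn.le (le_normalizer dA)
  have hd : ι δ ∈ M := (mM dN).2 (by
    rw [hχ _ (elemAb_sq T.elemAb dA), show {e | e ∈ hat δ ι Δ s ∧ _} = (hat δ ι Δ s : Set G) from Set.ext fun e =>
      and_iff_left_of_imp fun he => mul_inv_eq_iff_eq_mul.2 (elemAb_commute T.elemAb dA ((C.mem e).1 he).2),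
      Set.ncard_coe_finset, Nat.sub_self]; rfl)
  have hb : ∀ g, Commute g (ι δ) → g ∉ ι.range → g * g = 1 → g ∉ M := fun g h1 h2 h3 h4 => by
    have h5 : g ∈ N1 := map_subtype_le _ h4
    have := (mM h5).1 h4
    rw [hχ _ h3, C.fix8 g h1 h2 h5 h3, C.card] at this
    exact absurd this (by decide)
  obtain ⟨t0, t1, t2, t3⟩ := S.out
  obtain ⟨k, hk, h⟩ := T.toN _ (pg_zp t1) fun g ⟨j, e⟩ => e ▸ t2.zpow_left j
  have tN : k * t0 * k⁻¹ ∈ N1 := C.nn.le (h _ (mem_zpowers _))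
  have tL := not_L S hk t3
  have tc : Commute (k * t0 * k⁻¹) (ι δ) := (hk.mul_left t2).mul_left hk.inv_left
  have tt : k * t0 * k⁻¹ * (k * t0 * k⁻¹) = 1 := by rw [conj_mul, t1, mul_one, mul_inv_cancel]
  generalize k * t0 * k⁻¹ = t at tN tL tc tt
  have := Fact.mk Nat.prime_two
  obtain ⟨P, hP⟩ := (elemAb_isPGroup T.elemAb).exists_le_sylow
  obtain ⟨N, hN, h2, h3⟩ := CL.Transfer.thompson_transfer N1 M
    ((CL.Transfer.odd_index_sylow_two P).of_dvd_nat (index_dvd_of_le (C.pg _ P.isPGroup' hP))) (by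
      rw [relIndex, subgroupOf, comap_map_eq_self_of_injective N1.subtype_injective, index_ker,
        show χ.range = ⊤ from top_unique fun x _ => ?_, card_top, Nat.card_eq_fintype_card, Fintype.card_units_int]
      rcases Int.units_eq_one_or x with rfl | rfl
      exacts [one_mem _, ⟨⟨t, tN⟩, (Int.units_eq_one_or _).resolve_left fun e => hb t tc tL tt ((mM tN).2 e)⟩])
    t (by rw [pow_two, tt]) fun g hg => by
      have h1 : g * t * g⁻¹ ∈ N1 := map_subtype_le _ hg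
      have h2 : g * t * g⁻¹ * (g * t * g⁻¹) = 1 := by rw [conj_mul, tt, mul_one, mul_inv_cancel]
      obtain ⟨e, he, h3⟩ : {e | e ∈ hat δ ι Δ s ∧ g * t * g⁻¹ * e * (g * t * g⁻¹)⁻¹ = e}.Nonempty := by
        by_contra h3
        have := (mM h1).1 hg
        rw [hχ _ h2, Set.not_nonempty_iff_eq_empty.1 h3, Set.ncard_empty, C.card] at this
        exact absurd this (by decide)
      obtain ⟨n, hn, e1⟩ := C.trans1 e he
      have h4 : Commute (n * (g * t * g⁻¹) * n⁻¹) (ι δ) := by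
        rw [← e1, commute_iff_eq, conj_mul, conj_mul, mul_inv_eq_iff_eq_mul.1 h3]
      have h5 : n * (g * t * g⁻¹) * n⁻¹ * (n * (g * t * g⁻¹) * n⁻¹) = 1 := by rw [conj_mul, h2, mul_one, mul_inv_cancel]
      obtain ⟨a, ha⟩ : n * (g * t * g⁻¹) * n⁻¹ ∈ ι.range :=
        by_contra fun h6 => hb _ h4 h6 h5 (conj_mem_of_idx2 hK hn h1 hg)
      obtain ⟨c, hc⟩ := S.E.exists_conj_A S.B (a := a) (by
        rw [← map_mul, show a * a = 1 from S.inj (by rw [map_mul, ha, h5, map_one]), map_one])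
      exact not_A S T C tc tL (ι c * n * g) ⟨_, hc, by rw [map_mul, map_mul, map_inv, ha]; group⟩
  have hL : ι.range ≤ N := by
    have := S.perf
    obtain ⟨ψ, hψ⟩ := exists_hom_of_idx2 (C := ⊤) (K := N) fun a _ b _ ha hb =>
      (mul_mem_iff_of_index_two h2).2 (iff_of_false ha hb)
    rintro _ ⟨a, rfl⟩
    exact (hψ ⟨ι a, mem_top _⟩).1 (hom_eq_one (ψ.comp (ι.codRestrict ⊤ fun _ => mem_top _)) a)
  exact ⟨N, hN, h2, fun g hg => ⟨fun h4 => by_contra fun h5 => h3 (by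
    simpa using mul_mem (inv_mem h4) (hL (S.two g t hg tc h5 tL))), fun h4 => hL h4⟩⟩

end CL.F3
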