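/-
Recognition of `Fi₂₂` from a 3-centraliser (S3368), 3-local part: weak closure, the good case.
-/
import Cfsg.Agent.Rec.F3Base2

set_option autoImplicit false

namespace CL.F3

open Subgroup Cfsg CL.Grp CL.G23 CL.Even Equiv
open CL.U63 hiding Mt Mq MS P1Thm WCThm
open scoped Matrix

universe u

namespace WG

variable {G : Type u} [Group G] {z t y t' : G} {κ κ' : W6 → G} {R R' : Subgroup G} {r r' : Fin 3 → G}

def PP (z : G) (κ : W6 → G) (y : G) (κ' : W6 → G) : Prop :=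
  (∃ a b x x' k l, a ≠ b ∧ x ≠ 0 ∧ x' ≠ 0 ∧ InQ y κ' (κ (sn a x) * zp z k) ∧ InQ y κ' (κ (sn b x') * zp z l)) ∧
  ∃ ρ e, ρ * ρ = 1 ∧ ρ * y = y * ρ ∧ (∀ n, InQ z κ n → InQ y κ' n → ρ * n = n * ρ) ∧ T3 y e ∧
    ρ * e * ρ⁻¹ = e⁻¹ ∧ ¬ InQ y κ' e

theorem ksum (h : MB z t κ R r) (v : W6) : κ v = κ (sn 0 (v 0)) * κ (sn 1 (v 1)) * κ (sn 2 (v 2)) := by
  rw [← h.kadd, ← h.kadd, ← sn_sum]
  · rw [β6_sn]; simp [sn, d2]
  · rw [β6_sn]; simp [sn, d2]

theorem rinv (h : MB z t κ R r) (i : Fin 3) (x : V2) : r i * κ (sn i x) * (r i)⁻¹ = (κ (sn i x))⁻¹ := by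
  rw [h.ra, mon_sgn, sn_self, add3, h.kinv]

theorem rfix (h : MB z t κ R r) (i : Fin 3) {v : W6} (e : v i = 0) : r i * κ v = κ v * r i :=
  (h.ra i).comm (by rw [mon_sgn, e, sn_zero, add_zero])

theorem zp_in {H : Subgroup G} {a : G} (ha : a ∈ H) (k : ZMod 3) : zp a k ∈ H := pow_mem ha _

theorem sol : ∀ ε : Fin 3 → ZMod 3, (∀ i, ε i ≠ 0) → ∃ b : Fin 3 → ZMod 3, ∃ i, b i * ε i ≠ 0 ∧
    b 0 * b 0 * ε 0 + b 1 * b 1 * ε 1 + b 2 * b 2 * ε 2 = 0 := by decide +kernel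

theorem main0 [Finite G] (h : MB z t κ R r) (h' : MS y t' κ' R' r') (cm : y * z = z * y) (w' : W0 y κ')
    (yQ : ¬ InQ z κ y) (wy : ∀ g, InQ y κ' (g * y * g⁻¹) → g * y * g⁻¹ ∈ zpowers y) {A : A3} (m : Mt κ y 1 A)
    (h3 : ∀ i, A i ^ 3 = 1) (h1 : ∀ i, A i ≠ 1) : PP z κ y κ' := by
  choose e f ε hε he hef hAe hAf hfix using fun i => m3_frame (A i) (h3 i) (h1 i)
  have ry : ∀ i, r i * y = y * r i := fun i => (h.r_comm cm m i).symm
  have ey : ∀ i, T3 y (κ (sn i (e i))) := fun i =>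
    ⟨(m.comm (by rw [mon_sn]; exact congrArg _ (hAe i))).symm, h.k3 _⟩
  have key : ∀ v k, InQ y κ' (κ v * zp z k) → ∀ i, v i = 0 ∨ InQ y κ' (κ (sn i (e i))) := fun v k hn i => by
    have e1 : mon 1 A v = v := (h.keq (k := k) (l := k) (by
      rw [← m, mul_assoc, (show Commute y (zp z k) from zp_comm cm k).inv_left.eq, ← mul_assoc, mul_assoc y,
        ← h'.inQ_cz hn, mul_inv_cancel_right])).1
    obtain ⟨a, ha⟩ := hfix i (v i) (congrFun e1 i)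
    have e2 : (κ v * zp z k)⁻¹ * (r i * (κ v * zp z k) * (r i)⁻¹) = κ (sn i (v i)) := by
      rw [← conj_mul, h.ra, zp_comm (h.rz i), mul_inv_cancel_right, mon_sgn,
        h.kadd (by rw [β6_sn]; simp only [d2]; ring), mul_assoc (κ v), h.kzp (sn i (v i))]
      group
    have e3 : κ (sn i (v i)) ∈ h'.QQ := e2 ▸ h'.inQ_mul (h'.inQ_inv hn) (h'.inQ_normc (ry i) hn)
    by_cases a0 : a = 0
    · exact Or.inl (by rw [ha, a0, zero_smul])
    · refine Or.inr ?_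
      have := zp_in e3 a
      rwa [← h.ksmul, ← sn_smul, ha, smul_smul, (by decide : ∀ a : ZMod 3, a ≠ 0 → a * a = 1) a a0, one_smul] at this
  have nall : ∃ j, ¬ InQ y κ' (κ (sn j (e j))) := by
    by_contra hc
    push Not at hc
    obtain ⟨b, i, hb, hs⟩ := sol ε hε
    have e1 : (fun i => b i • f i) - mon 1 A (fun i => b i • f i) = fun i => (-(b i * ε i)) • e i := funext fun i => by
      rw [Pi.sub_apply, mon_base, Matrix.mulVec_smul, hAf, smul_add, smul_smul, neg_smul]; abel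
    have e2 : β6 (fun i => b i • f i) (mon 1 A (fun i => b i • f i)) = 0 := by
      have e3 : ∀ i, d2 (b i • f i) (A i *ᵥ (b i • f i)) = -(b i * b i * ε i) := fun i => by
        have := hef i
        rw [Matrix.mulVec_smul, hAf]
        simp only [d2, Pi.smul_apply, Pi.add_apply, smul_eq_mul] at this ⊢
        linear_combination (-(b i * b i * ε i)) * this
      simp only [β6, mon_base, e3]
      linear_combination -hs
    have e4 := h.conj_k m fun i => b i • f i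
    rw [e1, e2, neg_zero, zp_zero, mul_one] at e4
    have e5 : κ (fun i => (-(b i * ε i)) • e i) ∈ h'.QQ := by
      rw [ksum h]
      simp only [sn_smul, h.ksmul]
      exact mul_mem (mul_mem (zp_in (hc 0) _) (zp_in (hc 1) _)) (zp_in (hc 2) _)
    have e6 := wy _ (e4 ▸ h'.inQ_mul e5 h'.inQ_z)
    rw [e4, mul_mem_cancel_right (mem_zpowers y), mem_zp h'.z3] at e6
    obtain ⟨k, e7⟩ := e6
    by_cases k0 : k = 0
    · rw [k0, zp_zero, ← h.k0] at e7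
      have := congrFun (h.k_inj e7) i
      exact (by decide : ∀ c : ZMod 3, ∀ x : V2, c ≠ 0 → x ≠ 0 → (-c) • x ≠ 0) _ _ hb (he i) this
    · have := zp_in (H := h.QQ) (h.inQ_k fun i => (-(b i * ε i)) • e i) k
      rw [e7, zp_zp h'.z3, (by decide : ∀ a : ZMod 3, a ≠ 0 → a * a = 1) k k0, zp_one] at this
      exact yQ this
  obtain ⟨j, hj⟩ := nall
  have oth : ∀ i, i ≠ j → InQ y κ' (κ (sn i (e i))) := fun i hi =>
    (w'.gam (r i) (r j) _ _ (ry i) (ry j) (h.r2 i) (h.r2 j) (h.rr i j) (ey i) (ey j) (rinv h i _)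
      (rfix h j (sn_ne hi.symm _)) (rinv h j _)).resolve_right hj
  obtain ⟨a, b, hab, ha, hb⟩ := (by decide : ∀ j : Fin 3, ∃ a b, a ≠ b ∧ a ≠ j ∧ b ≠ j) j
  refine ⟨⟨a, b, e a, e b, 0, 0, hab, he a, he b, by simpa only [zp_zero, mul_one] using oth a ha,
    by simpa only [zp_zero, mul_one] using oth b hb⟩, r j, _, h.r2 j, ry j, ?_, ey j, rinv h j _, hj⟩
  rintro n ⟨v, k, rfl⟩ hn
  exact (Commute.mul_right (rfix h j ((key v k hn j).resolve_right hj)) (zp_comm (h.rz j) k)).eq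

theorem main [Finite G] (h : MS z t κ R r) (h' : MS y t' κ' R' r') (p : Pr2 z κ y κ') (ha : Act z κ y)
    (hg : Good t κ y) : PP z κ y κ' := by
  obtain ⟨A, m, h1⟩ := ha
  obtain ⟨w, hw⟩ := hg
  have h2 := h.conjQ (-w)
  have m2 := h2.mt_of_mq (c := y) (by
    rw [← h.kinv, inv_inv]
    calc y * ((κ w)⁻¹ * t * κ w) = (κ w)⁻¹ * (κ w * y * (κ w)⁻¹ * t) * κ w := by group
      _ = _ := by rw [hw]; group) ((h.mq_conjQ (-w) p.cm).2 m)
  obtain ⟨⟨a, b, x, x', k, l, hab, hx, hx', ea, eb⟩, ρ, e, q1, q2, q3, q4⟩ := main0 h2.toMB h' p.cm p.w'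
    (fun c => p.yQ ((h.inQ_conjQ _).1 c)) p.wy m2 ((h.three' ⟨p.cm, h'.z3⟩ m).2 rfl) h1
  simp only [h.kk, mul_assoc, ← zp_add h.z3] at ea eb
  exact ⟨⟨a, b, x, x', _, _, hab, hx, hx', ea, eb⟩, ρ, e, q1, q2, fun n hn => q3 n ((h.inQ_conjQ _).2 hn), q4⟩

end WG

theorem wgThm : WGThm.{u} := by
  intro G _ _ z t y t' κ κ' R R' r r' h h' p a a' g g'
  obtain ⟨-, ρ, e, q1, q2, q3, q4, q5, q6⟩ := WG.main h h' p a g
  obtain ⟨⟨i, j, x, x', k, l, hij, hx, hx', ei, ej⟩, -⟩ := WG.main h' h p.symm a' g'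
  obtain ⟨-, -, π, B, -, -, -, -, hB, m⟩ := h'.nfc q2
  have fx : ∀ i x k, x ≠ 0 → InQ z κ (κ' (sn i x) * zp y k) → π i = i := fun i x k hx hn => by
    obtain ⟨l, e1⟩ := m (sn i x)
    have e2 := q3 _ hn ⟨_, _, rfl⟩
    rw [← mul_assoc, mul_assoc _ _ ρ, ← zp_comm q2, ← mul_assoc, mul_left_inj] at e2
    rw [e2, mul_inv_cancel_right, ← mul_one (κ' _), ← zp_zero y] at e1
    by_contra c
    have := congrFun (h'.keq e1).1 (π i)
    rw [mon_sn, sn_self, sn_ne c] at this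
    exact mulVec_ne _ (by rw [hB]; decide) x hx this.symm
  obtain rfl := (by decide : ∀ π : P3, ∀ a b, a ≠ b → π a = a → π b = b → π = 1) π i j hij (fx _ _ _ hx ei)
    (fx _ _ _ hx' ej)
  exact q6 (p.w'.l1 ρ e B q2 q1 m q4 q5)

end CL.F3
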