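/-
Recognition of `Fi₂₂` from a 3-centraliser (S3368), 3-local part: the structure of `R` and of the base group.
-/
import Cfsg.Agent.Rec.F3Base2

set_option autoImplicit false

namespace CL.F3

open Subgroup Cfsg CL.Grp CL.G23 CL.Even Equiv
open CL.U63 hiding Mt Mq MS P1Thm WCThm
open scoped Matrix

universe u

namespace X

instance decQ8 (A : M2) : Decidable (Q8m A) := inferInstanceAs (Decidable (_ ∧ _))

theorem d_card : (Finset.univ.filter Q8m).card = 8 := by decide +kernel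

theorem d_card' : Fintype.card {A : M2 // Q8m A} = 8 := by rw [Fintype.card_subtype, d_card]

theorem d_mi : Q8m 1 ∧ Q8m mi ∧ mi ≠ 1 ∧ mi ≠ -1 ∧ U0 * (U0 * U0) = 1 ∧ U0 * U0 * U0 = 1 := by decide +kernel

theorem d_gen : ∀ x : M2, Q8m x → ¬ (x = 1 ∨ x = -1) → ∀ q : M2, Q8m q →
    ∃ a < 4, ∃ b < 2, q = x ^ a * (U0 * x * (U0 * U0)) ^ b := by decide +kernel

theorem d_com : ∀ x : M2, Q8m x → ¬ (x = 1 ∨ x = -1) → ∀ y : M2, Q8m y → ¬ (y = 1 ∨ y = -1) →
    x * y * x ^ 3 * y ^ 3 = -1 ∨ x * (U0 * y * (U0 * U0)) * x ^ 3 * (U0 * y * (U0 * U0)) ^ 3 = -1 := by decide +kernel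

/-- the triple with one entry `q` -/
def sg (i : Fin 3) (q : M2) : A3 := fun j => if j = i then q else 1

theorem sg_one (i : Fin 3) : sg i 1 = 1 := funext fun _ => ite_self _

theorem sg_mul (i : Fin 3) (p q : M2) : sg i p * sg i q = sg i (p * q) := funext fun j => by
  simp only [sg, Pi.mul_apply]; split_ifs <;> simp

theorem sg_prod (A : A3) : A = sg 0 (A 0) * sg 1 (A 1) * sg 2 (A 2) := funext fun j => by
  fin_cases j <;> simp [sg]

theorem sg_conj {S S' : A3} (e : S * S' = 1) (π : P3) (i : Fin 3) (q : M2) :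
    S * tw π (sg i q) * S' = sg (π i) (S (π i) * q * S' (π i)) := funext fun j => by
  simp only [sg, tw, Pi.mul_apply, Perm.inv_eq_iff_eq]
  split_ifs with e1
  · rw [e1]
  · rw [mul_one]; exact congrFun e j

theorem uu : UU * (UU * UU) = 1 ∧ UU * UU * UU = 1 := ⟨funext fun _ => d_mi.2.2.2.2.1, funext fun _ => d_mi.2.2.2.2.2⟩

variable {G : Type u} [Group G]

/-- the matrices of the elements of `R` -/
def XR (κ : W6 → G) (R : Subgroup G) (A : A3) : Prop := ∃ τ ∈ R, Mt κ τ 1 A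

variable {z t c : G} {κ : W6 → G} {R : Subgroup G} {r : Fin 3 → G} {A B : A3}

theorem x_one : XR κ R 1 := ⟨1, one_mem _, Mt.one κ⟩

theorem x_mul (hA : XR κ R A) (hB : XR κ R B) : XR κ R (A * B) :=
  let ⟨_, h1, m1⟩ := hA; let ⟨_, h2, m2⟩ := hB; ⟨_, mul_mem h1 h2, m1.mul' m2⟩

theorem x_pow {i : Fin 3} {q : M2} (hq : XR κ R (sg i q)) : ∀ n : ℕ, XR κ R (sg i (q ^ n))
  | 0 => by rw [pow_zero, sg_one]; exact x_one
  | n + 1 => by rw [pow_succ, ← sg_mul]; exact x_mul (x_pow hq n) hq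

theorem x_all (f : ∀ i, XR κ R (sg i (A i))) : XR κ R A := by
  rw [sg_prod A]; exact x_mul (x_mul (f 0) (f 1)) (f 2)

variable [Finite G] (h : MS z t κ R r)
include h

theorem x_q8 (hA : XR κ R A) (i : Fin 3) : Q8m (A i) := by
  obtain ⟨τ, h1, m⟩ := hA
  obtain ⟨B, h2, m'⟩ := h.Ract τ h1
  rw [(h.uniq (h.Rz τ h1) (m.mq z) (m'.mq z)).2]
  exact h2 i

theorem x_four (hA : XR κ R A) : A * A ^ 3 = 1 := funext fun i => by
  rw [← pow_succ']; exact (x_q8 h hA i).2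

theorem x_conj {g : G} {π : P3} {S S' : A3} (hg : g * z = z * g) (m : Mt κ g π S) (e : S * S' = 1) (e' : S' * S = 1)
    (hA : XR κ R A) : XR κ R (S * tw π A * S') := by
  have q := x_q8 h hA
  obtain ⟨τ, h1, m1⟩ := hA
  have m2 := (m.mul m1).mul (m.inv (A' := tw π⁻¹ S') (by rw [tw_tw, mul_inv_cancel, tw_one, e]))
  rw [mul_one, tw_tw, mul_inv_cancel, tw_one] at m2
  exact h.Rmax _ _ (Commute.mul_left (Commute.mul_left hg (h.Rz τ h1)) (Commute.inv_left hg)).eq m2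
    fun i => q8_conj (q _) (congrFun e' i) (congrFun e i)

omit [Finite G] in
theorem x_pm (e : ∀ i, A i = 1 ∨ A i = -1) : XR κ R A := x_all fun i => by
  rcases e i with e | e <;> rw [e]
  · rw [sg_one]; exact x_one
  · exact ⟨_, h.rR i, h.ra i⟩

theorem not_full (f : ∀ i q, Q8m q → XR κ R (sg i q)) : False := by
  have : ∀ A : Fin 3 → {A : M2 // Q8m A}, XR κ R fun i => A i := fun A => x_all fun i => f i _ (A i).2
  choose φ h1 h2 using this
  have := Nat.card_le_card_of_injective (fun A => (⟨φ A, h1 A⟩ : R)) fun A B e => funext fun i => Subtype.ext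
    (congrFun (h.uniq (h.Rz _ (h1 A)) ((h2 A).mq z) ((show φ A = φ B from congrArg Subtype.val e) ▸ (h2 B).mq z)).2 i)
  rw [h.Rcard, Nat.card_eq_fintype_card, Fintype.card_fun, d_card'] at this
  simp at this

variable (y : Y3 z t κ r c)
include y

theorem w2 (hA : XR κ R A) (i : Fin 3) (e : ∀ j, j ≠ i → A j = 1 ∨ A j = -1) : A i = 1 ∨ A i = -1 := by
  by_contra hn
  have h1 : XR κ R (sg i (A i)) := by
    have := x_mul hA (x_pm h (A := fun j => if j = i then 1 else A j) fun j => by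
      split_ifs with e1
      · exact Or.inl rfl
      · exact e j e1)
    convert this using 1
    funext j
    simp only [sg, Pi.mul_apply]
    split_ifs with e1
    · rw [e1, mul_one]
    · rcases e j e1 with e2 | e2 <;> simp [e2]
  have h2 : ∀ q, Q8m q → XR κ R (sg i q) := fun q hq => by
    obtain ⟨a, -, b, -, rfl⟩ := d_gen _ (x_q8 h hA i) hn q hq
    have := x_conj h y.cz y.cU uu.1 uu.2 h1
    rw [sg_conj uu.1] at this
    rw [← sg_mul]
    exact x_mul (x_pow h1 a) (x_pow this b)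
  obtain ⟨s, π, S, sz, -, m, p1, p3⟩ := y.cyc
  choose S' e1 e2 _ using fun i => m_inv (S i) (by rw [h.det_one sz (m.mq z)]; decide)
  have h3 : ∀ n : ℕ, ∀ q, Q8m q → XR κ R (sg ((π ^ n) i) q) := fun n => by
    induction n with
    | zero => exact h2
    | succ n ih =>
      intro q hq
      have := x_conj h sz m (funext e1) (funext e2) (ih _ (q8_conj hq (e1 ((π ^ (n + 1)) i)) (e2 _)))
      rw [sg_conj (funext e1), ← Perm.mul_apply, ← pow_succ', ← mul_assoc, ← mul_assoc, e1, one_mul, mul_assoc, e1,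
        mul_one] at this
      exact this
  refine not_full h fun j => ?_
  obtain ⟨n, -, rfl⟩ := p3_trans π p1 p3 i j
  exact h3 n

theorem ker (τ : G) (h1 : τ ∈ R) (A : A3) (m : Mt κ τ 1 A) (e1 : A 1 = 1) (e2 : A 2 = 1) : τ = 1 ∨ τ = r 0 := by
  refine (w2 h y ⟨τ, h1, m⟩ 0 fun j hj => Or.inl (by fin_cases j <;> simp_all)).imp (fun e => ?_) fun e => ?_
  · refine h.R_inj h1 (one_mem _) m ?_
    rw [sg_prod A, e, e1, e2, sg_one, sg_one, sg_one, mul_one, mul_one]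
    exact Mt.one κ
  · refine h.R_inj h1 (h.rR 0) m ?_
    rw [sg_prod A, e, e1, e2, sg_one, sg_one, mul_one, mul_one]
    exact h.ra 0

theorem surj (A B : M2) (hA : Q8m A) (hB : Q8m B) : ∃ τ ∈ R, ∃ C, Mt κ τ 1 ![C, A, B] := by
  classical
  by_contra hn
  have := Fintype.ofFinite R
  choose φ h1 h2 using fun τ : R => h.Ract τ τ.2
  have h3 := Finset.card_le_mul_card_image (f := fun τ : R => (φ τ 1, φ τ 2)) Finset.univ 2 fun a ha => by
    obtain ⟨τ, -, rfl⟩ := Finset.mem_image.1 ha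
    refine (Finset.card_le_card fun σ hσ => ?_).trans (Finset.card_le_two (a := τ) (b := τ * ⟨r 0, h.rR 0⟩))
    obtain ⟨e1, e2⟩ := Prod.mk.inj (Finset.mem_filter.1 hσ).2
    have f : ∀ i, φ τ i ^ 3 * φ τ i = 1 := fun i => by rw [← pow_succ]; exact (h1 τ i).2
    rcases ker h y _ (mul_mem (inv_mem τ.2) σ.2) _ (((h2 τ).inv' (x_four h ⟨_, τ.2, h2 τ⟩)).mul' (h2 σ))
      (by rw [Pi.mul_apply, e1]; exact f 1) (by rw [Pi.mul_apply, e2]; exact f 2) with e | e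
    · exact Finset.mem_insert.2 (Or.inl (Subtype.ext (inv_mul_eq_one.1 e).symm))
    · exact Finset.mem_insert.2 (Or.inr (Finset.mem_singleton.2 (Subtype.ext (inv_mul_eq_iff_eq_mul.1 e))))
  have h4 : (Finset.univ.image fun τ : R => (φ τ 1, φ τ 2)) ⊆
      ((Finset.univ.filter Q8m) ×ˢ (Finset.univ.filter Q8m)).erase (A, B) := fun a ha => by
    obtain ⟨τ, -, rfl⟩ := Finset.mem_image.1 ha
    refine Finset.mem_erase.2 ⟨fun e => hn ⟨τ, τ.2, φ τ 0, ?_⟩, by simp [h1]⟩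
    obtain ⟨rfl, rfl⟩ := Prod.mk.inj e
    convert h2 τ using 1
    funext i
    fin_cases i <;> rfl
  have h5 := Finset.card_le_card h4
  rw [Finset.card_erase_of_mem (by simp [hA, hB]), Finset.card_product, d_card] at h5
  rw [Finset.card_univ, ← Nat.card_eq_fintype_card, h.Rcard] at h3
  omega

theorem base (d : G) (A : A3) (hd : d * z = z * d) (m : Mt κ d 1 A) : ∃ τ ∈ R, ∃ j k, d = τ * zp c j * zp z k := by
  obtain ⟨i, -, e⟩ := (m_dec U0 U0_spec.2.1 U0_spec.2.2.1).2 (A 0) (h.det_one hd (m.mq z) 0)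
  have m1 := m.mul' (y.cU.pow i)
  have hz : d * c ^ i * z = z * (d * c ^ i) := (Commute.mul_left hd (Commute.pow_left y.cz i)).eq
  have hD := h.det_one hz (m1.mq z)
  obtain ⟨s, π, S, sz, -, ms, p1, p3⟩ := y.cyc
  have q := y.w.dfact ⟨s, π, S, sz, ms.mq z, p1, p3⟩ _ _ 0 (Commute.pow_left hz 4).eq ((m1.pow 4).mq z)
    (fun n => by rw [Pi.pow_apply, ← pow_mul]; exact m_12 _ (hD n)) e
  have e4 := (h.mq_one (h.inQ_mq q) ((m1.pow 4).mq z)).2
  obtain ⟨τ, h1, m2⟩ := h.Rmax _ _ hz m1 fun n => ⟨hD n, congrFun e4 n⟩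
  obtain ⟨k, e1⟩ := h.mt_eq m1 m2
  refine ⟨τ, h1, -(i : ZMod 3), k, ?_⟩
  rw [zp_neg y.c3, zp_nat y.c3, mul_assoc, zp_comm (Commute.inv_left (Commute.pow_left y.cz i)).eq, ← mul_assoc, ← e1,
    mul_inv_cancel_right]

omit y in
theorem com1 (hA : XR κ R A) (hB : XR κ R B) (e1 : B 1 = 1) (e2 : A 2 = 1) (e : A 0 * B 0 * A 0 ^ 3 * B 0 ^ 3 = -1) :
    ∃ τ ∈ R, ∃ τ' ∈ R, r 0 = τ * τ' * τ⁻¹ * τ'⁻¹ := by
  have fA := x_four h hA
  have fB := x_four h hB
  obtain ⟨τ, h1, m1⟩ := hA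
  obtain ⟨σ, h2, m2⟩ := hB
  refine ⟨τ, h1, σ, h2, h.R_inj (h.rR 0) (mul_mem (mul_mem (mul_mem h1 h2) (inv_mem h1)) (inv_mem h2)) (h.ra 0) ?_⟩
  convert ((m1.mul' m2).mul' (m1.inv' fA)).mul' (m2.inv' fB) using 1
  funext i
  fin_cases i
  · exact e.symm
  · simpa [e1, sgn] using (congrFun fA 1).symm
  · simpa [e2, sgn] using (congrFun fB 2).symm

theorem com : ∃ τ ∈ R, ∃ τ' ∈ R, r 0 = τ * τ' * τ⁻¹ * τ'⁻¹ := by
  obtain ⟨τ, h1, x, m1⟩ := surj h y mi 1 d_mi.2.1 d_mi.1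
  obtain ⟨σ, h2, x', m2⟩ := surj h y 1 mi d_mi.1 d_mi.2.1
  have hA : XR κ R _ := ⟨τ, h1, m1⟩
  have hB : XR κ R _ := ⟨σ, h2, m2⟩
  have n : ¬ (mi = 1 ∨ mi = -1) := not_or.2 ⟨d_mi.2.2.1, d_mi.2.2.2.1⟩
  rcases d_com x (x_q8 h hA 0) (fun e => n (w2 h y hA 1 fun j hj => by fin_cases j <;> simp_all)) x' (x_q8 h hB 0)
    (fun e => n (w2 h y hB 2 fun j hj => by fin_cases j <;> simp_all)) with e | e
  · exact com1 h hA hB rfl rfl e
  · exact com1 h hA (x_conj h y.cz y.cU uu.1 uu.2 hB) (by simpa [UU, tw_one] using d_mi.2.2.2.2.1) rfl e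

end X

theorem xThm : XThm.{u} := fun h y => ⟨X.surj h y, X.ker h y, X.base h y, X.com h y⟩

end CL.F3
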