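/-
Recognition of `Fi₂₂` from a 3-centraliser (S3368), 3-local part: normalisation of the conjugate of `z` in `Q`.
-/
import Cfsg.Agent.Rec.F3Base2

set_option autoImplicit false

namespace CL.F3

open Subgroup Cfsg CL.Grp CL.G23 CL.Even Equiv
open CL.U63 hiding Mt Mq MS P1Thm WCThm
open scoped Matrix

universe u

namespace YA

variable {G : Type u} [Group G] [Finite G] {t y t₁ : G} {κ : W6 → G} {R : Subgroup G} {r : Fin 3 → G}

theorem exists_w (h : MS y t₁ κ R r) (ht : t * t = 1) (hn : t ∈ normalizer (zpowers y : Set G)) :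
    ∃ w, t * (κ w * t₁ * (κ w)⁻¹) = κ w * t₁ * (κ w)⁻¹ * t := by
  obtain ⟨u, c, π, A, d, rfl, hc, m, -⟩ := h.nf hn
  have e1 : κ (u + mon π A u) * (zp y (β6 u (mon π A u)) * (c * c)) = κ 0 * 1 := by
    rw [← mul_assoc, ← h.mul, ← m, h.k0, mul_one, ← ht]; group
  have e2 := (h.ct_eq (Commute.mul_left (zp_comm h.tz _ : Commute t₁ _).symm (Commute.mul_left hc hc)).eq
    (by rw [one_mul, mul_one]) e1).1
  have e3 := m (-u)
  rw [mon_neg, ← neg_eq_of_add_eq_zero_right e2, neg_neg] at e3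
  have e4 : κ u * c = κ (-u) * c * (κ (-u))⁻¹ := by
    rw [mul_inv_eq_iff_eq_mul.1 e3 |>.symm |> fun e => eq_mul_inv_iff_mul_eq.2 (show κ u * c * κ (-u) = κ (-u) * c by
      rw [mul_assoc, ← e, ← mul_assoc, ← h.kadd (β6_self u), add3])]
  exact ⟨-u, by rw [e4, conj_mul, conj_mul, hc]⟩

end YA

theorem yaThm : YAThm.{u} := by
  intro hW hY G _ _ z t κ R r h ⟨g, ⟨v, k, e⟩, hn⟩
  have hv : v ≠ 0 := by
    rintro rfl
    exact hn (by rw [e, h.k0, one_mul]; exact zp_mem z k)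
  obtain ⟨w, hw⟩ := exists_β6 hv k
  have e' : κ w * g * z * (κ w * g)⁻¹ = κ v := by
    rw [show κ w * g * z * (κ w * g)⁻¹ = κ w * (g * z * g⁻¹) * (κ w)⁻¹ by group, e, ← conj_mul, h.kk, h.kzp w,
      mul_inv_cancel_right, hw, mul_assoc, ← zp_add h.z3, (by decide : ∀ k : ZMod 3, 2 * k + k = 0), zp_zero, mul_one]
  have h1 := h.conj (κ w * g)
  rw [e'] at h1
  have ty : t * κ v * t⁻¹ = zp (κ v) (-1) := by rw [h.tk, zp_neg_one (h.k3 v), h.kinv]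
  have tn : t ∈ normalizer (zpowers (κ v) : Set G) := mem_nz.2 (ty ▸ zp_mem _ _)
  obtain ⟨x, hx⟩ := YA.exists_w h1 h.t2 tn
  obtain ⟨t', κ', R', r', h', hx⟩ : ∃ t' κ' R' r', MS (κ v) t' κ' R' r' ∧ t * t' = t' * t := ⟨_, _, _, _, h1.conjQ x, hx⟩
  obtain ⟨⟨v', l, ez⟩, cyc, vne⟩ := hY h h' (hW h) (hW h') (h.inQ_k v) fun e => hv (h.inj v e)
  obtain ⟨-, -, vne'⟩ := hY h' h (hW h') (hW h) ⟨v', l, ez⟩ fun e => by
    obtain ⟨m, e⟩ := (mem_zp h'.z3).1 e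
    rw [← h.ksmul] at e
    exact h.z1 (by rw [e, h.inj (m • v) (e ▸ mem_zpowers z), h.k0])
  obtain ⟨π, B, d, m, -, hd⟩ := h'.act t tn hx
  obtain rfl : l = 0 := by
    have e1 : t * z * t⁻¹ = z := by rw [h.tz, mul_inv_cancel_right]
    rw [ez, ← conj_mul, m, zp_conj h'.z3 ty] at e1
    exact (by decide : ∀ l : ZMod 3, l * -1 = l → l = 0) l (h'.keq e1).2
  have m2 := m.mul m
  rw [h.t2] at m2
  obtain ⟨j, hj⟩ := (by decide : ∀ π : P3, π * π = 1 → ∃ j, π j = j) π (h'.mq_one ((Mt.one κ').mq _) (m2.mq _)).1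
  have e2 := h'.r_conj hd m j
  rw [hj, mul_inv_eq_iff_eq_mul] at e2
  exact ⟨_, t', κ', R', r', r' j, j, v, v', h', hW h, hW h', rfl, by rw [ez, zp_zero, mul_one],
    vne v 0 (by rw [zp_zero, mul_one]), vne' v' 0 ez, e2.symm, h'.rz j, h'.r2 j, h'.ra j, cyc⟩

end CL.F3
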