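/-
Recognition of `Fi₂₂` from a 3-centraliser (S3368), 3-local part: the conjugate `ρ z ρ⁻¹` acts as a transvection on
each factor.
-/
import Cfsg.Agent.Rec.F3Base2

set_option autoImplicit false

namespace CL.F3

open Subgroup Cfsg CL.Grp CL.G23 CL.Even Equiv
open CL.U63 hiding Mt Mq MS P1Thm WCThm
open scoped Matrix

universe u

namespace YBJ

theorem fix_zero {π : P3} {A : A3} {x : W6} (h1 : π ≠ 1) (h3 : π ^ 3 = 1) (e : mon π A x = x) (h0 : x 0 = 0) :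
    x = 0 := by
  have key : ∀ m : ℕ, x ((π ^ m) 0) = 0 := fun m => by
    induction m with
    | zero => exact h0
    | succ m ih =>
      rw [← e, pow_succ', Perm.mul_apply, mon, Perm.inv_def, Equiv.symm_apply_apply, ih, Matrix.mulVec_zero]
  funext i
  obtain ⟨m, -, rfl⟩ := p3_trans π h1 h3 0 i
  exact key m

theorem d2_self (x : V2) : d2 x x = 0 := by simp only [d2]; ring

variable {G : Type u} [Group G] [Finite G] {z t y t' ρ : G} {κ κ' : W6 → G} {R R' : Subgroup G}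
  {r r' : Fin 3 → G} {j : Fin 3} {v v' : W6}

theorem few (h : MS z t κ R r) (h' : MS y t' κ' R' r') (m : YM z t κ y κ' ρ j v v') {w : W6} (hw : β6 w v = 0) :
    ∃ p : Fin 3 × ZMod 3, κ w * (z * κ' (sn j (v' j))) * (κ w)⁻¹ = z * (κ' (sn p.1 (v' p.1)) * zp y p.2) := by
  obtain ⟨-, -, π, A, -, -, -, -, -, hq⟩ := h'.nfc (g := κ w) (by rw [m.hy]; exact h.kcomm hw)
  obtain ⟨k, e⟩ := hq v'
  obtain ⟨l, e'⟩ := hq (sn j (v' j))
  have e1 : κ w * z * (κ w)⁻¹ = z := by rw [h.kz, mul_inv_cancel_right]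
  rw [← m.hz, e1, m.hz] at e
  have e2 := congrFun (h'.keq (((congrArg _ (zp_zero y)).trans (mul_one _)).trans e)).1 (π j)
  rw [mon, Perm.inv_def, Equiv.symm_apply_apply] at e2
  exact ⟨(π j, l), by rw [← conj_mul, e1, e', mon_sn, ← e2]⟩

theorem base (h : MS z t κ R r) (h' : MS y t' κ' R' r') (m : YM z t κ y κ' ρ j v v') {π : P3} {C : A3}
    (hc : Mt κ (z * κ' (sn j (v' j))) π C) (h3 : π ^ 3 = 1) : π = 1 := by
  by_contra h1
  obtain ⟨x, hx⟩ := exists_β6 (v := v) (fun e => m.vne 0 (congrFun e 0)) 1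
  have hp : ∀ w, β6 (w + (-β6 w v) • x) v = 0 := fun w => by rw [β6_add', β6_smul', hx]; ring
  choose p hp' using fun w => few h h' m (hp w)
  have := Fintype.card_le_of_injective (fun w : W6 => (β6 w v, p w, (w + (-β6 w v) • x) 0)) fun w w' e => by
    simp only [Prod.mk.injEq] at e
    obtain ⟨e1, e2, e3⟩ := e
    have e4 := hp' w
    rw [e2, ← hp' w', h.conj_k hc, h.conj_k hc, mul_left_inj] at e4
    have e5 := fix_zero (A := C) (x := w + (-β6 w v) • x + -(w' + (-β6 w' v) • x)) h1 h3 (by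
      rw [mon_add, mon_neg]; linear_combination -(h.keq e4).1) (by rw [Pi.add_apply, Pi.neg_apply, e3, add_neg_cancel])
    rw [e1] at e5
    linear_combination e5
  revert this
  simp [Fintype.card_prod, Fintype.card_pi, ZMod.card]

end YBJ

theorem ybThm : YBThm.{u} := by
  intro G _ _ z t y t' ρ κ κ' R R' r r' j v v' h h' m
  have e0 : ρ * z * ρ⁻¹ = κ' (v' + sn j (v' j)) := by rw [m.hz, m.ρa, mon_sgn]
  have e1 : ρ * z * ρ⁻¹ = z * κ' (sn j (v' j)) := by rw [e0, h'.kadd (by rw [β6_sn, YBJ.d2_self]), ← m.hz]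
  have cz : ρ * z * ρ⁻¹ * z = z * (ρ * z * ρ⁻¹) := by
    rw [e0, m.hz]
    exact h'.kcomm (by rw [β6_add', β6_self, β6_sn', YBJ.d2_self, add_zero])
  have ct : ρ * z * ρ⁻¹ * t = t * (ρ * z * ρ⁻¹) :=
    (Commute.mul_left (Commute.mul_left m.ρt h.tz.symm) (Commute.inv_left m.ρt)).eq
  have c3 : T3 z (ρ * z * ρ⁻¹) := ⟨cz, by rw [e0, h'.k3]⟩
  obtain ⟨π, C, hc, -⟩ := h.nft cz ct
  obtain ⟨p3, a3⟩ := h.three' c3 (hc.mq z)
  obtain rfl := YBJ.base h h' m (e1 ▸ hc) p3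
  obtain ⟨b, π, A, bq, bz, bm, b1, b3⟩ := m.cyc
  refine ⟨C, cz, ct, hc, fun i hi => ?_, ?_⟩
  · obtain ⟨k, e⟩ := h.inQ_t (m.w.dfact ⟨b, π, A, bz, bm, b1, b3⟩ _ C i cz (hc.mq z) (a3 rfl) hi) ct
    rw [e0, m.hz, ← h'.ksmul] at e
    have e2 := h'.k_inj e
    obtain ⟨l, hl⟩ := exists_ne j
    have e3 := congrFun e2 l
    have e4 := congrFun e2 j
    rw [Pi.add_apply, sn_ne hl, add_zero, Pi.smul_apply] at e3
    rw [Pi.add_apply, sn_self, Pi.smul_apply] at e4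
    exact (by decide : ∀ (k : ZMod 3) (a b : V2), a ≠ 0 → b ≠ 0 → a = k • a → b + b ≠ k • b) k _ _ (m.vne' l)
      (m.vne' j) e3 e4
  · obtain ⟨u, s, -, st, sz, sm⟩ := h.nfq bz bm
    refine ⟨s, π, A, sz, st, sm, b1, b3, ?_⟩
    obtain ⟨k, e⟩ := h'.inQ_com bq (e0 ▸ h'.inQ_k _ : InQ y κ' (ρ * z * ρ⁻¹))
    have m1 := bm.mulc h.z3 bz (hc.mq z)
    have m2 := (hc.mq z).mulc h.z3 cz (h.kmq (k • v) bm)
    rw [h.ksmul, ← m.hy, ← mul_assoc, ← e, inv_mul_cancel_right] at m2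
    exact (h.uniq (Commute.mul_left bz cz).eq m1 m2).2

end CL.F3
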