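/-
Recognition of `Fi₂₂` from a 3-centraliser (S3368), 3-local part: `ρ` commutes with one of the `r l`.
-/
import Cfsg.Agent.Rec.F3Base2

set_option autoImplicit false

namespace CL.F3

open Subgroup Cfsg CL.Grp CL.G23 CL.Even Equiv
open CL.U63 hiding Mt Mq MS P1Thm WCThm
open scoped Matrix

universe u

namespace YC

variable {G : Type u} [Group G] {z t y t' ρ σ : G} {κ κ' : W6 → G} {R R' : Subgroup G} {r r' : Fin 3 → G}
  {j : Fin 3} {v v' : W6} {C : A3}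

theorem m_pm : ∀ A : M2, A.det = 1 → A * A = 1 → A = 1 ∨ A = -1 := by
  simp only [Matrix.det_fin_two]
  decide +kernel

theorem pat (B : A3) (h : ∀ i, B i = 1 ∨ B i = -1) : B = 1 ∨ B = -1 ∨ ∃ l, B = sgn l ∨ B = sgn l * -1 := by
  have e : B = ![B 0, B 1, B 2] := funext fun i => by fin_cases i <;> rfl
  rw [e]
  rcases h 0 with a | a <;> rcases h 1 with b | b <;> rcases h 2 with c | c <;> rw [a, b, c] <;> decide +kernel

theorem sgn_ne : (∀ i, 1 ≠ sgn i) ∧ (∀ i, sgn i ≠ -1) ∧ ∀ i l, sgn i ≠ sgn l * -1 := by decide +kernel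

theorem perms : ∀ π : Fin 3 → P3, (∀ i, π i * π i = 1) → π 0 * π 1 * π 2 = 1 →
    (∀ i, π i = 1) ∨ ∃ i, π i = 1 ∧ ∀ l, π l = 1 → l = i := by decide +kernel

theorem mt_uniq (h : MB z t κ R r) {π : P3} {A : A3} {i : Fin 3} (m : Mt κ (r i) π A) : sgn i = A :=
  (h.mq_uniq (fun k => by rw [(sgn_spec.2.2.2 i k).1]; decide) ((h.ra i).mq z) (m.mq z)).2

theorem invol (h : MB z t κ R r) {B : A3} (h2 : σ * σ = 1) (m : Mt κ σ 1 B) (hB : ∀ i, (B i).det = 1) :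
    σ = 1 ∨ σ = t ∨ ∃ l, σ = r l ∨ σ = r l * t := by
  have h4 : σ ^ 4 = 1 := by rw [show 4 = 2 * 2 from rfl, pow_mul, pow_two σ, h2, one_pow]
  have e := (h.mq_one ((Mt.one κ).mq z) ((h2 ▸ m.mul' m : Mt κ 1 1 (B * B)).mq z)).2
  have k : ∀ τ ∈ R, Mt κ τ 1 B → σ = τ := fun τ hτ m' => h.eq_of_four (h.Rz _ hτ) h4 (h.R4 _ hτ) m m'
  rcases pat B fun i => m_pm _ (hB i) (congrFun e i) with rfl | rfl | ⟨l, rfl | rfl⟩
  · exact .inl (k _ (one_mem _) (Mt.one κ))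
  · exact .inr (.inl (k _ h.tR h.tm))
  · exact .inr (.inr ⟨l, .inl (k _ (h.rR l) (h.ra l))⟩)
  · exact .inr (.inr ⟨l, .inr (k _ (mul_mem (h.rR l) h.tR) ((h.ra l).mul' h.tm))⟩)

theorem excl [Finite G] (h : MS z t κ R r) (h' : MS y t' κ' R' r') (m : YM z t κ y κ' ρ j v v')
    (b : YB z t κ (ρ * z * ρ⁻¹) C) (l : Fin 3) : ρ * r l * ρ⁻¹ ≠ r l * t := fun e => by
  have e1 : r l * y * (r l)⁻¹ = κ (v + sn l (v l)) := by rw [m.hy, h.ra l, mon_sgn]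
  have e2 : t * y * t⁻¹ = y⁻¹ := by rw [m.hy, h.tk, h.kinv]
  have e3 : ρ * κ (v + sn l (v l)) * ρ⁻¹ = (κ (v + sn l (v l)))⁻¹ := by
    rw [← e1, ← conj_mul, ← conj_mul, ← conj_inv, e, m.ρy, mul_inv_cancel_right, conj_inv, ← e2]; group
  have hT : T3 y (κ (v + sn l (v l))) := ⟨by
    rw [m.hy]; exact h.kcomm (by rw [β6_add', β6_self, β6_sn', zero_add]; simp only [d2]; ring), h.k3 _⟩
  obtain ⟨x, k, hx⟩ := m.w'.l1 ρ _ _ m.ρy m.ρ2 (m.ρa.mq y) hT e3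
  rw [hx, ← conj_mul, m.ρa, mon_sgn, zp_comm m.ρy, mul_inv_cancel_right, mul_inv_rev, h'.kinv, ← zp_neg h'.z3,
    ← h'.kzp] at e3
  obtain ⟨e4, e5⟩ := h'.keq e3
  rw [(by decide : ∀ k : ZMod 3, k = -k → k = 0) k e5, zp_zero, mul_one] at hx
  have e6 : x = sn j (x j) := by
    rw [← add3, add_right_inj] at e4
    exact e4.symm
  have e7 : d2 (x j) (v' j) = 0 := by
    rw [← β6_sn', ← e6]
    exact h'.β_of_comm (by rw [← hx, ← m.hz]; exact h.kz _)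
  have hn : InQ z κ (κ' (sn j (v' j))) := by
    rcases (by decide : ∀ a b : V2, b ≠ 0 → d2 a b = 0 → a = 0 ∨ a = b ∨ -a = b) _ _ (m.vne' j) e7 with a | a | a
    · rw [e6, a, sn_zero, h'.k0, ← e1, conj_eq_one_iff] at hx
      exact absurd hx h'.z1
    · rw [← a, ← e6, ← hx]; exact h.inQ_k _
    · rw [← a, sn_neg, ← e6, ← h'.kinv, ← hx]; exact h.inQ_inv (h.inQ_k _)
  have hc : ρ * z * ρ⁻¹ = z * κ' (sn j (v' j)) := by
    rw [m.hz, m.ρa, mon_sgn, h'.kadd (by rw [β6_sn]; simp only [d2]; ring)]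
  exact b.C1 0 (congrFun (h.mq_one (h.inQ_mq (hc ▸ h.inQ_mul h.inQ_z hn)) (b.ca.mq z)).2 0)

end YC

theorem ycThm : YCThm.{u} := by
  intro G _ _ z t y t' ρ κ κ' R R' r r' j v v' C h h' m b
  have hi : ρ⁻¹ = ρ := inv_eq_of_mul_eq_one_right m.ρ2
  have back : ∀ a, ρ * (ρ * a * ρ⁻¹) * ρ⁻¹ = a := fun a => by
    rw [hi, show ρ * (ρ * a * ρ) * ρ = ρ * ρ * a * (ρ * ρ) by group, m.ρ2, one_mul, mul_one]
  have ρt : ρ * t * ρ⁻¹ = t := mul_inv_eq_iff_eq_mul.2 m.ρt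
  have σz : ∀ i, ρ * r i * ρ⁻¹ * z = z * (ρ * r i * ρ⁻¹) := fun i => by
    have := congrArg (fun a => ρ * a * ρ⁻¹) (h.r_comm b.cz b.ca i)
    beta_reduce at this
    rw [← conj_mul, ← conj_mul (a := r i), back] at this
    exact this.symm
  have σt : ∀ i, ρ * r i * ρ⁻¹ * t = t * (ρ * r i * ρ⁻¹) := fun i => by
    conv_lhs => rw [← ρt, conj_mul, h.rt, ← conj_mul, ρt]
  have σ2 : ∀ i, ρ * r i * ρ⁻¹ * (ρ * r i * ρ⁻¹) = 1 := fun i => by rw [conj_mul, h.r2, mul_one, mul_inv_cancel]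
  choose π B hB hd using fun i => h.nft (σz i) (σt i)
  have p2 : ∀ i, π i * π i = 1 := fun i =>
    (h.mq_one ((Mt.one κ).mq z) ((σ2 i ▸ (hB i).mul (hB i) : Mt κ 1 _ _).mq z)).1
  have p3 : π 0 * π 1 * π 2 = 1 := by
    have := ((hB 0).mul (hB 1)).mul (hB 2)
    rw [conj_mul, conj_mul, ← h.tr, ρt] at this
    exact (h.uniq h.tz (h.tm.mq z) (this.mq z)).1.symm
  let P : Fin 3 → Fin 3 → Prop := fun i l => ρ * r i * ρ⁻¹ = r l ∨ ρ * r i * ρ⁻¹ = r l * t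
  have symm : ∀ i l, P i l → P l i := by
    rintro i l (e | e)
    · exact .inl (by rw [← e, back])
    · right
      rw [← back (r i), e, ← conj_mul, ρt, mul_assoc _ t, h.t2, mul_one]
  have base : ∀ i l, P i l → π i = 1 := by
    rintro i l (e | e)
    · exact (h.uniq (σz i) ((hB i).mq z) (e ▸ (h.ra l).mq z)).1
    · exact (h.uniq (σz i) ((hB i).mq z) (e ▸ ((h.ra l).mul' h.tm).mq z)).1
  have ex : ∀ i, π i = 1 → ∃ l, P i l := fun i e => by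
    rcases YC.invol h.toMB (σ2 i) (e ▸ hB i) (hd i) with a | a | a
    · rw [conj_eq_one_iff] at a
      exact absurd (YC.mt_uniq h.toMB (a ▸ Mt.one κ)).symm (YC.sgn_ne.1 i)
    · have : r i = t := by rw [← back (r i), a, ρt]
      exact absurd (YC.mt_uniq h.toMB (this ▸ h.tm)) (YC.sgn_ne.2.1 i)
    · exact a
  have fn : ∀ i l l', P i l → P i l' → l = l' := by
    rintro i l l' (e | e) (e' | e')
    · exact h.r_inj (e.symm.trans e')
    · exact absurd (YC.mt_uniq h.toMB ((e.symm.trans e') ▸ (h.ra l').mul' h.tm)) (YC.sgn_ne.2.2 _ _)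
    · exact absurd (YC.mt_uniq h.toMB ((e'.symm.trans e) ▸ (h.ra l).mul' h.tm)) (YC.sgn_ne.2.2 _ _)
    · exact h.r_inj (mul_right_cancel (e.symm.trans e'))
  obtain ⟨l, hl⟩ : ∃ l, P l l := by
    rcases YC.perms π p2 p3 with a | ⟨i, a, a'⟩
    · choose p hp using fun i => ex i (a i)
      obtain ⟨i, e⟩ := (by decide : ∀ p : Fin 3 → Fin 3, (∀ i, p (p i) = i) → ∃ i, p i = i) p
        fun i => fn _ _ _ (hp (p i)) (symm _ _ (hp i))
      exact ⟨i, by simpa only [e] using hp i⟩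
    · obtain ⟨l, hl⟩ := ex i a
      obtain rfl := a' l (base _ _ (symm _ _ hl))
      exact ⟨l, hl⟩
  exact ⟨l, mul_inv_eq_iff_eq_mul.1 (hl.resolve_right (YC.excl h h' m b l))⟩

end CL.F3
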