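/-
The 3-local recognition of `PSL₄(3)`: the model and the interfaces between the parts.
-/
import Cfsg.Agent.Cls.SLnCard
import Cfsg.Agent.Rec.Gen3
import Cfsg.Agent.Rec.Gen2
import Cfsg.Agent.Grp.Coprime2
import Cfsg.Agent.Fus.XsA
import Cfsg.Prelude.Def_Transfer

set_option autoImplicit false
set_option maxRecDepth 100000

open Subgroup Cfsg Matrix

namespace CL.L3L

universe v

abbrev F := ZMod 3
abbrev M := SpecialLinearGroup (Fin 4) F
abbrev PM := ProjectiveSpecialLinearGroup (Fin 4) F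
abbrev SL3 := SpecialLinearGroup (Fin 3) F
abbrev SL2 := SpecialLinearGroup (Fin 2) F

instance : Fact (Even (Fintype.card (Fin 4))) := ⟨by decide⟩

/-! ### codes of matrices (for `decide +kernel`) -/

def dg (n k : ℕ) : ℕ := n / 4 ^ k % 4
def en (a b i j : ℕ) : ℕ := (dg a i * dg b j + dg a (i + 1) * dg b (j + 4) + dg a (i + 2) * dg b (j + 8) +
  dg a (i + 3) * dg b (j + 12)) % 3
def pkL : List ℕ → ℕ
  | [] => 0
  | x :: l => x + 4 * pkL l
def pk (f : ℕ → ℕ → ℕ) : ℕ := pkL [f 0 0, f 0 1, f 0 2, f 0 3, f 4 0, f 4 1, f 4 2, f 4 3, f 8 0, f 8 1, f 8 2, f 8 3,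
  f 12 0, f 12 1, f 12 2, f 12 3]
/-- the product of codes -/
def mm (a b : ℕ) : ℕ := pk (en a b)
/-- the code of a matrix -/
def cd (m : M) : ℕ := pk fun i j => (m.1 (Fin.ofNat 4 (i / 4)) (Fin.ofNat 4 j)).val

theorem dg_pkL : ∀ (l : List ℕ) (k : ℕ), (∀ x ∈ l, x < 3) → dg (pkL l) k = l.getD k 0
  | [], k, _ => by simp [dg, pkL]
  | x :: l, 0, h => by have := h x (by simp); simp only [dg, pkL, List.getD_cons_zero]; omega
  | x :: l, k + 1, h => by
    have := h x (by simp)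
    rw [List.getD_cons_succ, ← dg_pkL l k fun y hy => h y (by simp [hy]), dg, dg, pkL, pow_succ',
      ← Nat.div_div_eq_div_mul, show (x + 4 * pkL l) / 4 = pkL l by omega]

theorem dg_pk {f : ℕ → ℕ → ℕ} (h : ∀ i j, f i j < 3) (i j : Fin 4) : dg (pk f) (4 * i + j) = f (4 * i) j := by
  rw [pk, dg_pkL _ _ (by simp [h])]
  fin_cases i <;> fin_cases j <;> rfl

theorem dg_cd (m : M) (i j : Fin 4) : dg (cd m) (4 * i + j) = (m.1 i j).val := by
  rw [cd, dg_pk fun _ _ => ZMod.val_lt _]; congr 2; all_goals exact Fin.ext (by simp)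

theorem cd_inj {m n : M} : cd m = cd n ↔ m = n :=
  ⟨fun h => Subtype.ext (Matrix.ext fun i j => ZMod.val_injective 3 (by rw [← dg_cd, h, dg_cd])), congrArg cd⟩

theorem val_mul (m n : M) : (m * n).1 = m.1 * n.1 := rfl

theorem en_cd (m n : M) (i j : Fin 4) : en (cd m) (cd n) (4 * i) j = ((m * n).1 i j).val := by
  have h0 := dg_cd m i 0; have h1 := dg_cd m i 1; have h2 := dg_cd m i 2; have h3 := dg_cd m i 3
  have k0 := dg_cd n 0 j; have k1 := dg_cd n 1 j; have k2 := dg_cd n 2 j; have k3 := dg_cd n 3 j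
  simp only [Fin.val_zero, Fin.val_one, Fin.val_two, add_zero, mul_zero, mul_one,
    show ((3 : Fin 4) : ℕ) = 3 from rfl, add_comm _ (j : ℕ), Nat.reduceMul] at *
  rw [en, h0, h1, h2, h3, k0, k1, k2, k3, val_mul, Matrix.mul_apply, Fin.sum_univ_four]
  simp only [ZMod.val_add, ZMod.val_mul, Nat.add_mod_mod, Nat.mod_add_mod]

theorem pk_congr {f g : ℕ → ℕ → ℕ} (h : ∀ i j : Fin 4, f (4 * i) j = g (4 * i) j) : pk f = pk g := by
  have k : ∀ i < 4, ∀ j < 4, f (4 * i) j = g (4 * i) j := fun i hi j hj => h ⟨i, hi⟩ ⟨j, hj⟩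
  simp only [Nat.forall_lt_succ_right, Nat.not_lt_zero, false_imp_iff, implies_true, true_and, Nat.reduceMul] at k
  exact congrArg pkL (by simp only [k])

theorem cd_mul (m n : M) : cd (m * n) = mm (cd m) (cd n) :=
  pk_congr fun i j => by rw [en_cd]; congr 2; all_goals exact Fin.ext (by simp)

/-! ### the model -/

/-- unitriangular matrices: `a = x₁₂, b = x₂₃, c = x₃₄, d = x₁₃, e = x₂₄, z = x₁₄` -/
def u (a b c d e z : F) : M := ⟨!![1, a, d, z; 0, 1, b, e; 0, 0, 1, c; 0, 0, 0, 1], by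
  simp [det_succ_column_zero, Fin.sum_univ_succ]⟩

/-- elementary transvections, indices `0..3` -/
def tv (i j : Fin 4) (c : F := 1) (h : i ≠ j := by decide) : M := SpecialLinearGroup.transvection h c

/-- the affine group `3³ : SL₃(3)`: last row `(0, 0, 0, 1)` -/
def A : Subgroup M where
  carrier := {m | ∀ j, m.1 3 j = (1 : Matrix (Fin 4) (Fin 4) F) 3 j}
  one_mem' _ := rfl
  mul_mem' {m n} hm hn j := by
    rw [val_mul, Matrix.mul_apply]; simp only [hm _]; rw [← Matrix.mul_apply, one_mul, hn]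
  inv_mem' {m} hm j := by
    have : (m * m⁻¹).1 3 j = (1 : Matrix (Fin 4) (Fin 4) F) 3 j := by rw [mul_inv_cancel]; rfl
    rw [val_mul, Matrix.mul_apply] at this
    simp only [hm _] at this; rwa [← Matrix.mul_apply, one_mul] at this

theorem mem_A {m : M} : m ∈ A ↔ m.1 3 0 = 0 ∧ m.1 3 1 = 0 ∧ m.1 3 2 = 0 ∧ m.1 3 3 = 1 :=
  ⟨fun h => ⟨h 0, h 1, h 2, h 3⟩, fun h j => by fin_cases j; exacts [h.1, h.2.1, h.2.2.1, h.2.2.2]⟩

instance : DecidablePred (· ∈ A) := fun _ => decidable_of_iff _ mem_A.symm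

/-- unitriangular matrices as elements of `A` -/
def ua (a b c d e z : F) : A := ⟨u a b c d e z, mem_A.2 ⟨rfl, rfl, rfl, rfl⟩⟩

theorem ua_mul (a b c d e z a' b' c' d' e' z' : F) : ua a b c d e z * ua a' b' c' d' e' z' =
    ua (a + a') (b + b') (c + c') (d + d' + a * b') (e + e' + b * c') (z + z' + a * e' + d * c') := by
  refine Subtype.ext (Subtype.ext ?_)
  refine (Matrix.ext fun i j => ?_ : (u a b c d e z).1 * (u a' b' c' d' e' z').1 = _)
  fin_cases i <;> fin_cases j <;> simp [ua, u, Matrix.mul_apply, Fin.sum_univ_four] <;> ring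

theorem ua_zero : ua 0 0 0 0 0 0 = 1 := Subtype.ext (cd_inj.1 (by decide +kernel))

theorem ua_inj {a b c d e z a' b' c' d' e' z' : F} : ua a b c d e z = ua a' b' c' d' e' z' ↔
    a = a' ∧ b = b' ∧ c = c' ∧ d = d' ∧ e = e' ∧ z = z' :=
  ⟨fun h => have k := fun i j => congrArg (fun m : A => m.1.1 i j) h
    ⟨k 0 1, k 1 2, k 2 3, k 0 2, k 1 3, k 0 3⟩, by rintro ⟨rfl, rfl, rfl, rfl, rfl, rfl⟩; rfl⟩

theorem ua_inv (a b c d e z : F) : (ua a b c d e z)⁻¹ =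
    ua (-a) (-b) (-c) (a * b - d) (b * c - e) (a * e + d * c - a * b * c - z) :=
  inv_eq_of_mul_eq_one_right (by rw [ua_mul, ← ua_zero, ua_inj]; refine ⟨?_, ?_, ?_, ?_, ?_, ?_⟩ <;> ring)

theorem ua_eq_one {a b c d e z : F} : ua a b c d e z = 1 ↔ a = 0 ∧ b = 0 ∧ c = 0 ∧ d = 0 ∧ e = 0 ∧ z = 0 := by
  rw [← ua_zero, ua_inj]

/-- subgroups of the unitriangular group given by linear conditions on `(a, b, c, d, e)` -/
def sb (p : F → F → F → F → F → Prop) (h0 : p 0 0 0 0 0 := by simp)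
    (hm : ∀ a b c d e a' b' c' d' e', p a b c d e → p a' b' c' d' e' →
      p (a + a') (b + b') (c + c') (d + d' + a * b') (e + e' + b * c') := by simp +contextual) : Subgroup A :=
  let N : Submonoid A := ⟨⟨{m | ∃ a b c d e z, p a b c d e ∧ m = ua a b c d e z}, by
    rintro _ _ ⟨a, b, c, d, e, z, h, rfl⟩ ⟨a', b', c', d', e', z', h', rfl⟩
    exact ⟨_, _, _, _, _, _, hm _ _ _ _ _ _ _ _ _ _ h h', ua_mul ..⟩⟩, ⟨0, 0, 0, 0, 0, 0, h0, ua_zero.symm⟩⟩
  ⟨N, fun {m} h => Submonoid.powers_le.2 h (mem_powers_iff_mem_zpowers.2 (inv_mem (mem_zpowers m)))⟩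

theorem mem_sb {p : F → F → F → F → F → Prop} {h0 hm} {m : A} :
    m ∈ sb p h0 hm ↔ ∃ a b c d e z, p a b c d e ∧ m = ua a b c d e z := Iff.rfl

def S0 : Subgroup A := sb fun _ _ _ _ _ => True
def Q0 : Subgroup A := sb fun _ b _ _ _ => b = 0
def J0 : Subgroup A := sb fun a _ c _ _ => a = 0 ∧ c = 0
def E0 : Subgroup A := sb fun a b _ d _ => a = 0 ∧ b = 0 ∧ d = 0
def W0 : Subgroup A := sb fun a b c d _ => a = 0 ∧ b = 0 ∧ c = 0 ∧ d = 0

theorem mem_S0 {m : A} : m ∈ S0 ↔ ∃ a b c d e z, m = ua a b c d e z := by simp [S0, mem_sb]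
theorem mem_Q0 {m : A} : m ∈ Q0 ↔ ∃ a c d e z, m = ua a 0 c d e z := by simp [Q0, mem_sb]
theorem mem_J0 {m : A} : m ∈ J0 ↔ ∃ b d e z, m = ua 0 b 0 d e z := by simp [J0, mem_sb]
theorem mem_E0 {m : A} : m ∈ E0 ↔ ∃ c e z, m = ua 0 0 c 0 e z := by simp [E0, mem_sb]
theorem mem_W0 {m : A} : m ∈ W0 ↔ ∃ e z, m = ua 0 0 0 0 e z := by simp [W0, mem_sb]

def z0 : A := ua 0 0 0 0 0 1
def x12 : A := ua 1 0 0 0 0 0
def x23 : A := ua 0 1 0 0 0 0
def x34 : A := ua 0 0 1 0 0 0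
def x13 : A := ua 0 0 0 1 0 0
def x24 : A := ua 0 0 0 0 1 0
/-- the non-singular vectors of `J0` (`c = ± 1`) -/
def yy (c : F) : A := ua 0 0 0 1 c 0
/-- `diag (-1, -1, 1, 1)` -/
def t1 : M := ⟨diagonal ![-1, -1, 1, 1], by simp [Fin.prod_univ_succ]⟩

/-- the affine map with linear part `B` and translation part `w` -/
def af (B : SL3) (w : Fin 3 → F) : A := ⟨⟨!![B.1 0 0, B.1 0 1, B.1 0 2, w 0; B.1 1 0, B.1 1 1, B.1 1 2, w 1;
    B.1 2 0, B.1 2 1, B.1 2 2, w 2; 0, 0, 0, 1], by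
  have := B.2
  rw [det_fin_three] at this
  simp [det_succ_row _ 3, Fin.sum_univ_succ, Fin.succAbove]
  linear_combination this⟩, mem_A.2 ⟨rfl, rfl, rfl, rfl⟩⟩

theorem af_mul (B B' : SL3) (w w' : Fin 3 → F) : af B w * af B' w' = af (B * B') (B.1 *ᵥ w' + w) := by
  refine Subtype.ext (Subtype.ext ?_)
  have e : (B * B').1 = B.1 * B'.1 := rfl
  refine (Matrix.ext fun i j => ?_ : (af B w).1.1 * (af B' w').1.1 = _)
  fin_cases i <;> fin_cases j <;>
    simp [af, e, Matrix.mul_apply, Fin.sum_univ_four, Fin.sum_univ_three, mulVec, dotProduct]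

theorem af_inj {B B' : SL3} {w w' : Fin 3 → F} : af B w = af B' w' ↔ B = B' ∧ w = w' := by
  refine ⟨fun h => ?_, by rintro ⟨rfl, rfl⟩; rfl⟩
  have k := fun i j => congrArg (fun m : A => m.1.1 i j) h
  refine ⟨Subtype.ext (Matrix.ext fun i j => ?_), funext fun i => ?_⟩
  · have := k i.castSucc j.castSucc
    fin_cases i <;> fin_cases j <;> exact this
  · have := k i.castSucc 3
    fin_cases i <;> exact this

theorem af_surj (m : A) : ∃ B w, m = af B w := by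
  obtain ⟨h0, h1, h2, h3⟩ := mem_A.1 m.2
  have hd := m.1.2
  refine ⟨⟨Matrix.of fun i j => m.1.1 i.castSucc j.castSucc, ?_⟩, fun i => m.1.1 i.castSucc 3,
    Subtype.ext (Subtype.ext (Matrix.ext fun i j => ?_))⟩
  · simp [det_succ_row _ 3, Fin.sum_univ_succ, Fin.succAbove, h0, h1, h2, h3] at hd
    rw [det_fin_three]; simp; linear_combination hd
  · fin_cases i <;> fin_cases j <;> simp [af, h0, h1, h2, h3]

theorem af_one (w : Fin 3 → F) : af 1 w = ua 0 0 (w 2) 0 (w 1) (w 0) := by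
  refine Subtype.ext (Subtype.ext (Matrix.ext fun i j => ?_))
  fin_cases i <;> fin_cases j <;> rfl

theorem card_SL3 : Nat.card SL3 = 5616 := by rw [CL.SLn.card_SL_three, ZMod.card]; norm_num
theorem card_M : Nat.card M = 12130560 := by rw [CL.SLn.card_SL_four, ZMod.card]; norm_num
theorem card_PM : Nat.card PM = 6065280 := by
  have := CL.SLn.card_PSL_mul (ι := Fin 4) (F := F)
  rw [card_M, ZMod.card, Fintype.card_fin, show Nat.gcd 4 (3 - 1) = 2 by norm_num] at this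
  exact Nat.eq_of_mul_eq_mul_left two_pos this

theorem card_A : Nat.card A = 151632 := by
  rw [← Nat.card_congr (Equiv.ofBijective (fun p : SL3 × (Fin 3 → F) => af p.1 p.2)
    ⟨fun p q h => Prod.ext (af_inj.1 h).1 (af_inj.1 h).2, fun m => let ⟨B, w, h⟩ := af_surj m; ⟨(B, w), h.symm⟩⟩),
    Nat.card_prod, card_SL3]
  simp

variable {G : Type v} [Group G]

/-- `G` contains the affine group with the centraliser of `z0`; conjugates of `z0` in `Q0` have an abelian normal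
closure in `C(z0)`. -/
structure Hy (φ : A →* G) : Prop where
  inj : Function.Injective φ
  cz : centralizer {φ z0} ≤ φ.range
  ab : ∀ w ∈ Q0, IsConj (φ z0) (φ w) → ∀ k : A, Commute k z0 → Commute w (k * w * k⁻¹)

/-- `G` contains `PSL₄(3)` with the centraliser of `z0`. -/
structure HyI (Φ : M →* G) : Prop where
  ker : ∀ m, Φ m = 1 ↔ m = 1 ∨ m = -1
  hy : Hy (Φ.comp A.subtype)

/-- the structure of `C = C(z)`: `Q` extraspecial of order `3 ^ 5` and exponent `3`, `C / Q = SL₂(3)`, and `-1`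
inverts `Q / ⟨z⟩`. -/
structure Bs (S Q : Subgroup G) (z : G) (π : centralizer ({z} : Set G) →* SL2) : Prop where
  xq : CL.Fus.Xs.XQ 3 S Q z
  card : Nat.card Q = 243
  ex : ∀ x ∈ Q, x ^ 3 = 1
  cQ : centralizer (Q : Set G) ≤ Q
  surj : Function.Surjective π
  ker : ∀ c, π c = 1 ↔ (c : G) ∈ Q
  inv : ∀ c, π c = -1 → ∀ x ∈ Q, c * x * (c : G)⁻¹ * x ∈ zpowers z

/-- the normal subgroup `E = Q ⊓ Q ^ g` of order `27` and a complement `T` of it in a Sylow `3`-subgroup -/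
structure En (Q E T : Subgroup G) (z e : G) : Prop where
  le : E ≤ Q
  zE : z ∈ E
  eE : e ∈ E
  card : Nat.card E = 27
  comm : ∀ x ∈ E, ∀ y ∈ E, Commute x y
  nz : centralizer {z} ≤ normalizer (E : Set G)
  ne : centralizer {e} ≤ normalizer (E : Set G)
  mv : ∃ q ∈ centralizer ({e} : Set G), q * z * q⁻¹ ∉ zpowers z
  TC : T ≤ centralizer {z}
  cardT : Nat.card T = 27
  disj : T ⊓ E = ⊥

/-- part T0a -/
def T0a : Prop := ∀ {G : Type v} [Group G] [Finite G]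
    (S : Sylow 3 G) (Z : Subgroup G) (_hZ : Z = (S : Subgroup G) ⊓ centralizer ((S : Subgroup G) : Set G))
    (C : Subgroup G) (_hCZ : C = centralizer (Z : Set G)) (Q : Subgroup G) (_hQ : Q = (pCore 3 C).map C.subtype)
    (_hQex : IsExtraspecial 3 Q) (_hQcard : Nat.card Q = 3 ^ 5) (_hQexp : ∀ a ∈ Q, a ^ 3 = 1)
    (_hCQ : centralizer (Q : Set G) ≤ Q) (K : Subgroup G)
    (_hK : K = ((pResidual 2 (C ⧸ pCore 3 C)).comap (QuotientGroup.mk' (pCore 3 C))).map C.subtype)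
    (r : ℕ) (B : Fin (r + 1) → Subgroup G) (_hA0 : B 0 = Z) (_hAr : B (Fin.last r) = Q)
    (_hmono : ∀ i : Fin r, B i.castSucc < B i.succ)
    (_hinv : ∀ i : Fin (r + 1), ∀ k ∈ K, ∀ a ∈ B i, k * a * k⁻¹ ∈ B i)
    (_hmax : ∀ i : Fin r, ∀ D : Subgroup G, B i.castSucc < D → D < B i.succ → ∃ k ∈ K, ∃ b ∈ D, k * b * k⁻¹ ∉ D)
    (_e : C ⧸ pCore 3 C ≃* SL2) (i j : Fin r) (_hij : i ≠ j)
    (_hi : ∃ k ∈ K, ∃ a ∈ B i.succ, k * a * k⁻¹ * a⁻¹ ∉ B i.castSucc)
    (_hj : ∃ k ∈ K, ∃ a ∈ B j.succ, k * a * k⁻¹ * a⁻¹ ∉ B j.castSucc),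
    ∃ z π, Z = zpowers z ∧ Bs (S : Subgroup G) Q z π

/-- part T0b -/
def T0b : Prop := ∀ {G : Type v} [Group G] [Finite G] {S Q : Subgroup G} {z : G}
    {π : centralizer ({z} : Set G) →* SL2}, Bs S Q z π → ∀ g : G, g * z * g⁻¹ ∈ Q → g * z * g⁻¹ ∉ zpowers z →
    ∃ E T, En Q E T z (g * z * g⁻¹)

/-- part T0c -/
def T0c : Prop := ∀ {G : Type v} [Group G] [Finite G] {S Q E T : Subgroup G} {z e : G}
    {π : centralizer ({z} : Set G) →* SL2}, Bs S Q z π → En Q E T z e →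
    ∃ φ : A →* G, Function.Injective φ ∧ φ z0 = z ∧ centralizer {z} ≤ φ.range ∧ ∀ w ∈ Q0, φ w ∈ Q

/-- part T5: the maximal parabolic subgroup -/
def Par : Prop := ∃ P : Subgroup PM, IsCoatom P ∧ Nat.card (pCore 3 P) = 27 ∧ Nonempty (P ⧸ pCore 3 P ≃* SL3) ∧
  Nonempty (A ≃* P)

/-- part T2 -/
def Build : Prop := ∀ {G : Type v} [Group G] [Finite G] {φ : A →* G}, Hy φ → IsConj (φ z0) (φ x13) →
  ∃ Φ : M →* G, HyI Φ

/-- part T3a -/
def CyI : Prop := ∀ {G : Type v} [Group G] [Finite G] {Φ : M →* G}, HyI Φ → ∀ c : F, c ≠ 0 →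
  centralizer {Φ (yy c)} ≤ Φ.range

/-- part T3b -/
def CtI : Prop := ∀ {G : Type v} [Group G] [Finite G] {Φ : M →* G}, HyI Φ →
  (∀ c : F, c ≠ 0 → centralizer {Φ (yy c)} ≤ Φ.range) → centralizer {Φ t1} ≤ Φ.range

/-- part T4 -/
def CaseII : Prop := ∀ {G : Type v} [Group G] [Finite G] {φ : A →* G}, Hy φ → ¬ IsConj (φ z0) (φ x13) →
  Function.Surjective φ

end CL.L3L
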