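/-
The 3-local recognition of `PSL₄(3)`: explicit facts on the affine group.
-/
import Cfsg.Agent.Rec.L3Defs

set_option autoImplicit false
set_option maxRecDepth 100000
set_option linter.unnecessarySeqFocus false

open Subgroup Cfsg Matrix CL.Grp

namespace CL.L3L

/-! ### a fast product of codes -/

def df (n k : ℕ) : ℕ := Nat.land (Nat.shiftRight n k) 3
def ef (a b i j : ℕ) : ℕ := Nat.mod (Nat.add (Nat.add (Nat.add (Nat.mul (df a i) (df b j))
  (Nat.mul (df a (Nat.add i 2)) (df b (Nat.add j 8)))) (Nat.mul (df a (Nat.add i 4)) (df b (Nat.add j 16))))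
  (Nat.mul (df a (Nat.add i 6)) (df b (Nat.add j 24)))) 3
def rf (a b i : ℕ) : ℕ := Nat.add (Nat.add (ef a b i 0) (Nat.mul 4 (ef a b i 2)))
  (Nat.add (Nat.mul 16 (ef a b i 4)) (Nat.mul 64 (ef a b i 6)))
/-- the product of codes (about 0.8 ms in the kernel) -/
def mf (a b : ℕ) : ℕ := Nat.add (Nat.add (rf a b 0) (Nat.mul 256 (rf a b 8)))
  (Nat.add (Nat.mul 65536 (rf a b 16)) (Nat.mul 16777216 (rf a b 24)))

theorem df_eq (n k : ℕ) : df n (2 * k) = dg n k := by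
  rw [dg, show 4 ^ k = 2 ^ (2 * k) by rw [pow_mul]; rfl, ← Nat.shiftRight_eq_div_pow]
  exact Nat.and_two_pow_sub_one_eq_mod _ 2

theorem ef_eq (a b i j : ℕ) : ef a b (2 * i) (2 * j) = en a b i j := by
  simp only [en, ← df_eq, mul_add]; rfl

theorem rf_eq (a b i : ℕ) : rf a b (2 * i) = en a b i 0 + 4 * en a b i 1 + (16 * en a b i 2 + 64 * en a b i 3) := by
  simp only [← ef_eq]; rfl

theorem mf_eq (a b : ℕ) : mf a b = mm a b := by
  have : mf a b = rf a b (2 * 0) + 256 * rf a b (2 * 4) + (65536 * rf a b (2 * 8) + 16777216 * rf a b (2 * 12)) := rfl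
  rw [this, rf_eq, rf_eq, rf_eq, rf_eq, mm, pk]
  generalize en a b = f
  simp only [pkL]
  ring

theorem cd_mul' (m n : M) : cd (m * n) = mf (cd m) (cd n) := by rw [mf_eq, cd_mul]
theorem cd_inj' {m n : M} : m = n ↔ cd m = cd n := cd_inj.symm
theorem cd_one : cd 1 = 1074791425 := by decide +kernel
theorem cd_neg_one : cd (-1) = 2149582850 := by decide +kernel

/-- the code of an element of `A` -/
def cA (a : A) : ℕ := cd a
theorem cA_inj {a b : A} : a = b ↔ cA a = cA b := Subtype.ext_iff.trans cd_inj.symm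
theorem cA_mul (a b : A) : cA (a * b) = mf (cA a) (cA b) := cd_mul' _ _

/-! ### letters and conjugation formulas -/

theorem cj {Γ : Type*} [Group Γ] (k : Γ) {w w' : Γ} (h : k * w = w' * k) : IsConj w w' :=
  isConj_iff.2 ⟨k, mul_inv_eq_of_eq_mul h⟩

def lo21 (j : F) : A := af ⟨!![1, 0, 0; j, 1, 0; 0, 0, 1], by simp [det_fin_three]⟩ 0
def lo32 (j : F) : A := af ⟨!![1, 0, 0; 0, 1, 0; 0, j, 1], by simp [det_fin_three]⟩ 0
/-- `diag (-1, 1, -1, 1)` -/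
def τ : A := af ⟨!![-1, 0, 0; 0, 1, 0; 0, 0, -1], by simp [det_fin_three]⟩ 0
/-- `diag (-1, -1, 1, 1)` -/
def t1a : A := af ⟨!![-1, 0, 0; 0, -1, 0; 0, 0, 1], by simp [det_fin_three]⟩ 0
def d2 : A := ua 1 1 0 0 0 0

theorem ext_mul {a b c d : A} (h : ∀ i j, (a.1.1 * b.1.1) i j = (c.1.1 * d.1.1) i j) : a * b = c * d :=
  Subtype.ext (Subtype.ext (Matrix.ext h))

theorem t1a_coe : (t1a : M) = t1 := cd_inj.1 (by decide +kernel)

theorem c21 (j b c d e z : F) : lo21 j * ua 0 b c d e z = ua 0 (b + j * d) c d (e + j * z) z * lo21 j :=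
  ext_mul fun i k => by
    fin_cases i <;> fin_cases k <;> simp [ua, u, lo21, af, Matrix.mul_apply, Fin.sum_univ_four] <;> ring

theorem c32 (j a c d e z : F) : lo32 j * ua a 0 c d e z = ua (a - j * d) 0 (c + j * e) d e z * lo32 j :=
  ext_mul fun i k => by
    fin_cases i <;> fin_cases k <;> simp [ua, u, lo32, af, Matrix.mul_apply, Fin.sum_univ_four] <;> ring

theorem cτ (a b c d e z : F) : τ * ua a b c d e z = ua (-a) (-b) (-c) d e (-z) * τ :=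
  ext_mul fun i k => by
    fin_cases i <;> fin_cases k <;> simp [ua, u, τ, af, Matrix.mul_apply, Fin.sum_univ_four]

theorem ct1 (a b c d e z : F) : t1a * ua a b c d e z = ua a (-b) c (-d) (-e) (-z) * t1a :=
  ext_mul fun i k => by
    fin_cases i <;> fin_cases k <;> simp [ua, u, t1a, af, Matrix.mul_apply, Fin.sum_univ_four]

theorem ττ : τ * τ = 1 := cA_inj.2 (by rw [cA_mul]; decide +kernel)
theorem t1a_sq : t1a * t1a = 1 := cA_inj.2 (by rw [cA_mul]; decide +kernel)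
theorem τ_ne : τ ≠ 1 := fun h => absurd (cA_inj.1 h) (by decide +kernel)

theorem ua_cube (a b c d e z : F) : ua a b c d e z ^ 3 = ua 0 0 0 0 0 (a * b * c) := by
  have h3 : (3 : F) = 0 := rfl
  simp only [pow_succ, pow_zero, one_mul, ua_mul, ua_inj]
  refine ⟨?_, ?_, ?_, ?_, ?_, ?_⟩
  exacts [by linear_combination a * h3, by linear_combination b * h3, by linear_combination c * h3,
    by linear_combination (d + a * b) * h3, by linear_combination (e + b * c) * h3,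
    by linear_combination (z + a * e + d * c) * h3]

theorem ua_comm {a b c d e z a' b' c' d' e' z' : F} : Commute (ua a b c d e z) (ua a' b' c' d' e' z') ↔
    a * b' = a' * b ∧ b * c' = b' * c ∧ a * e' + d * c' = a' * e + d' * c := by
  rw [Commute, SemiconjBy, ua_mul, ua_mul, ua_inj]
  exact ⟨fun h => ⟨by linear_combination h.2.2.2.1, by linear_combination h.2.2.2.2.1,
    by linear_combination h.2.2.2.2.2⟩, fun h => ⟨add_comm _ _, add_comm _ _, add_comm _ _,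
    by linear_combination h.1, by linear_combination h.2.1, by linear_combination h.2.2⟩⟩

theorem ua_conj (a b c d e z a' b' c' d' e' z' : F) : ua a b c d e z * ua a' b' c' d' e' z' * (ua a b c d e z)⁻¹ =
    ua a' b' c' (d' + a * b' - a' * b) (e' + b * c' - b' * c)
      (z' + a * e' + d * c' - a' * e - d' * c - a * b' * c + a' * b * c) := by
  rw [ua_inv, ua_mul, ua_mul, ua_inj]
  refine ⟨?_, ?_, ?_, ?_, ?_, ?_⟩ <;> ring

theorem ua_mem_S0 (a b c d e z : F) : ua a b c d e z ∈ S0 := mem_S0.2 ⟨_, _, _, _, _, _, rfl⟩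
theorem ua_mem_Q0 {a b c d e z : F} : ua a b c d e z ∈ Q0 ↔ b = 0 := by simp [mem_Q0, ua_inj]
theorem ua_mem_J0 {a b c d e z : F} : ua a b c d e z ∈ J0 ↔ a = 0 ∧ c = 0 := by simp [mem_J0, ua_inj]
theorem ua_mem_E0 {a b c d e z : F} : ua a b c d e z ∈ E0 ↔ a = 0 ∧ b = 0 ∧ d = 0 := by simp [mem_E0, ua_inj]
theorem ua_mem_W0 {a b c d e z : F} : ua a b c d e z ∈ W0 ↔ a = 0 ∧ b = 0 ∧ c = 0 ∧ d = 0 := by
  simp [mem_W0, ua_inj]

theorem J0_le : J0 ≤ S0 := fun _ h => by obtain ⟨b, d, e, z, rfl⟩ := mem_J0.1 h; exact ua_mem_S0 ..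
theorem E0_le : E0 ≤ S0 := fun _ h => by obtain ⟨c, e, z, rfl⟩ := mem_E0.1 h; exact ua_mem_S0 ..
theorem W0_le_E0 : W0 ≤ E0 := fun _ h => by obtain ⟨e, z, rfl⟩ := mem_W0.1 h; simp [ua_mem_E0]
theorem W0_le_J0 : W0 ≤ J0 := fun _ h => by obtain ⟨e, z, rfl⟩ := mem_W0.1 h; simp [ua_mem_J0]
theorem z0_E0 : z0 ∈ E0 := by simp [z0, ua_mem_E0]
theorem z0_J0 : z0 ∈ J0 := by simp [z0, ua_mem_J0]
theorem z0_ne : z0 ≠ 1 := by simp [z0, ua_eq_one]
theorem J0_comm {i j : A} (hi : i ∈ J0) (hj : j ∈ J0) : Commute i j := by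
  obtain ⟨b, d, e, z, rfl⟩ := mem_J0.1 hi
  obtain ⟨b', d', e', z', rfl⟩ := mem_J0.1 hj
  simp [ua_comm]
theorem J0_cube {j : A} (hj : j ∈ J0) : j ^ 3 = 1 := by
  obtain ⟨b, d, e, z, rfl⟩ := mem_J0.1 hj
  simp [ua_cube, ua_zero]
theorem S0_z0 {s : A} (hs : s ∈ S0) : Commute s z0 := by
  obtain ⟨a, b, c, d, e, z, rfl⟩ := mem_S0.1 hs
  simp [z0, ua_comm]
theorem S0_nine {s : A} (hs : s ∈ S0) : s ^ 3 ^ 2 = 1 := by
  obtain ⟨a, b, c, d, e, z, rfl⟩ := mem_S0.1 hs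
  rw [sq, pow_mul, ua_cube, ua_cube]; simp [ua_zero]
theorem S0_three : IsPGroup 3 S0 := fun s => ⟨2, Subtype.ext (S0_nine s.2)⟩

theorem mem_zpowers_z0 {w : A} : w ∈ zpowers z0 ↔ ∃ z, w = ua 0 0 0 0 0 z := by
  have h : ∀ n : ℕ, z0 ^ n = ua 0 0 0 0 0 n := fun n => by
    induction n with
    | zero => simp [ua_zero]
    | succ n ih => rw [pow_succ, ih, z0, ua_mul]; simp
  rw [← mem_powers_iff_mem_zpowers]
  exact ⟨fun ⟨n, e⟩ => ⟨n, by rw [← e, ← h]⟩, fun ⟨z, e⟩ => ⟨z.val, by rw [e]; simp [h]⟩⟩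

theorem card_S0 : Nat.card S0 = 729 := by
  rw [← Nat.card_congr (Equiv.ofBijective (fun p : F × F × F × F × F × F =>
    (⟨ua p.1 p.2.1 p.2.2.1 p.2.2.2.1 p.2.2.2.2.1 p.2.2.2.2.2, ua_mem_S0 ..⟩ : S0))
    ⟨fun p q h => by simpa [ua_inj, Prod.ext_iff] using h,
      fun m => let ⟨a, b, c, d, e, z, h⟩ := mem_S0.1 m.2; ⟨(a, b, c, d, e, z), Subtype.ext h.symm⟩⟩)]
  simp

theorem card_J0 : Nat.card J0 = 81 := by
  rw [← Nat.card_congr (Equiv.ofBijective (fun p : F × F × F × F =>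
    (⟨ua 0 p.1 0 p.2.1 p.2.2.1 p.2.2.2, by simp [ua_mem_J0]⟩ : J0))
    ⟨fun p q h => by simpa [ua_inj, Prod.ext_iff] using h,
      fun m => let ⟨b, d, e, z, h⟩ := mem_J0.1 m.2; ⟨(b, d, e, z), Subtype.ext h.symm⟩⟩)]
  simp

theorem S0_sylow : IsSylowIn 3 S0 ⊤ := by
  refine ⟨le_top, S0_three, ?_⟩
  have := S0.card_mul_index
  rw [card_S0, card_A] at this
  rw [relIndex_top_right, show S0.index = 208 by omega]; decide

theorem center_S0 {w : A} (hw : w ∈ S0) (h : ∀ s ∈ S0, Commute s w) : w ∈ zpowers z0 := by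
  obtain ⟨a, b, c, d, e, z, rfl⟩ := mem_S0.1 hw
  have h1 := ua_comm.1 (h x12 (ua_mem_S0 ..))
  have h2 := ua_comm.1 (h x23 (ua_mem_S0 ..))
  have h3 := ua_comm.1 (h x34 (ua_mem_S0 ..))
  simp only [mul_zero, zero_mul, one_mul, mul_one, add_zero, zero_add] at h1 h2 h3
  exact mem_zpowers_z0.2 ⟨z, by rw [h1.1, h1.2.2, h2.2.1, ← h2.1, ← h3.2.2]⟩

/-! ### the translations -/

theorem af_one' (c e z : F) : ua 0 0 c 0 e z = af 1 ![z, e, c] := (af_one ![z, e, c]).symm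

theorem af_conj (B : SL3) (v w : Fin 3 → F) : af B v * af 1 w = af 1 (B.1 *ᵥ w) * af B v := by
  rw [af_mul, af_mul, af_inj]; simp [add_comm]

theorem mem_E0' {w : A} : w ∈ E0 ↔ ∃ v, w = af 1 v :=
  mem_E0.trans ⟨fun ⟨_, _, _, h⟩ => ⟨_, h.trans (af_one' ..)⟩, fun ⟨v, h⟩ => ⟨_, _, _, h.trans (af_one v)⟩⟩

instance E0_normal : E0.Normal := ⟨fun w hw k => by
  obtain ⟨v, rfl⟩ := mem_E0'.1 hw
  obtain ⟨B, x, rfl⟩ := af_surj k
  exact mem_E0'.2 ⟨_, mul_inv_eq_of_eq_mul (af_conj ..)⟩⟩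

theorem clsE {w : A} (hw : w ∈ E0) (h1 : w ≠ 1) : IsConj z0 w := by
  obtain ⟨c, e, z, rfl⟩ := mem_E0.1 hw
  obtain ⟨p, q, r, s, t, v, h⟩ := (by decide : ∀ c e z : F, ¬ (c = 0 ∧ e = 0 ∧ z = 0) → ∃ p q r s t v : F,
    z * r * v - z * s * t - p * e * v + p * s * c + q * e * t - q * r * c = 1) c e z (by simpa [ua_eq_one] using h1)
  refine cj (af ⟨!![z, p, q; e, r, s; c, t, v], by rw [det_fin_three]; simpa using h⟩ 0) ?_
  rw [z0, af_one', af_one']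
  refine (af_conj ..).trans ?_
  congr 2
  ext i; fin_cases i <;> simp [mulVec, dotProduct, Fin.sum_univ_three]

theorem fix_of_comm {B : SL3} {v w : Fin 3 → F} (h : Commute (af B v) (af 1 w)) : B.1 *ᵥ w = w := by
  have := h.eq
  rw [af_conj, mul_left_inj, af_inj] at this
  exact this.2

theorem eq_ua {m : A} (h0 : m.1.1 0 0 = 1) (h1 : m.1.1 1 1 = 1) (h2 : m.1.1 2 2 = 1) (h3 : m.1.1 1 0 = 0)
    (h4 : m.1.1 2 0 = 0) (h5 : m.1.1 2 1 = 0) :
    m = ua (m.1.1 0 1) (m.1.1 1 2) (m.1.1 2 3) (m.1.1 0 2) (m.1.1 1 3) (m.1.1 0 3) := by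
  obtain ⟨k0, k1, k2, k3⟩ := mem_A.1 m.2
  refine Subtype.ext (Subtype.ext (Matrix.ext fun i j => ?_))
  fin_cases i <;> fin_cases j <;> simp [ua, u, *]

theorem det3 (m : A) : m.1.1 0 0 * (m.1.1 1 1 * m.1.1 2 2 - m.1.1 1 2 * m.1.1 2 1) -
    m.1.1 0 1 * (m.1.1 1 0 * m.1.1 2 2 - m.1.1 1 2 * m.1.1 2 0) +
    m.1.1 0 2 * (m.1.1 1 0 * m.1.1 2 1 - m.1.1 1 1 * m.1.1 2 0) = 1 := by
  obtain ⟨B, w, rfl⟩ := af_surj m
  have := B.2
  rw [det_fin_three] at this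
  simp [af]; linear_combination this

theorem ent {a b : A} (h : Commute a b) (i j : Fin 4) : (a.1.1 * b.1.1) i j = (b.1.1 * a.1.1) i j :=
  congrArg (fun m : A => m.1.1 i j) h.eq

/-- the centraliser of `W0` -/
theorem cent_W {m : A} (h1 : Commute m z0) (h2 : Commute m x24) : ∃ b c d e z, m = ua 0 b c d e z := by
  obtain ⟨k0, k1, k2, k3⟩ := mem_A.1 m.2
  have a0 := ent h1 0 3; have a1 := ent h1 1 3; have a2 := ent h1 2 3
  have b0 := ent h2 0 3; have b1 := ent h2 1 3; have b2 := ent h2 2 3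
  have d := det3 m
  simp [z0, x24, ua, u, Matrix.mul_apply, Fin.sum_univ_four, k3] at a0 a1 a2 b0 b1 b2
  have a0' : m.1.1 0 0 = 1 := by linear_combination a0
  have b1' : m.1.1 1 1 = 1 := by linear_combination b1
  simp only [a0', a1, a2, b0, b1', b2] at d
  exact ⟨_, _, _, _, _, b0 ▸ eq_ua a0' b1' (by linear_combination d) a1 a2 b2⟩

/-- the centraliser of `yy c` (`yy 0 = x13`) -/
theorem cent_yy {c : F} {m : A} (h : Commute m (yy c)) :
    ∃ a b d e z, m = ua a b (a * c) d e z ∨ m = ua a b (a * c) d e z * τ := by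
  have key : ∀ m : A, Commute m (yy c) → m.1.1 0 0 = 1 → ∃ a b d e z, m = ua a b (a * c) d e z := fun m h h0 => by
    obtain ⟨k0, k1, k2, k3⟩ := mem_A.1 m.2
    have a0 := ent h 0 0; have a1 := ent h 0 1; have a2 := ent h 0 2; have a3 := ent h 1 2
    have d := det3 m
    simp [yy, ua, u, Matrix.mul_apply, Fin.sum_univ_four, k2, h0] at a0 a1 a2 a3
    have a2' : m.1.1 2 2 = 1 := by linear_combination -a2
    simp only [a0, a1, a2', a3, h0] at d
    have e := eq_ua h0 (by linear_combination d) a2' a3 a0 a1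
    rw [e, yy, ua_comm] at h
    exact ⟨_, _, _, _, _, e.trans (by rw [show m.1.1 2 3 = m.1.1 0 1 * c by linear_combination -h.2.2])⟩
  have hτ : Commute τ (yy c) := by rw [Commute, SemiconjBy, yy, cτ]; simp
  rcases (by decide : ∀ x : F, x = 0 ∨ x = 1 ∨ x = -1) (m.1.1 0 0) with h0 | h0 | h0
  · obtain ⟨k0, k1, k2, k3⟩ := mem_A.1 m.2
    have a0 := ent h 0 0; have a3 := ent h 1 2
    have d := det3 m
    simp [yy, ua, u, Matrix.mul_apply, Fin.sum_univ_four, k0, k2] at a0 a3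
    rw [a0, a3, h0] at d
    simp at d
  · obtain ⟨a, b, d, e, z, k⟩ := key m h h0
    exact ⟨a, b, d, e, z, .inl k⟩
  · obtain ⟨a, b, d, e, z, k⟩ := key (m * τ) (h.mul_left hτ) (by
      change (m.1.1 * τ.1.1) 0 0 = 1
      simp [τ, af, Matrix.mul_apply, Fin.sum_univ_four, h0])
    exact ⟨a, b, d, e, z, .inr (by rw [← k, mul_assoc, ττ, mul_one])⟩

/-! ### classes of elements of order three -/

/-- `w` is conjugate to an element of `Q0` whose normal closure in `C(z0)` is not abelian -/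
def Bad (w : A) : Prop := ∃ w' ∈ Q0, IsConj w w' ∧ ∃ k : A, Commute k z0 ∧ ¬ Commute w' (k * w' * k⁻¹)

theorem Bad.conj {w w' : A} (h : Bad w') (e : IsConj w w') : Bad w :=
  let ⟨x, hx, h1, h2⟩ := h; ⟨x, hx, e.trans h1, h2⟩

theorem lo32_z0 (j : F) : Commute (lo32 j) z0 := by rw [Commute, SemiconjBy, z0, c32]; simp

theorem badQ {a c d e z : F} (h1 : a ≠ 0 ∨ d ≠ 0) (h2 : e ≠ 0 ∨ c ≠ 0) : Bad (ua a 0 c d e z) := by
  obtain ⟨i, j, h⟩ := (by decide : ∀ a c d e : F, a ≠ 0 ∨ d ≠ 0 → e ≠ 0 ∨ c ≠ 0 → ∃ i j : F,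
    a * (e + i * c) + d * (c + j * (e + i * c)) ≠ (a - j * (d - a * i)) * e + (d - a * i) * c) a c d e h1 h2
  refine ⟨_, ua_mem_Q0.2 rfl, IsConj.refl _, lo32 j * ua 0 i 0 0 0 0, (lo32_z0 j).mul_left (S0_z0 (ua_mem_S0 ..)),
    fun k => h ?_⟩
  rw [_root_.mul_inv_rev, mul_assoc, mul_assoc, ← mul_assoc _ _ (lo32 j)⁻¹, ← mul_assoc (ua 0 i 0 0 0 0),
    ← mul_assoc (ua 0 i 0 0 0 0), ua_conj, ← mul_assoc, c32, mul_inv_cancel_right, ua_comm] at k
  linear_combination k.2.2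

theorem clsT {a d z : F} (h : a ≠ 0 ∨ d ≠ 0) : IsConj x13 (ua a 0 0 d 0 z) := by
  obtain ⟨i, j, k, l, h1, h2, h3⟩ := (by decide : ∀ a d z : F, a ≠ 0 ∨ d ≠ 0 → ∃ i j k l : F,
    a - j * d - k * (d - (a - j * d) * i) = 0 ∧ d - (a - j * d) * i = 1 ∧ z - l = 0) a d z h
  have e1 := cj _ (c32 j a 0 d 0 z)
  have e2 := isConj_iff.2 ⟨_, ua_conj 0 i 0 0 0 0 (a - j * d) 0 (0 + j * 0) d 0 z⟩
  simp only [mul_zero, add_zero, sub_zero, h2] at e1 e2
  have e3 := cj _ (c32 k (a - j * d) 0 1 0 z)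
  rw [h2] at h1
  simp only [mul_zero, add_zero, h1] at e3
  have e4 := isConj_iff.2 ⟨_, ua_conj 0 0 l 0 0 0 0 0 0 1 0 z⟩
  simp only [mul_zero, zero_mul, add_zero, sub_zero, one_mul, h3] at e4
  exact (e1.trans (e2.trans (e3.trans e4))).symm

theorem clsD {a b d e z : F} (ha : a ≠ 0) (hb : b ≠ 0) : IsConj d2 (ua a b 0 d e z) := by
  have k : ∀ d e z, IsConj d2 (ua 1 1 0 d e z) := fun d e z => by
    refine isConj_iff.2 ⟨ua d 0 (-e) 0 (d * e - z) 0, ?_⟩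
    rw [d2, ua_conj, ua_inj]; refine ⟨?_, ?_, ?_, ?_, ?_, ?_⟩ <;> ring
  have k' : ∀ b d e z, b ≠ 0 → IsConj d2 (ua 1 b 0 d e z) := fun b d e z hb => by
    rcases (by decide : ∀ x : F, x ≠ 0 → x = 1 ∨ x = -1) b hb with rfl | rfl
    · exact k ..
    · simpa using (k (-d) (-e) (-z)).trans (cj _ (ct1 ..))
  rcases (by decide : ∀ x : F, x ≠ 0 → x = 1 ∨ x = -1) a ha with rfl | rfl
  · exact k' _ _ _ _ hb
  · simpa using (k' (-b) d e (-z) (neg_ne_zero.2 hb)).trans (cj _ (cτ ..))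

theorem toQ (b c d e z : F) : ∃ d' e' z', IsConj (ua 0 b c d e z) (ua 0 0 c d' e' z') ∧ d' * e' = d * e - b * z ∧
    (d' = 0 → b = 0 ∧ d = 0) := by
  obtain ⟨i, j, h1, h2⟩ := (by decide : ∀ b d : F, ∃ i j : F, b + j * (d + i * b) = 0 ∧
    (d + i * b = 0 → b = 0 ∧ d = 0)) b d
  have e1 := isConj_iff.2 ⟨_, ua_conj i 0 0 0 0 0 0 b c d e z⟩
  simp only [mul_zero, zero_mul, add_zero, sub_zero] at e1
  have e2 := cj _ (c21 j b c (d + i * b) e (z + i * e))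
  rw [h1] at e2
  exact ⟨_, _, _, e1.trans e2, by linear_combination (z + i * e) * h1, h2⟩

theorem clsQ (a c d e z : F) : ua a 0 c d e z ∈ E0 ∨ IsConj x13 (ua a 0 c d e z) ∨ Bad (ua a 0 c d e z) := by
  by_cases h1 : a = 0 ∧ d = 0
  · exact .inl (ua_mem_E0.2 ⟨h1.1, rfl, h1.2⟩)
  by_cases h2 : e = 0 ∧ c = 0
  · rw [h2.1, h2.2]; exact .inr (.inl (clsT (not_and_or.1 h1)))
  · exact .inr (.inr (badQ (not_and_or.1 h1) (not_and_or.1 h2)))

theorem clsS {w : A} (hw : w ∈ S0) (h3 : w ^ 3 = 1) : w ∈ E0 ∨ IsConj x13 w ∨ IsConj d2 w ∨ Bad w := by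
  obtain ⟨a, b, c, d, e, z, rfl⟩ := mem_S0.1 hw
  rw [ua_cube, ua_eq_one] at h3
  by_cases hb : b = 0
  · subst hb; exact (clsQ a c d e z).imp_right fun h => h.imp_right .inr
  by_cases ha : a = 0
  · subst ha
    obtain ⟨d', e', z', h, -, h'⟩ := toQ b c d e z
    rcases clsQ 0 c d' e' z' with k | k | k
    · exact absurd (h' (ua_mem_E0.1 k).2.2).1 hb
    · exact .inr (.inl (k.trans h.symm))
    · exact .inr (.inr (.inr (k.conj h)))
  · rw [(mul_eq_zero.1 h3.2.2.2.2.2).resolve_left (mul_ne_zero ha hb)]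
    exact .inr (.inr (.inl (clsD ha hb)))

/-- non-singular vectors of `J0` -/
theorem badJ {b d e z : F} (h : d * e - b * z ≠ 0) : Bad (ua 0 b 0 d e z) := by
  obtain ⟨d', e', z', k, k1, -⟩ := toQ b 0 d e z
  rw [← k1] at h
  exact (badQ (.inr (left_ne_zero_of_mul h)) (.inl (right_ne_zero_of_mul h))).conj k

/-- singular vectors of `J0` outside `W0` -/
theorem clsJ {b d e z : F} (h : d * e - b * z = 0) (h' : b ≠ 0 ∨ d ≠ 0) : IsConj x13 (ua 0 b 0 d e z) := by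
  obtain ⟨d', e', z', k, k1, k2⟩ := toQ b 0 d e z
  have hd : d' ≠ 0 := fun e => h'.elim (· (k2 e).1) (· (k2 e).2)
  rw [h] at k1
  rw [(mul_eq_zero.1 k1).resolve_left hd] at k
  exact (clsT (.inr hd)).trans k.symm

/-- non-singular vectors of `J0` are conjugate to `yy (± 1)` -/
theorem clsY {b d e z : F} (h : d * e - b * z ≠ 0) : IsConj (yy (d * e - b * z)) (ua 0 b 0 d e z) := by
  obtain ⟨d', e', z', k, k1, -⟩ := toQ b 0 d e z
  rw [← k1] at h ⊢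
  refine IsConj.trans ?_ k.symm
  have k' : ∀ e z, IsConj (yy e) (ua 0 0 0 1 e z) := fun e z => isConj_iff.2 ⟨ua 0 0 (-z) 0 0 0, by
    rw [yy, ua_conj, ua_inj]; refine ⟨?_, ?_, ?_, ?_, ?_, ?_⟩ <;> ring⟩
  rcases (by decide : ∀ x : F, x ≠ 0 → x = 1 ∨ x = -1) d' (left_ne_zero_of_mul h) with rfl | rfl
  · simpa using k' e' z'
  · simpa using (k' (-e') (-z')).trans (cj _ (ct1 ..))

end CL.L3L
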