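/-
The 3-local recognition of `PSL₄(3)`: first consequences of the hypotheses.
-/
import Cfsg.Agent.Rec.L3Mod
import Cfsg.Agent.Rec.A9H
import Cfsg.Agent.Rec.A9G

set_option autoImplicit false
set_option maxRecDepth 100000
set_option linter.unusedSectionVars false

open Subgroup Cfsg Matrix CL.Grp CL.Rec
open scoped Pointwise

namespace CL.L3L

variable {G : Type*} [Group G]

theorem mem_cent {z x : G} : x ∈ centralizer ({z} : Set G) ↔ Commute x z := mem_centralizer_singleton_iff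

theorem eq_one_of_cop [Finite G] {R : Subgroup G} (hR : (Nat.card R).Coprime 3) {r : G} (hr : r ∈ R) {k : ℕ}
    (h : r ^ 3 ^ k = 1) : r = 1 :=
  orderOf_eq_one_iff.1 (Nat.eq_one_of_dvd_coprimes (hR.pow_right k) (R.orderOf_dvd_natCard hr)
    (orderOf_dvd_of_pow_eq_one h))

/-- generation by centralisers under a group of type `(3, 3)` -/
theorem le_of_pair [Finite G] {a b : G} (ha : orderOf a = 3) (hb : b ^ 3 = 1) (hc : Commute a b) (hn : b ∉ zpowers a)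
    {R H : Subgroup G} (hR : (Nat.card R).Coprime 3) (na : ∀ r ∈ R, a * r * a⁻¹ ∈ R) (nb : ∀ r ∈ R, b * r * b⁻¹ ∈ R)
    (hH : ∀ w ∈ [a, b, a * b, a⁻¹ * b], ∀ r ∈ R, Commute r w → r ∈ H) : R ≤ H := by
  obtain ⟨D, h9, ⟨h1, h2⟩, h3, h4⟩ := CL.A9R.exists_nine ha hb hc hn
  refine le_of_forall_centralizer_le (A := D) (fun k => ?_)
    (h3 _ (mem_normalizer_fintype na) (mem_normalizer_fintype nb)) (h9 ▸ (hR.symm.pow_left 2)) fun w hw w1 r hr => ?_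
  · have := k.exponent_eq_card ▸ (Monoid.exponent_dvd_of_forall_pow_eq_one (n := 3) fun g : D => Subtype.ext (h2 g g.2))
    rw [h9] at this; omega
  have c := mem_cent.1 hr.2
  simp only [List.mem_cons, List.not_mem_nil, or_false, forall_eq_or_imp, forall_eq] at hH
  rcases h4 w hw with k | ⟨x, k, e⟩
  · rcases (CL.Perm.mem_zpowers_three ha).1 k with rfl | rfl | rfl
    exacts [absurd rfl w1, hH.1 r hr.1 c, hH.1 r hr.1 (Commute.inv_right_iff.1 c)]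
  have c' : Commute r (x * b) := e.elim (· ▸ c) fun e => by rw [e] at c; exact Commute.inv_right_iff.1 c
  rcases (CL.Perm.mem_zpowers_three ha).1 k with rfl | rfl | rfl
  exacts [hH.2.1 r hr.1 (by simpa using c'), hH.2.2.1 r hr.1 c', hH.2.2.2 r hr.1 c']

/-- Burnside's theorem with a trivial signalizer -/
theorem le_of_selfnorm [Finite G] {D V H : Subgroup G} (hV : V ≤ D) (hp : IsPGroup 3 V)
    (hN : ∀ n ∈ D, n ∈ normalizer (V : Set G) → n ∈ centralizer (V : Set G))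
    (hC : ∀ n ∈ D, n ∈ centralizer (V : Set G) → ∀ k : ℕ, n ^ 3 ^ k = 1 → n ∈ V) (hH : V ≤ H)
    (sig : ∀ R : Subgroup G, R ≤ D → (Nat.card R).Coprime 3 →
      (∀ g : G, (∀ d ∈ D, g * d * g⁻¹ ∈ D) → ∀ r ∈ R, g * r * g⁻¹ ∈ R) → R ≤ H) : D ≤ H := by
  have := Fact.mk Nat.prime_three
  obtain ⟨R, h1, h2, -, h4, h5⟩ := exists_compl hV hp hN hC
  refine fun d hd => ?_
  obtain ⟨r, hr, v, hv, rfl⟩ := h5 d hd
  refine mul_mem (sig R h1 h2 (fun g hg r hr => h4 _ (hg r (h1 hr)) ?_) hr) (hH hv)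
  rw [← MulAut.conj_apply, MulEquiv.orderOf_eq]
  exact h2.coprime_dvd_left (R.orderOf_dvd_natCard hr)

open CL.Fus.Xs in
theorem abelian_eq_J {B : Subgroup A} (hB : B ≤ S0) (hc : ∀ x ∈ B, ∀ y ∈ B, Commute x y) (h : Nat.card B = 81) :
    B ≤ J0 := by
  have chain : ∀ p q r s t : F, (∀ a b c d e z, ua a b c d e z ∈ B → p * a + q * c = 0 →
      (r ≠ 0 ∨ s ≠ 0 → a = 0 ∧ b = 0) ∧ (r * d + s * e + t * c = 0 → a = 0 ∧ b = 0 ∧ c = 0 ∧ d = 0 ∧ e = 0)) →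
      False := fun p q r s t H => by
    have h1 : AddOn B fun m => p * m.1.1 0 1 + q * m.1.1 2 3 := fun x hx y hy => by
      obtain ⟨a, b, c, d, e, z, rfl⟩ := mem_S0.1 (hB hx)
      obtain ⟨a', b', c', d', e', z', rfl⟩ := mem_S0.1 (hB hy)
      rw [ua_mul]; simp [ua, u]; ring
    have h2 : AddOn h1.ker fun m => r * m.1.1 0 2 + s * m.1.1 1 3 + t * m.1.1 2 3 := fun x hx y hy => by
      obtain ⟨a, b, c, d, e, z, rfl⟩ := mem_S0.1 (hB hx.1)
      obtain ⟨a', b', c', d', e', z', rfl⟩ := mem_S0.1 (hB hy.1)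
      have := (H _ _ _ _ _ _ hx.1 hx.2).1
      rw [ua_mul]
      by_cases k : r ≠ 0 ∨ s ≠ 0
      · simp [ua, u, this k]; ring
      · simp only [not_or, not_not] at k; simp [ua, u, k]; ring
    have h3 : h2.ker ≤ zpowers z0 := fun x hx => by
      obtain ⟨a, b, c, d, e, z, rfl⟩ := mem_S0.1 (hB hx.1.1)
      obtain ⟨rfl, rfl, rfl, rfl, rfl⟩ := (H _ _ _ _ _ _ hx.1.1 hx.1.2).2 hx.2
      exact mem_zpowers_z0.2 ⟨_, rfl⟩
    have := card_le_of_le h3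
    rw [Nat.card_zpowers, ord3 (J0_cube z0_J0) z0_ne] at this
    have := h1.card_le; have := h2.card_le; omega
  by_contra hn
  obtain ⟨x, hx, hn⟩ := SetLike.not_le_iff_exists.1 hn
  obtain ⟨a1, b1, c1, d1, e1, z1, rfl⟩ := mem_S0.1 (hB hx)
  rw [ua_mem_J0] at hn
  by_cases k : ∀ a b c d e z, ua a b c d e z ∈ B → a * c1 = a1 * c
  · refine chain a1 c1 a1 c1 0 fun a b c d e z hy => ?_
    have := ua_comm.1 (hc _ hx _ hy)
    have k' := k _ _ _ _ _ _ hy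
    intro k0
    obtain ⟨rfl, rfl⟩ := (by decide : ∀ a c a1 c1 : F, ¬ (a1 = 0 ∧ c1 = 0) → a * c1 = a1 * c → a1 * a + c1 * c = 0 →
      a = 0 ∧ c = 0) a c a1 c1 hn k' k0
    simp only [zero_mul, mul_zero, add_zero, zero_add] at this ⊢
    clear hy hx k k' k0
    revert this hn; revert a1 c1 b d e; decide
  · simp only [not_forall] at k
    obtain ⟨a2, b2, c2, d2, e2, z2, hx2, k⟩ := k
    refine chain 1 0 0 0 1 fun a b c d e z hy k0 => ⟨by simp, fun k1 => ?_⟩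
    have h1 := ua_comm.1 (hc _ hx _ hy)
    have h2 := ua_comm.1 (hc _ hx2 _ hy)
    simp only [one_mul, zero_mul, add_zero, zero_add] at k0 k1
    subst k0 k1
    simp only [zero_mul, mul_zero, add_zero, zero_add] at h1 h2
    exact (by decide : ∀ a1 c1 a2 c2 b d e : F, ¬ a2 * c1 = a1 * c2 → a1 * b = 0 ∧ 0 = b * c1 ∧ a1 * e = d * c1 →
      a2 * b = 0 ∧ 0 = b * c2 ∧ a2 * e = d * c2 → (0 : F) = 0 ∧ b = 0 ∧ (0 : F) = 0 ∧ d = 0 ∧ e = 0)
      _ _ _ _ _ _ _ k h1 h2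

namespace Hy

variable {φ : A →* G} (h : Hy φ)
include h

theorem eq_iff {k l : A} : φ k = φ l ↔ k = l := h.inj.eq_iff
theorem one_iff {k : A} : φ k = 1 ↔ k = 1 := by rw [← map_one φ, h.eq_iff]
theorem comm_iff {k l : A} : Commute (φ k) (φ l) ↔ Commute k l := by
  rw [Commute, SemiconjBy, ← map_mul, ← map_mul, h.eq_iff]; rfl
theorem conj_iff {v k l : A} : φ v * φ k * (φ v)⁻¹ = φ l ↔ v * k * v⁻¹ = l := by
  rw [← map_inv, ← map_mul, ← map_mul, h.eq_iff]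
theorem pow_iff {k : A} {n : ℕ} : φ k ^ n = 1 ↔ k ^ n = 1 := by rw [← map_pow, h.one_iff]
theorem mem_iff {H : Subgroup A} {k : A} : φ k ∈ H.map φ ↔ k ∈ H := mem_map_iff_mem h.inj
theorem ord {k : A} (h3 : k ^ 3 = 1) (h1 : k ≠ 1) : orderOf (φ k) = 3 := ord3 (h.pow_iff.2 h3) (h.one_iff.not.2 h1)
theorem zp_iff {k l : A} : φ k ∈ zpowers (φ l) ↔ k ∈ zpowers l := by rw [← MonoidHom.map_zpowers, h.mem_iff]
theorem oz : orderOf (φ z0) = 3 := h.ord (J0_cube z0_J0) z0_ne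

theorem cE {e : A} (he : e ∈ E0) (h1 : e ≠ 1) : centralizer {φ e} ≤ φ.range := by
  obtain ⟨k, rfl⟩ := isConj_iff.1 (clsE he h1)
  rw [map_mul, map_mul, map_inv]
  exact CL.A9R.cent_conj h.cz ⟨k, rfl⟩

theorem nE {e e' : A} (he : e ∈ E0) (h1 : e ≠ 1) (he' : e' ∈ E0) {g : G} (hg : g * φ e * g⁻¹ = φ e') :
    g ∈ φ.range := by
  have h2 : e' ≠ 1 := by rintro rfl; exact h1 (h.one_iff.1 (by simpa using hg))
  obtain ⟨k, rfl⟩ := isConj_iff.1 ((clsE he h1).symm.trans (clsE he' h2))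
  refine (mul_mem_cancel_left (inv_mem (φ.mem_range.2 ⟨k, rfl⟩))).1 (h.cE he h1 (mem_cent.2 ?_))
  rw [map_mul, map_mul, map_inv] at hg
  calc (φ k)⁻¹ * g * φ e = (φ k)⁻¹ * (g * φ e * g⁻¹) * g := by group
    _ = _ := by rw [hg]; group

theorem not_bad {w : A} (hw : Bad w) : ¬ IsConj (φ z0) (φ w) := fun e =>
  let ⟨w', h1, h2, k, h3, h4⟩ := hw
  h4 (h.ab w' h1 (e.trans (φ.map_isConj h2)) k h3)

theorem nS {g : G} (hg : g ∈ normalizer (S0.map φ : Set G)) : g ∈ φ.range := by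
  obtain ⟨w, hw, e⟩ := (mem_normalizer_iff.1 hg _).1 (mem_map_of_mem φ (E0_le z0_E0))
  obtain ⟨z, rfl⟩ := mem_zpowers_z0.1 (center_S0 hw fun s hs => h.comm_iff.1 (by
    obtain ⟨s', hs', e'⟩ := (mem_normalizer_iff''.1 hg _).1 (mem_map_of_mem φ hs)
    have := h.comm_iff.2 (S0_z0 hs')
    rw [e'] at this
    rw [e]
    simpa [mul_assoc] using this.conj g))
  exact h.nE z0_E0 z0_ne (by simp [ua_mem_E0]) e.symm

variable [Finite G]

theorem sylow : IsSylowIn 3 (S0.map φ) ⊤ := by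
  have := Fact.mk Nat.prime_three
  refine isSylowIn_of_loc le_top (S0_three.map φ) fun n _ hn k hk => ?_
  obtain ⟨a, rfl⟩ := h.nS hn
  have hN : a ∈ normalizer (S0 : Set A) := mem_normalizer_fintype fun s hs => h.mem_iff.1 (by
    rw [map_mul, map_mul, map_inv]; exact (mem_normalizer_iff.1 hn _).1 (mem_map_of_mem φ hs))
  have hp : IsPGroup 3 (zpowers a) := IsPGroup.iff_card.2
    (((Nat.dvd_prime_pow Nat.prime_three).1 (orderOf_dvd_of_pow_eq_one (h.pow_iff.1 hk))).imp fun _ e => by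
      rw [Nat.card_zpowers, e.2])
  have := S0_sylow.eq_of_le (S0_three.to_sup_of_normal_left' hp (zpowers_le.2 hN)) le_sup_left le_top
  exact h.mem_iff.2 (this ▸ mem_sup_right (mem_zpowers a))

theorem conjS {H U : Subgroup G} (hS : S0.map φ ≤ H) (hU : IsPGroup 3 U) (hH : U ≤ H) :
    ∃ k ∈ H, ∀ x ∈ U, ∃ w ∈ S0, φ w = k * x * k⁻¹ := by
  have := Fact.mk Nat.prime_three
  obtain ⟨k, hk, e⟩ := (h.sylow.of_le hS le_top).exists_conj_le hU hH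
  exact ⟨k, hk, (conj_smul_le_iff ..).1 e⟩

theorem conjS' {H : Subgroup G} (hS : S0.map φ ≤ H) {x : G} (hx : x ∈ H) (h3 : x ^ 3 = 1) :
    ∃ k ∈ H, ∃ w ∈ S0, w ^ 3 = 1 ∧ φ w = k * x * k⁻¹ := by
  have := Fact.mk Nat.prime_three
  have hp : IsPGroup 3 (zpowers x) := IsPGroup.iff_card.2
    (((Nat.dvd_prime_pow Nat.prime_three (m := 1)).1 (orderOf_dvd_of_pow_eq_one h3)).imp fun _ e => by
      rw [Nat.card_zpowers, e.2])
  obtain ⟨k, hk, e⟩ := h.conjS hS hp (zpowers_le.2 hx)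
  obtain ⟨w, hw, e'⟩ := e x (mem_zpowers x)
  exact ⟨k, hk, w, hw, h.pow_iff.1 (by rw [e', conj_pow, h3]; simp), e'⟩

theorem cube_of_conj {x : G} (e : IsConj (φ z0) x) : x ^ 3 = 1 :=
  isConj_one_right.1 (h.pow_iff.2 (J0_cube z0_J0) ▸ e.pow 3)

theorem ne_of_conj {x : G} (e : IsConj (φ z0) x) : x ≠ 1 := fun k =>
  z0_ne (h.one_iff.1 (isConj_one_left.1 (k ▸ e)))

/-- the conjugates of `z0` in a subgroup containing `S0` -/
theorem zcls {H : Subgroup G} (hS : S0.map φ ≤ H) {x : G} (hx : x ∈ H) (e : IsConj (φ z0) x) :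
    ∃ k ∈ H, ∃ w : A, φ w = k * x * k⁻¹ ∧ (IsConj z0 w ∧ w ∈ E0 ∨ IsConj x13 w ∨ IsConj d2 w) := by
  obtain ⟨k, hk, w, hw, h3, e'⟩ := h.conjS' hS hx (h.cube_of_conj e)
  have e2 : IsConj (φ z0) (φ w) := e.trans (isConj_iff.2 ⟨k, e'.symm⟩)
  refine ⟨k, hk, w, e', ?_⟩
  rcases clsS hw h3 with c | c | c | c
  exacts [.inl ⟨clsE c (h.one_iff.not.1 (h.ne_of_conj e2)), c⟩, .inr (.inl c), .inr (.inr c), absurd e2 (h.not_bad c)]

/-- the signalizer lemma -/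
theorem sig {R : Subgroup G} (hR : (Nat.card R).Coprime 3) (na : ∀ r ∈ R, φ z0 * r * (φ z0)⁻¹ ∈ R)
    (nb : ∀ r ∈ R, φ x24 * r * (φ x24)⁻¹ ∈ R) : R ≤ ⊥ := by
  have key : ∀ e ∈ E0, e ≠ 1 → ∀ r ∈ R, Commute r (φ e) → r ∈ (⊥ : Subgroup G) := fun e he h1 r hr hc => by
    obtain ⟨a, rfl⟩ := h.cE he h1 (mem_cent.2 hc)
    have k : ∀ x ∈ E0, φ x * φ a * (φ x)⁻¹ ∈ R → Commute a x := fun x hx hx' => by
      have h2 : x * (a * x⁻¹ * a⁻¹) ∈ E0 := mul_mem hx (E0_normal.conj_mem _ (inv_mem hx) a)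
      have h3 : φ (x * (a * x⁻¹ * a⁻¹)) ∈ R := by simpa [mul_assoc] using mul_mem hx' (inv_mem hr)
      have := h.one_iff.1 (eq_one_of_cop hR h3 (h.pow_iff.2 (S0_nine (E0_le h2))))
      exact (commutatorElement_eq_one_iff_commute.1 (by rw [← this, commutatorElement_def]; group)).symm
    obtain ⟨b, c, d, e, z, rfl⟩ := cent_W (k _ z0_E0 (na _ hr)) (k _ (by simp [x24, ua_mem_E0]) (nb _ hr))
    exact eq_one_of_cop hR hr (h.pow_iff.2 (S0_nine (ua_mem_S0 ..)))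
  refine le_of_pair h.oz (h.pow_iff.2 (J0_cube (by simp [ua_mem_J0]))) (h.comm_iff.2 (S0_z0 (ua_mem_S0 ..)).symm)
    (h.zp_iff.not.2 (by simp [mem_zpowers_z0, ua_inj])) hR na nb ?_
  simp only [List.mem_cons, List.not_mem_nil, or_false, forall_eq_or_imp, forall_eq, ← map_inv, ← map_mul]
  refine ⟨key _ z0_E0 z0_ne, key _ ?_ ?_, key _ ?_ ?_, key _ ?_ ?_⟩ <;>
    simp [z0, ua_inv, ua_mul, ua_mem_E0, ua_eq_one]

theorem cJ {g : G} (hg : ∀ j ∈ J0, Commute g (φ j)) : g ∈ J0.map φ := by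
  obtain ⟨a, rfl⟩ := h.cz (mem_cent.2 (hg _ z0_J0))
  obtain ⟨b, c, d, e, z, rfl⟩ := cent_W (h.comm_iff.1 (hg _ z0_J0))
    (h.comm_iff.1 (hg _ (by simp [x24, ua_mem_J0])))
  have := ua_comm.1 (h.comm_iff.1 (hg x13 (by simp [x13, ua_mem_J0])))
  exact h.mem_iff.2 (ua_mem_J0.2 ⟨rfl, by simpa using this.2.2.symm⟩)

/-- `J0` is weakly closed -/
theorem wc {g : G} (hg : ∀ j ∈ J0, g * φ j * g⁻¹ ∈ S0.map φ) : g ∈ normalizer (J0.map φ : Set G) := by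
  choose! f hf e using hg
  have hm : ∀ i ∈ J0, ∀ j ∈ J0, f (i * j) = f i * f j := fun i hi j hj => h.inj (by
    rw [map_mul, e _ (mul_mem hi hj), e i hi, e j hj, map_mul]; group)
  have hc : ∀ i ∈ J0, ∀ j ∈ J0, Commute (f i) (f j) := fun i hi j hj => by
    rw [Commute, SemiconjBy, ← hm i hi j hj, ← hm j hj i hi, (J0_comm hi hj).eq]
  let θ : J0 →* A := MonoidHom.mk' (fun j => f j) fun i j => hm i i.2 j j.2
  have hi : Function.Injective θ := fun i j k => Subtype.ext (h.inj (by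
    have : φ (f i) = φ (f j) := congrArg φ k
    rwa [e _ i.2, e _ j.2, mul_left_inj, mul_right_inj] at this))
  have := abelian_eq_J (B := θ.range) (by rintro _ ⟨j, rfl⟩; exact hf _ j.2)
    (by rintro _ ⟨i, rfl⟩ _ ⟨j, rfl⟩; exact hc _ i.2 _ j.2)
    (by rw [← card_J0]; exact (Nat.card_congr (MonoidHom.ofInjective hi).toEquiv).symm)
  refine mem_normalizer_fintype ?_
  rintro _ ⟨j, hj, rfl⟩
  exact ⟨f j, this ⟨⟨j, hj⟩, rfl⟩, e j hj⟩

/-- fusion in `J0` is controlled by its normaliser -/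
theorem fusJ {g : G} (hg : ∀ j ∈ J0, Commute (g * φ j * g⁻¹) (φ z0)) :
    ∃ k : A, Commute k z0 ∧ φ k * g ∈ normalizer (J0.map φ : Set G) := by
  obtain ⟨k, hk, e⟩ := h.conjS (H := centralizer {φ z0}) (U := MulAut.conj g • J0.map φ)
    (by rintro _ ⟨s, hs, rfl⟩; exact mem_cent.2 (h.comm_iff.2 (S0_z0 hs)))
    (CL.Grp.IsPGroup.conj_smul ((S0_three.to_le J0_le).map φ) g)
    ((conj_smul_le_iff ..).2 (by rintro _ ⟨j, hj, rfl⟩; exact mem_cent.2 (hg j hj)))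
  obtain ⟨a, rfl⟩ := h.cz hk
  refine ⟨a, h.comm_iff.1 (mem_cent.1 hk), h.wc fun j hj => ?_⟩
  obtain ⟨w, hw, e'⟩ := e _ (conj_mem_conj_smul g (mem_map_of_mem φ hj))
  exact ⟨w, hw, by rw [e']; group⟩

end Hy

/-! ### the case that `G` contains `PSL₄(3)` -/

theorem conj_x13 : IsConj (z0 : M) x13 := cj (tv 2 3 1 * tv 3 2 2) (by
  simp only [cd_inj', cd_mul']; decide +kernel)

theorem conj_d2 : IsConj (d2 : M) (ua 0 0 1 1 0 0) := cj (tv 3 1 2 * tv 1 3 1 * tv 1 2 2 * tv 2 1 1 * tv 0 1 1) (by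
  simp only [cd_inj', cd_mul']; decide +kernel)

namespace HyI

variable {Φ : M →* G} (h : HyI Φ)
include h

theorem neg (m : M) : Φ (-m) = Φ m := by rw [← neg_one_mul, map_mul, (h.ker _).2 (.inr rfl), one_mul]

theorem eq_iff {m n : M} : Φ m = Φ n ↔ m = n ∨ m = -n := by
  rw [← mul_inv_eq_one, ← map_inv, ← map_mul, h.ker, mul_inv_eq_one, mul_inv_eq_iff_eq_mul, neg_one_mul]

variable [Finite G]

/-- `z0` fixes only one coset of the image -/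
theorem U0 {g : G} (hg : g * Φ z0 * g⁻¹ ∈ Φ.range) : g ∈ Φ.range := by
  obtain ⟨_, ⟨k, rfl⟩, w, e, c⟩ := h.hy.zcls (H := Φ.range) (by rintro _ ⟨s, -, rfl⟩; exact ⟨s, rfl⟩) hg
    (isConj_iff.2 ⟨g, rfl⟩)
  have e2 : IsConj (Φ z0) (Φ w) := isConj_iff.2 ⟨Φ k * g, by rw [show Φ w = _ from e]; group⟩
  have c' : IsConj (z0 : M) w := by
    rcases c with c | c | c
    · exact A.subtype.map_isConj c.1
    · exact conj_x13.trans (A.subtype.map_isConj c)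
    · exact absurd (e2.trans (Φ.map_isConj ((A.subtype.map_isConj c).symm.trans conj_d2)))
        (h.hy.not_bad (badQ (.inr one_ne_zero) (.inr one_ne_zero)))
  obtain ⟨n, hn⟩ := isConj_iff.1 c'
  have e3 : Φ n * Φ z0 * (Φ n)⁻¹ = Φ k * (g * Φ z0 * g⁻¹) * (Φ k)⁻¹ := by
    rw [← map_inv, ← map_mul, ← map_mul, hn]; exact e
  obtain ⟨a, ha⟩ := h.hy.cz (mem_cent.2 (show Commute ((Φ n)⁻¹ * Φ k * g) (Φ z0) by
    calc (Φ n)⁻¹ * Φ k * g * Φ z0 = (Φ n)⁻¹ * (Φ k * (g * Φ z0 * g⁻¹) * (Φ k)⁻¹) * (Φ k * g) := by group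
      _ = _ := by rw [← e3]; group))
  exact (mul_mem_cancel_left (mul_mem (inv_mem (Φ.mem_range.2 ⟨n, rfl⟩)) (Φ.mem_range.2 ⟨k, rfl⟩))).1 ⟨a, ha⟩

theorem U {m : M} (hm : IsConj (z0 : M) m) {g : G} (hg : g * Φ m * g⁻¹ ∈ Φ.range) : g ∈ Φ.range := by
  obtain ⟨n, rfl⟩ := isConj_iff.1 hm
  refine (mul_mem_cancel_right (Φ.mem_range.2 ⟨n, rfl⟩)).1 (h.U0 ?_)
  simpa [mul_assoc] using hg

end HyI

end CL.L3L
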