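/-
The 3-local recognition of `PSL₄(3)`: the maximal parabolic subgroup `3³ : SL₃(3)`.
-/
import Cfsg.Agent.Rec.L3Defs

set_option autoImplicit false
set_option maxRecDepth 100000

open Subgroup Cfsg Matrix

namespace CL.L3L

theorem mk_eq_one {m : M} : (m : PM) = 1 ↔ m = 1 ∨ m = -1 := by
  rw [QuotientGroup.eq_one_iff, Matrix.SpecialLinearGroup.mem_center_iff]
  constructor
  · rintro ⟨r, hr, e⟩
    have h : r = 1 ∨ r = -1 := by clear e; revert r; decide
    rcases h with rfl | rfl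
    · exact Or.inl (Subtype.ext (by rw [← e, map_one]; rfl))
    · exact Or.inr (Subtype.ext (by rw [← e, map_neg, map_one]; rfl))
  · rintro (rfl | rfl)
    · exact ⟨1, by decide, by rw [map_one]; rfl⟩
    · exact ⟨-1, by decide, by rw [map_neg, map_one]; rfl⟩

theorem neg_one_notMem_A : (-1 : M) ∉ A := fun h => absurd (mem_A.1 h).2.2.2 (by decide)

theorem af_one_zero : af 1 0 = 1 := by rw [af_one]; exact ua_zero

/-- the linear part -/
noncomputable def blk : A →* SL3 := MonoidHom.mk' (fun m => (af_surj m).choose) fun m n => by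
  obtain ⟨w, h1⟩ := (af_surj m).choose_spec
  obtain ⟨w', h2⟩ := (af_surj n).choose_spec
  obtain ⟨w'', h3⟩ := (af_surj (m * n)).choose_spec
  generalize (af_surj m).choose = B at *
  generalize (af_surj n).choose = B' at *
  generalize (af_surj (m * n)).choose = B'' at *
  rw [h1, h2, af_mul] at h3
  exact (af_inj.1 h3).1.symm

theorem blk_af (B : SL3) (w : Fin 3 → F) : blk (af B w) = B := by
  obtain ⟨w', h⟩ := (af_surj (af B w)).choose_spec
  exact (af_inj.1 h).1.symm

theorem blk_surj : Function.Surjective blk := fun B => ⟨af B 0, blk_af B 0⟩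

theorem af_one_mem (w : Fin 3 → F) : af 1 w ∈ E0 := mem_E0.2 ⟨_, _, _, af_one w⟩

theorem blk_ker : blk.ker = E0 := by
  ext m
  rw [MonoidHom.mem_ker]
  constructor
  · obtain ⟨B, w, rfl⟩ := af_surj m
    rw [blk_af]
    rintro rfl
    exact af_one_mem w
  · intro h
    obtain ⟨c, e, z, rfl⟩ := mem_E0.1 h
    exact (congrArg blk (af_one ![z, e, c])).symm.trans (blk_af _ _)

instance normal_E0 : E0.Normal := blk_ker ▸ inferInstance

theorem card_E0 : Nat.card E0 = 27 := by
  have h := blk.ker.card_mul_index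
  rw [index_ker, MonoidHom.range_eq_top.2 blk_surj, card_top, card_SL3, card_A, blk_ker] at h
  omega

theorem A_gen {H : Subgroup A} (h : ∀ (i j : Fin 3) (hij : i ≠ j) (c : F),
    af (SpecialLinearGroup.transvection hij c) 0 ∈ H) (hE : E0 ≤ H) : H = ⊤ := by
  have h1 : H.map blk = ⊤ := CL.SLn.eq_top_of_transvection_mem _ fun i j hij c => ⟨_, h i j hij c, blk_af _ _⟩
  rw [← comap_map_eq_self (f := blk) (H := H) (blk_ker ▸ hE), h1, comap_top]

theorem not_solvable_A : ¬ Group.IsSolvable A := fun h => by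
  have h1 : Group.IsSolvable SL3 := solvable_of_surjective blk_surj
  have h2 : Nontrivial SL3 := Finite.one_lt_card_iff_nontrivial.1 (by rw [card_SL3]; norm_num)
  exact (IsSolvable.commutator_lt_top_of_nontrivial SL3).ne (CL.SLn.commutator_eq_top (Or.inl (by simp)))

theorem pCore_A : pCore 3 A = E0 := by
  refine le_antisymm ?_ (CL.Grp.le_pCore (IsPGroup.of_card (n := 3) card_E0))
  have h1 := (CL.Grp.pCore_isPGroup 3 A).map blk
  haveI : ((pCore 3 A).map blk).Normal := Normal.map inferInstance _ blk_surj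
  rcases CL.SLn.normal_le_center_or_eq_top (Or.inl (by simp)) ((pCore 3 A).map blk) with h | h
  · have h2 : center SL3 = ⊥ := by
      rw [← card_eq_one, CL.SLn.card_center_SL, ZMod.card]; decide
    rw [h2, le_bot_iff, Subgroup.map_eq_bot_iff, blk_ker] at h
    exact h
  · obtain ⟨k, hk⟩ := IsPGroup.iff_card.1 h1
    rw [h, card_top, card_SL3] at hk
    have h3 : 2 ∣ 3 ^ k := hk ▸ by norm_num
    exact absurd (Nat.prime_two.dvd_of_dvd_pow h3) (by norm_num)

theorem row_mul {x y : M} {i k : Fin 4} (h : ∀ j, x.1 i j = y.1 k j) (z : M) (j : Fin 4) :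
    (x * z).1 i j = (y * z).1 k j := by
  simp only [val_mul, Matrix.mul_apply, h]

theorem exists_row {v : Fin 3 → F} (hv : v ≠ 0) : ∃ B : SL3, ∀ j, B.1 0 j = v j := by
  have k : ∀ a : F, a ≠ 0 → a * a = 1 := by decide
  by_cases h0 : v 0 = 0
  · by_cases h1 : v 1 = 0
    · have h2 : v 2 ≠ 0 := fun h2 => hv (funext fun i => by fin_cases i; exacts [h0, h1, h2])
      exact ⟨⟨!![v 0, v 1, v 2; 0, 1, 0; -v 2, 0, 0], by simp [det_fin_three, k _ h2]⟩, fun j => by fin_cases j <;> rfl⟩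
    · exact ⟨⟨!![v 0, v 1, v 2; -v 1, 0, 0; 0, 0, 1], by simp [det_fin_three, k _ h1]⟩, fun j => by fin_cases j <;> rfl⟩
  · exact ⟨⟨!![v 0, v 1, v 2; 0, v 0, 0; 0, 0, 1], by simp [det_fin_three, k _ h0]⟩, fun j => by fin_cases j <;> rfl⟩

theorem row_cases (m : M) : m ∈ A ∨ -m ∈ A ∨ ∃ a : A, ∀ j, m.1 3 j = a.1.1 0 j := by
  by_cases hv : (fun i : Fin 3 => m.1 3 i.castSucc) = 0
  · have h0 : m.1 3 0 = 0 := congrFun hv 0
    have h1 : m.1 3 1 = 0 := congrFun hv 1
    have h2 : m.1 3 2 = 0 := congrFun hv 2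
    have h3 : m.1 3 3 ≠ 0 := fun h3 => by
      have := det_eq_zero_of_row_eq_zero (A := m.1) 3 fun j => by fin_cases j; exacts [h0, h1, h2, h3]
      exact absurd (m.2.symm.trans this) (by decide)
    have k : ∀ a : F, a ≠ 0 → a = 1 ∨ -a = 1 := by decide
    rcases k _ h3 with h | h
    · exact Or.inl (mem_A.2 ⟨h0, h1, h2, h⟩)
    · exact Or.inr (Or.inl (mem_A.2 ⟨neg_eq_zero.2 h0, neg_eq_zero.2 h1, neg_eq_zero.2 h2, h⟩))
  · obtain ⟨B, hB⟩ := exists_row hv
    refine Or.inr (Or.inr ⟨af B ![m.1 3 3, 0, 0], fun j => ?_⟩)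
    fin_cases j
    exacts [(hB 0).symm, (hB 1).symm, (hB 2).symm, rfl]

theorem eq_top_of_A {H : Subgroup M} (hA : A ≤ H) (h1 : -1 ∈ H) {m : M} (hm : m ∈ H) (h2 : m ∉ A) (h3 : -m ∉ A) :
    H = ⊤ := by
  obtain ⟨a, ha⟩ := ((row_cases m).resolve_left h2).resolve_left h3
  refine eq_top_iff.2 fun g _ => ?_
  rcases row_cases g with h | h | ⟨b, hb⟩
  · exact hA h
  · simpa using mul_mem h1 (hA h)
  · have h4 : g * ((b : M)⁻¹ * a * m⁻¹) ∈ A := fun j => by
      rw [row_mul hb, ← mul_assoc, ← mul_assoc, mul_inv_cancel, one_mul, ← row_mul ha, mul_inv_cancel]; rfl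
    exact (mul_mem_cancel_right (mul_mem (mul_mem (inv_mem (hA b.2)) (hA a.2)) (inv_mem hm))).1 (hA h4)

theorem mk_inj_A : Function.Injective ((QuotientGroup.mk' (center M)).comp A.subtype) :=
  (injective_iff_map_eq_one _).2 fun a h => (mk_eq_one.1 h).elim (fun e => Subtype.ext e) fun e => absurd (e ▸ a.2) neg_one_notMem_A

theorem par : Par := by
  let f := (QuotientGroup.mk' (center M)).comp A.subtype
  let e : A ≃* f.range := MonoidHom.ofInjective mk_inj_A
  have he : (pCore 3 A).map (e : A →* f.range) = pCore 3 f.range := CL.Grp.map_pCore_equiv e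
  refine ⟨f.range, ⟨fun h => ?_, fun H hH => ?_⟩, ?_, ⟨?_⟩, ⟨e⟩⟩
  · have := Nat.card_congr e.toEquiv
    rw [h, card_top, card_A, card_PM] at this
    omega
  · obtain ⟨x, hx, hx'⟩ := SetLike.exists_of_lt hH
    obtain ⟨m, rfl⟩ := QuotientGroup.mk'_surjective _ x
    have h1 : ((-1 : M) : PM) = 1 := mk_eq_one.2 (Or.inr rfl)
    have h2 : H.comap (QuotientGroup.mk' (center M)) = ⊤ :=
      eq_top_of_A (fun a ha => hH.le ⟨⟨a, ha⟩, rfl⟩) (show ((-1 : M) : PM) ∈ H from h1 ▸ one_mem H) hx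
        (fun h => hx' ⟨⟨m, h⟩, rfl⟩) fun h => hx' ⟨⟨-m, h⟩, by
          show ((-m : M) : PM) = (m : PM)
          rw [← neg_one_mul, QuotientGroup.mk_mul, h1, one_mul]⟩
    rw [← map_comap_eq_self_of_surjective (QuotientGroup.mk'_surjective (center M)) H, h2,
      map_top_of_surjective _ (QuotientGroup.mk'_surjective _)]
  · rw [← he, card_map_of_injective (f := (e : A →* f.range)) e.injective, pCore_A, card_E0]
  · exact (QuotientGroup.congr _ _ e he).symm.trans ((QuotientGroup.quotientMulEquivOfEq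
      (pCore_A.trans blk_ker.symm)).trans (QuotientGroup.quotientKerEquivOfSurjective blk blk_surj))

end CL.L3L
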