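import Cfsg.Agent.Spor.TCSound

/-! coset enumeration certificate generated by tools/tc -/

set_option maxRecDepth 100000
set_option autoImplicit false
set_option linter.all false

namespace CL.TC.L3P

noncomputable def rows0 : Tr ℕ := (.node (nat_lit 2) (.node (nat_lit 1) (.leaf (nat_lit 0xe81843a4a10ee2817b4a08f43043cc810f23043c4810f03023fc205fb2833f4c06ee2833ac81bfc187ff081df81843e4c105ce4880f82302f78c17da40dfa0c1fea607fa8c1fec607f70c1fde407fc8c1ff4507ff840bf4603fe0c3df840e7b181fea4079df0061ec1184bb8614ec207fac61fec2053cc61ef4204bf861fee1851f46097c1057d8612fe207bf4a0dff0816c8409b310546b8030e608c23dc309f6103bdc309f6103bea308fa1039fc30ef70c26f0305438c31ec308ff1039fe102fe101d5e20c5808144be81833a4c0cee181fbca04f43033cc80cf23033c480cf0301ffc204fd281be8610ed186fb4810fc186bf0817fa1833ecc0c5ce288116c3027f0c37e0707fa1c17e6405fa9c17e8405f60c17da505fc8c17f4405f60c11fe1027e0c33f840b798c17e8705986d0619b81853b061aee204bb9212eb2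06ba5014e62067f861aee1849e0418791037f8619e92053f4a09ff0812bc60dfe20606b6a30b5d0c27d830bf71023d830bf71023ce30b749027fc30bf70c22f230abf081dfc30b749027fe1027e1015fc30ad8901c4bb718131060bec1843bc805f52823d0808f72823d8808f12817bc610fd201ffc203ec1013b440bfe1853f8813fb1823f0a0846e10c0b90307f89809de6067a8c0fec503fb8c0ff0503f89009de3067f8407f83047c8c1ff2702ff0c25fc408fd940ff4403a8fe4606fa201bd4a06f4201bd8c06f5201bd0c06f3201bcc603ff080bf0610fc1833cc606f4281be4606fa281be8606fb30197384207e1880fe0704769021ec502fa900bee502fb100bfc308780c11fa4027f8405f0303ff101ffc3077f101bf4302fd940a8db7102ee0408ee1833c0807f41813d4a04f51813d8a04fe1833c0607ff080bf0605fe182fac808fe182bf8809fc2813ec80451fe9005fe100fb9007ec401fb9007ec401fc9007f0401f98805e82037f0c11fc303fe1007f6401fe9007f8401fe9007f8401da7fc201fc180fd4602f6180bd8602f7180bdc602f8180bf8606f2180ff8605fe1813e8602fb180bec602fc180bf0602fd180afffc301ff0c05ee300fc0803f0300fc8803f2300fd0803f4300fd8803f6300fe0803f8300fe8803fa300ff0803fc300ff880200))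 (.leaf (nat_lit 0xad4062ad026ec6883ac820ed6056ac822ab189ab5618ed4857ac6227f1051d8411ac1882b5420f81883e4c20af4053fc21104df0c3f7e40ff6941dd850a73a829d8807718c4fd640d771829fe1073e942efca11761435ca413fd9c3bfa508581c2f624112e700612c1303ba1819e4209f98627e83067cd412f4303b9461ee6207ab061ead487bfc20ef6384bed01cfd483ec0c16b1208cef7c30edf903bda506f61427da606f62027d860bf31049dc609ff841b0280d428c4bd850bf31049fa7087d103f5a312d71834b9c0184704c0de8605b98824e8585b98824f55037d1411e518739881cac3872ac61cff0837d8e11fd403fe881ead189abd6193bf51437d230df72c1ffe105f90c37e690df98c37e890df50c37d650df40c37d270df62421dcb0656b44fe2412780c37e280dcf7a0e1ae7186ba5412ed282bb0c0aeb404bb161fe4209fb8c12ff0829d8625801877a8627eb207fece17fd2832b461dfc2095737230a5a8815ca313f3903dce30f7f104fce705732029cc30cf398335870cd58c33d280a7f8415f660b7ea0175c30e72904c61aa189ab0620ea1863ad418ec1887a8825ac1883f8826fe1897b0621881035dc60ae5186399418f91863e8e18ff082ab880d0f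f4182fce30bf4a823da504f4a823da804f28c49d640ef71823fe104baa044f830ff58c49d640efe9c19f440d7e0c455e40fae6ec613b6102794624e72073f8624e720739c613e8402798616e7305ab0616ad405ba5013ff0827f4c0bfa206798623af2078c35c311d80c436030ad8a82bd4311761041fc311d81043fc311760c40f63073d08136030ad8a82bf230afd182b643077f841209b9102ae8419eb187fbd20eed483b9881fe51867a080aef403bb461f761845f8620ea382ba0819fd284ffc208b01846b88201add88137820b758c3bde806f58c3bde706f52413d060b779c1bda30ec08c251a310f51813d040b7f8411f840a578c4362a0912f08e0ec1287bbd20ae8206ba861aed202bd500ef2207bbd00aed186a0442182104fd461ef7483bf4a11ff081ec0613fe20846b84606e09439de804f4102fde804f4102fe630e7b1c1bde704f68c2eea3103b8829ea30e7ba01bfe103fe1025fc31058a4284b))) (.leaf (nat_lit 0xa918a2a9028ae70a2b4828aa789ba5823ab6897fc222a968a2a06287d50a1f0628ac18a2b5828aa18a2ad428b0489f95a2472dcb04f70313f2c03dccd0cff8433ceb0f72bc35c8e0ff3304fca313d51c4f52313f3303fd6e0d7330495840dd72c495e41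449ea8620ab4863a0626e9609abdc23a920a3fc218ac6883a5626e8189a1922685189b95626e4209b91626e3209b99419ae5071f756312d61c4bd4512f4904bd660c75204358611551051d8610ff84310c50ebb9835c6312f2144bee312fc144bfa70d57183ab9bb5892e8624e7787399616e76873fc216e7707799817e4189394e24aa1892ad624e75077b1a17f2506f94827e418a2b482788d728435e80ad838475e411f40c515c413583443fe10ad72c475a311d718475a311d70c475ec11d60c475aa11d9243dced0b396ac622ac388ac0a22af208ab1420eb4057f8628ab2097b0c20ff0855f461f74185eb8622af288bdc622f8288ac8e1ffd305d736290ad68c47d8310f6a843d2312f6a83162c0ad79047daa0c758c4b1c209c00c25e2310f928435e910d71043fe1095830261f)))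
noncomputable def recs0 : Tr ℕ := (.node (nat_lit 1) (.leaf (nat_lit 0x3d800140010a3424a309a8c248d268002a002b0003000070012e003f000120048800400006a3430a34a8001200090011c004200042003e8002a003d000300009a3442a34180026001080114000aa8d2e8d41bed2ae50aa352aa33f2e526cf0a28d268d3d3ed22e50a23522a33dae51ccf452351ca309a8d1c8d3eb9514fb3d2e514cf4187d140909a3514a340b94acfb26b9508fb2b49d09112b2e508cf41a3508a30928d088d0923506a326c45032708a8d028d26824fc1f3ea34fca30728cfc8d07234faa33d234f6a306a8cf68d06a34f4a30c0241a1f0507c1a09298001a00048241c1f0a87c1c09070009600055fc336904dfc2d6905da4097f045fc0969055a4297f0cdfc296904da4277f0b5fc27692c8003200280002c00020008e002b800280027000260007da40b7f03dfc0b691c8001600045a4177f1c00010000280084001f0001e0003da41f7f2200016001e8000e000780080001c92cb2352bda4b37f055fcb3691c12cae35055a4af7f0528cac8d2592ca6350c024a61f0507ca6091c8d4a04b275a4a17f04dfca1691c0d49c4b04da49d7f04a8c9a8d258242a1f04824961f1f54c733d1c9848e77225a48f7f045fc8f692054c893d1c1848877045a4897f205a4857f03dfc85691e9dc806103da4817f1eda47d7f02dfc7d6902da47b7f021841077059dc10611b0001000025fc7369025a4717f1b1841677021846c77012e406cf0333c06b918800060018ae40ccf012e462cf00d4c033d00c9c031100bec02e500b3c02b900a8c028d009dc02610092c02350087c0209))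 (.leaf (nat_lit 0x8a8c408d0a28c228d0c23414a306a8c148d04a8c2a8d4080040000aa8c1c8d4980022000728c128d0a23440a3)))
noncomputable def rows : Tr ℕ := rows0
noncomputable def recs : Tr ℕ := recs0
noncomputable def ci0 : CI := ⟨[], (nat_lit 0), false, (.node (nat_lit 1) (.leaf Rule.defn) (.leaf Rule.copy)), (.node (nat_lit 16) (.node (nat_lit 8) (.node (nat_lit 4) (.node (nat_lit 2) (.node (nat_lit 1) (.leaf (XRule.rot (nat_lit 0) [] 98 0)) (.leaf (XRule.rot (nat_lit 229067689131300899784368229465807) [207, 31, 53, 31, 31, 53, 31, 207, 361, 207, 207, 361] 85 1))) (.node (nat_lit 1) (.leaf (XRule.rot (nat_lit 4967684156758647) [119, 141, 97, 163, 97, 141] 68 4)) (.leaf (XRule.rot (nat_lit 24820839284541) [317, 383, 339, 97, 361] 94 1)))) (.node (nat_lit 2) (.node (nat_lit 1) (.leaf (XRule.rot (nat_lit 49783) [119, 97] 98 0)) (.leaf (XRule.rot (nat_lit 173885) [317, 339] 98 0))) (.node (nat_lit 1) (.leaf (XRule.rot (nat_lit 185215)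 [383, 361] 98 0)) (.leaf (XRule.rot (nat_lit 196457) [361, 383] 98 0))))) (.node (nat_lit 4) (.node (nat_lit 2) (.node (nat_lit 1) (.leaf (XRule.rot (nat_lit 61025) [97, 119] 98 0)) (.leaf (XRule.rot (nat_lit 27211) [75, 53] 98 0))) (.node (nat_lit 1) (.leaf (XRule.rot (nat_lit 38453) [53, 75] 98 0)) (.leaf (XRule.rot (nat_lit 19687088739201391138301615554101) [53, 31, 207, 361, 207, 207, 361, 207, 31, 53, 31, 31] 85 8)))) (.node (nat_lit 2) (.node (nat_lit 1) (.leaf (XRule.rot (nat_lit 9690720061157) [229, 163, 251, 9, 141] 48 1)) (.leaf (XRule.rot (nat_lit 4639) [31, 9] 98 0))) (.node (nat_lit 1) (.leaf (XRule.rot (nat_lit 106169) [185, 207] 98 0)) (.leaf (XRule.rot (nat_lit 128741) [229, 251] 98 0)))))) (.node (nat_lit 2) (.node (nat_lit 1) (.leaf (XRule.rot (nat_lit 72355) [163, 141] 98 0)) (.leaf (XRule.rot (nat_lit 83597) [141, 163] 98 0))) (.leaf (XRule.rot (nat_lit 94927) [207, 185] 98 0))))⟩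
noncomputable def ci9 : CI := ⟨[0], (nat_lit 31), true, (.node (nat_lit 8) (.node (nat_lit 4) (.node (nat_lit 2) (.node (nat_lit 1) (.leaf Rule.defn) (.leaf Rule.copy)) (.node (nat_lit 1) (.leaf (Rule.fwd [nat_lit 383, nat_lit 31, nat_lit 361] 78 1)) (.leaf (Rule.fwd [nat_lit 31] 98 0)))) (.node (nat_lit 2) (.node (nat_lit 1) (.leaf (Rule.fwd [nat_lit 141, nat_lit 31, nat_lit 163] 18 0)) (.leaf (Rule.fwd [nat_lit 185, nat_lit 31, nat_lit 207] 20 0))) (.node (nat_lit 1) (.leaf (Rule.fwd [nat_lit 97, nat_lit 31, nat_lit 119, nat_lit 251] 16 0)) (.leaf (Rule.fwd [nat_lit 317, nat_lit 31, nat_lit 339, nat_lit 295] 26 0))))) (.node (nat_lit 4) (.node (nat_lit 2) (.node (nat_lit 1) (.leaf (Rule.fwd [nat_lit 207, nat_lit 31, nat_lit 185] 21 3)) (.leaf (Rule.fwd [nat_lit 251, nat_lit 31, nat_lit 229] 23 3))) (.node (nat_lit 1) (.leaf (Rule.fwd [nat_lit 119, nat_lit 31, nat_lit 229, nat_lit 97] 17 3)) (.leaf (Rule.fwd [nat_lit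 9, nat_lit 9] 0 0)))) (.leaf (Rule.fwd [nat_lit 229, nat_lit 31, nat_lit 251] 22 0)))), (.node (nat_lit 2) (.node (nat_lit 1) (.leaf XRule.defn) (.leaf XRule.ax)) (.node (nat_lit 1) (.leaf (XRule.rot (nat_lit 31) [31] 98 0)) (.leaf (XRule.rot (nat_lit 36978339) [163, 31, 141] 19 3))))⟩
noncomputable def ci31 : CI := ⟨[1], (nat_lit 9), false, (.node (nat_lit 8) (.node (nat_lit 4) (.node (nat_lit 2) (.node (nat_lit 1) (.leaf Rule.defn) (.leaf Rule.copy)) (.node (nat_lit 1) (.leaf (Rule.fwd [nat_lit 9] 98 0)) (.leaf (Rule.fwd [nat_lit 361, nat_lit 9, nat_lit 383] 78 3)))) (.node (nat_lit 2) (.node (nat_lit 1) (.leaf (Rule.fwd [nat_lit 163, nat_lit 9, nat_lit 141] 18 2)) (.leaf (Rule.fwd [nat_lit 119, nat_lit 251, nat_lit 9, nat_lit 97] 16 2))) (.node (nat_lit 1) (.leaf (Rule.fwd [nat_lit 185, nat_lit 9, nat_lit 207] 21 1)) (.leaf (Rule.fwd [nat_lit 31, nat_lit 31] 1 0))))) (.node (nat_lit 2) (.node (nat_lit 1) (.leaf (Rule.fwd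 [nat_lit 229, nat_lit 9, nat_lit 251] 23 1)) (.leaf (Rule.fwd [nat_lit 251, nat_lit 9, nat_lit 229] 22 2))) (.leaf (Rule.fwd [nat_lit 295, nat_lit 9, nat_lit 273] 24 2)))), (.node (nat_lit 4) (.node (nat_lit 2) (.node (nat_lit 1) (.leaf XRule.defn) (.leaf XRule.defn)) (.node (nat_lit 1) (.leaf (XRule.rot (nat_lit 15903) [31, 31] 1 0)) (.leaf (XRule.rot (nat_lit 9) [9] 98 0)))) (.leaf (XRule.rot (nat_lit 42734221) [141, 9, 163] 19 1)))⟩
noncomputable def ci53 : CI := ⟨[2], (nat_lit 75), true, (.node (nat_lit 8) (.node (nat_lit 4) (.node (nat_lit 2) (.node (nat_lit 1) (.leaf Rule.defn) (.leaf Rule.copy)) (.node (nat_lit 1) (.leaf (Rule.fwd [nat_lit 383, nat_lit 75, nat_lit 361] 80 1)) (.leaf (Rule.fwd [nat_lit 75] 98 0)))) (.node (nat_lit 2) (.node (nat_lit 1) (.leaf (Rule.fwd [nat_lit 185, nat_lit 75, nat_lit 207] 30 0)) (.leaf (Rule.fwd [nat_lit 9, nat_lit 75, nat_lit 9, nat_lit 53, nat_lit 31] 66 5))) (.node (nat_lit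 1) (.leaf (Rule.fwd [nat_lit 31, nat_lit 53, nat_lit 9, nat_lit 75, nat_lit 9] 66 3)) (.leaf (Rule.fwd [nat_lit 97, nat_lit 75, nat_lit 119] 28 0))))) (.node (nat_lit 1) (.leaf (Rule.fwd [nat_lit 119, nat_lit 75, nat_lit 97] 29 3)) (.leaf (Rule.fwd [nat_lit 229, nat_lit 75, nat_lit 251, nat_lit 119] 32 0)))), (.node (nat_lit 4) (.node (nat_lit 2) (.node (nat_lit 1) (.leaf XRule.defn) (.leaf XRule.ax)) (.node (nat_lit 1) (.leaf (XRule.rot (nat_lit 2137419716105) [9, 75, 9, 53, 31] 66 5)) (.leaf (XRule.rot (nat_lit 94672767) [383, 75, 361] 80 1)))) (.leaf (XRule.rot (nat_lit 100439913) [361, 75, 383] 81 0)))⟩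
noncomputable def ci75 : CI := ⟨[3], (nat_lit 53), false, (.node (nat_lit 8) (.node (nat_lit 4) (.node (nat_lit 2) (.node (nat_lit 1) (.leaf Rule.defn) (.leaf Rule.copy)) (.node (nat_lit 1) (.leaf (Rule.fwd [nat_lit 53] 98 0)) (.leaf (Rule.fwd [nat_lit 361, nat_lit 53, nat_lit 383] 80 3)))) (.node (nat_lit 2) (.node (nat_lit 1) (.leaf (Rule.fwd [nat_lit 75, nat_lit 75] 3 0)) (.leaf (Rule.fwd [nat_lit 97, nat_lit 53, nat_lit 119] 29 1))) (.node (nat_lit 1) (.leaf (Rule.fwd [nat_lit 185, nat_lit 53, nat_lit 207] 31 1)) (.leaf (Rule.fwd [nat_lit 119, nat_lit 53, nat_lit 97] 28 2))))) (.node (nat_lit 4) (.node (nat_lit 2) (.node (nat_lit 1) (.leaf (Rule.fwd [nat_lit 9, nat_lit 53, nat_lit 31, nat_lit 53, nat_lit 9] 66 1)) (.leaf (Rule.fwd [nat_lit 317, nat_lit 273, nat_lit 53, nat_lit 295] 35 1))) (.node (nat_lit 1) (.leaf (Rule.fwd [nat_lit 251, nat_lit 119, nat_lit 53, nat_lit 229] 32 2)) (.leaf (Rule.fwd [nat_lit 295,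 nat_lit 339, nat_lit 53, nat_lit 273] 34 2)))) (.leaf (Rule.fwd [nat_lit 31, nat_lit 53, nat_lit 31, nat_lit 75, nat_lit 9] 67 4)))), (.node (nat_lit 2) (.node (nat_lit 1) (.leaf XRule.defn) (.leaf XRule.defn)) (.node (nat_lit 1) (.leaf (XRule.rot (nat_lit 94661503) [383, 53, 361] 81 2)) (.leaf (XRule.rot (nat_lit 100428649) [361, 53, 383] 80 3))))⟩
noncomputable def ci97 : CI := ⟨[4], (nat_lit 119), true, (.node (nat_lit 8) (.node (nat_lit 4) (.node (nat_lit 2) (.node (nat_lit 1) (.leaf Rule.defn) (.leaf Rule.copy)) (.node (nat_lit 1) (.leaf (Rule.fwd [nat_lit 383, nat_lit 119, nat_lit 361] 92 1)) (.leaf (Rule.fwd [nat_lit 119] 98 0)))) (.node (nat_lit 2) (.node (nat_lit 1) (.leaf (Rule.fwd [nat_lit 185, nat_lit 119, nat_lit 207, nat_lit 339] 38 0)) (.leaf (Rule.fwd [nat_lit 163, nat_lit 97, nat_lit 361, nat_lit 97, nat_lit 163, nat_lit 97, nat_lit 97, nat_lit 163, nat_lit 97, nat_lit 361, nat_lit 97, nat_lit 163, nat_lit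 97] 86 3))) (.node (nat_lit 1) (.leaf (Rule.fwd [nat_lit 97, nat_lit 97] 4 0)) (.leaf (Rule.fwd [nat_lit 75, nat_lit 119, nat_lit 53] 28 1))))) (.node (nat_lit 4) (.node (nat_lit 2) (.node (nat_lit 1) (.leaf (Rule.fwd [nat_lit 53, nat_lit 119, nat_lit 75] 29 0)) (.leaf (Rule.fwd [nat_lit 31, nat_lit 119, nat_lit 251, nat_lit 9] 16 1))) (.node (nat_lit 1) (.leaf (Rule.fwd [nat_lit 317, nat_lit 119, nat_lit 339] 44 0)) (.leaf (Rule.fwd [nat_lit 229, nat_lit 119, nat_lit 251] 40 0)))) (.node (nat_lit 1) (.leaf (Rule.fwd [nat_lit 273, nat_lit 119, nat_lit 295] 42 0)) (.leaf (Rule.fwd [nat_lit 295, nat_lit 119, nat_lit 273] 43 3))))), (.node (nat_lit 2) (.node (nat_lit 1) (.leaf XRule.defn) (.leaf XRule.ax)) (.node (nat_lit 1) (.leaf (XRule.rot (nat_lit 119) [119] 98 0)) (.leaf (XRule.rot (nat_lit 94695295) [383, 119, 361] 92 1))))⟩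
noncomputable def ci119 : CI := ⟨[5], (nat_lit 97), false, (.node (nat_lit 8) (.node (nat_lit 4) (.node (nat_lit 2) (.node (nat_lit 1) (.leaf Rule.defn) (.leaf Rule.copy)) (.node (nat_lit 1) (.leaf (Rule.fwd [nat_lit 97] 98 0)) (.leaf (Rule.fwd [nat_lit 361, nat_lit 97, nat_lit 383] 92 3)))) (.node (nat_lit 2) (.node (nat_lit 1) (.leaf (Rule.fwd [nat_lit 317, nat_lit 185, nat_lit 97, nat_lit 207] 39 1)) (.leaf (Rule.fwd [nat_lit 75, nat_lit 97, nat_lit 53] 29 2))) (.node (nat_lit 1) (.leaf (Rule.fwd [nat_lit 53, nat_lit 97, nat_lit 75] 28 3)) (.leaf (Rule.fwd [nat_lit 119, nat_lit 119] 5 0))))) (.node (nat_lit 2) (.node (nat_lit 1) (.leaf (Rule.fwd [nat_lit 317, nat_lit 97, nat_lit 339] 45 1)) (.leaf (Rule.fwd [nat_lit 273, nat_lit 97, nat_lit 295] 43 1))) (.node (nat_lit 1) (.leaf (Rule.fwd [nat_lit 251, nat_lit 97, nat_lit 229] 40 2)) (.leaf (Rule.fwd [nat_lit 295, nat_lit 97, nat_lit 273] 42 2))))), (.node (nat_lit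 4) (.node (nat_lit 2) (.node (nat_lit 1) (.leaf XRule.defn) (.leaf XRule.defn)) (.node (nat_lit 1) (.leaf (XRule.rot (nat_lit 61047) [119, 119] 5 0)) (.leaf (XRule.rot (nat_lit 97) [97] 98 0)))) (.node (nat_lit 1) (.leaf (XRule.rot (nat_lit 94684031) [383, 97, 361] 93 2)) (.leaf (XRule.rot (nat_lit 100451177) [361, 97, 383] 92 3))))⟩
noncomputable def ci141 : CI := ⟨[6], (nat_lit 163), true, (.node (nat_lit 8) (.node (nat_lit 4) (.node (nat_lit 2) (.node (nat_lit 1) (.leaf Rule.defn) (.leaf Rule.copy)) (.node (nat_lit 1) (.leaf (Rule.fwd [nat_lit 163] 98 0)) (.leaf (Rule.fwd [nat_lit 97, nat_lit 163, nat_lit 97, nat_lit 141, nat_lit 119] 68 5)))) (.node (nat_lit 2) (.node (nat_lit 1) (.leaf (Rule.fwd [nat_lit 119, nat_lit 141, nat_lit 97, nat_lit 163, nat_lit 97] 68 3)) (.leaf (Rule.fwd [nat_lit 185, nat_lit 163, nat_lit 207] 46 0))) (.node (nat_lit 1) (.leaf (Rule.fwd [nat_lit 317, nat_lit 163, nat_lit 339, nat_lit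 207] 52 0)) (.leaf (Rule.fwd [nat_lit 31, nat_lit 163, nat_lit 9] 18 1))))) (.node (nat_lit 2) (.node (nat_lit 1) (.leaf (Rule.fwd [nat_lit 9, nat_lit 163, nat_lit 31] 19 0)) (.leaf (Rule.fwd [nat_lit 207, nat_lit 163, nat_lit 185] 47 3))) (.leaf (Rule.fwd [nat_lit 273, nat_lit 163, nat_lit 295] 50 0)))), (.node (nat_lit 2) (.node (nat_lit 1) (.leaf XRule.defn) (.leaf XRule.ax)) (.leaf (XRule.rot (nat_lit 163) [163] 98 0)))⟩
noncomputable def ci163 : CI := ⟨[7], (nat_lit 141), false, (.node (nat_lit 8) (.node (nat_lit 4) (.node (nat_lit 2) (.node (nat_lit 1) (.leaf Rule.defn) (.leaf Rule.copy)) (.node (nat_lit 1) (.leaf (Rule.fwd [nat_lit 141] 98 0)) (.leaf (Rule.fwd [nat_lit 163, nat_lit 163] 7 0)))) (.node (nat_lit 2) (.node (nat_lit 1) (.leaf (Rule.fwd [nat_lit 185, nat_lit 141, nat_lit 207] 47 1)) (.leaf (Rule.fwd [nat_lit 97, nat_lit 9, nat_lit 75, nat_lit 9, nat_lit 97, nat_lit 163, nat_lit 97, nat_lit 9, nat_lit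 75, nat_lit 9, nat_lit 97, nat_lit 163, nat_lit 97, nat_lit 9, nat_lit 75, nat_lit 9, nat_lit 97] 74 4))) (.node (nat_lit 1) (.leaf (Rule.fwd [nat_lit 295, nat_lit 141, nat_lit 273] 50 2)) (.leaf (Rule.fwd [nat_lit 207, nat_lit 141, nat_lit 185] 46 2))))) (.node (nat_lit 1) (.leaf (Rule.fwd [nat_lit 251, nat_lit 9, nat_lit 141, nat_lit 229] 48 2)) (.leaf (Rule.fwd [nat_lit 31, nat_lit 229, nat_lit 141, nat_lit 251] 49 1)))), (.node (nat_lit 2) (.node (nat_lit 1) (.leaf XRule.defn) (.leaf XRule.defn)) (.node (nat_lit 1) (.leaf (XRule.rot (nat_lit 83619) [163, 163] 7 0)) (.leaf (XRule.rot (nat_lit 141) [141] 98 0))))⟩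
noncomputable def ci185 : CI := ⟨[8], (nat_lit 207), true, (.node (nat_lit 4) (.node (nat_lit 2) (.node (nat_lit 1) (.leaf Rule.defn) (.leaf Rule.copy)) (.node (nat_lit 1) (.leaf (Rule.fwd [nat_lit 207] 98 0)) (.leaf (Rule.fwd [nat_lit 97, nat_lit 207, nat_lit 119, nat_lit 317] 39 4)))) (.node (nat_lit 2) (.node (nat_lit 1) (.leaf (Rule.fwd [nat_lit 317, nat_lit 207, nat_lit 339] 58 0)) (.leaf (Rule.fwd [nat_lit 119, nat_lit 207, nat_lit 339, nat_lit 97] 38 1))) (.leaf (Rule.fwd [nat_lit 273, nat_lit 207, nat_lit 295] 56 0)))), (.node (nat_lit 2) (.node (nat_lit 1) (.leaf XRule.defn) (.leaf XRule.ax)) (.leaf (XRule.rot (nat_lit 207) [207] 98 0)))⟩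
noncomputable def ci207 : CI := ⟨[9], (nat_lit 185), false, (.node (nat_lit 8) (.node (nat_lit 4) (.node (nat_lit 2) (.node (nat_lit 1) (.leaf Rule.defn) (.leaf Rule.copy)) (.node (nat_lit 1) (.leaf (Rule.fwd [nat_lit 185] 98 0)) (.leaf (Rule.fwd [nat_lit 163, nat_lit 185, nat_lit 141] 47 2)))) (.node (nat_lit 2) (.node (nat_lit 1) (.leaf (Rule.fwd [nat_lit 141, nat_lit 185, nat_lit 163] 46 3)) (.leaf (Rule.fwd [nat_lit 207, nat_lit 207] 9 0))) (.node (nat_lit 1) (.leaf (Rule.fwd [nat_lit 75, nat_lit 185, nat_lit 53] 31 2)) (.leaf (Rule.fwd [nat_lit 53, nat_lit 185, nat_lit 75] 30 3))))) (.node (nat_lit 4) (.node (nat_lit 2) (.node (nat_lit 1) (.leaf (Rule.fwd [nat_lit 9, nat_lit 185, nat_lit 31] 20 3)) (.leaf (Rule.fwd [nat_lit 31, nat_lit 185, nat_lit 9] 21 2))) (.node (nat_lit 1) (.leaf (Rule.fwd [nat_lit 251, nat_lit 273, nat_lit 185, nat_lit 229] 54 2)) (.leaf (Rule.fwd [nat_lit 295, nat_lit 185, nat_lit 273] 56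 2)))) (.leaf (Rule.fwd [nat_lit 295, nat_lit 229, nat_lit 185, nat_lit 251] 55 1)))), (.node (nat_lit 4) (.node (nat_lit 2) (.node (nat_lit 1) (.leaf XRule.defn) (.leaf XRule.defn)) (.node (nat_lit 1) (.leaf (XRule.rot (nat_lit 106191) [207, 207] 9 0)) (.leaf (XRule.rot (nat_lit 185) [185] 98 0)))) (.node (nat_lit 1) (.leaf (XRule.rot (nat_lit 42824333) [141, 185, 163] 46 3)) (.leaf (XRule.rot (nat_lit 37057187) [163, 185, 141] 47 2))))⟩
noncomputable def ci229 : CI := ⟨[10], (nat_lit 251), true, (.node (nat_lit 8) (.node (nat_lit 4) (.node (nat_lit 2) (.node (nat_lit 1) (.leaf Rule.defn) (.leaf Rule.copy)) (.node (nat_lit 1) (.leaf (Rule.fwd [nat_lit 383, nat_lit 251, nat_lit 361] 88 1)) (.leaf (Rule.fwd [nat_lit 251] 98 0)))) (.node (nat_lit 2) (.node (nat_lit 1) (.leaf (Rule.fwd [nat_lit 163, nat_lit 251, nat_lit 9, nat_lit 141] 48 1)) (.leaf (Rule.fwd [nat_lit 119, nat_lit 251, nat_lit 97] 40 1))) (.node (nat_lit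 1) (.leaf (Rule.fwd [nat_lit 75, nat_lit 251, nat_lit 119, nat_lit 53] 32 1)) (.leaf (Rule.fwd [nat_lit 97, nat_lit 251, nat_lit 119] 41 0))))) (.node (nat_lit 4) (.node (nat_lit 2) (.node (nat_lit 1) (.leaf (Rule.fwd [nat_lit 317, nat_lit 251, nat_lit 339] 62 0)) (.leaf (Rule.fwd [nat_lit 53, nat_lit 251, nat_lit 75, nat_lit 97] 33 4))) (.node (nat_lit 1) (.leaf (Rule.fwd [nat_lit 9, nat_lit 251, nat_lit 31] 23 0)) (.leaf (Rule.fwd [nat_lit 273, nat_lit 251, nat_lit 295] 60 0)))) (.node (nat_lit 1) (.leaf (Rule.fwd [nat_lit 229, nat_lit 229] 10 0)) (.leaf (Rule.fwd [nat_lit 295, nat_lit 251, nat_lit 273] 61 3))))), (.node (nat_lit 2) (.node (nat_lit 1) (.leaf XRule.defn) (.leaf XRule.ax)) (.leaf (XRule.rot (nat_lit 18927187619) [163, 251, 9, 141] 48 1)))⟩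
noncomputable def ci251 : CI := ⟨[11], (nat_lit 229), false, (.node (nat_lit 8) (.node (nat_lit 4) (.node (nat_lit 2) (.node (nat_lit 1) (.leaf Rule.defn) (.leaf Rule.copy)) (.node (nat_lit 1) (.leaf (Rule.fwd [nat_lit 229] 98 0)) (.leaf (Rule.fwd [nat_lit 361, nat_lit 229, nat_lit 383] 88 3)))) (.node (nat_lit 2) (.node (nat_lit 1) (.leaf (Rule.fwd [nat_lit 9, nat_lit 141, nat_lit 229, nat_lit 163] 48 3)) (.leaf (Rule.fwd [nat_lit 273, nat_lit 185, nat_lit 229, nat_lit 207] 54 3))) (.node (nat_lit 1) (.leaf (Rule.fwd [nat_lit 97, nat_lit 229, nat_lit 119] 40 3)) (.leaf (Rule.fwd [nat_lit 119, nat_lit 53, nat_lit 229, nat_lit 75] 32 3))))) (.node (nat_lit 4) (.node (nat_lit 2) (.node (nat_lit 1) (.leaf (Rule.fwd [nat_lit 75, nat_lit 97, nat_lit 229, nat_lit 53] 33 2)) (.leaf (Rule.fwd [nat_lit 119, nat_lit 229, nat_lit 97] 41 2))) (.node (nat_lit 1) (.leaf (Rule.fwd [nat_lit 207, nat_lit 295, nat_lit 229, nat_lit 185]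 55 2)) (.leaf (Rule.fwd [nat_lit 31, nat_lit 229, nat_lit 9] 23 2)))) (.node (nat_lit 2) (.node (nat_lit 1) (.leaf (Rule.fwd [nat_lit 251, nat_lit 251] 11 0)) (.leaf (Rule.fwd [nat_lit 273, nat_lit 229, nat_lit 295] 61 1))) (.leaf (Rule.fwd [nat_lit 295, nat_lit 229, nat_lit 273] 60 2))))), (.node (nat_lit 4) (.node (nat_lit 2) (.node (nat_lit 1) (.leaf XRule.defn) (.leaf XRule.defn)) (.node (nat_lit 1) (.leaf (XRule.rot (nat_lit 21937592841) [9, 141, 229, 163] 48 3)) (.leaf (XRule.rot (nat_lit 71682855) [295, 229, 273] 60 2)))) (.leaf (XRule.rot (nat_lit 18984746659) [163, 31, 229, 141] 49 2)))⟩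
noncomputable def ci273 : CI := ⟨[12], (nat_lit 295), true, (.node (nat_lit 8) (.node (nat_lit 4) (.node (nat_lit 2) (.node (nat_lit 1) (.leaf Rule.defn) (.leaf Rule.copy)) (.node (nat_lit 1) (.leaf (Rule.fwd [nat_lit 383, nat_lit 295, nat_lit 229, nat_lit 361] 90 1)) (.leaf (Rule.fwd [nat_lit 295] 98 0)))) (.node (nat_lit 2) (.node (nat_lit 1) (.leaf (Rule.fwd [nat_lit 163, nat_lit 295, nat_lit 141] 50 1)) (.leaf (Rule.fwd [nat_lit 119, nat_lit 295, nat_lit 97] 42 1))) (.node (nat_lit 1) (.leaf (Rule.fwd [nat_lit 75, nat_lit 295, nat_lit 339, nat_lit 53] 34 1)) (.leaf (Rule.fwd [nat_lit 185, nat_lit 295, nat_lit 207] 57 0))))) (.node (nat_lit 2) (.node (nat_lit 1) (.leaf (Rule.fwd [nat_lit 317, nat_lit 295, nat_lit 339] 64 0)) (.leaf (Rule.fwd [nat_lit 31, nat_lit 295, nat_lit 9] 24 1))) (.node (nat_lit 1) (.leaf (Rule.fwd [nat_lit 273, nat_lit 273] 12 0)) (.leaf (Rule.fwd [nat_lit 229, nat_lit 295, nat_lit 251] 61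 0))))), (.node (nat_lit 2) (.node (nat_lit 1) (.leaf XRule.defn) (.leaf XRule.ax)) (.leaf (XRule.rot (nat_lit 42880653) [141, 295, 163] 51 0)))⟩
noncomputable def ci295 : CI := ⟨[13], (nat_lit 273), false, (.node (nat_lit 8) (.node (nat_lit 4) (.node (nat_lit 2) (.node (nat_lit 1) (.leaf Rule.defn) (.leaf Rule.copy)) (.node (nat_lit 1) (.leaf (Rule.fwd [nat_lit 273] 98 0)) (.leaf (Rule.fwd [nat_lit 229, nat_lit 361, nat_lit 273, nat_lit 383] 90 3)))) (.node (nat_lit 2) (.node (nat_lit 1) (.leaf (Rule.fwd [nat_lit 141, nat_lit 273, nat_lit 163] 50 3)) (.leaf (Rule.fwd [nat_lit 185, nat_lit 273, nat_lit 207] 56 3))) (.node (nat_lit 1) (.leaf (Rule.fwd [nat_lit 97, nat_lit 273, nat_lit 119] 42 3)) (.leaf (Rule.fwd [nat_lit 75, nat_lit 317, nat_lit 273, nat_lit 53] 35 2))))) (.node (nat_lit 4) (.node (nat_lit 2) (.node (nat_lit 1) (.leaf (Rule.fwd [nat_lit 339, nat_lit 53, nat_lit 273, nat_lit 75] 34 3)) (.leaf (Rule.fwd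 [nat_lit 229, nat_lit 185, nat_lit 251, nat_lit 207] 55 0))) (.node (nat_lit 1) (.leaf (Rule.fwd [nat_lit 119, nat_lit 273, nat_lit 97] 43 2)) (.leaf (Rule.fwd [nat_lit 9, nat_lit 273, nat_lit 31] 24 3)))) (.node (nat_lit 2) (.node (nat_lit 1) (.leaf (Rule.fwd [nat_lit 295, nat_lit 295] 13 0)) (.leaf (Rule.fwd [nat_lit 251, nat_lit 273, nat_lit 229] 61 2))) (.leaf (Rule.fwd [nat_lit 229, nat_lit 273, nat_lit 251] 60 3))))), (.node (nat_lit 2) (.node (nat_lit 1) (.leaf XRule.defn) (.leaf XRule.defn)) (.leaf (XRule.rot (nat_lit 42869389) [141, 273, 163] 50 3)))⟩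
noncomputable def ci317 : CI := ⟨[14], (nat_lit 339), true, (.node (nat_lit 8) (.node (nat_lit 4) (.node (nat_lit 2) (.node (nat_lit 1) (.leaf Rule.defn) (.leaf Rule.copy)) (.node (nat_lit 1) (.leaf (Rule.fwd [nat_lit 383, nat_lit 339, nat_lit 97, nat_lit 361] 94 1)) (.leaf (Rule.fwd [nat_lit 339] 98 0)))) (.node (nat_lit 2) (.node (nat_lit 1) (.leaf (Rule.fwd [nat_lit 185, nat_lit 339, nat_lit 207] 59 0)) (.leaf (Rule.fwd [nat_lit 207, nat_lit 339, nat_lit 185] 58 1))) (.node (nat_lit 1) (.leaf (Rule.fwd [nat_lit 97, nat_lit 339, nat_lit 119] 45 0)) (.leaf (Rule.fwd [nat_lit 75, nat_lit 339, nat_lit 53] 36 1))))) (.node (nat_lit 4) (.node (nat_lit 2) (.node (nat_lit 1) (.leaf (Rule.fwd [nat_lit 53, nat_lit 339, nat_lit 75] 37 0)) (.leaf (Rule.fwd [nat_lit 31, nat_lit 339, nat_lit 295, nat_lit 9] 26 1))) (.node (nat_lit 1) (.leaf (Rule.fwd [nat_lit 273, nat_lit 339, nat_lit 295] 65 0)) (.leaf (Rule.fwd [nat_lit 251,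 nat_lit 339, nat_lit 229] 62 1)))) (.leaf (Rule.fwd [nat_lit 295, nat_lit 339, nat_lit 273] 64 1)))), (.node (nat_lit 2) (.node (nat_lit 1) (.leaf XRule.defn) (.leaf XRule.ax)) (.node (nat_lit 1) (.leaf (XRule.rot (nat_lit 48478201727) [383, 339, 97, 361] 94 1)) (.leaf (XRule.rot (nat_lit 16072484713) [361, 339, 383, 119] 95 4))))⟩
noncomputable def ci339 : CI := ⟨[15], (nat_lit 317), false, (.node (nat_lit 8) (.node (nat_lit 4) (.node (nat_lit 2) (.node (nat_lit 1) (.leaf Rule.defn) (.leaf Rule.copy)) (.node (nat_lit 1) (.leaf (Rule.fwd [nat_lit 317] 98 0)) (.leaf (Rule.fwd [nat_lit 97, nat_lit 361, nat_lit 317, nat_lit 383] 94 3)))) (.node (nat_lit 2) (.node (nat_lit 1) (.leaf (Rule.fwd [nat_lit 185, nat_lit 317, nat_lit 207] 58 3)) (.leaf (Rule.fwd [nat_lit 163, nat_lit 185, nat_lit 317, nat_lit 141] 53 2))) (.node (nat_lit 1) (.leaf (Rule.fwd [nat_lit 207, nat_lit 141, nat_lit 317, nat_lit 163] 52 3)) (.leaf (Rule.fwd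 [nat_lit 75, nat_lit 317, nat_lit 53] 37 2))))) (.node (nat_lit 4) (.node (nat_lit 2) (.node (nat_lit 1) (.leaf (Rule.fwd [nat_lit 53, nat_lit 317, nat_lit 75] 36 3)) (.leaf (Rule.fwd [nat_lit 97, nat_lit 185, nat_lit 119, nat_lit 207] 38 4))) (.node (nat_lit 1) (.leaf (Rule.fwd [nat_lit 339, nat_lit 339] 15 0)) (.leaf (Rule.fwd [nat_lit 119, nat_lit 317, nat_lit 97] 45 2)))) (.node (nat_lit 2) (.node (nat_lit 1) (.leaf (Rule.fwd [nat_lit 295, nat_lit 9, nat_lit 317, nat_lit 31] 26 3)) (.leaf (Rule.fwd [nat_lit 229, nat_lit 317, nat_lit 251] 62 3))) (.node (nat_lit 1) (.leaf (Rule.fwd [nat_lit 53, nat_lit 273, nat_lit 75, nat_lit 295] 34 4)) (.leaf (Rule.fwd [nat_lit 295, nat_lit 317, nat_lit 273] 65 2)))))), (.node (nat_lit 1) (.leaf XRule.defn) (.leaf XRule.defn))⟩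
noncomputable def ci361 : CI := ⟨[16], (nat_lit 383), false, (.node (nat_lit 8) (.node (nat_lit 4) (.node (nat_lit 2) (.node (nat_lit 1) (.leaf Rule.defn) (.leaf Rule.copy)) (.node (nat_lit 1) (.leaf (Rule.fwd [nat_lit 383] 98 0)) (.leaf (Rule.fwd [nat_lit 185, nat_lit 383, nat_lit 185, nat_lit 361, nat_lit 207] 82 5)))) (.node (nat_lit 2) (.node (nat_lit 1) (.leaf (Rule.fwd [nat_lit 97, nat_lit 383, nat_lit 119] 92 0)) (.leaf (Rule.fwd [nat_lit 119, nat_lit 383, nat_lit 97] 93 3))) (.node (nat_lit 1) (.leaf (Rule.fwd [nat_lit 207, nat_lit 383, nat_lit 185, nat_lit 383, nat_lit 207] 83 2)) (.leaf (Rule.fwd [nat_lit 229, nat_lit 383, nat_lit 251] 88 0))))) (.leaf (Rule.fwd [nat_lit 251, nat_lit 383, nat_lit 229] 89 3))), (.node (nat_lit 2) (.node (nat_lit 1) (.leaf XRule.defn) (.leaf XRule.defn)) (.leaf (XRule.rot (nat_lit 383) [383] 98 0)))⟩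
noncomputable def ci383 : CI := ⟨[17], (nat_lit 361), false, (.node (nat_lit 8) (.node (nat_lit 4) (.node (nat_lit 2) (.node (nat_lit 1) (.leaf Rule.defn) (.leaf Rule.copy)) (.node (nat_lit 1) (.leaf (Rule.fwd [nat_lit 361] 98 0)) (.leaf (Rule.fwd [nat_lit 383, nat_lit 383] 77 0)))) (.node (nat_lit 2) (.node (nat_lit 1) (.leaf (Rule.fwd [nat_lit 185, nat_lit 97, nat_lit 163, nat_lit 97, nat_lit 185, nat_lit 383, nat_lit 185, nat_lit 97, nat_lit 163, nat_lit 97, nat_lit 185, nat_lit 383, nat_lit 185, nat_lit 97, nat_lit 163, nat_lit 97, nat_lit 185] 96 4)) (.leaf (Rule.fwd [nat_lit 75, nat_lit 361, nat_lit 53] 80 2))) (.node (nat_lit 1) (.leaf (Rule.fwd [nat_lit 53, nat_lit 361, nat_lit 75] 81 1)) (.leaf (Rule.fwd [nat_lit 9, nat_lit 361, nat_lit 31] 79 1))))) (.node (nat_lit 2) (.node (nat_lit 1) (.leaf (Rule.fwd [nat_lit 31, nat_lit 361, nat_lit 9] 78 2)) (.leaf (Rule.fwd [nat_lit 229, nat_lit 361, nat_lit 251] 89 1)))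 (.node (nat_lit 1) (.leaf (Rule.fwd [nat_lit 251, nat_lit 273, nat_lit 361, nat_lit 295] 91 1)) (.leaf (Rule.fwd [nat_lit 295, nat_lit 229, nat_lit 361, nat_lit 273] 90 2))))), (.node (nat_lit 2) (.node (nat_lit 1) (.leaf XRule.defn) (.leaf XRule.defn)) (.node (nat_lit 1) (.leaf (XRule.rot (nat_lit 196479) [383, 383] 77 0)) (.leaf (XRule.rot (nat_lit 361) [361] 98 0))))⟩
noncomputable def outer : Tr CI := (.node (nat_lit 2) (.node (nat_lit 8) (.node (nat_lit 4) (.node (nat_lit 1) (.leaf ci0) (.node (nat_lit 16) (.leaf ci97) (.leaf ci273))) (.node (nat_lit 16) (.leaf ci229) (.leaf ci53))) (.node (nat_lit 4) (.node (nat_lit 16) (.node (nat_lit 32) (.leaf ci9) (.leaf ci361)) (.leaf ci185)) (.node (nat_lit 16) (.leaf ci141) (.leaf ci317)))) (.node (nat_lit 4) (.node (nat_lit 8) (.node (nat_lit 16) (.leaf ci163) (.leaf ci339)) (.node (nat_lit 16) (.leaf ci75) (.leaf ci251))) (.node (nat_lit 8) (.node (nat_lit 16) (.leaf ci295)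 (.leaf ci119)) (.node (nat_lit 16) (.leaf ci207) (.node (nat_lit 32) (.leaf ci31) (.leaf ci383))))))
def cols : List ℕ := [nat_lit 9, nat_lit 31, nat_lit 53, nat_lit 75, nat_lit 97, nat_lit 119, nat_lit 141, nat_lit 163, nat_lit 185, nat_lit 207, nat_lit 229, nat_lit 251, nat_lit 273, nat_lit 295, nat_lit 317, nat_lit 339, nat_lit 361, nat_lit 383]
def invL : List ℕ := [1, 0, 3, 2, 5, 4, 7, 6, 9, 8, 11, 10, 13, 12, 15, 14, 17, 16]
def rels : List (List ℕ) := [[0, 0, 0], [2, 2, 2], [4, 4, 4], [6, 6, 6], [8, 8, 8], [10, 10, 10], [12, 12, 12], [14, 14, 14], [0, 4, 1, 5, 11], [0, 6, 1, 7], [0, 8, 1, 9], [0, 10, 1, 11], [0, 12, 1, 13], [0, 14, 1, 15, 13], [2, 4, 3, 5], [2, 8, 3, 9], [2, 10, 3, 11, 5], [2, 12, 3, 13, 15], [2, 14, 3, 15], [4, 8, 5, 9, 15], [4, 10, 5, 11], [4, 12, 5, 13], [4, 14, 5, 15], [6, 8, 7, 9], [6, 10, 7, 11, 0], [6, 12, 7, 13], [6, 14, 7, 15, 9], [8, 10, 9, 11, 12], [8, 12, 9, 13], [8, 14, 9, 15], [10,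 12, 11, 13], [10, 14, 11, 15], [12, 14, 13, 15], [0, 3, 0, 2, 1, 2], [4, 7, 4, 6, 5, 6], [0, 3, 0, 0, 3, 0, 0, 3, 0, 0, 3, 0], [4, 7, 4, 4, 7, 4, 4, 7, 4, 4, 7, 4], [0, 3, 0, 4, 7, 4, 0, 3, 0, 4, 7, 4, 0, 3, 0, 4, 7, 4], [16, 16, 16], [16, 0, 17, 1], [16, 2, 17, 3], [8, 17, 8, 16, 9, 16], [8, 17, 8, 8, 17, 8, 0, 3, 0, 0, 3, 0], [4, 7, 4, 4, 7, 4, 16, 4, 7, 4, 4, 7, 4, 16], [16, 10, 17, 11], [16, 12, 17, 13, 10], [16, 4, 17, 5], [16, 14, 17, 15, 4], [4, 7, 4, 8, 17, 8, 4, 7, 4, 8, 17, 8, 4, 7, 4, 8, 17, 8]]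
def subs : List (List ℕ) := [[0], [2], [4], [6], [8], [10], [12], [14]]
noncomputable def row (n : ℕ) : ℕ := rowOf (fun h => rows.get h) (nat_lit 4) (nat_lit 15) (nat_lit 405) (nat_lit 0x1fffffffffffffffffffffffffffffffffffffffffffffffffffffffffffffffffffffffffffffffffffffffffffffffffffff) n
noncomputable def xleaf (h : ℕ) : ℕ := recs.get h
noncomputable def mF : ℕ → ℕ := mainRow row (rowChk row xleaf outer (nat_lit 9) (nat_lit 511) (nat_lit 31) (nat_lit 14) (nat_lit 16383) (nat_lit 4194303) (nat_lit 256) (nat_lit 40) (nat_lit 512) (nat_lit 9) (nat_lit 511) (nat_lit 18) (nat_lit 262143) (nat_lit 8) (nat_lit 255) cols)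
noncomputable def xF : ℕ → ℕ → ℕ := xLeaf row xleaf outer (nat_lit 511) (nat_lit 14) (nat_lit 4194303) (nat_lit 256) (nat_lit 40) (nat_lit 9) (nat_lit 511) (nat_lit 18) (nat_lit 262143) (nat_lit 261632) (nat_lit 8) (nat_lit 255) (nat_lit 10) (nat_lit 1023) (nat_lit 5) (nat_lit 31) (nat_lit 383) (nat_lit 20480) (nat_lit 128)
noncomputable def cert : Cert := ⟨row, xleaf, outer, cols, nat_lit 9, nat_lit 511, nat_lit 31, nat_lit 14, nat_lit 16383, nat_lit 4194303, nat_lit 256, nat_lit 40, nat_lit 512, nat_lit 9, nat_lit 511, nat_lit 18, nat_lit 262143, nat_lit 261632, nat_lit 8, nat_lit 255, nat_lit 10, nat_lit 1023, nat_lit 5, nat_lit 31, nat_lit 383, nat_lit 20480, nat_lit 128, nat_lit 22, nat_lit 256, nat_lit 2⟩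
theorem tabok : tabOK (fun i => invL.getD i i) rels subs outer cols (nat_lit 9) (nat_lit 383) = true := by decide +kernel
theorem m0 : rng mF (nat_lit 1) (nat_lit 40) = 0 := by decide +kernel
noncomputable def s0 : List ℕ := [nat_lit 0x100401004010040100400001101080044112000000000000000000004418145512109154444300000468420000000000000000011a309234704248d1b10c000012b4a0420012f0012818c004cd2e108004dd27478644dd270012e208004f5361093d49d20195404f4004a88300000510420000052c00478620014f5284253c00480630015500042554000000051ca2000005740047863001615704258400480644bc0000000000a3001664c464001664e8655992f10d6d5a52c199335a52919d255ad391a16b4dc430016f508655c133109704d56718c005cd4c1a4005cd5e1a93d5cd1f19c005dd521a4005dd641a97d541821897d52c435fd62610625fd5d10d804f4426013f5a86360d4f109855844251800000000017800000000000000062d96518426594510c00659581a99d554426755710c00001a568842000006ada8109ab66d48190006c40052062000006ddb4109b70015a191b70015a189b7001aa6bc826f1bf6c863001c3001b418dc3001a2195c30019a6a084001cb7084272c0069064001d10000068882001d5001aa1900076598001b42080070c0000000000ac001de7146d779c310c00779c71b800779c91bde3785b81c1cb785b51c400785da1bde568c43001e57486f7b5d979dac241dd79da91c4007a5bb1b8007a5bf1bdea72c427a9cd77c63001ea73c6e,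 nat_lit 0x1f1744437cdab108007cdd61c9f477442001f77046f7e549109ff694427fda779063815d510a096c4420000000000000000000000000000000000000000000000000000000000000000000000000000000000000000000000000000000000000000000000000000000000000000000000000000000000000000000000000000000000000000000000000000000000000000000000000000000000000000000000000000000000000000000000000000000000000000000000000000000]
theorem x0 : xs xF s0 (nat_lit 1) = 0 := by decide +kernel
theorem mz0 : AllZ mF 1 (nat_lit 41) := (AllZ.step (AllZ.nil mF 1) (nat_lit 40) (nat_lit 41) rfl m0)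
theorem xz0 : XZ xF (nat_lit 2) := (XZ.step (XZ.nil xF) s0 (nat_lit 1) (nat_lit 2) (by decide +kernel) x0)
/-- the certificate (40 points) is valid -/
theorem valid : cert.Valid (fun i => invL.getD i i) rels subs 18 :=
  ⟨by decide +kernel, tabok, by decide +kernel, mz0, xz0⟩
theorem cert_N : cert.N = 40 := rfl

end CL.TC.L3P
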