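/-
The 3-local recognition of `PSL₄(3)` (job L3L-BUILD, helper90): construction of `PSL₄(3)` inside `G`.
-/
import Cfsg.Agent.Rec.L3Bas
import Cfsg.Agent.Rec.L3Par
import Cfsg.Agent.Rec.TCL3P
import Cfsg.Agent.Spor.AmgTools

set_option autoImplicit false
set_option maxRecDepth 100000
set_option linter.unusedSectionVars false

open Subgroup Cfsg Matrix CL.TC CL.Amg

namespace CL.L3L

universe v

namespace Bld

/-- coordinates `(b, d, e, z)` on `J0` -/
abbrev V := F × F × F × F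

def jv (v : V) : A := ua 0 v.1 0 v.2.1 v.2.2.1 v.2.2.2

theorem jv_add (v w : V) : jv (v + w) = jv v * jv w := by rw [jv, jv, jv, ua_mul]; simp
theorem jv_inj {v w : V} (h : jv v = jv w) : v = w := by simpa [jv, ua_inj, Prod.ext_iff] using h
theorem jv_mem (v : V) : jv v ∈ J0 := ua_mem_J0.2 ⟨rfl, rfl⟩
theorem jv_surj {j : A} (h : j ∈ J0) : ∃ v, j = jv v := let ⟨b, d, e, z, h⟩ := mem_J0.1 h; ⟨(b, d, e, z), h⟩
theorem jv_zero : jv 0 = 1 := ua_zero

/-- nonzero singular vectors -/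
def Sg (v : V) : Prop := v ≠ 0 ∧ v.2.1 * v.2.2.1 - v.1 * v.2.2.2 = 0
instance (v : V) : Decidable (Sg v) := inferInstanceAs (Decidable (_ ∧ _))
/-- the first column -/
def Col (v : V) : Prop := v.2.2.1 = 0 ∧ v.2.2.2 = 0
instance (v : V) : Decidable (Col v) := inferInstanceAs (Decidable (_ ∧ _))
def ez : V := (0, 0, 0, 1)
def ee : V := (0, 0, 1, 0)
def ed : V := (0, 1, 0, 0)

def a12 (c : F) (v : V) : V := (v.1, v.2.1 + c * v.1, v.2.2.1, v.2.2.2 + c * v.2.2.1)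
def a21 (c : F) (v : V) : V := (v.1 + c * v.2.1, v.2.1, v.2.2.1 + c * v.2.2.2, v.2.2.2)
def a34 (c : F) (v : V) : V := (v.1, v.2.1, v.2.2.1 - c * v.1, v.2.2.2 - c * v.2.1)
def a43 (c : F) (v : V) : V := (v.1 - c * v.2.2.1, v.2.1 - c * v.2.2.2, v.2.2.1, v.2.2.2)
def aτ (v : V) : V := (-v.1, v.2.1, v.2.2.1, -v.2.2.2)

theorem c_q : ∀ q : V, Sg q → Sg (ed + q) → Sg (ed + -q) → Col q ∨ q.1 = 0 ∧ q.2.2.1 = 0 := by decide +kernel

set_option synthInstance.maxSize 2000 in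
theorem c_pq : ∀ p : V, Sg p → ¬ (p.1 = 0 ∧ p.2.1 = 0) → ∀ q : V, Sg q → Sg (p + q) → Sg (p + -q) →
    ¬ (q.1 = 0 ∧ q.2.1 = 0) → ¬ ((p + q).1 = 0 ∧ (p + q).2.1 = 0) → ¬ ((p + -q).1 = 0 ∧ (p + -q).2.1 = 0) →
    ∃ c, Col (a34 c p) ∧ Col (a34 c q) := by decide +kernel

set_option synthInstance.maxSize 2000 in
theorem c_span : ∀ p : V, Col p → p ≠ 0 → ∀ q : V, Col q → q ≠ 0 → p + q ≠ 0 → p + -q ≠ 0 → ∀ u : V, Col u →
    ∃ a b : F, u = a • p + b • q := by decide +kernel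

set_option synthInstance.maxSize 2000 in
theorem c_PQ : ∀ p : V, Col p → Sg (ez + p) → ∀ q : V, Col q → Sg (ee + q) → Sg (ez + p + (ee + q)) →
    ∃ c : F, ∀ v : V, (v.1, v.2.1, 0, 0) + v.2.2.1 • (ee + q) + v.2.2.2 • (ez + p) = a43 c v := by decide +kernel

/-- the letters in `A` -/
def gA (i : ℕ) : A := [ua 1 0 0 0 0 0, ua (-1) 0 0 0 0 0, lo21 1, lo21 (-1), ua 0 1 0 0 0 0, ua 0 (-1) 0 0 0 0, lo32 1,
  lo32 (-1), ua 0 0 1 0 0 0, ua 0 0 (-1) 0 0 0, ua 0 0 0 1 0 0, ua 0 0 0 (-1) 0 0, ua 0 0 0 0 0 1, ua 0 0 0 0 0 (-1),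
  ua 0 0 0 0 1 0, ua 0 0 0 0 (-1) 0].getD i 1
/-- the letters in `M` -/
def gM (i : ℕ) : M := if i = 16 then tv 3 2 1 else if i = 17 then tv 3 2 (-1) else gA i
/-- their codes -/
def cT (i : ℕ) : ℕ := [1074791429, 1074791433, 1074791681, 1074791937, 1074795521, 1074799617, 1075053569, 1075315713, 1078985729,
  1083180033, 1074791441, 1074791457, 1074791489, 1074791553, 1074807809, 1074824193, 1343226881, 1611662337].getD i 1074791425
/-- the code of a word -/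
def cW (w : List ℕ) : ℕ := w.foldr (fun i c => mf (cT i) c) 1074791425

theorem cd_gM (i : ℕ) : cd (gM i) = cT i := by
  by_cases h : i < 18
  · exact (by decide +kernel : ∀ i < 18, cd (gM i) = cT i) i h
  · obtain ⟨i, rfl⟩ := Nat.exists_eq_add_of_le' (not_lt.1 h)
    exact cd_one

theorem cd_ev : ∀ w, cd (ev gM w) = cW w
  | [] => cd_one
  | i :: w => by rw [ev_cons, cd_mul', cd_gM, cd_ev w]; rfl

theorem gM_eq {i : ℕ} (h : i < 16) : gM i = gA i := by rw [gM, if_neg (by omega), if_neg (by omega)]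

theorem cA_ev {w : List ℕ} (h : ltB 16 w = true) : cA (ev gA w) = cW w := by
  rw [← cd_ev, CL.Amg.ev_congr (fun i hi => gM_eq hi) w (ltB_spec h)]
  exact congrArg cd (CL.Amg.ev_map A.subtype gA w).symm

theorem gM_inv (i : ℕ) : gM (L3P.invL.getD i i) = (gM i)⁻¹ := by
  refine eq_inv_of_mul_eq_one_left (cd_inj.1 ?_)
  rw [cd_mul', cd_gM, cd_gM, cd_one]
  by_cases h : i < 18
  · exact (by decide +kernel : ∀ i < 18, mf (cT (L3P.invL.getD i i)) (cT i) = 1074791425) i h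
  · obtain ⟨i, rfl⟩ := Nat.exists_eq_add_of_le' (not_lt.1 h)
    exact (by decide +kernel : mf 1074791425 1074791425 = 1074791425)

theorem genA : gen gA 16 = ⊤ := by
  have k : ∀ {a : A} {w : List ℕ}, ltB 16 w = true ∧ cA a = cW w → a ∈ gen gA 16 := fun {a w} h =>
    cA_inj.2 (h.2.trans (cA_ev h.1).symm) ▸ ev_mem_gen gA h.1
  refine A_gen (fun i j hij c => ?_) fun m hm => ?_
  · obtain ⟨w, -, h⟩ := (by decide +kernel : ∀ (i j : Fin 3) (hij : i ≠ j) (c : F), ∃ w ∈ [[], [0], [1], [2], [3], [4],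
      [5], [6], [7], [10], [11], [6, 2, 7, 3], [2, 6, 3, 7]], ltB 16 w = true ∧
      cA (af (SpecialLinearGroup.transvection hij c) 0) = cW w) i j hij c
    exact k h
  · obtain ⟨c, e, z, rfl⟩ := mem_E0.1 hm
    exact k (w := List.replicate c.val 8 ++ List.replicate e.val 14 ++ List.replicate z.val 12)
      (by clear hm; revert c e z; decide +kernel)

theorem genM : gen (fun i => (gM i : PM)) 18 = ⊤ := by
  have h1 : (gen (fun i => (gM i : PM)) 18).comap (QuotientGroup.mk' (center M)) = ⊤ := by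
    refine eq_top_of_A (m := gM 16) (fun a ha => ?_) ?_ (mem_gen (fun i => (gM i : PM)) (by omega))
      (fun h => absurd (mem_A.1 h).2.2.1 (by decide +kernel)) (fun h => absurd (mem_A.1 h).2.2.1 (by decide +kernel))
    · exact (gen_le fun i hi => show ((gA i : M) : PM) ∈ _ from gM_eq hi ▸ mem_gen (fun i => (gM i : PM)) (by omega) :
        gen gA 16 ≤ ((gen (fun i => (gM i : PM)) 18).comap (QuotientGroup.mk' (center M))).comap A.subtype)
        (genA ▸ mem_top (⟨a, ha⟩ : A))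
    · rw [mem_comap, QuotientGroup.mk'_apply, mk_eq_one.2 (.inr rfl)]
      exact one_mem _
  rw [← map_comap_eq_self_of_surjective (QuotientGroup.mk'_surjective (center M)) (gen _ 18), h1,
    map_top_of_surjective _ (QuotientGroup.mk'_surjective _)]

/-- the relators that involve the new letter -/
def relX : List (List ℕ) := [[16, 16, 16], [16, 0, 17, 1], [16, 2, 17, 3], [8, 17, 8, 16, 9, 16],
  [8, 17, 8, 8, 17, 8, 0, 3, 0, 0, 3, 0], [4, 7, 4, 4, 7, 4, 16, 4, 7, 4, 4, 7, 4, 16], [16, 10, 17, 11],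
  [16, 12, 17, 13, 10], [16, 4, 17, 5], [16, 14, 17, 15, 4], [4, 7, 4, 8, 17, 8, 4, 7, 4, 8, 17, 8, 4, 7, 4, 8, 17, 8]]

theorem c_rels : ∀ r ∈ L3P.rels, (cW r = 1074791425 ∨ cW r = 2149582850) ∧
    (ltB 16 r = true ∧ cW r = 1074791425 ∨ r ∈ relX) := by decide +kernel

theorem eq_one_A {a : A} (h1 : Commute a z0) (h2 : Commute a x12) (h3 : Commute a x13) (h4 : Commute a τ)
    (h5 : Commute a t1a) : a = 1 := by
  obtain ⟨x, b, d, e, z, rfl | rfl⟩ := cent_yy (c := 0) h3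
  · have k2 := ua_comm.1 h2
    have k4 := h4.eq
    have k5 := h5.eq
    rw [cτ, mul_left_inj, ua_inj] at k4
    rw [ct1, mul_left_inj, ua_inj] at k5
    have k := (by decide : ∀ x : F, x = -x → x = 0)
    rw [ua_eq_one]
    exact ⟨k _ k4.1, k _ k4.2.1, mul_zero _, k _ k5.2.2.2.1, k _ k5.2.2.2.2.1, k _ k4.2.2.2.2.2⟩
  · have := ((S0_z0 (ua_mem_S0 x b (x * 0) d e z)).inv_left.mul_left h1).eq
    rw [inv_mul_cancel_left, z0, cτ, mul_left_inj, ua_inj] at this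
    exact absurd this.2.2.2.2.2 (by decide)

variable {G : Type v} [Group G] {φ : A →* G}

/-- the letters in `G` -/
def gG (φ : A →* G) (X : G) (i : ℕ) : G := if i = 16 then X else if i = 17 then X⁻¹ else φ (gA i)

theorem gG_ev (X : G) {w : List ℕ} (h : ltB 16 w = true) : ev (gG φ X) w = φ (ev gA w) := by
  rw [← CL.Amg.ev_map]
  exact CL.Amg.ev_congr (fun i hi => by rw [gG, if_neg (by omega), if_neg (by omega)]) w (ltB_spec h)

theorem gG_inv (X : G) (i : ℕ) : gG φ X (L3P.invL.getD i i) = (gG φ X i)⁻¹ := by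
  by_cases h : i = 16 ∨ i = 17
  · rcases h with rfl | rfl
    exacts [rfl, (inv_inv X).symm]
  have h' : ¬ (L3P.invL.getD i i = 16 ∨ L3P.invL.getD i i = 17) := by
    by_cases h2 : i < 18
    · revert h; exact (by decide : ∀ i < 18, ¬ (i = 16 ∨ i = 17) →
        ¬ (L3P.invL.getD i i = 16 ∨ L3P.invL.getD i i = 17)) i h2
    · rwa [List.getD_eq_default _ _ (not_lt.1 h2)]
  have := gM_inv i
  push Not at h h'
  simp only [gM, gG, if_neg h.1, if_neg h.2, if_neg h'.1, if_neg h'.2] at this ⊢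
  rw [← map_inv]
  exact congrArg φ (Subtype.ext this)

/-- `n` acts on `J` as `γ` -/
def Lin (φ : A →* G) (n : G) (γ : V → V) : Prop := ∀ v, n * φ (jv v) * n⁻¹ = φ (jv (γ v))

theorem Lin.mul {n n' : G} {γ γ' : V → V} (a : Lin φ n γ) (a' : Lin φ n' γ') : Lin φ (n * n') fun v => γ (γ' v) :=
  fun v => by rw [← a, ← a']; group

theorem Lin.inv {n : G} {γ δ : V → V} (a : Lin φ n γ) (e : ∀ v, γ (δ v) = v) : Lin φ n⁻¹ δ := fun v => by
  rw [← e v, ← a, e]; group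

theorem Lin.congr {n : G} {γ δ : V → V} (a : Lin φ n γ) (e : ∀ v, γ v = δ v) : Lin φ n δ := fun v => e v ▸ a v

theorem lin_A {k : A} {γ : V → V} (e : ∀ v, k * jv v = jv (γ v) * k) : Lin φ (φ k) γ := fun v => by
  rw [← map_mul, e, map_mul, mul_inv_cancel_right]

theorem l12 (c : F) : Lin φ (φ (ua c 0 0 0 0 0)) (a12 c) := lin_A fun v => by
  rw [jv, jv, ua_mul, ua_mul]; simp [a12]
theorem l21 (c : F) : Lin φ (φ (lo21 c)) (a21 c) := lin_A fun _ => c21 ..
theorem l34 (c : F) : Lin φ (φ (ua 0 0 c 0 0 0)) (a34 c) := lin_A fun v => by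
  rw [jv, jv, ua_mul, ua_mul]; simp [a34, mul_comm]
theorem lτ : Lin φ (φ τ) aτ := lin_A fun v => by rw [jv, cτ]; simp [jv, aτ]
theorem lt : Lin φ (φ t1a) fun v => -v := lin_A fun v => by rw [jv, ct1]; simp [jv]
theorem lJ (w : V) : Lin φ (φ (jv w)) id := lin_A fun v => J0_comm (jv_mem w) (jv_mem v)

variable [Finite G] (h : Hy φ)
include h

theorem exLin {n : G} (hn : n ∈ normalizer (J0.map φ : Set G)) : ∃ γ, Lin φ n γ := by
  choose γ hγ using fun v => show ∃ w, n * φ (jv v) * n⁻¹ = φ (jv w) by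
    obtain ⟨j, hj, e⟩ := (mem_normalizer_iff.1 hn _).1 (mem_map_of_mem φ (jv_mem v))
    obtain ⟨w, rfl⟩ := jv_surj hj
    exact ⟨w, e.symm⟩
  exact ⟨γ, hγ⟩

section

variable {n : G} {γ δ : V → V} (a : Lin φ n γ)
include a

theorem Lin.add (v w : V) : γ (v + w) = γ v + γ w := jv_inj (h.inj (by
  rw [← a, jv_add, jv_add, map_mul, map_mul, ← a, ← a]; group))
theorem Lin.zero : γ 0 = 0 := by simpa using a.add h 0 0
theorem Lin.neg (v : V) : γ (-v) = -γ v := eq_neg_of_add_eq_zero_left (by rw [← a.add h, neg_add_cancel, a.zero h])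
theorem Lin.smul (c : F) (v : V) : γ (c • v) = c • γ v := by
  rcases (by decide : ∀ x : F, x = 0 ∨ x = 1 ∨ x = -1) c with rfl | rfl | rfl <;> simp [a.zero h, a.neg h]
theorem Lin.inj : Function.Injective γ := fun v w e => jv_inj (h.inj (by
  have := a v
  rwa [e, ← a, mul_left_inj, mul_right_inj] at this))
theorem Lin.uniq (b : Lin φ n δ) (v : V) : γ v = δ v := jv_inj (h.inj ((a v).symm.trans (b v)))
theorem Lin.exInv : ∃ δ, (∀ v, γ (δ v) = v) ∧ Lin φ n⁻¹ δ :=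
  have hs := Finite.surjective_of_injective (a.inj h)
  ⟨_, Function.surjInv_eq hs, a.inv (Function.surjInv_eq hs)⟩

end

/-- an element that centralises `J` and `t` is trivial -/
theorem triv {x : G} {γ : V → V} (a : Lin φ x γ) (e : ∀ v, γ v = v) (c : Commute x (φ t1a)) : x = 1 := by
  obtain ⟨j, hj, rfl⟩ := h.cJ (g := x) fun j hj => by
    obtain ⟨v, rfl⟩ := jv_surj hj
    exact mul_inv_eq_iff_eq_mul.1 (by rw [a, e])
  obtain ⟨v, rfl⟩ := jv_surj hj
  have := lt (φ := φ) v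
  rw [← c.eq, mul_inv_cancel_right] at this
  rw [(by decide +kernel : ∀ v : V, v = -v → v = 0) v (jv_inj (h.inj this)), jv_zero, map_one]

variable (hc : IsConj (φ z0) (φ x13))
include hc

theorem sg_iff {v : V} : Sg v ↔ IsConj (φ z0) (φ (jv v)) := by
  refine ⟨fun ⟨h1, h2⟩ => ?_, fun e => ⟨?_, by_contra fun h2 => h.not_bad (badJ h2) e⟩⟩
  · by_cases h3 : v.1 ≠ 0 ∨ v.2.1 ≠ 0
    · exact hc.trans (φ.map_isConj (clsJ h2 h3))
    · push Not at h3
      exact φ.map_isConj (clsE (ua_mem_E0.2 ⟨rfl, h3⟩) fun e => h1 (jv_inj (e.trans jv_zero.symm)))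
  · rintro rfl
    exact h.ne_of_conj e (by rw [jv_zero, map_one])

theorem Lin.sg {n : G} {γ : V → V} (a : Lin φ n γ) {v : V} (hv : Sg v) : Sg (γ v) :=
  (sg_iff h hc).2 (((sg_iff h hc).1 hv).trans (isConj_iff.2 ⟨n, a v⟩))

theorem exCol : ∃ n γ, Lin φ n γ ∧ Col (γ ez) ∧ Col (γ ee) := by
  obtain ⟨c, e⟩ := isConj_iff.1 hc.symm
  obtain ⟨k, hk, hn⟩ := h.fusJ (g := c) fun j hj => by
    rw [← e]
    exact ((J0_comm hj (jv_mem ed)).map φ).map (MulAut.conj c)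
  obtain ⟨γ, a⟩ := exLin h (inv_mem hn)
  have h1 : γ ez = ed := jv_inj (h.inj (by
    rw [← a]
    change (φ k * c)⁻¹ * φ z0 * (φ k * c)⁻¹⁻¹ = φ x13
    rw [_root_.mul_inv_rev, mul_assoc c⁻¹, (hk.map φ).inv_left.eq, ← e]
    group))
  have s := fun v hv => a.sg h hc (v := v) hv
  rcases c_q (γ ee) (s _ (by decide)) (by rw [← h1, ← a.add h]; exact s _ (by decide))
    (by rw [← h1, ← a.neg h, ← a.add h]; exact s _ (by decide)) with h2 | h2
  · exact ⟨_, γ, a, h1 ▸ by decide, h2⟩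
  obtain ⟨δ, hδ, b⟩ := a.exInv h
  have b' := (b.mul ((l12 1).mul ((l21 (-1)).mul (l12 1)))).mul a
  have row : ∀ w : V, w.1 = 0 → w.2.1 = 0 → (γ w).1 = 0 ∧ (γ w).2.2.1 = 0 := fun w w1 w2 => by
    rw [(by decide +kernel : ∀ w : V, w.1 = 0 → w.2.1 = 0 → w = w.2.2.2 • ez + w.2.2.1 • ee) w w1 w2, a.add h,
      a.smul h, a.smul h, h1]
    simp [ed, h2]
  have key : ∀ w : V, w.1 = 0 → w.2.1 = 0 → w ≠ 0 → ¬ ((δ (a12 1 (a21 (-1) (a12 1 (γ w))))).1 = 0 ∧
      (δ (a12 1 (a21 (-1) (a12 1 (γ w))))).2.1 = 0) := fun w w1 w2 w0 k => by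
    have k1 := row _ k.1 k.2
    rw [hδ] at k1
    exact w0 (a.inj h (((by decide +kernel : ∀ u : V, u.1 = 0 ∧ u.2.2.1 = 0 → (a12 1 (a21 (-1) (a12 1 u))).1 = 0 ∧
      (a12 1 (a21 (-1) (a12 1 u))).2.2.1 = 0 → u = 0) _ (row w w1 w2) k1).trans (a.zero h).symm))
  have s' := fun v hv => b'.sg h hc (v := v) hv
  obtain ⟨c', k1, k2⟩ := c_pq _ (s' ez (by decide)) (key ez rfl rfl (by decide)) _ (s' ee (by decide))
    (by rw [← b'.add h]; exact s' _ (by decide)) (by rw [← b'.neg h, ← b'.add h]; exact s' _ (by decide))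
    (key ee rfl rfl (by decide)) (by rw [← b'.add h]; exact key _ rfl rfl (by decide))
    (by rw [← b'.neg h, ← b'.add h]; exact key _ (by decide) (by decide) (by decide))
  exact ⟨_, _, (l34 c').mul b', k1, k2⟩

theorem exY : ∃ Y, Lin φ Y (a43 1) := by
  obtain ⟨n, γ, a, h1, h2⟩ := exCol h hc
  obtain ⟨δ, hδ, b⟩ := a.exInv h
  have b' := (a.mul (l34 1)).mul b
  have nz : ∀ v, v ≠ 0 → γ v ≠ 0 := fun v hv e => hv (a.inj h (e.trans (a.zero h).symm))
  have k1 : ∀ v, ∃ p, Col p ∧ γ (a34 1 (δ v)) = v + p := fun v => by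
    refine ⟨(-(δ v).2.1) • γ ez + (-(δ v).1) • γ ee, by simp [Col, h1.1, h1.2, h2.1, h2.2], ?_⟩
    rw [(by decide +kernel : ∀ w : V, a34 1 w = w + ((-w.2.1) • ez + (-w.1) • ee)), a.add h, a.add h, a.smul h,
      a.smul h, hδ]
  have k2 : ∀ u, Col u → γ (a34 1 (δ u)) = u := fun u hu => by
    obtain ⟨x, y, e⟩ := c_span _ h1 (nz _ (by decide)) _ h2 (nz _ (by decide))
      (by rw [← a.add h]; exact nz _ (by decide)) (by rw [← a.neg h, ← a.add h]; exact nz _ (by decide)) u hu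
    rw [← a.smul h, ← a.smul h, ← a.add h] at e
    rw [a.inj h ((hδ u).trans e), (by decide +kernel : ∀ x y : F, a34 1 (x • ez + y • ee) = x • ez + y • ee), e]
  obtain ⟨p, hp, e1⟩ := k1 ez
  obtain ⟨q, hq, e2⟩ := k1 ee
  have s := fun v hv => b'.sg h hc (v := v) hv
  obtain ⟨c, e⟩ := c_PQ p hp (e1 ▸ s ez (by decide)) q hq (e2 ▸ s ee (by decide))
    (by rw [← e1, ← e2, ← b'.add h]; exact s _ (by decide))
  have b2 : Lin φ (n * φ (ua 0 0 1 0 0 0) * n⁻¹) (a43 c) := b'.congr fun v => by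
    rw [← e, ← e1, ← e2, ← b'.smul h, ← b'.smul h, ← k2 (v.1, v.2.1, 0, 0) ⟨rfl, rfl⟩, ← b'.add h, ← b'.add h,
      (by decide +kernel : ∀ v : V, (v.1, v.2.1, 0, 0) + v.2.2.1 • ee + v.2.2.2 • ez = v)]
  rcases (by decide : ∀ x : F, x = 0 ∨ x = 1 ∨ x = -1) c with rfl | rfl | rfl
  · have := b'.uniq h b2 (γ ed)
    rw [a.inj h (hδ (γ ed)), show a43 0 (γ ed) = γ ed by simp [a43]] at this
    exact absurd (a.inj h this) (by decide)
  · exact ⟨_, b2⟩
  · exact ⟨_, b2.inv (by decide +kernel)⟩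

theorem exX : ∃ X, Lin φ X (a43 1) ∧ Commute X (φ t1a) := by
  obtain ⟨Y, a⟩ := exY h hc
  have b := ((lt.mul a).mul (lt.inv (δ := fun v => -v) neg_neg)).mul (a.inv (δ := a43 (-1)) (by decide +kernel))
  obtain ⟨j, hj, e⟩ := h.cJ (g := φ t1a * Y * (φ t1a)⁻¹ * Y⁻¹) fun j hj => by
    obtain ⟨v, rfl⟩ := jv_surj hj
    exact mul_inv_eq_iff_eq_mul.1 (b.congr (δ := id) (by decide +kernel) v)
  obtain ⟨w, rfl⟩ := jv_surj hj
  refine ⟨φ (jv (-w)) * Y, (lJ _).mul a, (mul_inv_eq_iff_eq_mul.1 ?_).symm⟩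
  rw [show φ t1a * (φ (jv (-w)) * Y) * (φ t1a)⁻¹ =
    φ t1a * φ (jv (-w)) * (φ t1a)⁻¹ * (φ t1a * Y * (φ t1a)⁻¹ * Y⁻¹) * Y by group, lt, ← e, ← map_mul, ← jv_add,
    (by decide +kernel : ∀ w : V, - -w + w = -w)]

omit hc in
theorem relsX {X : G} (a : Lin φ X (a43 1)) (c : Commute X (φ t1a)) : ∀ r ∈ relX, ev (gG φ X) r = 1 := by
  let act : ℕ → V → V := fun i => [a12 1, a12 (-1), a21 1, a21 (-1), id, id, id, id, a34 1, a34 (-1), id, id, id, id,
    id, id, a43 1, a43 (-1)].getD i id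
  have cA' : ∀ {x y : A}, mf (cA x) (cA y) = mf (cA y) (cA x) → Commute (φ x) (φ y) := fun e =>
    Commute.map (cA_inj.2 (by rwa [cA_mul, cA_mul])) φ
  have p1 : ∀ i ∈ [0, 1, 2, 3, 8, 9, 16, 17], Lin φ (gG φ X i) (act i) ∧ Commute (gG φ X i) (φ t1a) := by
    simp only [List.forall_mem_cons, List.not_mem_nil, false_imp_iff, implies_true, and_true]
    exact ⟨⟨l12 1, cA' (by decide +kernel)⟩, ⟨l12 (-1), cA' (by decide +kernel)⟩, ⟨l21 1, cA' (by decide +kernel)⟩,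
      ⟨l21 (-1), cA' (by decide +kernel)⟩, ⟨l34 1, cA' (by decide +kernel)⟩, ⟨l34 (-1), cA' (by decide +kernel)⟩,
      ⟨a, c⟩, a.inv (by decide +kernel), c.inv_left⟩
  have p2 : ∀ w : List ℕ, (∀ i ∈ w, i ∈ [0, 1, 2, 3, 8, 9, 16, 17]) →
      Lin φ (ev (gG φ X) w) (fun v => w.foldr act v) ∧ Commute (ev (gG φ X) w) (φ t1a) := fun w hw => by
    induction w with
    | nil => exact ⟨fun v => by simp, Commute.one_left _⟩
    | cons i w ih =>
      have k1 := p1 i (hw i (by simp))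
      have k2 := ih fun j hj => hw j (by simp [hj])
      rw [ev_cons]
      exact ⟨k1.1.mul k2.1, k1.2.mul_left k2.2⟩
  have p3 : ∀ w : List ℕ, (∀ i ∈ w, i ∈ [0, 1, 2, 3, 8, 9, 16, 17]) ∧ (∀ v, w.foldr act v = v) →
      ev (gG φ X) w = 1 := fun w hw => triv h (p2 w hw.1).1 hw.2 (p2 w hw.1).2
  have p4 : ∀ (i : ℕ) (v : V) (w : List ℕ), gG φ X i = φ (jv v) → ltB 16 w = true ∧
      mf (cA (jv (a43 1 v))) (cW w) = cA 1 → ev (gG φ X) (16 :: i :: 17 :: w) = 1 := fun i v w e k => by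
    rw [ev_cons, ev_cons, ev_cons, e, gG_ev X k.1, ← mul_assoc, ← mul_assoc]
    refine (congrArg (· * _) (a v)).trans ?_
    rw [← map_mul, cA_inj.2 (show cA (_ * _) = cA 1 by rw [cA_mul, cA_ev k.1, k.2]), map_one]
  have l2 : Lin φ (φ (τ * t1a)) fun v => aτ (-v) := map_mul φ _ _ ▸ lτ.mul lt
  have c2 : Commute (φ (τ * t1a)) (φ t1a) := cA' (by rw [cA_mul]; decide +kernel)
  have r1 := p3 [16, 0, 17, 1] (by decide +kernel)
  simp only [relX, List.forall_mem_cons, List.not_mem_nil, false_imp_iff, implies_true, and_true]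
  refine ⟨p3 _ (by decide +kernel), r1, p3 _ (by decide +kernel), p3 _ (by decide +kernel), p3 _ (by decide +kernel),
    ?_, p4 _ ed _ rfl (by decide +kernel), p4 _ ez _ rfl (by decide +kernel),
    p4 _ (1, 0, 0, 0) _ rfl (by decide +kernel), p4 _ ee _ rfl (by decide +kernel), ?_⟩
  · have e : ev (gG φ X) [4, 7, 4, 4, 7, 4] = φ (τ * t1a) := by
      rw [gG_ev X rfl, cA_inj.2 (show cA (ev gA _) = cA (τ * t1a) by rw [cA_ev rfl, cA_mul]; decide +kernel)]
    change ev (gG φ X) ([4, 7, 4, 4, 7, 4] ++ 16 :: ([4, 7, 4, 4, 7, 4] ++ [16])) = 1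
    rw [ev_append, e, ev_cons, ev_append, e, ev_cons, ev_nil, mul_one]
    exact triv h (l2.mul (a.mul (l2.mul a))) (by decide +kernel) (c2.mul_left (c.mul_left (c2.mul_left c)))
  · obtain ⟨k1, k2⟩ := p2 [8, 17, 8] (by decide)
    have k3 : Commute (ev (gG φ X) [8, 17, 8]) (φ x12) := by
      have k4 : Commute X (φ x12) := by
        rw [ev_cons, ev_cons, ev_cons, ev_cons, ev_nil, mul_one, show gG φ X 1 = _ from gG_inv X 0, ← mul_assoc,
          ← mul_assoc, mul_inv_eq_one] at r1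
        exact mul_inv_eq_iff_eq_mul.1 r1
      have k5 : Commute (gG φ X 8) (φ x12) := cA' (by decide +kernel)
      rw [ev_cons, ev_cons, ev_cons, ev_nil, mul_one]
      exact k5.mul_left (k4.inv_left.mul_left k5)
    change ev (gG φ X) (([4, 7, 4] ++ [8, 17, 8]) ++ (([4, 7, 4] ++ [8, 17, 8]) ++ ([4, 7, 4] ++ [8, 17, 8]))) = 1
    simp only [ev_append]
    rw [gG_ev X (w := [4, 7, 4]) rfl]
    generalize ev (gG φ X) [8, 17, 8] = N at k1 k2 k3
    have k6 : N * φ τ * N⁻¹ = φ (τ * t1a) := by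
      rw [← mul_inv_eq_one]
      exact triv h (((k1.mul lτ).mul (k1.inv (δ := fun v => (-v.2.2.1, -v.2.2.2, v.1, v.2.1)) (by decide +kernel))).mul
        (l2.inv (δ := fun v => aτ (-v)) (by decide +kernel))) (by decide +kernel)
        (((k2.mul_left (cA' (by decide +kernel))).mul_left k2.inv_left).mul_left c2.inv_left)
    have k7 : N * φ (τ * t1a) * N⁻¹ = φ τ := by
      rw [map_mul, ← conj_mul, k6, k2.eq, mul_inv_cancel_right, ← map_mul, mul_assoc, t1a_sq, mul_one]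
    have st : ∀ {x y z : A}, N * φ x * N⁻¹ = φ y → mf (cW [4, 7, 4]) (cA y) = mf (cA z) (cW [4, 7, 4]) →
        φ (ev gA [4, 7, 4]) * N * φ x * (φ (ev gA [4, 7, 4]) * N)⁻¹ = φ z := fun {x y z} e1 e2 => by
      have e3 : ev gA [4, 7, 4] * y = z * ev gA [4, 7, 4] := cA_inj.2 (by rw [cA_mul, cA_mul, cA_ev rfl, e2])
      calc _ = φ (ev gA [4, 7, 4]) * (N * φ x * N⁻¹) * (φ (ev gA [4, 7, 4]))⁻¹ := by group
        _ = _ := by rw [e1, ← map_mul, e3, map_mul, mul_inv_cancel_right]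
    have cyc : ∀ {P : G} {x y z : A}, P * φ x * P⁻¹ = φ y → P * φ y * P⁻¹ = φ z → P * φ z * P⁻¹ = φ x →
        Commute (P * (P * P)) (φ x) := fun {P x y z} e1 e2 e3 => mul_inv_eq_iff_eq_mul.1 (by
      calc _ = P * (P * (P * φ x * P⁻¹) * P⁻¹) * P⁻¹ := by group
        _ = _ := by rw [e1, e2, e3])
    have s1 := st (z := jv (-ed)) k3.mul_inv_cancel (by decide +kernel)
    have s2 := st (z := jv ez) (k1 (-ed)) (by decide +kernel)
    have s3 := st (z := x12) (k1 ez) (by decide +kernel)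
    have s4 := st (z := τ) k2.mul_inv_cancel (by decide +kernel)
    have s5 := st (z := τ * t1a) k6 (by rw [cA_mul]; decide +kernel)
    have s6 := st (z := t1a) k7 (by decide +kernel)
    have q1 : Commute _ (φ z0) := cyc s3 s1 s2
    obtain ⟨b, hb⟩ := h.cz (mem_cent.2 q1)
    have q2 := cyc s1 s2 s3
    have q3 := (cyc s2 s3 s1).inv_right
    rw [← map_inv, show (jv (-ed))⁻¹ = x13 from inv_eq_of_mul_eq_one_right
      (cA_inj.2 (by rw [cA_mul]; decide +kernel))] at q3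
    have q4 := cyc s5 s6 s4
    have q5 := cyc s4 s5 s6
    rw [← hb, h.comm_iff] at q1 q2 q3 q4 q5
    rw [← hb, eq_one_A q1 q2 q3 q4 q5, map_one]

end Bld

open Bld in
theorem build : Build.{v} := fun {G} _ _ {φ} h hc => by
  obtain ⟨X, a, c⟩ := exX h hc
  let ψ : A →* G × PM := φ.prod ((QuotientGroup.mk' (center M)).comp A.subtype)
  have hg : ∀ i < 16, (gG φ X i, (gM i : PM)) = ψ (gA i) := fun i hi => by
    rw [gM_eq hi, gG, if_neg (by omega), if_neg (by omega)]; rfl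
  have hb := card_le_of_relIndex (H := ψ.range) (K := gen (fun i => (gG φ X i, (gM i : PM))) 18) (m := 151632)
    (by
      rw [MonoidHom.range_eq_map, ← genA, map_le_iff_le_comap]
      exact gen_le fun i hi => mem_comap.2 (hg i hi ▸ mem_gen (fun i => (gG φ X i, (gM i : PM))) (by omega)))
    ⟨inferInstance, card_A ▸ Nat.card_le_card_of_surjective _ ψ.rangeRestrict_surjective⟩
    (L3P.valid.relIndex_le' _ (fun i => Prod.ext (gG_inv X i) (congrArg (fun m : M => (m : PM)) (gM_inv i)))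
      (fun r hr => by
        obtain ⟨k1, k2⟩ := c_rels r hr
        rw [ev_prod]
        refine Prod.ext ?_ ((CL.Amg.ev_map (QuotientGroup.mk' (center M)) gM r).trans (mk_eq_one.2 ?_))
        · rcases k2 with k2 | k2
          · have k3 : ev gA r = 1 := cA_inj.2 (((cA_ev k2.1).trans k2.2).trans (by decide +kernel))
            exact (gG_ev X k2.1).trans (by rw [k3, map_one]; rfl)
          · exact relsX h a c r k2
        · rwa [cd_inj', cd_inj', cd_ev, cd_one, cd_neg_one])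
      (fun u hu => by
        obtain ⟨i, hi, rfl⟩ := (by decide : ∀ u ∈ L3P.subs, ∃ i < 16, u = [i]) u hu
        rw [ev_cons, ev_nil, mul_one, hg i hi]
        exact ⟨_, rfl⟩) le_rfl)
  obtain ⟨Φ, h1, -⟩ := exists_hom_of_bound (gG φ X) (fun i => (gM i : PM)) 18 genM ⟨hb.1, card_PM ▸ hb.2⟩
  have h2 : (Φ.comp (QuotientGroup.mk' (center M))).comp A.subtype = φ :=
    MonoidHom.eq_of_eqOn_dense genA (by
      rintro _ ⟨i, hi, rfl⟩
      have k := Prod.ext_iff.1 (hg i hi)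
      exact (congrArg Φ k.2.symm).trans ((h1 i (lt_trans hi (by omega))).trans k.1))
  have h3 : Φ.ker = ⊥ := by
    have := CL.SLn.isSimpleGroup_PSL (ι := Fin 4) (F := F) (.inl (by simp))
    refine (Φ.normal_ker.eq_bot_or_eq_top).resolve_right fun e => z0_ne (h.one_iff.1 ?_)
    rw [← h2]
    exact (e ▸ mem_top _ : _ ∈ Φ.ker)
  refine ⟨Φ.comp (QuotientGroup.mk' (center M)), fun m => ?_, h2.symm ▸ h⟩
  rw [← mk_eq_one]
  exact (MonoidHom.mem_ker (f := Φ)).symm.trans (h3 ▸ mem_bot)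

end CL.L3L
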