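/-
The 3-local recognition of `PSL₄(3)`: the block matrices commuting with `diag (-1, -1, 1, 1)`.
-/
import Cfsg.Agent.Rec.L3Bas

set_option autoImplicit false
set_option maxRecDepth 100000
set_option linter.unnecessarySeqFocus false

open Subgroup Cfsg Matrix CL.Grp CL.Rec

namespace CL.L3L.Ct

abbrev M2 := Matrix (Fin 2) (Fin 2) F

/-! ### `SL₂(3)` -/

def s2 (a b c d : F) (h : a * d - b * c = 1 := by decide) : SL2 := ⟨!![a, b; c, d], by rw [det_fin_two_of]; exact h⟩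

theorem s2_surj (A : SL2) : ∃ a b c d h, A = s2 a b c d h :=
  ⟨A.1 0 0, A.1 0 1, A.1 1 0, A.1 1 1, by rw [← det_fin_two]; exact A.2, Subtype.ext (eta_fin_two A.1)⟩

instance decAll (P : SL2 → Prop) [DecidablePred P] : Decidable (∀ A, P A) :=
  decidable_of_iff (∀ a b c d h, P (s2 a b c d h))
    ⟨fun k A => by obtain ⟨a, b, c, d, h, rfl⟩ := s2_surj A; exact k .., fun k _ _ _ _ _ => k _⟩

instance decEx (P : SL2 → Prop) [DecidablePred P] : Decidable (∃ A, P A) :=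
  decidable_of_iff (∃ a b c d h, P (s2 a b c d h))
    ⟨fun ⟨_, _, _, _, _, k⟩ => ⟨_, k⟩, fun ⟨A, k⟩ => by obtain ⟨a, b, c, d, h, rfl⟩ := s2_surj A; exact ⟨_, _, _, _, _, k⟩⟩

def xs (k : F) : SL2 := s2 1 k 0 1 (by simp)
def qi : SL2 := s2 0 1 (-1) 0
def qj : SL2 := s2 1 1 1 (-1)
def ρ : M2 := !![-1, 0; 0, 1]

theorem ρρ : ρ * ρ = 1 := by decide +kernel
theorem det_ρ : ρ.det = -1 := by simp [ρ]

/-- conjugation by the reflection `ρ` -/
def σ : SL2 →* SL2 := MonoidHom.mk' (fun A => ⟨ρ * A.1 * ρ, by rw [det_mul, det_mul, det_ρ, A.2]; decide⟩) fun A B =>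
  Subtype.ext (by
    show ρ * (A.1 * B.1) * ρ = ρ * A.1 * ρ * (ρ * B.1 * ρ)
    simp only [Matrix.mul_assoc]
    rw [← Matrix.mul_assoc ρ ρ, ρρ, Matrix.one_mul])

theorem xs_add : ∀ k l, xs (k + l) = xs k * xs l := by decide +kernel
theorem xs_zero : xs 0 = 1 := by decide +kernel
theorem xs_neg (k : F) : xs (-k) = (xs k)⁻¹ := eq_inv_of_mul_eq_one_left (by rw [← xs_add, neg_add_cancel, xs_zero])
theorem xs_cube : ∀ k, xs k ^ 3 = 1 := by simp only [pow_succ, pow_zero]; decide +kernel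
theorem xs_ne : ∀ k, (xs k = 1 → k = 0) ∧ xs k ≠ -1 := by decide +kernel
theorem ne_neg : ∀ A : SL2, A ≠ -A := by decide +kernel
theorem c_norm : ∀ (A : SL2) (k : F), xs k * A = A * xs 1 ∨ xs k * A = -(A * xs 1) →
    (∀ l, A * xs l = xs l * A) ∧ ∃ l, A * A = xs l := by decide +kernel
theorem c_one : ∀ A : SL2, A * A = 1 → A = 1 ∨ A = -1 := by decide +kernel
theorem c_four : ∀ A : SL2, A * A = -1 → ∃ C, C * qi = A * C := by decide +kernel
theorem c_refl : ∀ A : SL2, σ A * A ≠ -1 ∧ (σ A * A = 1 → ∃ C, σ (A * C) = C) := by decide +kernel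
theorem c_cent : ∀ A : SL2, (A * qi = qi * A → A * qj = qj * A → A = 1 ∨ A = -1) ∧
    (σ (A * qi) = qi * σ A → σ (A * qj) ≠ qj * σ A) := by decide +kernel
theorem σσ : ∀ A : SL2, σ (σ A) = A := by decide +kernel
theorem σ_neg : σ (-1) = -1 := by decide +kernel
theorem c_q : qi * qi = -1 ∧ qj * qj = -1 ∧ qi * qj = -(qj * qi) ∧ qi * xs 1 = xs 1 * (qi * qj) ∧
    qj * xs 1 = xs 1 * (qi * qi * qi) := by decide +kernel
theorem c_tv : ∀ (i j : Fin 2) (h : i ≠ j) (c : F), (SpecialLinearGroup.transvection h c : SL2) ^ 3 = 1 := by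
  simp only [pow_succ, pow_zero]; decide +kernel

theorem swap_ne {A B : SL2} : ¬ (B * A = -1 ∧ A * B = 1 ∨ B * A = 1 ∧ A * B = -1) := by
  rintro (⟨h1, h2⟩ | ⟨h1, h2⟩)
  · exact ne_neg 1 ((mul_eq_one_comm.1 h2).symm.trans h1)
  · exact ne_neg 1 ((mul_eq_one_comm.1 h1).symm.trans h2)

/-- the upper unitriangular matrices -/
def X : Subgroup SL2 where
  carrier := {A | ∃ k, A = xs k}
  one_mem' := ⟨0, xs_zero.symm⟩
  mul_mem' := by rintro _ _ ⟨k, rfl⟩ ⟨l, rfl⟩; exact ⟨_, (xs_add ..).symm⟩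
  inv_mem' := by rintro _ ⟨k, rfl⟩; exact ⟨_, (xs_neg _).symm⟩

/-- the quaternion subgroup -/
def Q8 : Subgroup SL2 where
  carrier := {A | A * A = 1 ∨ A * A = -1}
  one_mem' := .inl (mul_one 1)
  mul_mem' {A B} := (by decide +kernel : ∀ A B : SL2, A * A = 1 ∨ A * A = -1 → B * B = 1 ∨ B * B = -1 →
    A * B * (A * B) = 1 ∨ A * B * (A * B) = -1) A B
  inv_mem' {A} h := by
    show _ ∨ _
    rw [← _root_.mul_inv_rev]
    exact h.imp (fun e => by rw [e, inv_one]) fun e => by rw [e]; exact inv_eq_of_mul_eq_one_right (by simp)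

theorem Q8_two : IsPGroup 2 Q8 := fun A => ⟨2, Subtype.ext (by
  show A.1 ^ 2 ^ 2 = 1
  rw [sq, pow_mul, sq A.1]
  rcases A.2 with e | e <;> simp [e])⟩

/-! ### block matrices -/

def bm (A B : M2) : Matrix (Fin 4) (Fin 4) F :=
  !![A 0 0, A 0 1, 0, 0; A 1 0, A 1 1, 0, 0; 0, 0, B 0 0, B 0 1; 0, 0, B 1 0, B 1 1]

theorem bm_mul (A B C D : M2) : bm A B * bm C D = bm (A * C) (B * D) := by
  ext i j
  fin_cases i <;> fin_cases j <;> simp [bm, Matrix.mul_apply, Fin.sum_univ_four, Fin.sum_univ_two]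

theorem det_bm (A B : M2) : (bm A B).det = A.det * B.det := by
  simp [bm, det_succ_row_zero, Fin.sum_univ_succ, Fin.succAbove]; ring

theorem bm_neg (A B : M2) : bm (-A) (-B) = -bm A B := by
  ext i j
  fin_cases i <;> fin_cases j <;> simp [bm]

theorem bm_inj {A B C D : M2} (h : bm A B = bm C D) : A = C ∧ B = D := by
  have k := fun i j => congrFun (congrFun h i) j
  refine ⟨Matrix.ext fun i j => ?_, Matrix.ext fun i j => ?_⟩ <;> fin_cases i <;> fin_cases j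
  exacts [k 0 0, k 0 1, k 1 0, k 1 1, k 2 2, k 2 3, k 3 2, k 3 3]

/-- `SL₂(3) × SL₂(3)` in `SL₄(3)` -/
def β : SL2 × SL2 →* M := MonoidHom.mk' (fun p => ⟨bm p.1.1 p.2.1, by rw [det_bm, p.1.2, p.2.2, one_mul]⟩)
  fun _ _ => Subtype.ext (bm_mul ..).symm

def r : M := ⟨bm ρ ρ, by rw [det_bm, det_ρ]; decide⟩
def s : M := ⟨!![0, 0, 1, 0; 0, 0, 0, 1; 1, 0, 0, 0; 0, 1, 0, 0], by
  simp [det_succ_row_zero, Fin.sum_univ_succ, Fin.succAbove]⟩

theorem β_inj {A B C D : SL2} (h : β (A, B) = β (C, D)) : A = C ∧ B = D :=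
  (bm_inj (congrArg Subtype.val h)).imp Subtype.ext Subtype.ext

theorem β_neg (A B : SL2) : β (-A, -B) = -β (A, B) := Subtype.ext (bm_neg ..)

theorem r_β (A B : SL2) : r * β (A, B) = β (σ A, σ B) * r := Subtype.ext (by
  show bm ρ ρ * bm A.1 B.1 = bm (ρ * A.1 * ρ) (ρ * B.1 * ρ) * bm ρ ρ
  simp only [bm_mul, Matrix.mul_assoc, ρρ, Matrix.mul_one])

theorem s_β (A B : SL2) : s * β (A, B) = β (B, A) * s := Subtype.ext (by
  show s.1 * bm A.1 B.1 = bm B.1 A.1 * s.1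
  ext i j
  fin_cases i <;> fin_cases j <;> simp [bm, s, Matrix.mul_apply, Fin.sum_univ_four])

theorem r_ne (A B : SL2) : ¬ (β (A, B) = r ∨ β (A, B) = -r) := by
  have h := A.2
  rintro (e | e)
  · rw [(bm_inj (congrArg Subtype.val e)).1, det_ρ] at h
    exact absurd h (by decide)
  · rw [(bm_inj ((congrArg Subtype.val e).trans (bm_neg ..).symm)).1, det_neg, det_ρ] at h
    exact absurd h (by decide)

theorem t1_eq : t1 = β (-1, 1) := cd_inj.1 (by decide +kernel)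
theorem rel : r * r = 1 ∧ s * s = 1 ∧ r * s = s * r ∧ s * t1 * -1 = t1 * s ∧ s * t1 ≠ t1 * s ∧
    s * r * t1 ≠ t1 * (s * r) := by
  simp only [Ne, cd_inj', cd_mul']; decide +kernel

theorem β_xs : ∀ k l : F, β (xs k, xs l) = (ua k 0 l 0 0 0 : A) := by
  simp only [cd_inj']; decide +kernel

theorem cj_s : IsConj t1 s := cj (tv 3 1 2 * tv 2 0 2 * tv 1 3 2 * tv 0 2 2) (by
  simp only [cd_inj', cd_mul']; decide +kernel)
theorem cj_sr : IsConj t1 (s * r) := cj (tv 3 1 2 * tv 2 0 1 * tv 1 3 2 * tv 0 2 1) (by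
  simp only [cd_inj', cd_mul']; decide +kernel)
theorem cj_r : IsConj t1 r := cj (tv 1 2 1 * tv 2 1 2 * tv 1 2 1) (by
  simp only [cd_inj', cd_mul']; decide +kernel)
theorem cj_rt : IsConj t1 (r * t1) := cj (tv 0 2 1 * tv 2 0 2 * tv 0 2 1) (by
  simp only [cd_inj', cd_mul']; decide +kernel)
theorem cj_st : IsConj (β (qi, qi)) (s * t1) := cj (tv 1 3 1 * tv 0 3 2 * tv 3 0 1 * tv 0 3 2 * tv 0 1 1) (by
  simp only [cd_inj', cd_mul']; decide +kernel)
theorem cj_srt : IsConj (β (qi, qi)) (s * r * t1) := cj (tv 1 2 1 * tv 2 1 2 * tv 0 3 1) (by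
  simp only [cd_inj', cd_mul']; decide +kernel)
theorem cj_y1 : IsConj (yy 1 : M) (β (xs (-1), xs 1)) := cj (tv 1 2 2 * tv 2 1 1) (by
  simp only [cd_inj', cd_mul']; decide +kernel)
theorem cj_y2 : IsConj (yy (-1) : M) (β (xs 1, xs 1)) := cj (tv 1 2 1 * tv 2 1 2) (by
  simp only [cd_inj', cd_mul']; decide +kernel)

theorem cj_a : IsConj (z0 : M) (β (xs 1, 1)) := by
  rw [← xs_zero, β_xs]
  exact conj_x13.trans (A.subtype.map_isConj (clsT (.inl one_ne_zero)))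

theorem cj_b {l : F} (h : l ≠ 0) : IsConj (z0 : M) (β (1, xs l)) := by
  rw [← xs_zero, β_xs]
  exact A.subtype.map_isConj (clsE (ua_mem_E0.2 ⟨rfl, rfl, rfl⟩) (by simp [ua_eq_one, h]))

theorem comm_ii : ∀ c d : F, (ua 0 (-d) 0 c c d : A) * β (qi, qi) = β (qi, qi) * (ua 0 (-d) 0 c c d : A) := by
  simp only [cd_inj', cd_mul']; decide +kernel

theorem dec1 {m : M} (h : m * t1 = t1 * m) : ∃ A B, m = β (A, B) ∨ m = r * β (A, B) := by
  have k : ∀ i j, m.1 i j * ![-1, -1, 1, 1] j = ![-1, -1, 1, 1] i * m.1 i j := fun i j => by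
    rw [← mul_diagonal, ← diagonal_mul]; exact congrFun (congrFun (congrArg Subtype.val h) i) j
  have z : ∀ x : F, (x * 1 = -1 * x → x = 0) ∧ (x * -1 = 1 * x → x = 0) := by decide
  have e : m.1 = bm !![m.1 0 0, m.1 0 1; m.1 1 0, m.1 1 1] !![m.1 2 2, m.1 2 3; m.1 3 2, m.1 3 3] := by
    ext i j
    fin_cases i <;> fin_cases j <;> first | rfl | exact (z _).1 (k _ _) | exact (z _).2 (k _ _)
  generalize !![m.1 0 0, m.1 0 1; m.1 1 0, m.1 1 1] = A at e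
  generalize !![m.1 2 2, m.1 2 3; m.1 3 2, m.1 3 3] = B at e
  have d := m.2
  rw [e, det_bm] at d
  rcases (by decide : ∀ x y : F, x * y = 1 → x = 1 ∧ y = 1 ∨ -1 * x = 1 ∧ -1 * y = 1) _ _ d with d | d
  · exact ⟨⟨A, d.1⟩, ⟨B, d.2⟩, .inl (Subtype.ext e)⟩
  · refine ⟨⟨ρ * A, by rw [det_mul, det_ρ, d.1]⟩, ⟨ρ * B, by rw [det_mul, det_ρ, d.2]⟩, .inr (Subtype.ext ?_)⟩
    show m.1 = bm ρ ρ * bm (ρ * A) (ρ * B)
    simp only [e, bm_mul, ← Matrix.mul_assoc, ρρ, Matrix.one_mul]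

end CL.L3L.Ct
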