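/-
The 3-local recognition of `PSL₄(3)`: the centraliser of the involution `diag (-1, -1, 1, 1)`.
-/
import Cfsg.Agent.Rec.L3Ct0
import Cfsg.Agent.Transfer.Control

set_option autoImplicit false
set_option maxRecDepth 100000
set_option linter.unusedSectionVars false

open Subgroup Cfsg Matrix CL.Grp CL.Rec
open scoped Pointwise

namespace CL.L3L

universe v

namespace Ct

variable {G : Type v} [Group G] [Finite G] {Φ : M →* G}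

theorem tt {L H N : Subgroup G} (hL : ∀ U : Subgroup L, U.index ≠ 2) (hH : ¬ 2 ∣ H.relIndex L) {w : G} (wL : w ∈ L)
    (wH : w ∈ H) (wN : w ∉ N) (w2 : w * w = 1) (hN : ∀ a ∈ L, a ∈ H → a * w ∈ N ∨ a ∈ N) :
    ∃ g ∈ L, g * w * g⁻¹ ∈ N := by
  by_contra e
  push Not at e
  obtain ⟨U, -, h, -⟩ := CL.Transfer.thompson_transfer (H.subgroupOf L) (N.subgroupOf L)
    (Nat.not_even_iff_odd.1 fun k => hH k.two_dvd)
    (relIndex_eq_two_iff_exists_notMem_and.2 ⟨⟨w, wL⟩, wH, wN, fun a ha => hN a a.2 ha⟩) ⟨w, wL⟩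
    (Subtype.ext (by rw [sq]; exact w2)) fun g => e g g.2
  exact hL U h

theorem mem_of_sq {V : Subgroup G} {n : G} {k : ℕ} (hk : n ^ 3 ^ k = 1) (h : n * n ∈ V) : n ∈ V :=
  CL.Transfer.mem_of_pow_mem_of_coprime (n := 2) (by rwa [sq])
    ((Nat.Coprime.pow_right k (by norm_num)).coprime_dvd_right (orderOf_dvd_of_pow_eq_one hk))

theorem sqe {e a b : G} (h : e * a = b * e) (h2 : e * e = 1) : e * a * (e * a) = b * a := by
  calc e * a * (e * a) = b * (e * e) * a := by rw [h]; nth_rw 2 [← h]; simp only [mul_assoc]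
    _ = b * a := by rw [h2, mul_one]

/-- the image of `SL₂(3) × SL₂(3)` -/
def ψ (Φ : M →* G) : SL2 × SL2 →* G := Φ.comp β

theorem ψ_mul (A B C D : SL2) : ψ Φ (A, B) * ψ Φ (C, D) = ψ Φ (A * C, B * D) := (map_mul ..).symm
theorem ψ_mem (p : SL2 × SL2) : ψ Φ p ∈ Φ.range := ⟨_, rfl⟩
theorem ψ_comm (A B : SL2) : Commute (ψ Φ (A, 1)) (ψ Φ (1, B)) := by simp [Commute, SemiconjBy, ψ_mul]
theorem t_eq : Φ t1 = ψ Φ (-1, 1) := congrArg Φ t1_eq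
theorem ψ_t (p : SL2 × SL2) : Commute (ψ Φ p) (Φ t1) := by
  obtain ⟨A, B⟩ := p
  simp [t_eq, Commute, SemiconjBy, ψ_mul]
theorem R_ψ (A B : SL2) : Φ r * ψ Φ (A, B) = ψ Φ (σ A, σ B) * Φ r := by
  simpa only [map_mul] using! congrArg Φ (r_β A B)
theorem S_ψ (A B : SL2) : Φ s * ψ Φ (A, B) = ψ Φ (B, A) * Φ s := by
  simpa only [map_mul] using! congrArg Φ (s_β A B)
theorem SR_ψ (A B : SL2) : Φ (s * r) * ψ Φ (A, B) = ψ Φ (σ B, σ A) * Φ (s * r) := by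
  rw [map_mul, mul_assoc, R_ψ, ← mul_assoc, S_ψ, mul_assoc]
theorem RR : Φ r * Φ r = 1 := by rw [← map_mul, rel.1, map_one]
theorem SS : Φ s * Φ s = 1 := by rw [← map_mul, rel.2.1, map_one]
theorem SRSR : Φ (s * r) * Φ (s * r) = 1 := by
  rw [← map_mul, mul_assoc, ← mul_assoc r, rel.2.2.1, mul_assoc s, rel.1, mul_one, rel.2.1, map_one]

theorem comm_e {e a b c a' d : G} (h1 : e * a = a' * e) (h2 : a * b = c) (h3 : e * c = d * e) (h : Commute (e * a) b) :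
    d = b * a' := by
  have := h.eq
  rwa [mul_assoc, h2, h3, h1, ← mul_assoc, mul_left_inj] at this

def D (Φ : M →* G) : Subgroup G := (X.prod X).map (ψ Φ)
def V (Φ : M →* G) : Subgroup G := ((⊥ : Subgroup SL2).prod X).map (ψ Φ)
def Y (Φ : M →* G) : Subgroup G := centralizer {ψ Φ (qi, 1)} ⊓ centralizer {ψ Φ (qj, 1)}

theorem mem_D {d : G} : d ∈ D Φ ↔ ∃ k l, d = ψ Φ (xs k, xs l) :=
  ⟨by rintro ⟨⟨_, _⟩, ⟨⟨k, rfl⟩, l, rfl⟩, rfl⟩; exact ⟨k, l, rfl⟩,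
    by rintro ⟨k, l, rfl⟩; exact ⟨_, ⟨⟨k, rfl⟩, l, rfl⟩, rfl⟩⟩
theorem mem_V {d : G} : d ∈ V Φ ↔ ∃ l, d = ψ Φ (1, xs l) :=
  ⟨by rintro ⟨⟨_, _⟩, ⟨rfl, l, rfl⟩, rfl⟩; exact ⟨l, rfl⟩, by rintro ⟨l, rfl⟩; exact ⟨(1, xs l), ⟨rfl, l, rfl⟩, rfl⟩⟩
theorem a_D : ψ Φ (xs 1, 1) ∈ D Φ := mem_D.2 ⟨1, 0, by rw [xs_zero]⟩
theorem b_D : ψ Φ (1, xs 1) ∈ D Φ := mem_D.2 ⟨0, 1, by rw [xs_zero]⟩
theorem D_le : D Φ ≤ Φ.range := by rintro _ ⟨p, -, rfl⟩; exact ψ_mem p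
theorem V_le : V Φ ≤ D Φ := map_mono (prod_mono bot_le le_rfl)
theorem D_three : IsPGroup 3 (D Φ) := fun d => ⟨1, Subtype.ext (by
  obtain ⟨k, l, e⟩ := mem_D.1 d.2
  show d.1 ^ 3 = 1
  rw [e, ← map_pow, Prod.pow_mk, xs_cube, xs_cube]
  exact map_one _)⟩

variable (h : HyI Φ)
include h

theorem ψ_eq {A B C D : SL2} : ψ Φ (A, B) = ψ Φ (C, D) ↔ A = C ∧ B = D ∨ A = -C ∧ B = -D :=
  h.eq_iff.trans (or_congr ⟨β_inj, by rintro ⟨rfl, rfl⟩; rfl⟩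
    ⟨fun e => β_inj (e.trans (β_neg ..).symm), by rintro ⟨rfl, rfl⟩; exact β_neg ..⟩)

theorem ψ_eq' {A B C : SL2} (e : ψ Φ (A, B) = ψ Φ (C, B)) : A = C :=
  ((ψ_eq h).1 e).elim (·.1) fun k => absurd k.2 (ne_neg B)

theorem t_ne : Φ t1 ≠ 1 := fun e => ne_neg 1 (ψ_eq' h (t_eq.symm.trans (e.trans (map_one (ψ Φ)).symm))).symm

theorem anti {m : M} (e : Commute (Φ m) (Φ t1)) : m * t1 = t1 * m ∨ m * t1 = -(t1 * m) :=
  h.eq_iff.1 (by rw [map_mul, map_mul, e.eq])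

theorem S_t : Commute (Φ s) (Φ t1) := by
  rw [Commute, SemiconjBy, ← map_mul, ← map_mul, ← rel.2.2.2.1, mul_neg, mul_one, h.neg]

theorem cases {n : G} (h1 : n ∈ Φ.range) (h2 : Commute n (Φ t1)) : ∃ A B, n = ψ Φ (A, B) ∨ n = Φ r * ψ Φ (A, B) ∨
    n = Φ s * ψ Φ (A, B) ∨ n = Φ (s * r) * ψ Φ (A, B) := by
  obtain ⟨m, rfl⟩ := h1
  rcases anti h h2 with e | e
  · obtain ⟨A, B, k | k⟩ := dec1 e
    exacts [⟨A, B, .inl (by rw [k]; rfl)⟩, ⟨A, B, .inr (.inl (by rw [k, map_mul]; rfl))⟩]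
  · obtain ⟨A, B, k⟩ := dec1 (m := s * m) (by rw [mul_assoc, e, ← mul_assoc t1, ← rel.2.2.2.1]; simp [mul_assoc])
    have e' : m = s * (s * m) := by rw [← mul_assoc, rel.2.1, one_mul]
    refine ⟨A, B, .inr (.inr (k.imp (fun k => ?_) fun k => ?_))⟩
    · rw [e', k, map_mul]; rfl
    · rw [e', k, ← mul_assoc, map_mul]; rfl

theorem normA {A B : SL2} (e : ψ Φ (A, B) * ψ Φ (xs 1, 1) * (ψ Φ (A, B))⁻¹ ∈ D Φ) :
    (∀ l, A * xs l = xs l * A) ∧ ∃ l, A * A = xs l := by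
  obtain ⟨k, l, e⟩ := mem_D.1 e
  rw [mul_inv_eq_iff_eq_mul, ψ_mul, ψ_mul] at e
  exact c_norm A k (((ψ_eq h).1 e.symm).imp (·.1) (·.1))

theorem normB {A B : SL2} (e : ψ Φ (A, B) * ψ Φ (1, xs 1) * (ψ Φ (A, B))⁻¹ ∈ D Φ) :
    (∀ l, B * xs l = xs l * B) ∧ ∃ l, B * B = xs l := by
  obtain ⟨k, l, e⟩ := mem_D.1 e
  rw [mul_inv_eq_iff_eq_mul, ψ_mul, ψ_mul] at e
  exact c_norm B l (((ψ_eq h).1 e.symm).imp (·.2) (·.2))

theorem normD {A B : SL2} (e : ψ Φ (A, B) ∈ normalizer (D Φ : Set G)) :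
    ψ Φ (A, B) ∈ centralizer (D Φ : Set G) ∧ ψ Φ (A, B) * ψ Φ (A, B) ∈ D Φ := by
  obtain ⟨h1, k, h2⟩ := normA h ((mem_normalizer_iff.1 e _).1 a_D)
  obtain ⟨h3, l, h4⟩ := normB h ((mem_normalizer_iff.1 e _).1 b_D)
  refine ⟨fun d hd => ?_, mem_D.2 ⟨k, l, by rw [ψ_mul, h2, h4]⟩⟩
  obtain ⟨k, l, rfl⟩ := mem_D.1 hd
  rw [ψ_mul, ψ_mul, h1, h3]

theorem normU {n : G} (e : n ∈ normalizer (D Φ : Set G)) : n ∈ Φ.range :=
  h.U cj_a (D_le ((mem_normalizer_iff.1 e _).1 a_D))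

theorem sylD : IsSylowIn 3 (D Φ) (centralizer {Φ t1}) := by
  have := Fact.mk Nat.prime_three
  refine isSylowIn_of_loc (by rintro _ ⟨p, -, rfl⟩; exact mem_cent.2 (ψ_t p)) D_three fun n h1 h2 k hk => ?_
  have h3 : n * n ∈ (ψ Φ).range := by
    obtain ⟨A, B, rfl | rfl | rfl | rfl⟩ := cases h (normU h h2) (mem_cent.1 h1)
    · exact ⟨_, map_mul ..⟩
    · exact ⟨_, (map_mul ..).trans (sqe (R_ψ A B) RR).symm⟩
    · exact ⟨_, (map_mul ..).trans (sqe (S_ψ A B) SS).symm⟩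
    · exact ⟨_, (map_mul ..).trans (sqe (SR_ψ A B) SRSR).symm⟩
  obtain ⟨⟨A, B⟩, rfl⟩ := mem_of_sq hk h3
  exact mem_of_sq hk (normD h h2).2

theorem nt : ¬ IsConj (ψ Φ (qi, qi)) (Φ t1) := fun e => by
  obtain ⟨g, hg⟩ := isConj_iff.1 e
  have := Fact.mk Nat.prime_three
  obtain ⟨k, -, hk⟩ := (sylD h).exists_conj_le
    (U := MulAut.conj g • (J0 ⊓ (centralizer {β (qi, qi)}).comap A.subtype).map (Φ.comp A.subtype))
    (CL.Grp.IsPGroup.conj_smul ((S0_three.to_le (inf_le_left.trans J0_le)).map _) g)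
    ((conj_smul_le_iff ..).2 (by
      rintro _ ⟨y, hy, rfl⟩
      rw [mem_cent, ← hg]
      exact ((mem_cent.1 hy.2).map Φ).conj g))
  clear this
  rw [conj_smul_conj_smul, conj_smul_le_iff] at hk
  generalize k * g = g' at hk
  let f : F → F → G := fun c d => g' * Φ (ua 0 (-d) 0 c c d : A) * g'⁻¹
  have h0 : ∀ c d c' d', f c d * f c' d' = f (c + c') (d + d') := fun c d c' d' => by
    have : ua 0 (-(d + d')) 0 (c + c') (c + c') (d + d') = ua 0 (-d) 0 c c d * ua 0 (-d') 0 c' c' d' := by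
      rw [ua_mul, ua_inj]; refine ⟨?_, ?_, ?_, ?_, ?_, ?_⟩ <;> ring
    simp only [f, this, Subgroup.coe_mul, map_mul]; group
  have h1 : ∀ c d : F, ∃ p q, f c d = ψ Φ (xs p, xs q) := fun c d =>
    mem_D.1 (hk _ ⟨_, ⟨ua_mem_J0.2 ⟨rfl, rfl⟩, mem_cent.2 (comm_ii c d)⟩, rfl⟩)
  have h2 : ∀ c d p q : F, c * c - -d * d ≠ 0 → f c d = ψ Φ (xs p, xs q) → p ≠ 0 := fun c d p q hn e hp => by
    rw [hp, xs_zero] at e
    by_cases hq : q = 0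
    · rw [hq, xs_zero] at e
      have e' : (Φ.comp A.subtype) (ua 0 (-d) 0 c c d) = 1 := conj_eq_one_iff.1 (e.trans (map_one _))
      rw [h.hy.one_iff, ua_eq_one] at e'
      simp [e'.2.2.2.1, e'.2.2.2.2.2] at hn
    · exact h.hy.not_bad (badJ hn) ((Φ.map_isConj (cj_b hq)).trans (isConj_iff.2 ⟨g', e⟩).symm)
  obtain ⟨p, q, e1⟩ := h1 1 0
  obtain ⟨p', q', e2⟩ := h1 0 1
  have e3 : f (1 + 0) (0 + 1) = ψ Φ (xs (p + p'), xs (q + q')) := by rw [← h0, e1, e2, ψ_mul, xs_add, xs_add]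
  have e4 : f (1 + 0 + 0) (0 + 1 + 1) = ψ Φ (xs (p + p' + p'), xs (q + q' + q')) := by
    rw [← h0, e3, e2, ψ_mul, ← xs_add, ← xs_add]
  exact (by decide : ∀ p p' : F, p ≠ 0 → p' ≠ 0 → p + p' ≠ 0 → p + p' + p' ≠ 0 → False) p p'
    (h2 _ _ _ _ (by decide) e1) (h2 _ _ _ _ (by decide) e2) (h2 _ _ _ _ (by decide) e3) (h2 _ _ _ _ (by decide) e4)

/-- a conjugate of `t` other than `t` is not fused into `SL₂(3) ∘ SL₂(3)` -/
theorem noψ {w g : G} (hw : IsConj (Φ t1) w) (h1 : w ≠ Φ t1) (hg : Commute g (Φ t1)) (A B : SL2) :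
    g * w * g⁻¹ ≠ ψ Φ (A, B) := fun e => by
  have c : IsConj (Φ t1) (ψ Φ (A, B)) := hw.trans (isConj_iff.2 ⟨g, e⟩)
  have h2 : ψ Φ (A * A, B * B) = ψ Φ (1, 1) := by
    have := c.pow 2
    rw [sq, sq, t_eq, ψ_mul, ψ_mul, neg_mul_neg, mul_one] at this
    exact (isConj_one_right.1 ((map_one (ψ Φ)) ▸ this)).trans (map_one _).symm
  have h3 : ψ Φ (A, B) ≠ ψ Φ (1, 1) := fun k => t_ne h (isConj_one_left.1 ((k.trans (map_one _)) ▸ c))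
  have h4 : ψ Φ (A, B) ≠ ψ Φ (-1, 1) := fun k => h1 (by
    rw [k, ← t_eq, mul_inv_eq_iff_eq_mul, ← hg.eq, mul_right_inj] at e; exact e)
  rcases (ψ_eq h).1 h2 with ⟨a, b⟩ | ⟨a, b⟩
  · rcases c_one A a with rfl | rfl <;> rcases c_one B b with rfl | rfl <;> simp [ψ_eq h] at h3 h4
  · obtain ⟨C, hC⟩ := c_four A a
    obtain ⟨E, hE⟩ := c_four B b
    exact nt h ((cj (ψ Φ (C, E)) (by rw [ψ_mul, ψ_mul, hC, hE])).trans c.symm)

theorem noN {m : M} (h1 : IsConj t1 m) (h2 : IsConj (β (qi, qi)) (m * t1)) (h3 : m * t1 ≠ t1 * m) {g : G}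
    (hg : Commute g (Φ t1)) : g * Φ m * g⁻¹ ∉ (centralizer {t1}).map Φ := by
  rintro ⟨n, hn, e⟩
  have c := Φ.map_isConj h1
  obtain ⟨A, B, rfl | rfl⟩ := dec1 (mem_cent.1 hn)
  · exact noψ h c (fun k => h3 (by rcases h.eq_iff.1 k with rfl | rfl <;> simp)) hg A B e.symm
  replace e : Φ r * ψ Φ (A, B) = g * Φ m * g⁻¹ := (map_mul ..).symm.trans e
  have h4 : ψ Φ (σ A * A, σ B * B) = ψ Φ (1, 1) := by
    have := (c.trans (isConj_iff.2 ⟨g, e.symm⟩)).pow 2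
    rw [sq, sq, sqe (R_ψ A B) RR, t_eq, ψ_mul, ψ_mul, neg_mul_neg, mul_one] at this
    exact (isConj_one_right.1 ((map_one (ψ Φ)) ▸ this)).trans (map_one _).symm
  obtain ⟨a, b⟩ := ((ψ_eq h).1 h4).resolve_right fun k => (c_refl A).1 k.1
  obtain ⟨C, hC⟩ := (c_refl A).2 a
  obtain ⟨E, hE⟩ := (c_refl B).2 b
  have h5 : Φ r * ψ Φ (A, B) * ψ Φ (C, E) = ψ Φ (C, E) * Φ r := by rw [mul_assoc, ψ_mul, R_ψ, hC, hE]
  refine nt h (((Φ.map_isConj h2).trans (cj ((ψ Φ (C, E))⁻¹ * g) ?_)).trans (Φ.map_isConj cj_rt).symm)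
  rw [map_mul, map_mul, mul_assoc (Φ r), ← ((ψ_t _).inv_left.mul_left hg).eq, ← mul_assoc, ← mul_assoc (Φ r),
    mul_left_inj, mul_assoc, inv_mul_eq_iff_eq_mul, ← mul_assoc, ← mul_assoc, ← h5, e]
  group

theorem sq_t {w : G} (h1 : w ∈ Φ.range) (h2 : w * w = Φ t1) : ∃ A, w = ψ Φ (A, 1) ∨ w = ψ Φ (1, A) := by
  obtain ⟨A, B, rfl | rfl | rfl | rfl⟩ := cases h h1 (h2 ▸ (Commute.refl w).mul_right (Commute.refl w))
  · rw [ψ_mul, t_eq, ψ_eq h, neg_neg] at h2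
    rcases h2 with ⟨-, b⟩ | ⟨a, -⟩
    · rcases c_one B b with rfl | rfl
      exacts [⟨A, .inl rfl⟩, ⟨-A, .inl ((ψ_eq h).2 (.inr ⟨(neg_neg A).symm, rfl⟩))⟩]
    · rcases c_one A a with rfl | rfl
      exacts [⟨B, .inr rfl⟩, ⟨-B, .inr ((ψ_eq h).2 (.inr ⟨rfl, (neg_neg B).symm⟩))⟩]
  · rw [sqe (R_ψ A B) RR, ψ_mul, t_eq, ψ_eq h] at h2
    exact (h2.elim (fun k => (c_refl A).1 k.1) fun k => (c_refl B).1 k.2).elim
  · rw [sqe (S_ψ A B) SS, ψ_mul, t_eq, ψ_eq h, neg_neg] at h2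
    exact (swap_ne h2).elim
  · rw [sqe (SR_ψ A B) SRSR, ψ_mul, t_eq, ψ_eq h, neg_neg] at h2
    refine (swap_ne (A := A) (B := σ B) (h2.imp (And.imp_right fun k => ?_) (And.imp_right fun k => ?_))).elim
    · simpa [σσ] using congrArg σ k
    · simpa [σσ, σ_neg] using congrArg σ k

variable (hy : ∀ c : F, c ≠ 0 → centralizer {Φ (yy c)} ≤ Φ.range)
include hy

theorem gen {R : Subgroup G} (hR : (Nat.card R).Coprime 3)
    (na : ∀ x ∈ R, ψ Φ (xs 1, 1) * x * (ψ Φ (xs 1, 1))⁻¹ ∈ R)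
    (nb : ∀ x ∈ R, ψ Φ (1, xs 1) * x * (ψ Φ (1, xs 1))⁻¹ ∈ R) : R ≤ Φ.range := by
  have c : ∀ {m m' : M}, IsConj m m' → centralizer {Φ m} ≤ Φ.range → ∀ x ∈ R, Commute x (Φ m') → x ∈ Φ.range :=
    fun e k x _ hx => by
      obtain ⟨n, rfl⟩ := isConj_iff.1 e
      rw [map_mul, map_mul, map_inv] at hx
      exact CL.A9R.cent_conj k ⟨n, rfl⟩ (mem_cent.2 hx)
  have cz : centralizer {Φ z0} ≤ Φ.range := h.hy.cz.trans (by rintro _ ⟨a, rfl⟩; exact ⟨a, rfl⟩)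
  have x1 : xs 1 ≠ 1 := fun k => one_ne_zero ((xs_ne 1).1 k)
  have c3 : ∀ {A B}, ψ Φ (A, B) ∈ D Φ → ψ Φ (A, B) ^ 3 = 1 := fun k => by
    obtain ⟨k, l, e⟩ := mem_D.1 k
    rw [e, ← map_pow, Prod.pow_mk, xs_cube, xs_cube]
    exact map_one _
  refine le_of_pair (ord3 (c3 a_D) fun k => x1 (ψ_eq' h (k.trans (map_one _).symm))) (c3 b_D) (ψ_comm ..) ?_ hR na nb ?_
  · rintro ⟨k, e⟩
    have e' : ψ Φ (xs 1 ^ k, 1 ^ k) = ψ Φ (1, xs 1) := (map_zpow (ψ Φ) (xs 1, 1) k).trans e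
    rw [_root_.one_zpow, ψ_eq h] at e'
    exact e'.elim (fun k => x1 k.2.symm) fun k => (xs_ne 1).2 (neg_eq_iff_eq_neg.1 k.2.symm)
  · simp only [List.mem_cons, List.not_mem_nil, or_false, forall_eq_or_imp, forall_eq, ← map_inv, Prod.inv_mk, ψ_mul,
      inv_one, mul_one, one_mul, ← xs_neg]
    exact ⟨c cj_a cz, c (cj_b one_ne_zero) cz, c cj_y2 (hy _ (by decide)), c cj_y1 (hy _ one_ne_zero)⟩

theorem Y_le : Y Φ ≤ Φ.range := by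
  have hb : V Φ ≤ Y Φ := fun v hv => by
    obtain ⟨l, rfl⟩ := mem_V.1 hv
    exact ⟨mem_cent.2 (ψ_comm ..).symm, mem_cent.2 (ψ_comm ..).symm⟩
  have key : ∀ n ∈ Y Φ, n ∈ normalizer (V Φ : Set G) → n ∈ centralizer (V Φ : Set G) ∧ n * n ∈ V Φ := fun n hn h1 => by
    have c1 := mem_cent.1 hn.1
    have c2 := mem_cent.1 hn.2
    have h2 := V_le ((mem_normalizer_iff.1 h1 _).1 (mem_V.2 ⟨1, rfl⟩))
    have q : ∀ B : SL2, B ≠ qi * B ∧ B ≠ -(qi * B) := by decide +kernel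
    obtain ⟨A, B, rfl | rfl | rfl | rfl⟩ := cases h (h.U (cj_b one_ne_zero) (D_le h2))
      (by rw [t_eq, ← c_q.1, ← mul_one (1 : SL2), ← ψ_mul]; exact c1.mul_right c1)
    · rw [Commute, SemiconjBy, ψ_mul, ψ_mul, mul_one, one_mul] at c1 c2
      obtain ⟨h3, l, h4⟩ := normB h h2
      have h5 : A * A = 1 := by rcases (c_cent A).1 (ψ_eq' h c1) (ψ_eq' h c2) with rfl | rfl <;> simp
      refine ⟨fun d hd => ?_, mem_V.2 ⟨l, by rw [ψ_mul, h4, h5]⟩⟩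
      obtain ⟨k, rfl⟩ := mem_V.1 hd
      rw [ψ_mul, ψ_mul, h3, mul_one, one_mul]
    · have e1 := comm_e (R_ψ A B) (ψ_mul ..) (R_ψ ..) c1
      have e2 := comm_e (R_ψ A B) (ψ_mul ..) (R_ψ ..) c2
      rw [ψ_mul, mul_one, one_mul] at e1 e2
      exact absurd (ψ_eq' h e2) ((c_cent A).2 (ψ_eq' h e1))
    · have e1 := comm_e (S_ψ A B) (ψ_mul ..) (S_ψ ..) c1
      rw [ψ_mul, mul_one, ψ_eq h] at e1
      exact (e1.elim (fun k => (q _).1 k.1) fun k => (q _).2 k.1).elim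
    · have e1 := comm_e (SR_ψ A B) (ψ_mul ..) (SR_ψ ..) c1
      rw [ψ_mul, mul_one, ψ_eq h] at e1
      exact (e1.elim (fun k => (q _).1 k.1) fun k => (q _).2 k.1).elim
  refine le_of_selfnorm hb (D_three.to_le V_le) (fun n h1 h2 => (key n h1 h2).1)
    (fun n h1 h2 k hk => mem_of_sq hk (key n h1 (centralizer_le_normalizer _ h2)).2) (V_le.trans D_le)
    fun R _ h2 h3 => gen h hy h2 (h3 _ fun d hd => ?_) (h3 _ fun d hd => ?_)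
  · have c1 := mem_cent.1 hd.1
    have c2 := mem_cent.1 hd.2
    have k : ∀ A B : SL2, A * xs 1 = xs 1 * B → Commute d (ψ Φ (B, 1)) →
        ψ Φ (xs 1, 1) * d * (ψ Φ (xs 1, 1))⁻¹ ∈ centralizer {ψ Φ (A, 1)} := fun A B e c => by
      have := c.conj (ψ Φ (xs 1, 1))
      rw [ψ_mul, ← e, ← ψ_mul A 1, mul_inv_cancel_right] at this
      exact mem_cent.2 this
    refine ⟨k _ _ c_q.2.2.2.1 ?_, k _ _ c_q.2.2.2.2 ?_⟩
    · simpa [ψ_mul] using c1.mul_right c2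
    · simpa [ψ_mul] using (c1.mul_right c1).mul_right c1
  · have := hb (mem_V.2 ⟨1, rfl⟩)
    exact mul_mem (mul_mem this hd) (inv_mem this)

theorem key4 {n : G} (hn : Commute n (Φ t1)) (h1 : n * ψ Φ (qi, 1) * n⁻¹ ∈ Φ.range)
    (h2 : n * ψ Φ (qj, 1) * n⁻¹ ∈ Φ.range) : n ∈ Φ.range := by
  have k : ∀ A : SL2, A * A = -1 → n * ψ Φ (A, 1) * n⁻¹ * (n * ψ Φ (A, 1) * n⁻¹) = Φ t1 := fun A e => by
    rw [conj_mul, ψ_mul, e, mul_one, ← t_eq, hn.eq, mul_inv_cancel_right]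
  have k2 : ∀ {m : M}, IsConj (z0 : M) m → Commute (Φ m) (n * ψ Φ (qi, 1) * n⁻¹) →
      Commute (Φ m) (n * ψ Φ (qj, 1) * n⁻¹) → n ∈ Φ.range := fun c a b =>
    inv_mem_iff.1 (h.U c (Y_le h hy ⟨mem_cent.2 (by simpa [mul_assoc] using a.conj n⁻¹),
      mem_cent.2 (by simpa [mul_assoc] using b.conj n⁻¹)⟩))
  have k3 : ¬ Commute (n * ψ Φ (qi, 1) * n⁻¹) (n * ψ Φ (qj, 1) * n⁻¹) := fun c => by
    rw [Commute.conj_iff, Commute, SemiconjBy, ψ_mul, ψ_mul, c_q.2.2.1] at c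
    exact ne_neg _ (ψ_eq' h c).symm
  obtain ⟨A, a | a⟩ := sq_t h h1 (k _ c_q.1) <;> obtain ⟨B, b | b⟩ := sq_t h h2 (k _ c_q.2.1) <;>
    rw [a, b] at k2 k3
  exacts [k2 (cj_b one_ne_zero) (ψ_comm ..).symm (ψ_comm ..).symm, absurd (ψ_comm ..) k3,
    absurd (ψ_comm ..).symm k3, k2 cj_a (ψ_comm ..) (ψ_comm ..)]

theorem exists_T : ∃ T, IsSylowIn 2 T (centralizer {Φ t1}) ∧ T ≤ Φ.range := by
  have := Fact.mk Nat.prime_two
  obtain ⟨T, h1, h2⟩ := exists_isSylowIn_ge (H := centralizer {Φ t1})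
    (Q8_two.map ((ψ Φ).comp (MonoidHom.inl SL2 SL2))) (by rintro _ ⟨p, -, rfl⟩; exact mem_cent.2 (ψ_t _))
  refine ⟨T, h1, ?_⟩
  by_contra h3
  obtain ⟨n, hn, h4⟩ := SetLike.exists_of_lt (lt_inf_normalizer_of_isPGroup h1.isPGroup
    (lt_of_le_of_ne (inf_le_left : T ⊓ Φ.range ≤ T) fun e => h3 (inf_eq_left.1 e)))
  have k : ∀ A : SL2, A * A = -1 → n * ψ Φ (A, 1) * n⁻¹ ∈ Φ.range := fun A e =>
    ((mem_normalizer_iff.1 hn.2 _).1 ⟨h2 ⟨A, .inr e, rfl⟩, ψ_mem _⟩).2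
  exact h4 ⟨hn.1, key4 h hy (mem_cent.1 (h1.le hn.1)) (k _ c_q.1) (k _ c_q.2.1)⟩

theorem main : centralizer {Φ t1} ≤ Φ.range := by
  have := Fact.mk Nat.prime_two
  obtain ⟨T, hT, hT'⟩ := exists_T h hy
  set K := centralizer ({Φ t1} : Set G) with hK
  set L := (pResidual 2 K).map K.subtype with hL
  have l1 : L ≤ K := map_subtype_le _
  have l2 : ∀ g ∈ K, ∀ x ∈ L, g * x * g⁻¹ ∈ L := by
    rintro g hg _ ⟨x, hx, rfl⟩
    exact ⟨_, (inferInstance : (pResidual 2 K).Normal).conj_mem x hx ⟨g, hg⟩, rfl⟩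
  have l3 : ∀ U : Subgroup L, U.index ≠ 2 := CL.Transfer.index_ne_two_of_pResidual_eq_top (by
    rw [← map_pResidual_equiv ((pResidual 2 K).equivMapOfInjective K.subtype K.subtype_injective),
      pResidual_pResidual]
    exact map_top_of_surjective _ (MulEquiv.surjective _))
  have l4 : ¬ 2 ∣ Φ.range.relIndex L := by
    rw [← inf_relIndex_right]
    exact (hT.inf_of_normalized l1 fun g hg => mem_normalizer_fintype (l2 g hg)).not_dvd_relIndex_of_le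
      (inf_le_inf_right _ hT') inf_le_right
  have l5 : ∀ f : SL2 →* SL2 × SL2, ∀ A, ψ Φ (f A) ∈ L := fun f A => by
    refine CL.SLn.transvection_induction (fun A => ψ Φ (f A) ∈ L) (by simp) (fun i j k c => ?_)
      (fun A B a b => by rw [map_mul, map_mul]; exact mul_mem a b) A
    refine ⟨⟨_, mem_cent.2 (ψ_t _)⟩, mem_pResidual_of_coprime ?_, rfl⟩
    refine (by norm_num : Nat.Coprime 3 2).coprime_dvd_left (orderOf_dvd_of_pow_eq_one (Subtype.ext ?_))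
    show ψ Φ (f _) ^ 3 = 1
    rw [← map_pow, ← map_pow, c_tv, map_one, map_one]
  have l6 : ∀ A B, ψ Φ (A, B) ∈ L := fun A B => by
    simpa [ψ_mul] using mul_mem (l5 (MonoidHom.inl _ _) A) (l5 (MonoidHom.inr _ _) B)
  have l7 : ∀ m : M, IsConj t1 m → IsConj (β (qi, qi)) (m * t1) → m * t1 ≠ t1 * m → Φ m * Φ m = 1 → Φ m ∉ L :=
    fun m h1 h2 h3 h4 h5 => by
      have h6 := (anti h (mem_cent.1 (l1 h5))).resolve_left h3
      obtain ⟨g, hg, e⟩ := tt (N := (centralizer {t1}).map Φ) l3 l4 h5 ⟨m, rfl⟩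
        (by simpa using noN h h1 h2 h3 (Commute.one_left _)) h4 (by
          rintro _ ha ⟨a, rfl⟩
          rcases anti h (mem_cent.1 (l1 ha)) with k | k
          · exact .inr ⟨a, mem_centralizer_singleton_iff.2 k, rfl⟩
          · refine .inl ⟨a * m, mem_centralizer_singleton_iff.2 ?_, map_mul ..⟩
            rw [mul_assoc, h6, mul_neg, ← mul_assoc, k, neg_mul, neg_neg, mul_assoc])
      exact noN h h1 h2 h3 (mem_cent.1 (l1 hg)) e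
  have l8 : ∀ n ∈ L, n ∈ Φ.range → ∃ A B, n = ψ Φ (A, B) ∨ n = Φ r * ψ Φ (A, B) := fun n h1 h2 => by
    obtain ⟨A, B, e | e | rfl | rfl⟩ := cases h h2 (mem_cent.1 (l1 h1))
    exacts [⟨A, B, .inl e⟩, ⟨A, B, .inr e⟩,
      absurd ((mul_mem_cancel_right (l6 A B)).1 h1) (l7 s cj_s cj_st rel.2.2.2.2.1 SS),
      absurd ((mul_mem_cancel_right (l6 A B)).1 h1) (l7 _ cj_sr cj_srt rel.2.2.2.2.2 SRSR)]
  have r1 : Φ r ∉ (ψ Φ).range := fun ⟨p, e⟩ => r_ne p.1 p.2 (h.eq_iff.1 e)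
  have l9 : Φ r ∉ L := fun h1 => by
    obtain ⟨g, hg, p, e⟩ := tt (N := (ψ Φ).range) l3 l4 h1 ⟨r, rfl⟩ r1 RR fun a ha hb => by
      obtain ⟨A, B, rfl | rfl⟩ := l8 a ha hb
      · exact .inr ⟨_, rfl⟩
      · exact .inl ⟨_, by rw [R_ψ, mul_assoc, RR, mul_one]⟩
    exact noψ h (Φ.map_isConj cj_r) (fun k => r1 ⟨_, (k.trans t_eq).symm⟩) (mem_cent.1 (l1 hg)) p.1 p.2 e.symm
  have key : ∀ n ∈ L, n ∈ normalizer (D Φ : Set G) → n ∈ centralizer (D Φ : Set G) ∧ n * n ∈ D Φ := fun n h1 h2 => by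
    obtain ⟨A, B, rfl | rfl⟩ := l8 n h1 (normU h h2)
    exacts [normD h h2, absurd ((mul_mem_cancel_right (l6 A B)).1 h1) l9]
  have fin : L ≤ Φ.range := le_of_selfnorm (by rintro _ ⟨p, -, rfl⟩; exact l6 p.1 p.2) D_three
    (fun n h1 h2 => (key n h1 h2).1)
    (fun n h1 h2 k hk => mem_of_sq hk (key n h1 (centralizer_le_normalizer _ h2)).2) D_le
    fun R _ h2 h3 => gen h hy h2 (h3 _ (l2 _ (l1 (l6 ..)))) (h3 _ (l2 _ (l1 (l6 ..))))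
  exact fun g hg => h.U cj_a (fin (l2 g hg _ (l6 ..)))

end Ct

theorem ctI : CtI.{v} := fun h hy => Ct.main h hy

end CL.L3L
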