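/-
The 3-local recognition of `PSL₄(3)`: the centraliser of a non-singular vector.
-/
import Cfsg.Agent.Rec.L3Bas
import Cfsg.Agent.Rec.A9B
import Cfsg.Agent.Rec.L3CyCert

set_option autoImplicit false
set_option maxRecDepth 100000
set_option synthInstance.maxSize 4000
set_option linter.unusedSectionVars false

open Subgroup Cfsg Matrix CL.Grp CL.TC CL.Amg
open CL.Perm.A9N (K0 ge wd ck cw c1 cJ cW wJW ck_wd ck_inj ck_one)

namespace CL.L3L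

universe v

namespace Cy

/-- the matrices that correspond to the generators of `3 ^ 3 : S₄` -/
def mg (c : F) : Fin 4 → M := ![ua 0 (2 * c) 0 0 0 1, ua c 0 1 0 0 0,
  tv 1 0 (2 * c) * tv 0 1 (2 * c) * tv 3 2 2 * tv 2 3 2, tv 1 0 (2 * c) * tv 3 2 2 * τ]
/-- their codes -/
def gm (c : F) : Fin 4 → ℕ :=
  if c = 1 then ![1074799681, 1078985733, 2693794313, 1344275714] else ![1074795585, 1078985737, 2693794053, 1344275970]
/-- the code of a word -/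
def cm (c : F) : List (Fin 4) → ℕ
  | [] => 1074791425
  | i :: l => mf (gm c i) (cm c l)
/-- the powers of `yy c` -/
def yi (c i : F) : M := ua 0 0 0 i (c * i) 0
/-- the letters of the presentation -/
def lt (i : ℕ) : List (Fin 4) := [[0], [0, 0], [1], [1, 1], [2], [3]].getD i []
/-- equality of codes up to sign -/
def pm (a b : ℕ) : Prop := a = b ∨ a = mf 2149582850 b
instance (a b : ℕ) : Decidable (pm a b) := inferInstanceAs (Decidable (_ ∨ _))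

theorem pm_iff {m n : M} : pm (cd m) (cd n) ↔ m = n ∨ m = -n := by
  rw [pm, ← cd_neg_one, ← cd_mul', cd_inj, cd_inj, neg_one_mul]

theorem d1 : ∀ c : F, c ≠ 0 → ∀ i, cd (mg c i) = gm c i ∧ mf (gm c i) (cd (yy c)) = mf (cd (yy c)) (gm c i) := by
  decide +kernel

theorem d2 : ∀ c : F, c ≠ 0 → ∀ r ∈ L3K0.rels ++ [[1, 0], [0, 1], [3, 2], [2, 3], [4, 4], [5, 5]],
    cw (List.flatMap lt r) = c1 ∧ pm 1074791425 (cm c (List.flatMap lt r)) := by decide +kernel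

theorem d3 : ∀ c : F, c ≠ 0 → ∀ l ∈ wJW.take 27, ∀ i : F, pm 1074791425 (mf (cm c l) (cd (yi c i))) → cw l = c1 := by decide +kernel

theorem d4 : ∀ c : F, c ≠ 0 → ∀ b d e z : F, ∃ i : F,
    mf (cd (ua 0 b 0 d e z)) (cd (yi c i)) ∈ (wJW.take 27).map (cm c) := by decide +kernel

theorem d5 : ∀ c : F, c ≠ 0 → ∀ a b d e : F, a * e - b * d ≠ 0 → ∃ n ∈ (wJW.drop 27).flatMap fun l =>
    [cm c l, mf 2149582850 (cm c l)], (dg n 0 : F) * a + (dg n 1 : F) * d = 1 ∧ (dg n 0 : F) * b + (dg n 1 : F) * e = 0 ∧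
      (dg n 4 : F) * a + (dg n 5 : F) * d = 0 ∧ (dg n 4 : F) * b + (dg n 5 : F) * e = 1 := by decide +kernel

theorem d6 : cJ = (wJW.take 27).map cw ∧ (∀ l ∈ wJW.take 27, cw l ∈ cJ) ∧ cW = (wJW.drop 27).map cw := by decide +kernel

theorem d7 : ∀ c : F, c ≠ 0 → cm c [0, 1, 0, 1, 0, 1] = cd (ua 0 0 0 0 0 2) ∧ cm c [1] = cd (ua c 0 1 0 0 0) := by
  decide +kernel

theorem exJ {j : K0} (h : j ∈ Perm.A9N.J0) : ∃ l ∈ wJW.take 27, j = wd l := by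
  obtain ⟨l, hl, e⟩ := List.mem_map.1 (d6.1 ▸ Perm.A9N.mem_J0.1 h)
  exact ⟨l, hl, ck_inj.2 (e.symm.trans (ck_wd l).symm)⟩

theorem wd_app (l l' : List (Fin 4)) : wd (l ++ l') = wd l * wd l' := by simp [wd]

theorem exK (k : K0) : ∃ l, k = wd l := by
  obtain ⟨j, hj, w, hw, rfl⟩ := Perm.A9N.dec k
  obtain ⟨l, -, rfl⟩ := exJ hj
  obtain ⟨l', -, e⟩ := List.mem_map.1 (d6.2.2 ▸ A9R.mem_W0.1 hw)
  exact ⟨l ++ l', by rw [wd_app, ck_inj.2 (e.symm.trans (ck_wd l').symm)]⟩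

theorem mem_zp {c : F} {w : M} : w ∈ zpowers (yy c : M) ↔ ∃ i, w = yi c i := by
  have h : ∀ n : ℕ, yy c ^ n = ua 0 0 0 n (c * n) 0 := fun n => by
    induction n with
    | zero => simp [ua_zero]
    | succ n ih => rw [pow_succ, ih, yy, ua_mul]; simp [mul_add]
  have h' : ∀ n : ℕ, (yy c : M) ^ n = yi c n := fun n => congrArg Subtype.val (h n)
  rw [← mem_powers_iff_mem_zpowers]
  exact ⟨fun ⟨n, e⟩ => ⟨n, by rw [← e, ← h']⟩, fun ⟨z, e⟩ => ⟨z.val, by rw [e]; simp [h']⟩⟩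

/-- the centraliser in the model -/
abbrev C (c : F) : Subgroup M := centralizer {(yy c : M)}

theorem J_C {c : F} {w : A} (hw : w ∈ J0) : (w : M) ∈ C c :=
  mem_cent.2 ((J0_comm (j := yy c) hw (by simp [yy, ua_mem_J0])).map A.subtype)

variable {c : F} (hc : c ≠ 0)
include hc

/-- the value of a word -/
def mW (l : List (Fin 4)) : C c := (l.map fun i => (⟨mg c i, mem_cent.2 (cd_inj.1 (by
  rw [cd_mul', cd_mul', (d1 c hc i).1, (d1 c hc i).2]))⟩ : C c)).prod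

theorem mW_app (l l' : List (Fin 4)) : mW hc (l ++ l') = mW hc l * mW hc l' := by simp [mW]

theorem cd_mW (l : List (Fin 4)) : cd (mW hc l) = cm c l := by
  induction l with
  | nil => exact cd_one
  | cons i l ih => rw [cm, ← ih, ← (d1 c hc i).1, ← cd_mul']; rfl

theorem ent_C {m : M} (hm : m ∈ C c) : m.1 2 0 = 0 ∧ m.1 2 1 = 0 ∧ m.1 3 0 = 0 ∧ m.1 3 1 = 0 ∧ m.1 2 2 = m.1 0 0 ∧
    m.1 2 3 = c * m.1 0 1 ∧ c * m.1 3 2 = m.1 1 0 ∧ m.1 3 3 = m.1 1 1 := by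
  have k : ∀ i j, (m.1 * (yy c).1.1) i j = ((yy c).1.1 * m.1) i j :=
    fun i j => congrArg (fun m : M => m.1 i j) (mem_cent.1 hm).eq
  have a0 := k 0 0; have a1 := k 0 1; have a2 := k 1 0; have a3 := k 1 1
  have b0 := k 0 2; have b1 := k 0 3; have b2 := k 1 2; have b3 := k 1 3
  simp [yy, ua, u, Matrix.mul_apply, Fin.sum_univ_four, hc] at a0 a1 a2 a3 b0 b1 b2 b3
  exact ⟨a0, a1, a2, a3, by linear_combination -b0, by linear_combination -b1, by linear_combination -b2,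
    mul_left_cancel₀ hc (by linear_combination -b3)⟩

theorem ent_mul (n : M) {m : M} (hm : m ∈ C c) (i j : Fin 4) (hj : j = 0 ∨ j = 1) :
    (n * m).1 i j = n.1 i 0 * m.1 0 j + n.1 i 1 * m.1 1 j := by
  obtain ⟨h1, h2, h3, h4, -⟩ := ent_C hc hm
  rw [val_mul]
  rcases hj with rfl | rfl <;> simp [Matrix.mul_apply, Fin.sum_univ_four, *]

theorem eq_J {m : M} (hm : m ∈ C c) (k : m.1 0 0 = 1 ∧ m.1 0 1 = 0 ∧ m.1 1 0 = 0 ∧ m.1 1 1 = 1) :
    ∃ j ∈ J0, m = j := by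
  obtain ⟨h1, h2, h3, h4, h5, h6, h7, h8⟩ := ent_C hc hm
  rw [k.2.2.1, mul_eq_zero, or_iff_right hc] at h7
  refine ⟨ua 0 (m.1 1 2) 0 (m.1 0 2) (m.1 1 3) (m.1 0 3), by simp [ua_mem_J0],
    Subtype.ext (Matrix.ext fun i j => ?_)⟩
  fin_cases i <;> fin_cases j <;> simp [ua, u, *]

theorem det_C {m : M} (hm : m ∈ C c) : m.1 0 0 * m.1 1 1 - m.1 0 1 * m.1 1 0 ≠ 0 := fun k => by
  have e := ent_mul hc m⁻¹ hm
  rw [inv_mul_cancel] at e
  generalize m⁻¹.1 = x at e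
  have e0 : (1 : F) = _ := e 0 0 (.inl rfl)
  have e1 : (0 : F) = _ := e 0 1 (.inr rfl)
  have e2 : (0 : F) = _ := e 1 0 (.inl rfl)
  have e3 : (1 : F) = _ := e 1 1 (.inr rfl)
  exact one_ne_zero (α := F) (by
    linear_combination e0 + (x 0 0 * m.1 0 0 + x 0 1 * m.1 1 0) * e3 - (x 0 0 * m.1 0 1 + x 0 1 * m.1 1 1) * e2 +
      (x 0 0 * x 1 1 - x 0 1 * x 1 0) * k)

theorem dec_C {m : M} (hm : m ∈ C c) :
    ∃ l, ∃ n ∈ C c, (n = mW hc l ∨ n = -mW hc l) ∧ ∃ j ∈ J0, n * m = j := by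
  obtain ⟨a, ha, k⟩ := d5 c hc _ _ _ _ (det_C hc hm)
  obtain ⟨l, -, ha⟩ := List.mem_flatMap.1 ha
  obtain ⟨n, hn, hn', rfl⟩ : ∃ n ∈ C c, (n = mW hc l ∨ n = -mW hc l) ∧ cd n = a := by
    simp only [List.mem_cons, List.not_mem_nil, or_false] at ha
    rcases ha with e | e
    · exact ⟨_, (mW hc l).2, .inl rfl, (cd_mW hc l).trans e.symm⟩
    · exact ⟨_, mem_cent.2 (mem_cent.1 (mW hc l).2).neg_left, .inr rfl, by
        rw [e, ← cd_mW hc, ← cd_neg_one, ← cd_mul', neg_one_mul]⟩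
  have d : ∀ (i j : Fin 4) (t : ℕ), t = 4 * i + j → (dg (cd n) t : F) = n.1 i j := fun i j t e => by
    rw [e, dg_cd, ZMod.natCast_zmod_val]
  rw [d 0 0 0 rfl, d 0 1 1 rfl, d 1 0 4 rfl, d 1 1 5 rfl, ← ent_mul hc n hm 0 0 (.inl rfl),
    ← ent_mul hc n hm 0 1 (.inr rfl), ← ent_mul hc n hm 1 0 (.inl rfl), ← ent_mul hc n hm 1 1 (.inr rfl)] at k
  exact ⟨l, n, hn, hn', eq_J hc (mul_mem hn hm) k⟩

omit hc

variable {G : Type v} [Group G] (Φ : M →* G) (c)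

/-- the centraliser -/
abbrev Y : Subgroup G := centralizer {Φ (yy c)}

/-- the central subgroup -/
def V : Subgroup (Y c Φ) := (zpowers (Φ (yy c))).subgroupOf _

instance : (V c Φ).Normal := ⟨fun n hn g => by
  obtain ⟨k, e⟩ := mem_zpowers_iff.1 (mem_subgroupOf.1 hn)
  rwa [show g * n = n * g from Subtype.ext (by
    rw [coe_mul, coe_mul, ← e]; exact ((mem_cent.1 g.2).zpow_right k).eq), mul_inv_cancel_right]⟩

/-- the restriction of `Φ` -/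
def ρ : C c →* Y c Φ := (Φ.comp (C c).subtype).codRestrict _ fun m => mem_cent.2 ((mem_cent.1 m.2).map Φ)

/-- the map to the quotient -/
def θ : C c →* Y c Φ ⧸ V c Φ := (QuotientGroup.mk' _).comp (ρ c Φ)

variable {Φ c}

theorem mk_eq {g g' : Y c Φ} : (g : Y c Φ ⧸ V c Φ) = g' ↔ ∃ i, (g' : G) = g * Φ (yi c i) := by
  rw [QuotientGroup.eq, V, mem_subgroupOf, ← MonoidHom.map_zpowers, mem_map]
  simp only [mem_zp, coe_mul, coe_inv]
  exact ⟨fun ⟨_, ⟨i, e⟩, e'⟩ => ⟨i, inv_mul_eq_iff_eq_mul.1 (e ▸ e'.symm)⟩,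
    fun ⟨i, e⟩ => ⟨_, ⟨i, rfl⟩, (inv_mul_eq_iff_eq_mul.2 e).symm⟩⟩

variable (h : HyI Φ)
include h

theorem θ_eq {m n : C c} : θ c Φ m = θ c Φ n ↔ ∃ i, pm (cd n) (mf (cd m) (cd (yi c i))) := by
  refine mk_eq.trans (exists_congr fun i => ?_)
  rw [← cd_mul', pm_iff, ← h.eq_iff, map_mul]; rfl

theorem θ_eq' {m n : C c} (e : (n : M) = m ∨ (n : M) = -m) : θ c Φ m = θ c Φ n :=
  congrArg QuotientGroup.mk (Subtype.ext (h.eq_iff.2 e).symm)

include hc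

theorem exists_f : ∃ f : K0 →* Y c Φ ⧸ V c Φ, ∀ l, f (wd l) = θ c Φ (mW hc l) := by
  let p : ℕ → (Y c Φ ⧸ V c Φ) × K0 := fun i => (θ c Φ (mW hc (lt i)), wd (lt i))
  have e : ∀ r, ev p r = (θ c Φ (mW hc (r.flatMap lt)), wd (r.flatMap lt)) := fun r => by
    induction r with
    | nil => exact Prod.ext (map_one _).symm rfl
    | cons i r ih => rw [ev_cons, ih, List.flatMap_cons, mW_app, wd_app, map_mul]; rfl
  have rel : ∀ r ∈ L3K0.rels ++ [[1, 0], [0, 1], [3, 2], [2, 3], [4, 4], [5, 5]], ev p r = 1 := fun r hr => by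
    obtain ⟨h1, h2⟩ := d2 c hc r hr
    rw [← cd_one, ← cd_mW hc, pm_iff] at h2
    rw [e, θ_eq' h (n := 1) h2, map_one, ck_inj.2 (((ck_wd _).trans h1).trans ck_one.symm)]; rfl
  obtain ⟨el, hl⟩ := exists_lab L3K0.valid p (fun i => by
    rcases Nat.lt_or_ge i 6 with k | k
    · exact eq_inv_of_mul_eq_one_left (by
        simpa [ev_cons] using rel [L3K0.invL.getD i i, i] (by interval_cases i <;> decide))
    · rw [List.getD_eq_default _ _ k]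
      have : lt i = [] := List.getD_eq_default _ _ k
      simp [p, this, mW, wd]) fun r hr => rel r (List.mem_append_left _ hr)
  have ind : ∀ P : List (Fin 4) → Prop, P [] → (∀ l l', P l → P l' → P (l ++ l')) → (∀ i < 6, P (lt i)) → ∀ l, P l :=
    fun P h0 h1 h2 l => by
      induction l with
      | nil => exact h0
      | cons i l ih =>
        refine h1 [i] l ?_ ih
        fin_cases i
        exacts [h2 0 (by decide), h2 2 (by decide), h2 4 (by decide), h2 5 (by decide)]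
  obtain ⟨f, hf, -⟩ := exists_hom_of_bound (fun i => (p i).1) (fun i => (p i).2) 6 (eq_top_iff.2 fun k _ => by
    obtain ⟨l, rfl⟩ := exK k
    exact ind (fun l => wd l ∈ _) (one_mem _) (fun l l' a b => wd_app l l' ▸ mul_mem a b) (fun i => mem_gen _) l)
    (A9R.card_K0 ▸ hl.card_le)
  exact ⟨f, ind _ ((map_one f).trans (map_one _).symm)
    (fun l l' a b => by rw [wd_app, mW_app, map_mul, map_mul, a, b]) hf⟩

omit h hc in
theorem mem_range_of {g : Y c Φ} {m : C c} (e : θ c Φ m = g) : (g : G) ∈ Φ.range :=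
  let ⟨i, e'⟩ := mk_eq.1 e; ⟨m * yi c i, (map_mul ..).trans e'.symm⟩

omit hc in
theorem ex_C {g : Y c Φ} (hg : (g : G) ∈ Φ.range) : ∃ m : C c, θ c Φ m = g := by
  obtain ⟨m, e⟩ := hg
  have k := (mem_cent.1 g.2).eq
  rw [← e, ← map_mul, ← map_mul, h.eq_iff] at k
  refine ⟨⟨m, mem_cent.2 (k.resolve_right fun k => ?_)⟩, congrArg QuotientGroup.mk (Subtype.ext e)⟩
  have h3 : (yy c : M) ^ 3 = 1 := congrArg Subtype.val (J0_cube (j := yy c) (by simp [yy, ua_mem_J0]))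
  have := congrArg (· ^ 3) (mul_inv_eq_iff_eq_mul.2 (k.trans (neg_mul _ _).symm))
  simp only [conj_pow, h3, Odd.neg_pow (show Odd 3 by decide), mul_one, mul_inv_cancel] at this
  exact absurd (cd_inj'.1 this) (by rw [cd_one, cd_neg_one]; decide)

omit hc in
theorem sigX [Finite G] {R : Subgroup (Y c Φ ⧸ V c Φ)} (hR : (Nat.card R).Coprime 3)
    (hn : ∀ w (hw : w ∈ J0), θ c Φ ⟨w, J_C hw⟩ ∈ normalizer (R : Set (Y c Φ ⧸ V c Φ))) : R = ⊥ := by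
  have one : ∀ g : Y c Φ, (g : Y c Φ ⧸ V c Φ) = 1 ↔ (g : G) ∈ zpowers (Φ (yy c)) := fun g => QuotientGroup.eq_one_iff g
  let D := (R.comap (QuotientGroup.mk' _)).map (Y c Φ).subtype
  have nD : ∀ w ∈ J0, ∀ d ∈ D, Φ w * d * (Φ w)⁻¹ ∈ D := by
    rintro w hw _ ⟨d, hd, rfl⟩
    exact ⟨ρ c Φ ⟨w, J_C hw⟩ * d * (ρ c Φ ⟨w, J_C hw⟩)⁻¹, (mem_normalizer_iff.1 (hn w hw) _).1 hd, rfl⟩
  have := le_of_selfnorm (D := D) (V := zpowers (Φ (yy c))) (H := zpowers (Φ (yy c)))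
    (zpowers_le.2 ⟨⟨_, mem_cent.2 (Commute.refl _)⟩,
      mem_comap.2 (by rw [QuotientGroup.mk'_apply, (one _).2 (mem_zpowers _)]; exact one_mem _), rfl⟩)
    (.of_card (n := 1) ((Nat.card_zpowers _).trans (h.hy.ord (k := yy c) (J0_cube (by simp [yy, ua_mem_J0]))
      (by simp [yy, ua_eq_one]))))
    (by
      rintro _ ⟨d, -, rfl⟩ - _ ⟨k, rfl⟩
      exact ((mem_cent.1 d.2).zpow_right k).symm.eq)
    (by
      rintro _ ⟨d, hd, rfl⟩ - k e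
      refine (one d).1 (eq_one_of_cop hR hd (k := k) ?_)
      rw [← QuotientGroup.mk_pow, show d ^ 3 ^ k = 1 from Subtype.ext e, QuotientGroup.mk_one]) le_rfl
    fun R' _ h1 h2 => (h.hy.sig h1 (h2 _ (nD _ z0_J0)) (h2 _ (nD _ (by simp [x24, ua_mem_J0])))).trans bot_le
  refine eq_bot_iff.2 fun x hx => ?_
  obtain ⟨g, rfl⟩ := QuotientGroup.mk_surjective x
  exact (one g).2 (this ⟨g, hx, rfl⟩)

variable {f : K0 →* Y c Φ ⧸ V c Φ} (hf : ∀ l, f (wd l) = θ c Φ (mW hc l))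
include hf

theorem memJ {w : A} (hw : w ∈ J0) : θ c Φ ⟨w, J_C hw⟩ ∈ Perm.A9N.J0.map f := by
  obtain ⟨b, d, e, z, rfl⟩ := mem_J0.1 hw
  obtain ⟨i, hi⟩ := d4 c hc b d e z
  obtain ⟨l, hl, e⟩ := List.mem_map.1 hi
  refine ⟨wd l, Perm.A9N.mem_J0.2 (by rw [ck_wd]; exact d6.2.1 l hl), (hf l).trans ((θ_eq h).2 ⟨i, ?_⟩).symm⟩
  rw [cd_mW, e]; exact .inl rfl

theorem memC (m : C c) : θ c Φ m ∈ f.range := by
  obtain ⟨l, n, hn, e, j, hj, e'⟩ := dec_C hc m.2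
  have h1 : θ c Φ ⟨n, hn⟩ ∈ f.range := ⟨wd l, (hf l).trans (θ_eq' h e)⟩
  refine (mul_mem_cancel_left h1).1 ?_
  rw [← map_mul, show (⟨n, hn⟩ * m : C c) = ⟨j, J_C hj⟩ from Subtype.ext e']
  exact map_le_range _ _ (memJ hc h hf hj)

omit h in
theorem memR {g : Y c Φ} (hg : (g : Y c Φ ⧸ V c Φ) ∈ f.range) : (g : G) ∈ Φ.range := by
  obtain ⟨k, e⟩ := hg
  obtain ⟨l, rfl⟩ := exK k
  exact mem_range_of ((hf l).symm.trans e)

theorem hy [Finite G] : A9R.Hy f := by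
  have sg : ∀ k ∈ Perm.A9N.J0, pPrimeCoreOf 3 (centralizer {f k}) = ⊥ := fun k hk =>
    sigX h (pPrimeCoreOf_coprime 3 _) fun w hw => le_normalizer_pPrimeCoreOf 3 _
      (A9R.Hy.J_cent (mem_map_of_mem f hk) (memJ hc h hf hw))
  refine ⟨(injective_iff_map_eq_one f).2 fun k hk => ?_, le_antisymm (fun x hx => ?_) ?_, sg _ A9R.mJ.2.2.2.2.1,
    sg _ A9R.mJ.2.2.2.1⟩
  · have key : ∀ j ∈ Perm.A9N.J0, f j = 1 → j = 1 := fun j hj e => by
      obtain ⟨l, hl, rfl⟩ := exJ hj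
      obtain ⟨i, hi⟩ := (θ_eq h (n := 1)).1 (((hf l).symm.trans e).trans (map_one _).symm)
      rw [cd_mW] at hi
      exact ck_inj.2 (((ck_wd l).trans (d3 c hc l hl i (cd_one ▸ hi))).trans ck_one.symm)
    have cm : ∀ j ∈ Perm.A9N.J0, Commute k j := fun j hj => mul_inv_eq_iff_eq_mul.1 (mul_inv_eq_one.1
      (key _ (mul_mem (Perm.A9N.J0_normal.conj_mem j hj k) (inv_mem hj)) (by simp [hk])))
    exact key k (Perm.A9N.k2 (cm _ A9R.mJ.1) (cm _ A9R.mJ.2.2.1)) hk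
  · obtain ⟨g, rfl⟩ := QuotientGroup.mk_surjective x
    obtain ⟨m, e⟩ := ex_C h (h.U0 (memR hc hf (g := g * ρ c Φ ⟨z0, J_C z0_J0⟩ * g⁻¹)
      (map_le_range _ _ ((mem_normalizer_iff.1 hx _).1 (memJ hc h hf z0_J0)))))
    exact e ▸ memC hc h hf m
  · rw [MonoidHom.range_eq_map, ← normalizer_eq_top Perm.A9N.J0]
    exact le_normalizer_map f

theorem not_conj : ¬ IsConj (f A9R.a0) (f A9R.sg) := fun e => by
  obtain ⟨x, e⟩ := isConj_iff.1 e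
  obtain ⟨g, rfl⟩ := QuotientGroup.mk_surjective x
  rw [A9R.a0, A9R.sg, hf, hf] at e
  obtain ⟨i, hi⟩ := mk_eq.1 (show ((ρ c Φ (mW hc [1]) : Y c Φ) : Y c Φ ⧸ V c Φ) =
    (g * ρ c Φ (mW hc [0, 1, 0, 1, 0, 1]) * g⁻¹ : Y c Φ) from e.symm)
  have e1 : (mW hc [0, 1, 0, 1, 0, 1] : M) = ua 0 0 0 0 0 2 := cd_inj.1 ((cd_mW hc _).trans (d7 c hc).1)
  have e2 : (mW hc [1] : M) = ua c 0 1 0 0 0 := cd_inj.1 ((cd_mW hc _).trans (d7 c hc).2)
  change (g : G) * Φ (mW hc _) * (g : G)⁻¹ = Φ (mW hc _) * _ at hi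
  rw [e1, e2, ← map_mul, yi, ← coe_mul, ua_mul, add_zero, add_zero, add_zero] at hi
  exact h.hy.not_bad (badQ (.inl hc) (.inr one_ne_zero)) (((Φ.comp A.subtype).map_isConj
    (clsE (w := ua 0 0 0 0 0 2) (by simp [ua_mem_E0]) (by simp [ua_eq_one]; decide))).trans (isConj_iff.2 ⟨g, hi⟩))

end Cy

open Cy in
/-- part T3a -/
theorem cyI : CyI.{v} := fun {G} _ _ Φ h c hc g hg => by
  obtain ⟨f, hf⟩ := exists_f hc h
  have H := hy hc h hf
  rcases H.split with e | ⟨π, h1, h2⟩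
  · have := A9R.cent_conj e (inv_mem (show f A9R.sg ∈ f.range from ⟨_, rfl⟩))
    rw [← H.conj_iff.2 A9R.m_e.1.1, show (f A9R.sg)⁻¹ * (f A9R.sg * f A9R.z3 * (f A9R.sg)⁻¹) * (f A9R.sg)⁻¹⁻¹ =
      f A9R.z3 by group] at this
    exact memR hc hf (g := ⟨g, hg⟩) (H.top_of_le this ▸ mem_top _)
  · obtain ⟨θ, Fr⟩ := H.exists_fr π h1 h2
    obtain ⟨φ, e, -⟩ := Fr.exists_phi H
    refine absurd ?_ (not_conj hc h hf)
    rw [e, e, A9R.ιs.2.2.1, A9R.ιs.2.2.2.2.1]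
    exact φ.map_isConj (cj (A9R.sw 0 5 0 7 * A9R.sw 2 4 4 6) (by decide +kernel))

end CL.L3L
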