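/-
The 3-local recognition of `PSL₄(3)`, the case without fusion: conjugates of `z0`, lines in `J0`.
-/
import Cfsg.Agent.Rec.L3Bas
import Cfsg.Agent.Orth.Basic

set_option autoImplicit false
set_option maxRecDepth 100000
set_option linter.unusedSectionVars false

open Subgroup Cfsg Matrix CL.Grp CL.Rec CL.OR

namespace CL.L3L

universe v

/-! ### model facts -/

theorem cent_d2 {m : A} (h : Commute m d2) : ∃ i j k, m = ua i i 0 j 0 k := by
  obtain ⟨k0, k1, k2, k3⟩ := mem_A.1 m.2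
  have a0 := ent h 0 0; have a1 := ent h 0 1; have a2 := ent h 0 2; have a3 := ent h 0 3
  have b0 := ent h 1 0; have b1 := ent h 1 1; have b2 := ent h 1 2; have b3 := ent h 1 3
  have d := det3 m
  simp [d2, ua, u, Matrix.mul_apply, Fin.sum_univ_four] at a0 a1 a2 a3 b0 b1 b2 b3
  have a1' : m.1.1 0 0 = m.1.1 1 1 := by linear_combination a1
  have a2' : m.1.1 0 1 = m.1.1 1 2 := by linear_combination a2
  have b1' : m.1.1 2 1 = 0 := by linear_combination a0 - b1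
  have b2' : m.1.1 2 2 = m.1.1 1 1 := by linear_combination -b2
  rw [a0, b0, b1', a1', b2'] at d
  have e : m.1.1 1 1 = 1 := (by decide : ∀ x : F, x * (x * x) = 1 → x = 1) _ (by linear_combination d)
  have := eq_ua (a1'.trans e) e (b2'.trans e) a0 b0 b1'
  rw [a2', a3, b3] at this
  exact ⟨_, _, _, this⟩

theorem mem_zp_yy {c : F} {w : A} : w ∈ zpowers (yy c) ↔ ∃ i, w = ua 0 0 0 i (i * c) 0 := by
  have h : ∀ n : ℕ, yy c ^ n = ua 0 0 0 n (n * c) 0 := fun n => by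
    induction n with
    | zero => simp [ua_zero]
    | succ n ih => rw [pow_succ, ih, yy, ua_mul]; simp [add_mul]
  rw [← mem_powers_iff_mem_zpowers]
  exact ⟨fun ⟨n, e⟩ => ⟨n, by rw [← e, ← h]⟩, fun ⟨z, e⟩ => ⟨z.val, by rw [e]; simp [h]⟩⟩

theorem yy_J0 (c : F) : yy c ∈ J0 := by simp [yy, ua_mem_J0]
theorem τ_inv : τ⁻¹ = τ := inv_eq_of_mul_eq_one_right ττ
theorem τ_conj (a b c d e z : F) : τ * ua a b c d e z * τ⁻¹ = ua (-a) (-b) (-c) d e (-z) := by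
  rw [cτ, mul_inv_cancel_right]
theorem uτ_conj (s : A) (a b c d e z : F) : s * τ * ua a b c d e z * (s * τ)⁻¹ =
    s * ua (-a) (-b) (-c) d e (-z) * s⁻¹ := by rw [← τ_conj]; group
theorem τ_notMem : τ ∉ S0 := fun h => τ_ne (eq_one_of_odd (n := 3 ^ 2) (by decide) (S0_nine h) ττ)

theorem not_odd_uτ {s : A} (hs : s ∈ S0) {k : ℕ} (h : (s * τ) ^ 3 ^ k ∈ S0) : False := by
  have h2 : s * τ * (s * τ) ∈ S0 := by
    obtain ⟨a, b, c, d, e, z, rfl⟩ := mem_S0.1 hs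
    rw [mul_assoc, ← mul_assoc τ, cτ, mul_assoc, ττ, mul_one]
    exact mul_mem hs (ua_mem_S0 ..)
  obtain ⟨n, hn⟩ : Odd (3 ^ k) := Odd.pow (by decide)
  rw [hn, pow_succ, pow_mul, sq] at h
  exact τ_notMem ((mul_mem_cancel_left hs).1 ((mul_mem_cancel_left (pow_mem h2 n)).1 h))

theorem conj_J {c : F} {k j : A} (hk : Commute k (yy c)) (hj : j ∈ J0) : k * j * k⁻¹ ∈ J0 := by
  obtain ⟨b, d, e, z, rfl⟩ := mem_J0.1 hj
  obtain ⟨a', b', d', e', z', rfl | rfl⟩ := cent_yy hk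
  · simp [ua_conj, ua_mem_J0]
  · rw [uτ_conj]; simp [ua_conj, ua_mem_J0]

/-! ### quotients by a central subgroup -/

theorem exists_pr {G : Type v} [Group G] [Finite G] {L : Subgroup G} {y : G} (hc : ∀ g ∈ L, Commute g y) :
    ∃ (X : Type v) (_ : Group X) (_ : Finite X) (pr : G → X), HomOn L pr ∧ (∀ x, ∃ g ∈ L, pr g = x) ∧
      ∀ g ∈ L, pr g = 1 ↔ g ∈ zpowers y := by
  classical
  have : ((zpowers y).subgroupOf L).Normal := ⟨fun n hn g => by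
    obtain ⟨i, hi⟩ := mem_subgroupOf.1 hn
    refine mem_subgroupOf.2 ⟨i, ?_⟩
    simp only [coe_mul, coe_inv] at hi ⊢
    rw [← hi, ((hc g g.2).zpow_right i).eq, mul_inv_cancel_right]⟩
  refine ⟨L ⧸ (zpowers y).subgroupOf L, inferInstance, inferInstance,
    fun g => if h : g ∈ L then ((⟨g, h⟩ : L) : L ⧸ _) else 1, fun a ha b hb => ?_, fun x => ?_, fun g hg => ?_⟩
  · simp only [dif_pos ha, dif_pos hb, dif_pos (mul_mem ha hb)]; rfl
  · obtain ⟨g, rfl⟩ := QuotientGroup.mk_surjective x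
    exact ⟨g, g.2, dif_pos g.2⟩
  · simp only [dif_pos hg, QuotientGroup.eq_one_iff, mem_subgroupOf]

variable {G : Type v} [Group G]

/-- a quotient `X` of `L` by `⟨y⟩` -/
structure Pr {X : Type v} [Group X] (L : Subgroup G) (y : G) (pr : G → X) : Prop where
  hom : HomOn L pr
  surj : ∀ x, ∃ g ∈ L, pr g = x
  ker : ∀ g ∈ L, pr g = 1 ↔ g ∈ zpowers y

namespace Pr
variable {X : Type v} [Group X] {L : Subgroup G} {y : G} {pr : G → X} (p : Pr L y pr)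
include p

theorem eq {a b : G} (ha : a ∈ L) (hb : b ∈ L) : pr a = pr b ↔ a * b⁻¹ ∈ zpowers y := by
  rw [← p.ker _ (mul_mem ha (inv_mem hb)), p.hom.mul ha (inv_mem hb), p.hom.inv hb, mul_inv_eq_one]

theorem mem {H : Subgroup G} (hH : H ≤ L) {x : X} : x ∈ img H pr ↔ ∃ a ∈ H, pr a = x := (p.hom.mono hH).mem_img

theorem mem_iff {H : Subgroup G} (hH : H ≤ L) (hy : y ∈ H) {g : G} (hg : g ∈ L) : pr g ∈ img H pr ↔ g ∈ H :=
  ⟨fun h => let ⟨_, ha, e⟩ := (p.mem hH).1 h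
    (mul_mem_cancel_right (inv_mem ha)).1 (zpowers_le.2 hy ((p.eq hg (hH ha)).1 e.symm)), mem_img_of_mem⟩

theorem conj_eq {g a b : G} (hg : g ∈ L) (ha : a ∈ L) (hb : b ∈ L) :
    pr g * pr a * (pr g)⁻¹ = pr b ↔ g * a * g⁻¹ * b⁻¹ ∈ zpowers y := by
  rw [← p.hom.conj hg ha, p.eq (mul_mem (mul_mem hg ha) (inv_mem hg)) hb]

theorem comm {g a : G} (hg : g ∈ L) (ha : a ∈ L) : Commute (pr g) (pr a) ↔ g * a * g⁻¹ * a⁻¹ ∈ zpowers y := by
  rw [← p.conj_eq hg ha ha, mul_inv_eq_iff_eq_mul]; rfl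

end Pr

/-- the theorem of Smith and Tyrer with generation by centralisers -/
theorem stl {X : Type*} [Group X] [Finite X] {T H : Subgroup X} (h3 : IsPGroup 3 T)
    (hc : ∀ u ∈ T, ∀ w ∈ T, Commute u w) {a b : X} (aT : a ∈ T) (bT : b ∈ T) (ha : orderOf a = 3) (hb : b ^ 3 = 1)
    (hn : b ∉ zpowers a) (hN : ∀ n : X, (∀ x ∈ T, n * x * n⁻¹ ∈ T) →
      ((∀ x ∈ T, n * x * n⁻¹ = x) ∧ ∀ k : ℕ, n ^ 3 ^ k = 1 → n ∈ T) ∨ ∀ x ∈ T, n * x * n⁻¹ = x⁻¹)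
    (hi : ∃ n : X, ∀ x ∈ T, n * x * n⁻¹ = x⁻¹) (hT : T ≤ H)
    (hH : ∀ w ∈ [a, b, a * b, a⁻¹ * b], ∀ g, Commute g w → g ∈ H) (g : X) {x : X} (hx : x ∈ T) :
    g * x * g⁻¹ ∈ H := by
  have := Fact.mk Nat.prime_three
  have hS : IsSylowIn 3 T ⊤ := isSylowIn_of_loc le_top h3 fun n _ hn k hk => by
    rcases hN n fun x => (mem_normalizer_iff.1 hn x).1 with e | e
    · exact e.2 k hk
    have c : Commute (n ^ 2) a := by
      have := e _ (inv_mem aT)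
      calc n ^ 2 * a = n * (n * a * n⁻¹) * n⁻¹ * n ^ 2 := by rw [sq]; group
        _ = _ := by rw [e a aT, this, inv_inv]
    have c' := commute_of_sq_of_odd (odd_orderOf_of_pow (Odd.pow (by decide)) hk) c
    have e' := e a aT
    rw [c'.eq, mul_inv_cancel_right] at e'
    exact absurd (eq_one_of_two_three (mul_eq_one_iff_eq_inv.2 e') (cube_of_ord ha)) (ne_one_of_ord3 ha)
  obtain ⟨P, rfl⟩ := isSylowIn_top_iff.1 hS
  have hP : CL.ST.Hyp P :=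
    { comm := ⟨⟨fun u w => Subtype.ext (hc _ u.2 _ w.2).eq⟩⟩
      ncyc := fun k => by
        obtain ⟨D, h9, ⟨-, h2⟩, h4, -⟩ := CL.A9R.exists_nine ha hb (hc a aT b bT) hn
        have k' : IsCyclic D := Subgroup.isCyclic_of_le (h4 _ aT bT)
        have := k'.exponent_eq_card ▸
          (Monoid.exponent_dvd_of_forall_pow_eq_one (n := 3) fun g : D => Subtype.ext (h2 g g.2))
        rw [h9] at this; omega
      cases := fun n hn => (hN n fun x => (mem_normalizer_iff.1 hn x).1).imp_left And.left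
      inv := let ⟨n, e⟩ := hi; ⟨n, mem_normalizer_fintype fun x hx => by rw [e x hx]; exact inv_mem hx, e⟩ }
  have h1 := (hP.map (QuotientGroup.mk'_surjective (pPrimeCore 3 X))
    (by rw [QuotientGroup.ker_mk']; exact pPrimeCore_coprime 3 X)).normal (by decide) fun N hN hN' =>
      le_bot_iff.1 (pPrimeCore_quotient_pPrimeCore 3 X ▸ le_pPrimeCore_of_not_dvd hN')
  have hR : pPrimeCore 3 X ≤ H := le_of_pair ha hb (hc a aT b bT) hn (pPrimeCore_coprime 3 X)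
    (fun r hr => Normal.conj_mem inferInstance r hr a) (fun r hr => Normal.conj_mem inferInstance r hr b)
    fun w hw r _ => hH w hw r
  obtain ⟨q, hq, e⟩ := h1.conj_mem _ (mem_map_of_mem _ hx) (QuotientGroup.mk' _ g)
  rw [← map_inv, ← map_mul, ← map_mul] at e
  exact (mul_mem_cancel_left (inv_mem (hT hq))).1 (hR (QuotientGroup.eq.1 e))

/-- the same in the quotient of `L` by a central subgroup `⟨y⟩` -/
theorem stq [Finite G] {L T H : Subgroup G} {y a b : G} (hy : ∀ g ∈ L, Commute g y) (yT : y ∈ T) (TL : T ≤ L)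
    (h3 : ∀ u ∈ T, u ^ 3 = 1) (hc : ∀ u ∈ T, ∀ w ∈ T, u * w * u⁻¹ * w⁻¹ ∈ zpowers y) (aT : a ∈ T) (bT : b ∈ T)
    (ha : a ∉ zpowers y) (hn : ∀ x ∈ zpowers a, b * x⁻¹ ∉ zpowers y)
    (hN : ∀ n ∈ L, (∀ x ∈ T, n * x * n⁻¹ ∈ T) → ((∀ x ∈ T, n * x * n⁻¹ * x⁻¹ ∈ zpowers y) ∧
      ∀ k : ℕ, n ^ 3 ^ k ∈ zpowers y → n ∈ T) ∨ ∀ x ∈ T, n * x * n⁻¹ * x ∈ zpowers y)
    (hi : ∃ n ∈ L, ∀ x ∈ T, n * x * n⁻¹ * x ∈ zpowers y) (hT : T ≤ H)
    (hH : ∀ w ∈ [a, b, a * b, a⁻¹ * b], ∀ g ∈ L, g * w * g⁻¹ * w⁻¹ ∈ zpowers y → g ∈ H) {g : G} (hg : g ∈ L)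
    {x : G} (hx : x ∈ T) : g * x * g⁻¹ ∈ H := by
  obtain ⟨X, _, _, pr, p1, p2, p3⟩ := exists_pr hy
  have p : Pr L y pr := ⟨p1, p2, p3⟩
  have fa : ∀ {P : X → Prop}, (∀ x ∈ T, P (pr x)) → ∀ x ∈ img T pr, P x := fun h x hx => by
    obtain ⟨a, ha, rfl⟩ := (p.mem TL).1 hx; exact h a ha
  have cube : ∀ x ∈ img T pr, x ^ 3 = 1 := fa fun x hx => by rw [← p1.pow (TL hx), h3 x hx, p1.one]
  have iv : ∀ n ∈ L, (∀ x ∈ T, n * x * n⁻¹ * x ∈ zpowers y) → ∀ x ∈ img T pr, pr n * x * (pr n)⁻¹ = x⁻¹ :=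
    fun n hn e => fa fun x hx => by
      rw [← p1.inv (TL hx), p.conj_eq hn (TL hx) (inv_mem (TL hx)), inv_inv]; exact e x hx
  have := stl (T := img T pr) (H := img (H ⊓ L) pr) (fun x => ⟨1, Subtype.ext (cube x x.2)⟩)
    (fa fun u hu => fa fun w hw => (p.comm (TL hu) (TL hw)).2 (hc u hu w hw)) (mem_img_of_mem aT)
    (mem_img_of_mem bT) (ord3 (cube _ (mem_img_of_mem aT)) ((p3 a (TL aT)).not.2 ha)) (cube _ (mem_img_of_mem bT))
    (fun ⟨i, e⟩ => hn _ ⟨i, rfl⟩ ((p.eq (TL bT) (zpow_mem (TL aT) i)).1 (by rw [p1.zpow (TL aT)]; exact e.symm)))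
    (fun n hn => ?_) (let ⟨n, hn, e⟩ := hi; ⟨_, iv n hn e⟩) (img_mono (le_inf hT TL)) (fun w hw g c => ?_) (pr g)
    (mem_img_of_mem hx)
  · have m := mul_mem (mul_mem hg (TL hx)) (inv_mem hg)
    rw [← p1.conj hg (TL hx), p.mem_iff inf_le_right ⟨hT yT, TL yT⟩ m] at this
    exact this.1
  · obtain ⟨n, hL, rfl⟩ := p2 n
    refine (hN n hL fun x hx => ?_).imp (fun e => ⟨fa fun x hx => (p.conj_eq hL (TL hx) (TL hx)).2 (e.1 x hx),
      fun k hk => mem_img_of_mem (e.2 k ((p3 _ (pow_mem hL _)).1 (by rwa [p1.pow hL])))⟩) (iv n hL)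
    have := hn _ (mem_img_of_mem hx)
    rwa [← p1.conj hL (TL hx), p.mem_iff TL yT (mul_mem (mul_mem hL (TL hx)) (inv_mem hL))] at this
  · obtain ⟨g, hL, rfl⟩ := p2 g
    have key : ∀ w' ∈ [a, b, a * b, a⁻¹ * b], w' ∈ T → w = pr w' → pr g ∈ img (H ⊓ L) pr := fun w' h1 h2 e =>
      mem_img_of_mem ⟨hH w' h1 g hL ((p.comm hL (TL h2)).1 (e ▸ c)), hL⟩
    simp only [List.mem_cons, List.not_mem_nil, or_false] at hw
    rcases hw with e | e | e | e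
    · exact key a (by simp) aT e
    · exact key b (by simp) bT e
    · exact key _ (by simp) (mul_mem aT bT) (e.trans (p1.mul (TL aT) (TL bT)).symm)
    · exact key _ (by simp) (mul_mem (inv_mem aT) bT)
        (e.trans (by rw [p1.mul (inv_mem (TL aT)) (TL bT), p1.inv (TL aT)]))

/-! ### the case without fusion -/

structure HII (φ : A →* G) : Prop extends Hy φ where
  n : ¬ IsConj (φ z0) (φ x13)

namespace HII

variable [Finite G] {φ : A →* G} (h : HII φ)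
include h

theorem SP : S0.map φ ≤ φ.range := map_le_range _ _

theorem nd2 : ¬ IsConj (φ z0) (φ d2) := fun hc => by
  obtain ⟨g, hg⟩ := isConj_iff.1 hc
  have c1 : Commute (g⁻¹ * φ z0 * g) (φ z0) := by
    have := (h.comm_iff.2 (S0_z0 (ua_mem_S0 ..) : Commute d2 z0)).symm.conj g⁻¹
    rw [← hg] at this
    simpa [mul_assoc] using this
  have c2 : IsConj (φ z0) (g⁻¹ * φ z0 * g) := isConj_iff.2 ⟨g⁻¹, by simp⟩
  obtain ⟨_, ⟨k, rfl⟩, w, e, c⟩ := h.zcls h.SP (h.cz (mem_cent.2 c1)) c2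
  rcases c with c | c | c
  · obtain ⟨b, rfl⟩ := inv_mem ((mul_mem_cancel_left (φ.mem_range.2 ⟨k, rfl⟩)).1
      (h.nE z0_E0 z0_ne c.2 (g := φ k * g⁻¹) (by rw [e]; group))) |> (inv_inv g ▸ ·)
    have := E0_normal.conj_mem _ z0_E0 b
    rw [h.conj_iff.1 hg] at this
    simp [d2, ua_mem_E0] at this
  · exact h.n ((c2.trans (isConj_iff.2 ⟨_, e.symm⟩)).trans (φ.map_isConj c.symm))
  obtain ⟨a, rfl⟩ := isConj_iff.1 c
  have e1 : ((φ a)⁻¹ * φ k * g⁻¹) * φ z0 * ((φ a)⁻¹ * φ k * g⁻¹)⁻¹ = φ d2 := by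
    rw [map_mul, map_mul, map_inv] at e
    calc _ = (φ a)⁻¹ * (φ k * (g⁻¹ * φ z0 * g) * (φ k)⁻¹) * φ a := by group
      _ = _ := by rw [← e]; group
  have e2 : ((φ a)⁻¹ * φ k * g⁻¹) * φ d2 * ((φ a)⁻¹ * φ k * g⁻¹)⁻¹ = φ (a⁻¹ * k * z0 * (a⁻¹ * k)⁻¹) := by
    rw [← hg]; simp only [map_mul, map_inv]; group
  generalize (φ a)⁻¹ * φ k * g⁻¹ = m at e1 e2
  have key : ∀ z : F, ∃ j l, m * φ (ua 0 0 0 1 0 z) * m⁻¹ = φ (ua 0 0 0 j 0 l) := fun z => by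
    have k1 := (h.comm_iff.2 (show Commute (ua 0 0 0 1 0 z) d2 by simp [d2, ua_comm])).conj m
    have k2 := (h.comm_iff.2 (S0_z0 (ua_mem_S0 0 0 0 1 0 z))).conj m
    rw [e2] at k1
    obtain ⟨v, hv⟩ := h.cE (E0_normal.conj_mem _ z0_E0 _) (fun e => z0_ne (conj_eq_one_iff.1 e)) (mem_cent.2 k1)
    rw [e1, ← hv] at k2
    obtain ⟨i, j, l, rfl⟩ := cent_d2 (h.comm_iff.1 k2)
    by_cases hi : i = 0
    · subst hi; exact ⟨j, l, hv.symm⟩
    · exact absurd ((hc.trans (φ.map_isConj (clsD hi hi))).trans ((isConj_iff.2 ⟨m, hv.symm⟩).symm.trans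
        (φ.map_isConj (clsT (.inr one_ne_zero)).symm))) h.n
  obtain ⟨j, l, k1⟩ := key 0
  obtain ⟨j', l', k2⟩ := key 1
  have : φ d2 = φ ((ua 0 0 0 j 0 l)⁻¹ * ua 0 0 0 j' 0 l') := by
    rw [map_mul, map_inv, ← k1, ← k2, ← e1, show ua 0 0 0 1 0 1 = ua 0 0 0 1 0 0 * z0 by simp [z0, ua_mul], map_mul]
    group
  simpa [d2, ua_inv, ua_mul, ua_inj] using h.inj this

/-- the elements of `E0` fix only one coset of the image -/
theorem U {e : A} (he : e ∈ E0) (h1 : e ≠ 1) {g : G} (hg : g * φ e * g⁻¹ ∈ φ.range) : g ∈ φ.range := by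
  have c1 : IsConj (φ z0) (g * φ e * g⁻¹) := (φ.map_isConj (clsE he h1)).trans (isConj_iff.2 ⟨g, rfl⟩)
  obtain ⟨_, ⟨k, rfl⟩, w, e, c⟩ := h.zcls h.SP hg c1
  have c2 : IsConj (φ z0) (φ w) := c1.trans (isConj_iff.2 ⟨_, e.symm⟩)
  rcases c with c | c | c
  · exact (mul_mem_cancel_left (φ.mem_range.2 ⟨k, rfl⟩)).1 (h.nE he h1 c.2 (g := φ k * g) (by rw [e]; group))
  · exact absurd (c2.trans (φ.map_isConj c.symm)) h.n
  · exact absurd (c2.trans (φ.map_isConj c.symm)) h.nd2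

theorem line {c b d e z : F} (hb : b ≠ 0) :
    centralizer {φ (yy c)} ⊓ centralizer {φ (ua 0 b 0 d e z)} ≤ J0.map φ := by
  have hJ : ∀ j ∈ J0, φ j ∈ centralizer {φ (yy c)} ⊓ centralizer {φ (ua 0 b 0 d e z)} := fun j hj =>
    ⟨mem_cent.2 (h.comm_iff.2 (J0_comm hj (yy_J0 c))), mem_cent.2 (h.comm_iff.2 (J0_comm hj (by simp [ua_mem_J0])))⟩
  have key : ∀ n ∈ centralizer {φ (yy c)} ⊓ centralizer {φ (ua 0 b 0 d e z)},
      n ∈ normalizer (J0.map φ : Set G) → n ∈ J0.map φ := fun n hn hN => by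
    obtain ⟨k, rfl⟩ := h.U z0_E0 z0_ne (map_le_range _ _ ((mem_normalizer_iff.1 hN _).1 (mem_map_of_mem φ z0_J0)))
    have c2 := mul_inv_eq_of_eq_mul (h.comm_iff.1 (mem_cent.1 hn.2)).eq
    obtain ⟨a', b', d', e', z', rfl | rfl⟩ := cent_yy (h.comm_iff.1 (mem_cent.1 hn.1))
    · rw [ua_conj, ua_inj] at c2
      have : a' = 0 := (mul_eq_zero.1 (by linear_combination c2.2.2.2.1)).resolve_right hb
      exact h.mem_iff.2 (by simp [this, ua_mem_J0])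
    · rw [uτ_conj, ua_conj, ua_inj] at c2
      exact absurd ((by decide : ∀ b : F, -b = b → b = 0) b c2.2.1) hb
  have hc : J0.map φ ≤ centralizer (J0.map φ : Set G) := by
    rintro _ ⟨i, hi, rfl⟩ _ ⟨j, hj, rfl⟩; exact (h.comm_iff.2 (J0_comm hj hi)).eq
  refine le_of_selfnorm (by rintro _ ⟨j, hj, rfl⟩; exact hJ j hj) ((S0_three.to_le J0_le).map φ)
    (fun n hn hN => hc (key n hn hN)) (fun n hn hN _ _ => key n hn (centralizer_le_normalizer _ hN)) le_rfl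
    fun R _ hR hn => (h.sig hR (hn _ fun x hx => ?_) (hn _ fun x hx => ?_)).trans bot_le
  · exact mul_mem (mul_mem (hJ _ z0_J0) hx) (inv_mem (hJ _ z0_J0))
  · have : x24 ∈ J0 := by simp [x24, ua_mem_J0]
    exact mul_mem (mul_mem (hJ _ this) hx) (inv_mem (hJ _ this))

/-- in `C(y)` the elements of `J0` outside `⟨y⟩` fix only one coset of the image -/
theorem TI {c : F} {s : A} (hs : s ∈ J0) (hn : s ∉ zpowers (yy c)) {g : G} (hy : Commute g (φ (yy c)))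
    (hg : g * φ s * g⁻¹ ∈ φ.range) : g ∈ φ.range := by
  obtain ⟨b, d, e, z, rfl⟩ := mem_J0.1 hs
  by_cases hb : b = 0
  · subst hb
    have k : ua 0 0 0 (-d) (-d * c) 0 ∈ zpowers (yy c) := mem_zp_yy.2 ⟨_, rfl⟩
    refine h.U (e := ua 0 0 0 d e z * ua 0 0 0 (-d) (-d * c) 0) (by simp [ua_mul, ua_mem_E0])
      (fun e => hn (eq_inv_of_mul_eq_one_left e ▸ inv_mem k)) ?_
    obtain ⟨i, hi⟩ := k
    rw [← show yy c ^ i = _ from hi, map_mul, map_zpow, ← mul_assoc, mul_assoc _ _ g⁻¹, ← (hy.zpow_right i).inv_left.eq,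
      ← mul_assoc]
    exact mul_mem hg (zpow_mem (φ.mem_range.2 ⟨_, rfl⟩) i)
  obtain ⟨q, hq⟩ := hg
  have c1 : Commute q (yy c) := h.comm_iff.1 (by
    have := (h.comm_iff.2 (J0_comm hs (yy_J0 c))).conj g
    rwa [← hq, hy.eq, mul_inv_cancel_right] at this)
  have c2 : q ^ 3 = 1 := h.pow_iff.1 (by rw [hq, conj_pow, h.pow_iff.2 (J0_cube hs)]; simp)
  have c3 : Commute q z0 := by
    obtain ⟨a', b', d', e', z', rfl | rfl⟩ := cent_yy c1
    · exact S0_z0 (ua_mem_S0 ..)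
    · exact (not_odd_uτ (ua_mem_S0 ..) (k := 1) (by rw [pow_one, c2]; exact one_mem _)).elim
  refine inv_mem_iff.1 (h.U z0_E0 z0_ne (map_le_range _ _ (h.line (c := c) (d := d) (e := e) (z := z) hb
    ⟨mem_cent.2 ?_, mem_cent.2 ?_⟩)))
  · exact (hy.inv_left.mul_left (h.comm_iff.2 (J0_comm z0_J0 (yy_J0 c)))).mul_left hy.inv_left.inv_left
  · have := (h.comm_iff.2 c3).symm.conj g⁻¹
    rw [hq] at this
    simpa [mul_assoc] using this

end HII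

end CL.L3L
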