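/-
The 3-local recognition of `PSL₄(3)`, the case without fusion: the centralisers of the non-singular vectors.
-/
import Cfsg.Agent.Rec.L3IIa
import Cfsg.Agent.Perm.Nine6

set_option autoImplicit false
set_option maxRecDepth 100000
set_option linter.unusedSectionVars false

open Subgroup Cfsg Matrix CL.Grp CL.Rec CL.OR CL.Perm

namespace CL.L3L

universe v

theorem h30 : (3 : F) = 0 := rfl

theorem zp_iff {c : F} {w v : A} : w * v⁻¹ ∈ zpowers (yy c) ↔ ∃ i, w = ua 0 0 0 i (i * c) 0 * v := by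
  simp only [mem_zp_yy, mul_inv_eq_iff_eq_mul]

theorem mem_J_pow {H : Subgroup A} {b d e z : F} (h : ua 0 b 0 d e z ∈ H) (i : F) :
    ua 0 (i * b) 0 (i * d) (i * e) (i * z) ∈ H := by
  rcases (by decide : ∀ x : F, x = 0 ∨ x = 1 ∨ x = -1) i with rfl | rfl | rfl
  · simp [ua_zero]
  · simpa using h
  · simpa [ua_inv] using inv_mem h

/-- a normal subgroup of `C(y)` containing `y` and `x23` but not `x12 x34 ^ c` is `J0` -/
theorem eq_J {c : F} (hc : c ≠ 0) {H : Subgroup A} (hH : ∀ k ∈ H, Commute k (yy c))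
    (hn : ∀ g, Commute g (yy c) → ∀ k ∈ H, g * k * g⁻¹ ∈ H) (h1 : yy c ∈ H) (h2 : x23 ∈ H)
    (h3 : ua 1 0 c 0 0 0 ∉ H) : H = J0 := by
  have cq : Commute (ua 1 0 c 0 0 0) (yy c) := by simp [yy, ua_comm]
  have c2 : c * c = 1 := (by decide : ∀ c : F, c ≠ 0 → c * c = 1) c hc
  have k1 : ua 0 0 0 0 c (-c) ∈ H := by
    have := mul_mem (mul_mem (hn _ cq _ h2) (inv_mem h2)) (inv_mem h1)
    rw [x23, yy, ua_conj, ua_inv, ua_inv, ua_mul, ua_mul] at this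
    convert this using 1
    rw [ua_inj]; refine ⟨?_, ?_, ?_, ?_, ?_, ?_⟩ <;> first | ring1 | linear_combination c * h30
  have k2 : ua 0 0 0 0 0 c ∈ H := by
    simpa [ua_conj, ua_inv, ua_mul] using mul_mem (hn _ cq _ k1) (inv_mem k1)
  have hJ : J0 ≤ H := fun j hj => by
    obtain ⟨b, d, e, z, rfl⟩ := mem_J0.1 hj
    have := mul_mem (mul_mem (mul_mem (mem_J_pow h2 b) (mem_J_pow h1 d)) (mem_J_pow k1 ((e - d * c) * c)))
      (mem_J_pow k2 ((z + e - d * c) * c))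
    simp only [ua_mul] at this
    convert this using 1
    rw [ua_inj]; refine ⟨?_, ?_, ?_, ?_, ?_, ?_⟩ <;>
      first | ring1 | linear_combination (d * c - e) * c2 | linear_combination (-z) * c2
  have key : ∀ a b d e z, ua a b (a * c) d e z ∈ H → a = 0 := fun a b d e z hk => by
    have k : ∀ b d e z, ua 1 b c d e z ∉ H := fun b d e z hk => h3 (by
      have := mul_mem hk (hJ (ua_mem_J0.2 ⟨rfl, rfl⟩ : ua 0 (-b) 0 (b - d) (-e) (e - z) ∈ J0))
      rw [ua_mul] at this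
      convert this using 1
      rw [ua_inj]; refine ⟨?_, ?_, ?_, ?_, ?_, ?_⟩ <;> ring1)
    rcases (by decide : ∀ x : F, x = 0 ∨ x = 1 ∨ x = -1) a with rfl | rfl | rfl
    · rfl
    · rw [one_mul] at hk; exact (k _ _ _ _ hk).elim
    · have := inv_mem hk
      rw [ua_inv, neg_neg, neg_one_mul c, neg_neg] at this
      exact (k _ _ _ _ this).elim
  refine le_antisymm (fun k hk => ?_) hJ
  obtain ⟨a, b, d, e, z, rfl | rfl⟩ := cent_yy (hH k hk)
  · simp [key _ _ _ _ _ hk, ua_mem_J0]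
  · have := mul_mem hk (hn _ cq _ (inv_mem hk))
    rw [← mul_assoc, ← mul_assoc, uτ_conj, ua_conj, ua_inv, ua_mul, show -c + -c = (-1 + -1) * c by ring] at this
    exact absurd (key _ _ _ _ _ this) (by decide)

variable {G : Type v} [Group G]

namespace HII

variable [Finite G] {φ : A →* G} (h : HII φ) {c : F} {X : Type v} [Group X] [Finite X] {pr : G → X}
  (p : Pr (centralizer {φ (yy c)}) (φ (yy c)) pr)
include h

theorem mY {k : A} : φ k ∈ centralizer {φ (yy c)} ↔ Commute k (yy c) := mem_cent.trans h.comm_iff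
theorem JY : J0.map φ ≤ centralizer {φ (yy c)} := by
  rintro _ ⟨j, hj, rfl⟩; exact h.mY.2 (J0_comm hj (yy_J0 c))

include p

theorem mJ {x : X} : x ∈ img (J0.map φ) pr ↔ ∃ j ∈ J0, pr (φ j) = x := by simp [p.mem h.JY]

theorem conj_eq {k l m : A} (hk : Commute k (yy c)) (hl : Commute l (yy c)) (hm : Commute m (yy c)) :
    pr (φ k) * pr (φ l) * (pr (φ k))⁻¹ = pr (φ m) ↔ ∃ i, k * l * k⁻¹ = ua 0 0 0 i (i * c) 0 * m := by
  rw [p.conj_eq (h.mY.2 hk) (h.mY.2 hl) (h.mY.2 hm), ← zp_iff, ← h.zp_iff]; simp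

theorem ti {s : A} (hs : s ∈ J0) (h1 : pr (φ s) ≠ 1) {g : G} (hg : g ∈ centralizer {φ (yy c)}) {k : A}
    (hk : Commute k (yy c)) (e : pr g * pr (φ s) * (pr g)⁻¹ = pr (φ k)) : ∃ l, Commute l (yy c) ∧ φ l = g := by
  have hs' := h.JY (c := c) (mem_map_of_mem φ hs)
  obtain ⟨i, hi⟩ := (p.conj_eq hg hs' (h.mY.2 hk)).1 e
  obtain ⟨l, rfl⟩ := h.TI hs (fun k => h1 ((p.ker _ hs').2 (h.zp_iff.2 k))) (mem_cent.1 hg)
    ⟨yy c ^ i * k, by rw [map_mul, map_zpow, show φ (yy c) ^ i = _ from hi, inv_mul_cancel_right]⟩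
  exact ⟨l, h.mY.1 hg, rfl⟩

theorem z_ne : pr (φ z0) ≠ 1 := fun e => by
  simpa [z0, mem_zp_yy, ua_inj] using h.zp_iff.1 ((p.ker _ (h.JY (mem_map_of_mem φ z0_J0))).1 e)

theorem mN {x : X} : x ∈ normalizer (img (J0.map φ) pr : Set X) ↔ ∃ k, Commute k (yy c) ∧ pr (φ k) = x := by
  refine ⟨fun hx => ?_, ?_⟩
  · obtain ⟨g, hg, rfl⟩ := p.surj x
    obtain ⟨j, hj, e⟩ := (h.mJ p).1 ((mem_normalizer_iff.1 hx _).1 ((h.mJ p).2 ⟨_, z0_J0, rfl⟩))
    obtain ⟨l, hl, rfl⟩ := h.ti p z0_J0 (h.z_ne p) hg (J0_comm hj (yy_J0 c)) e.symm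
    exact ⟨l, hl, rfl⟩
  · rintro ⟨k, hk, rfl⟩
    refine mem_normalizer_fintype fun x hx => ?_
    obtain ⟨j, hj, rfl⟩ := (h.mJ p).1 hx
    refine (h.mJ p).2 ⟨_, conj_J hk hj, ?_⟩
    rw [map_mul, map_mul, map_inv, p.hom.conj (h.mY.2 hk) (h.mY.2 (J0_comm hj (yy_J0 c)))]

theorem ti' {s : X} (hs : s ∈ img (J0.map φ) pr) (h1 : s ≠ 1) {g : X}
    (e : g * s * g⁻¹ ∈ normalizer (img (J0.map φ) pr : Set X)) : g ∈ normalizer (img (J0.map φ) pr : Set X) := by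
  obtain ⟨j, hj, rfl⟩ := (h.mJ p).1 hs
  obtain ⟨g, hg, rfl⟩ := p.surj g
  obtain ⟨k, hk, e'⟩ := (h.mN p).1 e
  obtain ⟨l, hl, rfl⟩ := h.ti p hj h1 hg hk e'.symm
  exact (h.mN p).2 ⟨l, hl, rfl⟩

theorem tij : TIJ (img (J0.map φ) pr) where
  cube s hs := by
    obtain ⟨j, hj, rfl⟩ := (h.mJ p).1 hs
    rw [← p.hom.pow (h.JY (mem_map_of_mem φ hj)), h.pow_iff.2 (J0_cube hj), p.hom.one]
  comm a ha b hb := by
    obtain ⟨i, hi, rfl⟩ := (h.mJ p).1 ha
    obtain ⟨j, hj, rfl⟩ := (h.mJ p).1 hb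
    exact p.hom.commute (h.JY (mem_map_of_mem φ hi)) (h.JY (mem_map_of_mem φ hj)) (h.comm_iff.2 (J0_comm hi hj))
  cent x hx := by
    obtain ⟨k, hk, rfl⟩ := (h.mN p).1 (centralizer_le_normalizer _ hx)
    have key : ∀ j ∈ J0, ∃ i, k * j * k⁻¹ = ua 0 0 0 i (i * c) 0 * j := fun j hj =>
      (h.conj_eq p hk (J0_comm hj (yy_J0 c)) (J0_comm hj (yy_J0 c))).1
        (mul_inv_eq_of_eq_mul (hx _ ((h.mJ p).2 ⟨j, hj, rfl⟩)).symm)
    obtain ⟨a, b, d, e, z, rfl | rfl⟩ := cent_yy hk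
    · obtain ⟨i, hi⟩ := key x24 (by simp [x24, ua_mem_J0])
      rw [x24, ua_conj, ua_mul, ua_inj] at hi
      have : a = 0 := by linear_combination hi.2.2.2.2.2
      exact (h.mJ p).2 ⟨_, by simp [this, ua_mem_J0], rfl⟩
    · obtain ⟨i, hi⟩ := key z0 z0_J0
      rw [z0, uτ_conj, ua_conj, ua_mul, ua_inj] at hi
      exact absurd (show (-1 : F) = 1 by linear_combination hi.2.2.2.2.2) (by decide)
  loc s hs h1 g hg := h.ti' p hs h1 (by rw [(mem_cent.1 hg).eq, mul_inv_cancel_right]; exact le_normalizer hs)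
  sc s hs g e := by
    by_cases h1 : s = 1
    · simp [h1]
    · exact (mem_normalizer_iff.1 (h.ti' p hs h1 e) s).1 hs

theorem pr_eq {k l : A} (hk : Commute k (yy c)) (hl : Commute l (yy c)) :
    pr (φ k) = pr (φ l) ↔ ∃ i, k = ua 0 0 0 i (i * c) 0 * l := by
  rw [p.eq (h.mY.2 hk) (h.mY.2 hl), ← zp_iff, ← h.zp_iff]; simp

theorem notJ {a b d e z : F} (ha : a ≠ 0) : pr (φ (ua a b (a * c) d e z)) ∉ img (J0.map φ) pr := fun k => by
  rw [p.mem_iff h.JY (mem_map_of_mem φ (yy_J0 c)) (h.mY.2 (by simp [yy, ua_comm])), h.mem_iff, ua_mem_J0] at k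
  exact ha k.1

theorem out9 (hc : c ≠ 0) (β : F) : Out9 (img (J0.map φ) pr) (pr (φ z0)) (pr (φ (ua 1 β c 0 0 0))) := by
  have cv : Commute (ua 1 β c 0 0 0) (yy c) := by simp [yy, ua_comm]
  have h3 : (3 : F) = 0 := rfl
  refine ⟨(h.mN p).2 ⟨_, cv, rfl⟩, by simpa using h.notJ p (b := β) (d := 0) (e := 0) (z := 0) one_ne_zero, ?_, ?_, ?_,
    (p.hom.commute (h.JY (mem_map_of_mem φ z0_J0)) (h.mY.2 cv) (h.comm_iff.2 (S0_z0 (ua_mem_S0 ..)).symm)).eq⟩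
  · rw [← p.hom.pow (h.mY.2 cv), h.pow_iff.2 (show _ ^ 9 = 1 from S0_nine (ua_mem_S0 ..)), p.hom.one]
  · have ck : Commute (ua 0 0 0 0 (β * c) 0 * τ) (yy c) :=
      (J0_comm (by simp [ua_mem_J0]) (yy_J0 c)).mul_left (by rw [Commute, SemiconjBy, yy, cτ]; simp)
    refine isConj_iff.2 ⟨pr (φ (ua 0 0 0 0 (β * c) 0 * τ)), ?_⟩
    rw [← p.hom.pow (h.mY.2 cv), ← map_pow, h.conj_eq p ck cv (cv.pow_left 2)]
    refine ⟨-β, ?_⟩
    rw [uτ_conj, ua_conj, sq, ua_mul, ua_mul, ua_inj]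
    refine ⟨by decide, ?_, ?_, ?_, ?_, ?_⟩ <;>
      first | ring1 | linear_combination -β * h3 | linear_combination -c * h3 | linear_combination β * c * h3
  · have cP : ∀ i j : F, Commute (ua i (i * β) (i * c) ((i - i * i) * β) ((i - i * i) * β * c) j) (yy c) :=
      fun i j => by simp [yy, ua_comm]
    rw [← Nat.card_congr (Equiv.ofBijective (fun q : F × F => (⟨pr (φ (ua q.1 (q.1 * β) (q.1 * c)
      ((q.1 - q.1 * q.1) * β) ((q.1 - q.1 * q.1) * β * c) q.2)), mem_cent.2 (p.hom.commute (h.mY.2 (cP ..)) (h.mY.2 cv)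
        (h.comm_iff.2 (ua_comm.2 ⟨by ring, by ring, by ring⟩))), (h.mN p).2 ⟨_, cP .., rfl⟩⟩ :
          (centralizer {pr (φ (ua 1 β c 0 0 0))} ⊓ normalizer (img (J0.map φ) pr : Set X) : Subgroup X)))
      ⟨fun q r e => ?_, fun x => ?_⟩)]
    · simp
    · obtain ⟨i, hi⟩ := (h.pr_eq p (cP ..) (cP ..)).1 (congrArg Subtype.val e)
      rw [ua_mul, ua_inj] at hi
      have e1 : q.1 = r.1 := by linear_combination hi.1
      rw [e1] at hi
      have e2 : i = 0 := by linear_combination -hi.2.2.2.1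
      exact Prod.ext e1 (by linear_combination hi.2.2.2.2.2 + r.1 * c * e2)
    · obtain ⟨k, hk, e⟩ := (h.mN p).1 x.2.2
      have := mul_inv_eq_of_eq_mul (mem_cent.1 x.2.1).eq
      rw [← e, h.conj_eq p hk cv cv] at this
      obtain ⟨i, hi⟩ := this
      obtain ⟨a, b, d, e', z, rfl | rfl⟩ := cent_yy hk
      · rw [ua_conj, ua_mul, ua_inj] at hi
        refine ⟨(a, z + ((a - a * a) * β - d) * (a * c)), Subtype.ext (Eq.trans ((h.pr_eq p (cP ..) hk).2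
          ⟨(a - a * a) * β - d, ?_⟩) e)⟩
        rw [ua_mul, ua_inj]
        obtain ⟨-, -, -, h1, h2, h4⟩ := hi
        have e0 : i = 0 := (mul_eq_zero.1 (by linear_combination h1 * c + h2 + i * c * h3 : i * c = 0)).resolve_right hc
        subst e0
        have e1 : b = a * β := by linear_combination -h1
        subst e1
        refine ⟨?_, ?_, ?_, ?_, ?_, ?_⟩ <;> first | ring1 | linear_combination h4
      · rw [uτ_conj, ua_conj, ua_mul, ua_inj] at hi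
        exact absurd hi.1 (by decide)

omit p in
theorem cy (hc : c ≠ 0) : centralizer {φ (yy c)} ≤ φ.range := by
  obtain ⟨X, _, _, pr, p1, p2, p3⟩ := exists_pr fun g (hg : g ∈ centralizer {φ (yy c)}) => mem_cent.1 hg
  have p : Pr _ _ pr := ⟨p1, p2, p3⟩
  have T := h.tij p
  have cv : ∀ β, Commute (ua 1 β c 0 0 0) (yy c) := fun β => by simp [yy, ua_comm]
  have cu : ∀ β, pr (φ (ua 1 β c 0 0 0)) ^ 3 = pr (φ (ua 0 0 0 0 0 (β * c))) := fun β => by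
    rw [← p1.pow (h.mY.2 (cv β)), ← map_pow, ua_cube, one_mul]
  have n1 : ∀ b z : F, b ≠ 0 ∨ z ≠ 0 → pr (φ (ua 0 b 0 0 0 z)) ≠ 1 := fun b z hz e => by
    have := h.zp_iff.1 ((p3 _ (h.mY.2 (by simp [yy, ua_comm]))).1 e)
    simp only [mem_zp_yy, ua_inj] at this
    obtain ⟨i, hi⟩ := this
    exact hz.elim (· hi.2.1) (· hi.2.2.2.2.2)
  have xJ : x23 ∈ J0 := by simp [x23, ua_mem_J0]
  have cx := J0_comm xJ (yy_J0 c)
  have cτ' : Commute τ (yy c) := by rw [Commute, SemiconjBy, yy, cτ]; simp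
  obtain ⟨K, hK, k1, k2⟩ := T.exists_normal_of_out9 ((h.mJ p).2 ⟨_, z0_J0, rfl⟩) (h.z_ne p) (h.out9 p hc 0)
    (h.out9 p hc 1) (h.out9 p hc (-1)) (by rw [cu, zero_mul, ua_zero, map_one, p1.one])
    (by rw [cu]; exact (h.mJ p).2 ⟨_, by simp [ua_mem_J0], rfl⟩) (by rw [cu]; exact n1 _ _ (.inr (by simpa)))
    (by rw [cu]; exact n1 _ _ (.inr (by simpa))) (fun g hg e => by
      obtain ⟨k, hk, rfl⟩ := (h.mN p).1 hg
      obtain ⟨i, hi⟩ := (h.conj_eq p hk (cv _) (cv _)).1 e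
      obtain ⟨a, b, d, e', z, rfl | rfl⟩ := cent_yy hk
      · rw [ua_conj, ua_mul, ua_inj] at hi; exact absurd hi.2.1 (by decide)
      · rw [uτ_conj, ua_conj, ua_mul, ua_inj] at hi; exact absurd hi.1 (by decide))
    ((h.mJ p).2 ⟨_, xJ, rfl⟩) (n1 1 0 (.inl one_ne_zero)) (isConj_iff.2 ⟨pr (φ τ), by
      rw [← p1.pow (h.mY.2 cx), ← map_pow, h.conj_eq p cτ' cx (cx.pow_left 2)]
      exact ⟨0, by rw [x23, τ_conj, sq, ua_mul, ua_mul, ua_inj, zero_mul c]; decide⟩⟩) fun g hg e _ => by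
      obtain ⟨k, hk, rfl⟩ := (h.mN p).1 hg
      obtain ⟨i, hi⟩ := (h.conj_eq p hk cx cx).1 (mul_inv_eq_of_eq_mul e.eq)
      obtain ⟨a, b, d, e', z, rfl | rfl⟩ := cent_yy hk
      · rw [x23, ua_conj, ua_mul, ua_inj] at hi
        have : a = 0 := (mul_eq_zero.1 (by
          linear_combination hi.2.2.2.2.1 - hi.2.2.2.1 * c + a * c * h30 : a * c = 0)).resolve_right hc
        exact (h.mJ p).2 ⟨_, by simp [this, ua_mem_J0], rfl⟩
      · rw [x23, uτ_conj, ua_conj, ua_mul, ua_inj] at hi; exact absurd hi.2.1 (by decide)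
  let H : Subgroup A :=
    { carrier := {k | Commute k (yy c) ∧ pr (φ k) ∈ K}
      one_mem' := ⟨Commute.one_left _, by rw [map_one, p1.one]; exact one_mem _⟩
      mul_mem' := fun a b => ⟨a.1.mul_left b.1, by
        rw [map_mul, p1.mul (h.mY.2 a.1) (h.mY.2 b.1)]; exact mul_mem a.2 b.2⟩
      inv_mem' := fun a => ⟨a.1.inv_left, by rw [map_inv, p1.inv (h.mY.2 a.1)]; exact inv_mem a.2⟩ }
  have hH : H = J0 := eq_J hc (fun k hk => hk.1) (fun g hg k hk => ⟨(hg.mul_left hk.1).mul_left hg.inv_left, by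
      rw [map_mul, map_mul, map_inv, p1.conj (h.mY.2 hg) (h.mY.2 hk.1)]; exact hK.conj_mem _ hk.2 _⟩)
    ⟨Commute.refl _, by rw [(p3 _ (h.mY.2 (Commute.refl _))).2 (mem_zpowers _)]; exact one_mem _⟩ ⟨cx, k1⟩
    fun k => k2 k.2
  have key : ∀ n ∈ K, n ∈ normalizer (img (J0.map φ) pr : Set X) → n ∈ img (J0.map φ) pr := fun n hn hN => by
    obtain ⟨k, hk, rfl⟩ := (h.mN p).1 hN
    exact (h.mJ p).2 ⟨k, hH ▸ (⟨hk, hn⟩ : k ∈ H), rfl⟩
  have JK : img (J0.map φ) pr ≤ K := fun x hx => by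
    obtain ⟨j, hj, rfl⟩ := (h.mJ p).1 hx
    exact (hH.symm ▸ hj : j ∈ H).2
  have zJ := (h.mJ p).2 ⟨_, z0_J0, rfl⟩
  have xJ' := (h.mJ p).2 ⟨_, xJ, rfl⟩
  have hKN : K ≤ normalizer (img (J0.map φ) pr : Set X) := le_of_selfnorm JK T.isPGroup
    (fun n hn hN x hx => (T.comm x hx n (key n hn hN)).eq) (fun n hn hN _ _ => key n hn (centralizer_le_normalizer _ hN))
    le_normalizer fun R _ hR hn => le_of_pair (T.orderOf_eq zJ (h.z_ne p)) (T.cube _ xJ') (T.comm _ zJ _ xJ') ?_ hR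
      (hn _ fun d hd => hK.conj_mem d hd _) (hn _ fun d hd => hK.conj_mem d hd _) fun w hw r _ hr => ?_
  · intro g hg
    obtain ⟨k, hk, e⟩ := (h.mN p).1 (hKN (hK.conj_mem _ (JK zJ) (pr g)))
    obtain ⟨l, -, rfl⟩ := h.ti p z0_J0 (h.z_ne p) hg hk e.symm
    exact ⟨l, rfl⟩
  all_goals
    have nz : ∀ i : ℤ, pr (φ x23) ≠ pr (φ z0) ^ i := fun i e => by
      have cz := J0_comm z0_J0 (yy_J0 c)
      rw [← p1.zpow (h.mY.2 cz), ← map_zpow, h.pr_eq p cx (cz.zpow_left i)] at e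
      obtain ⟨j, hj⟩ := e
      obtain ⟨z, hz⟩ := mem_zpowers_z0.1 (zpow_mem (mem_zpowers _) i)
      rw [hz, x23, ua_mul, ua_inj] at hj
      exact absurd hj.2.1 (by decide)
  · rintro ⟨i, e⟩; exact nz i e.symm
  · simp only [List.mem_cons, List.not_mem_nil, or_false] at hw
    rcases hw with rfl | rfl | rfl | rfl
    · exact T.loc _ zJ (h.z_ne p) (mem_cent.2 hr)
    · exact T.loc _ xJ' (by simpa using nz 0) (mem_cent.2 hr)
    · exact T.loc _ (mul_mem zJ xJ') (fun e => nz (-1) (by simpa using eq_inv_of_mul_eq_one_right e)) (mem_cent.2 hr)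
    · exact T.loc _ (mul_mem (inv_mem zJ) xJ') (fun e => nz 1 (by simpa using eq_inv_of_mul_eq_one_right e))
        (mem_cent.2 hr)

end HII

end CL.L3L
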