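/-
The 3-local recognition of `PSL₄(3)`, part T0a: `-1` inverts `Q / Z`.
-/
import Cfsg.Agent.Rec.L3Defs
import Cfsg.Agent.Even.Amb2

set_option autoImplicit false

open Subgroup Cfsg Matrix CL.Fus.Xs CL.Grp
open scoped commutatorElement

namespace CL.L3L

universe v

namespace TA

def mi : SL2 := ⟨!![0, -1; 1, 0], by decide⟩
def ms : SL2 := ⟨!![1, 1; 0, 1], by decide⟩

theorem f1 : ∃ j g h : SL2, mi * mi = -1 ∧ g * mi = j * g ∧ h * mi = mi * j * h := by decide +kernel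
theorem f2 : ∀ r : SL2, r * r * (r * r) = 1 → r = 1 ∨ r = -1 ∨ ∃ k, k * mi = r * k := by decide +kernel
theorem f3 : ms * ms * ms = 1 ∧ ∀ a : SL2, ∃ r, r * r * (r * r) = 1 ∧ (a = r ∨ a = r * ms ∨ a = r * ms * ms) := by
  decide +kernel
theorem f5 : ∀ a : SL2, ∃ x : SL2, x ^ 3 = 1 ∧ ∃ y, y ^ 3 = 1 ∧ ∃ t, t ^ 3 = 1 ∧ a = x * y * t := by decide +kernel

section Lin

variable {V : Type v} [AddCommGroup V] [Module F V]

theorem three (x : V) : x + x + x = 0 := by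
  rw [show x + x + x = (1 + 1 + 1 : F) • x by module, show (1 + 1 + 1 : F) = 0 by decide, zero_smul]

theorem zero_of_neg {x : V} (h : x = -x) : x = 0 := by linear_combination (norm := abel) three x - h

/-- a symplectic representation of `SL₂(3)` of dimension four -/
structure Rp (ρ : SL2 → V →ₗ[F] V) (w : V →ₗ[F] V →ₗ[F] F) : Prop where
  fin : Module.Finite F V
  dim : Module.finrank F V = 4
  one : ∀ x, ρ 1 x = x
  mul : ∀ a b x, ρ (a * b) x = ρ a (ρ b x)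
  alt : ∀ x, w x x = 0
  nd : ∀ x, (∀ y, w x y = 0) → x = 0
  inv : ∀ a x y, w (ρ a x) (ρ a y) = w x y

namespace Rp

variable {ρ : SL2 → V →ₗ[F] V} {w : V →ₗ[F] V →ₗ[F] F} (h : Rp ρ w)
include h

theorem anti (x y : V) : w x y = -w y x := by
  have := h.alt (x + y)
  simp only [map_add, LinearMap.add_apply, h.alt] at this
  linear_combination this

theorem two {A B : V → Prop} (pp : ∀ a, A a → ∀ b, B b → w a b = 0) (sum : ∀ x, ∃ a b, A a ∧ B b ∧ x = a + b)
    {p : V} (hp : B p) (p0 : p ≠ 0) {x y : V} (hx : A x) (x0 : x ≠ 0) (hy : A y) (e : w x y = 0) :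
    ∃ k : F, y = k • x := by
  obtain ⟨x', hx', n1⟩ : ∃ x', A x' ∧ w x x' ≠ 0 := by
    by_contra! k
    refine x0 (h.nd x fun v => ?_)
    obtain ⟨a, b, ha, hb, rfl⟩ := sum v
    rw [map_add, k a ha, pp x hx b hb, add_zero]
  obtain ⟨q, hq, n2⟩ : ∃ q, B q ∧ w p q ≠ 0 := by
    by_contra! k
    refine p0 (h.nd p fun v => ?_)
    obtain ⟨a, b, ha, hb, rfl⟩ := sum v
    rw [map_add, k b hb, h.anti, pp a ha p hp, neg_zero, add_zero]
  by_contra! k
  have := h.fin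
  have li : LinearIndependent F ![x, y, x', p, q] := by
    rw [Fintype.linearIndependent_iff]
    intro g hg
    simp only [Fin.sum_univ_five, cons_val_zero, cons_val_one, cons_val] at hg
    have h3 : g 3 = 0 := by
      simpa [pp x hx q hq, pp y hy q hq, pp x' hx' q hq, h.alt, n2] using congrArg (fun v => w v q) hg
    have h4 : g 4 = 0 := by
      simpa [pp x hx p hp, pp y hy p hp, pp x' hx' p hp, h.alt, h.anti q p, n2] using congrArg (fun v => w v p) hg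
    have h2 : g 2 = 0 := by simpa [h3, h4, h.alt, e, n1] using congrArg (w x) hg
    rw [h2, h3, h4, zero_smul, zero_smul, zero_smul, add_zero, add_zero, add_zero] at hg
    have h1 : g 1 = 0 := by
      by_contra n
      refine k (-(g 1)⁻¹ * g 0) ?_
      rw [mul_smul, eq_neg_of_add_eq_zero_left hg, neg_smul_neg, inv_smul_smul₀ n]
    have h0 : g 0 = 0 := by simpa [h1, x0] using hg
    intro i
    fin_cases i <;> assumption
  have := li.fintype_card_le_finrank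
  rw [h.dim] at this
  simp at this

theorem cc (x : V) : ρ (-1) (ρ (-1) x) = x := by rw [← h.mul, neg_mul_neg, mul_one, h.one]

theorem ca (a : SL2) (x : V) : ρ (-1) (ρ a x) = ρ a (ρ (-1) x) := by
  rw [← h.mul, ← h.mul, neg_mul, mul_neg, one_mul, mul_one]

theorem perp (a : V) (ha : ρ (-1) a = -a) (b : V) (hb : ρ (-1) b = b) : w a b = 0 :=
  zero_of_neg ((h.inv (-1) a b).symm.trans (by rw [ha, hb, map_neg, LinearMap.neg_apply]))

omit h in
theorem dec (f : V → V) (x : V) : x = -(x - f x) + -(x + f x) := by linear_combination (norm := abel) three x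

theorem sum (x : V) : ∃ a b, ρ (-1) a = -a ∧ ρ (-1) b = b ∧ x = a + b :=
  ⟨_, _, by rw [map_neg, map_sub, h.cc]; abel, by rw [map_neg, map_add, h.cc, add_comm], dec (ρ (-1)) x⟩

variable {p n : V} (hp : ρ (-1) p = p) (p0 : p ≠ 0) (hn : ρ (-1) n = -n) (n0 : n ≠ 0)

include hp p0 in
theorem irr {X : Submodule F V} (hX : ∀ a, ∀ x ∈ X, ρ a x ∈ X) {x : V} (hx : x ∈ X) (x0 : x ≠ 0)
    (hx' : ρ (-1) x = -x) {v : V} (hv : ρ (-1) v = -v) : v ∈ X := by
  obtain ⟨-, -, -, ii, -⟩ := f1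
  have hy : ρ (-1) (ρ mi x) = -ρ mi x := by rw [h.ca, hx', map_neg]
  have e2 : ρ mi (ρ mi x) = -x := by rw [← h.mul, ii, hx']
  have ne : w x (ρ mi x) ≠ 0 := fun e => by
    obtain ⟨k, hk⟩ := h.two h.perp h.sum hp p0 hx' x0 hy e
    rw [hk, map_smul, hk, smul_smul, ← add_eq_zero_iff_eq_neg, ← one_smul F x, smul_smul, ← add_smul] at e2
    exact (smul_eq_zero.1 e2).elim ((by decide : ∀ k : F, k * k * 1 + 1 ≠ 0) k) x0
  obtain ⟨k, hk⟩ := h.two h.perp h.sum hp p0 hx' x0 (y := v - (w x v / w x (ρ mi x)) • ρ mi x)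
    (by rw [map_sub, map_smul, hv, hy]; module) (by rw [map_sub, map_smul, smul_eq_mul, div_mul_cancel₀ _ ne, sub_self])
  rw [eq_add_of_sub_eq hk]
  exact add_mem (X.smul_mem _ hx) (X.smul_mem _ (hX _ _ hx))

include hn n0 in
theorem triv {r : SL2} (hr : r * r * (r * r) = 1) {x : V} (hx : ρ (-1) x = x) : ρ r x = x := by
  obtain ⟨j, g, k, ii, hj, hk⟩ := f1
  have P : ∀ a {x}, ρ (-1) x = x → ρ (-1) (ρ a x) = ρ a x := fun a x hx => by rw [h.ca, hx]
  have cj : ∀ {a b : SL2} (ε : F), a * mi = b * a → (∀ x, ρ (-1) x = x → ρ mi x = ε • x) →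
      ∀ x, ρ (-1) x = x → ρ b x = ε • x := fun {a b} ε e t x hx => by
    rw [show b = a * (mi * a⁻¹) by rw [← mul_assoc, e, mul_inv_cancel_right], h.mul, h.mul, t _ (P _ hx), map_smul,
      ← h.mul, mul_inv_cancel, h.one]
  have key : ∀ x, ρ (-1) x = x → ρ mi x = (1 : F) • x := by
    by_contra! t
    obtain ⟨y, hy, y1⟩ := t
    have i2 : ∀ {x}, ρ (-1) x = x → ρ mi (ρ mi x) = x := fun hx => by rw [← h.mul, ii, hx]
    have m : ∀ x, ρ (-1) x = x → ρ mi x = (-1 : F) • x := fun x hx => by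
      by_contra t
      have a0 : x + ρ mi x ≠ 0 := fun e => t (by rw [neg_one_smul, eq_neg_of_add_eq_zero_right e])
      have a1 : ρ mi (x + ρ mi x) = x + ρ mi x := by rw [map_add, i2 hx, add_comm]
      have b1 : ρ mi (y - ρ mi y) = -(y - ρ mi y) := by rw [map_sub, i2 hy, neg_sub]
      obtain ⟨c, hc⟩ := h.two (fun a ha b hb => by rw [h.anti, h.perp b hb a ha, neg_zero])
        (fun v => let ⟨a, b, e1, e2, e3⟩ := h.sum v; ⟨b, a, e2, e1, e3.trans (add_comm _ _)⟩) hn n0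
        (x := x + ρ mi x) (y := y - ρ mi y) (by rw [map_add, hx, P _ hx]) a0 (by rw [map_sub, hy, P _ hy])
        (zero_of_neg ((h.inv mi _ _).symm.trans (by rw [a1, b1, map_neg])))
      refine y1 ?_
      rw [one_smul, eq_comm, ← sub_eq_zero]
      exact zero_of_neg (by rw [← b1, hc, map_smul, a1])
    have e := cj (-1) hk m y hy
    rw [h.mul, cj (-1) hj m y hy, map_smul, m y hy] at e
    simp only [neg_smul, one_smul, neg_neg] at e
    exact y1 (by rw [zero_of_neg e, map_zero, smul_zero])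
  rcases f2 r hr with rfl | rfl | ⟨k, e⟩
  exacts [h.one x, hx, (cj 1 e key x hx).trans (one_smul _ _)]

include hp p0 hn n0 in
theorem factor {X Y : Submodule F V} (hX : ∀ a, ∀ x ∈ X, ρ a x ∈ X) (hY : ∀ a, ∀ x ∈ Y, ρ a x ∈ Y) (le : Y ≤ X)
    (mx : ∀ D : Submodule F V, (∀ a, ∀ x ∈ D, ρ a x ∈ D) → Y ≤ D → D ≤ X → D ≤ Y ∨ X ≤ D)
    (nc : ∃ a, ∃ x ∈ X, ρ a x - x ∉ Y) : n ∈ X ∧ n ∉ Y := by
  obtain ⟨x, hx, hx', xY⟩ : ∃ x ∈ X, ρ (-1) x = -x ∧ x ∉ Y := by
    by_contra! t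
    obtain ⟨a, x, hx, na⟩ := nc
    have q8 : ∀ r : SL2, r * r * (r * r) = 1 → ∀ x ∈ X, ρ r x - x ∈ Y := fun r hr x hx => by
      have m := t _ (neg_mem (sub_mem hx (hX (-1) x hx))) (by rw [map_neg, map_sub, h.cc]; abel)
      have e := h.triv hn n0 hr (x := -(x + ρ (-1) x)) (by rw [map_neg, map_add, h.cc, add_comm])
      have e' := dec (ρ (-1)) x
      generalize -(x - ρ (-1) x) = a at m e'
      generalize -(x + ρ (-1) x) = b at e e'
      rw [e', map_add, e, add_sub_add_right_eq_sub]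
      exact sub_mem (hY _ _ m) m
    let D : Submodule F V := X ⊓ Y.comap (ρ ms - LinearMap.id)
    have st : ∀ b, ∀ y ∈ D, ρ b y - y ∈ Y → ρ (b * ms) y - y ∈ Y := fun b y hy e => by
      rw [h.mul, show ρ b (ρ ms y) - y = ρ b (ρ ms y - y) + (ρ b y - y) by rw [map_sub]; abel]
      exact add_mem (hY _ _ hy.2) e
    have all : ∀ b, ∀ y ∈ D, ρ b y - y ∈ Y := fun b y hy => by
      obtain ⟨r, hr, rfl | rfl | rfl⟩ := f3.2 b
      exacts [q8 _ hr y hy.1, st _ y hy (q8 r hr y hy.1), st _ y hy (st _ y hy (q8 r hr y hy.1))]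
    have YD : Y ≤ D := fun y hy => ⟨le hy, sub_mem (hY _ _ hy) hy⟩
    rcases mx D (fun b y hy => by simpa using add_mem (YD (all b y hy)) hy) YD inf_le_left with e | e
    · have up : ∀ y ∈ X, ρ ms y - y ∈ Y → y ∈ Y := fun y h1 h2 => e ⟨h1, h2⟩
      have x1 := sub_mem (hX ms x hx) hx
      have x2 := sub_mem (hX ms _ x1) x1
      have xY := up x hx (up _ x1 (up _ x2 (by
        have e3 : ρ ms (ρ ms (ρ ms x)) = x := by rw [← h.mul, ← h.mul, f3.1, h.one]
        simp only [map_sub, e3]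
        convert Y.zero_mem using 1
        linear_combination (norm := abel) three (ρ ms x) - three (ρ ms (ρ ms x)))))
      exact na (sub_mem (hY _ _ xY) xY)
    · exact na (all a x (e hx))
  exact ⟨h.irr hp p0 hX hx (fun e => xY (e ▸ Y.zero_mem)) hx' hn, fun k => xY (h.irr hp p0 hY k n0 hn hx')⟩

end Rp

end Lin

variable {G : Type v} [Group G] [Finite G] {S Q : Subgroup G} {z : G}

/-- `Q / Z` as a vector space -/
structure Pr (Q : Subgroup G) (z : G) {V : Type v} [AddCommGroup V] (pr : G → V) : Prop where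
  add : ∀ x ∈ Q, ∀ y ∈ Q, pr (x * y) = pr x + pr y
  ker : ∀ x ∈ Q, pr x = 0 ↔ x ∈ zpowers z
  surj : ∀ v, ∃ x ∈ Q, pr x = v

theorem exists_pr (h : XQ 3 S Q z) : ∃ (V : Type v) (_ : AddCommGroup V) (_ : Module F V) (pr : G → V),
    Pr Q z pr ∧ Nat.card V * 3 = Nat.card Q := by
  classical
  have : ((zpowers z).subgroupOf Q).Normal := (normal_subgroupOf_iff_le_normalizer h.Z_le).2 h.nZ'
  let _ : CommGroup (Q ⧸ (zpowers z).subgroupOf Q) := ⟨fun a b => by
    obtain ⟨a, rfl⟩ := QuotientGroup.mk_surjective a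
    obtain ⟨b, rfl⟩ := QuotientGroup.mk_surjective b
    rw [← commutatorElement_eq_one_iff_mul_comm, ← QuotientGroup.mk'_apply, ← QuotientGroup.mk'_apply,
      ← map_commutatorElement, QuotientGroup.mk'_apply, QuotientGroup.eq_one_iff]
    exact h.comm_mem a.2 b.2⟩
  refine ⟨Additive (Q ⧸ (zpowers z).subgroupOf Q), inferInstance, AddCommGroup.zmodModule fun a => ?_,
    fun x => if e : x ∈ Q then Additive.ofMul (QuotientGroup.mk ⟨x, e⟩) else 0, ⟨fun x hx y hy => ?_, fun x hx => ?_,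
      fun a => ?_⟩, ?_⟩
  · obtain ⟨a, rfl⟩ := QuotientGroup.mk_surjective (s := (zpowers z).subgroupOf Q) a
    exact (QuotientGroup.eq_one_iff (a ^ 3)).2 (h.pow a a.2)
  · simp only [dif_pos hx, dif_pos hy, dif_pos (mul_mem hx hy)]
    rfl
  · simp only [dif_pos hx]
    exact QuotientGroup.eq_one_iff _
  · obtain ⟨a, rfl⟩ := QuotientGroup.mk_surjective (s := (zpowers z).subgroupOf Q) a
    exact ⟨a, a.2, dif_pos a.2⟩
  · rw [card_eq_card_quotient_mul_card_subgroup ((zpowers z).subgroupOf Q),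
      Nat.card_congr (subgroupOfEquivOfLe h.Z_le).toEquiv, h.card_Z]
    rfl

namespace Pr

variable {V : Type v} [AddCommGroup V] [Module F V] {pr : G → V} (h : Pr Q z pr) {x y : G}
include h

omit [Finite G] [Module F V] in
theorem one : pr 1 = 0 := (h.ker 1 (one_mem _)).2 (one_mem _)

omit [Finite G] [Module F V] in
theorem inv (hx : x ∈ Q) : pr x⁻¹ = -pr x :=
  eq_neg_of_add_eq_zero_left (by rw [← h.add _ (inv_mem hx) _ hx, inv_mul_cancel, h.one])

omit [Finite G] in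
theorem desc {M : Type*} [AddCommGroup M] [Module F M] (f : G → M) (fa : ∀ x ∈ Q, ∀ y ∈ Q, f (x * y) = f x + f y)
    (f0 : ∀ x ∈ Q, x ∈ zpowers z → f x = 0) : ∃ g : V →ₗ[F] M, ∀ x ∈ Q, g (pr x) = f x := by
  choose s sQ hs using h.surj
  have wd : ∀ x ∈ Q, f (s (pr x)) = f x := fun x hx => by
    have m := mul_mem (inv_mem hx) (sQ (pr x))
    rw [← mul_inv_cancel_left x (s (pr x)), fa _ hx _ m, f0 _ m ((h.ker _ m).1 (by
      rw [h.add _ (inv_mem hx) _ (sQ _), h.inv hx, hs, neg_add_cancel])), add_zero]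
  refine ⟨(AddMonoidHom.mk' (fun v => f (s v)) fun a b => ?_).toZModLinearMap 3, wd⟩
  rw [← fa _ (sQ a) _ (sQ b), ← wd _ (mul_mem (sQ a) (sQ b)), h.add _ (sQ a) _ (sQ b), hs, hs]

/-- the image of a subgroup -/
def im (B : Subgroup G) : Submodule F V := AddSubgroup.toZModSubmodule 3
  { carrier := {v | ∃ x ∈ B, x ∈ Q ∧ pr x = v}
    add_mem' := by
      rintro _ _ ⟨x, h1, h2, rfl⟩ ⟨y, h3, h4, rfl⟩
      exact ⟨_, mul_mem h1 h3, mul_mem h2 h4, h.add x h2 y h4⟩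
    zero_mem' := ⟨1, one_mem _, one_mem _, h.one⟩
    neg_mem' := by
      rintro _ ⟨x, h1, h2, rfl⟩
      exact ⟨_, inv_mem h1, inv_mem h2, h.inv h2⟩ }

omit [Finite G] in
theorem mem_im {B : Subgroup G} (hB : zpowers z ≤ B) (hx : x ∈ Q) : pr x ∈ h.im B ↔ x ∈ B := by
  refine ⟨?_, fun e => ⟨x, e, hx, rfl⟩⟩
  rintro ⟨y, h1, h2, e⟩
  refine (mul_mem_cancel_left (inv_mem h1)).1 (hB ((h.ker _ (mul_mem (inv_mem h2) hx)).1 ?_))
  rw [h.add _ (inv_mem h2) _ hx, h.inv h2, e, neg_add_cancel]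

/-- the preimage of a subspace -/
def pb (D : Submodule F V) : Subgroup G where
  carrier := {x | x ∈ Q ∧ pr x ∈ D}
  mul_mem' h1 h2 := ⟨mul_mem h1.1 h2.1, h.add _ h1.1 _ h2.1 ▸ add_mem h1.2 h2.2⟩
  one_mem' := ⟨one_mem _, h.one ▸ D.zero_mem⟩
  inv_mem' h1 := ⟨inv_mem h1.1, h.inv h1.1 ▸ neg_mem h1.2⟩

end Pr

theorem exists_rp (h : XQ 3 S Q z) (hc : Nat.card Q = 243) {π : centralizer ({z} : Set G) →* SL2}
    (surj : Function.Surjective π) (ker : ∀ c, π c = 1 ↔ (c : G) ∈ Q) :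
    ∃ (V : Type v) (_ : AddCommGroup V) (_ : Module F V) (pr : G → V) (ρ : SL2 → V →ₗ[F] V) (w : V →ₗ[F] V →ₗ[F] F),
      Pr Q z pr ∧ Rp ρ w ∧ ∀ k : centralizer ({z} : Set G), ∀ x ∈ Q,
        (k : G) * x * (k : G)⁻¹ ∈ Q ∧ ρ (π k) (pr x) = pr (k * x * (k : G)⁻¹) := by
  obtain ⟨V, _, _, pr, hp, cV⟩ := exists_pr h
  have QC : Q ≤ centralizer {z} := fun x hx => mem_centralizer_singleton_iff.2 (h.zc x (h.le hx)).symm
  have nQ : ∀ k : centralizer ({z} : Set G), ∀ x ∈ Q, (k : G) * x * (k : G)⁻¹ ∈ Q := fun k x hx =>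
    (ker (k * ⟨x, QC hx⟩ * k⁻¹)).1 (by
      rw [map_mul, map_mul, (ker ⟨x, QC hx⟩).2 hx, mul_one, map_inv, mul_inv_cancel])
  have fz : ∀ k : centralizer ({z} : Set G), ∀ u ∈ zpowers z, (k : G) * u * (k : G)⁻¹ = u := by
    rintro k _ ⟨n, rfl⟩
    rw [mul_inv_eq_iff_eq_mul]
    exact (Commute.zpow_right (mem_centralizer_singleton_iff.1 k.2) n).eq
  choose f hf using fun k : centralizer ({z} : Set G) => hp.desc (fun x => pr (k * x * (k : G)⁻¹))
    (fun x hx y hy => by rw [← hp.add _ (nQ k x hx) _ (nQ k y hy), conj_mul])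
    fun x hx e => by rw [fz k x e, (hp.ker x hx).2 e]
  choose s hs using surj
  have hρ : ∀ k, ∀ x ∈ Q, f (s (π k)) (pr x) = pr (k * x * (k : G)⁻¹) := fun k x hx => by
    have m : ((s (π k) * k⁻¹ : centralizer ({z} : Set G)) : G) ∈ Q :=
      (ker _).1 (by rw [map_mul, hs, map_inv, mul_inv_cancel])
    rw [hf _ x hx, show (s (π k) : G) * x * (s (π k) : G)⁻¹ = s (π k) * (k : G)⁻¹ * (k * x * (k : G)⁻¹) *
      (s (π k) * (k : G)⁻¹)⁻¹ by group]
    erw [hp.add _ (mul_mem m (nQ k x hx)) _ (inv_mem m), hp.add _ m _ (nQ k x hx), hp.inv m]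
    abel
  choose g hg using fun x : Q => hp.desc (om 3 z x) (h.om_right x.2) fun y hy e => by
    rw [h.om_anti hy x.2, h.om_Z e x.2, neg_zero]
  classical
  obtain ⟨w, hw⟩ := hp.desc (fun x => if e : x ∈ Q then g ⟨x, e⟩ else 0)
    (fun x hx y hy => LinearMap.ext fun v => by
      obtain ⟨u, hu, rfl⟩ := hp.surj v
      simp only [dif_pos hx, dif_pos hy, dif_pos (mul_mem hx hy), LinearMap.add_apply, hg _ u hu]
      exact h.om_left hu hx hy)
    fun x hx e => LinearMap.ext fun v => by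
      obtain ⟨u, hu, rfl⟩ := hp.surj v
      simp only [dif_pos hx, hg _ u hu]
      exact h.om_Z e hu
  have ww : ∀ x ∈ Q, ∀ y ∈ Q, w (pr x) (pr y) = om 3 z x y := fun x hx y hy => by
    rw [hw x hx, dif_pos hx, hg _ y hy]
  have : Finite V := Nat.finite_of_card_ne_zero (by omega)
  refine ⟨V, inferInstance, inferInstance, pr, fun a => f (s a), w, hp, ⟨inferInstance, ?_, fun v => ?_,
    fun a b v => ?_, fun v => ?_, fun v e => ?_, fun a u v => ?_⟩, fun k x hx => ⟨nQ k x hx, hρ k x hx⟩⟩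
  · have e := Module.natCard_eq_pow_finrank (K := F) (V := V)
    rw [Nat.card_zmod, show Nat.card V = 3 ^ 4 by omega] at e
    exact (Nat.pow_right_injective (by norm_num) e).symm
  all_goals obtain ⟨x, hx, rfl⟩ := hp.surj v
  · simpa using hρ 1 x hx
  · rw [hf (s b) x hx, hf (s a) _ (nQ _ x hx), ← hs a, ← hs b, ← map_mul, hρ _ x hx, hs, hs, coe_mul]
    congr 1
    group
  · rw [ww x hx x hx, h.om_self hx]
  · exact (hp.ker x hx).2 (h.mem_Z hx fun y hy => ((h.om_eq_zero hx hy).1 (by rw [← ww x hx y hy, e])).symm)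
  · obtain ⟨y, hy, rfl⟩ := hp.surj u
    rw [hf _ x hx, hf _ y hy, ww _ (nQ _ y hy) _ (nQ _ x hx), ww y hy x hx, om, om, ← conjugate_commutatorElement,
      fz _ _ (h.comm_mem hy hx)]

end TA

open TA

theorem t0a : T0a.{v} := by
  intro G _ _ S Z hZ C hCZ Q hQ hex hc ex cQ K hK r B B0 Br mono inv mx e i j hij hi hj
  have : Fact (Nat.Prime 3) := ⟨Nat.prime_three⟩
  have SC : (S : Subgroup G) ≤ C := hCZ ▸ le_centralizer_iff.1 (hZ ▸ inf_le_right)
  have syl := isSylowIn_of_le S SC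
  have QS : Q ≤ S := hQ ▸ Even.core_le_syl syl
  have cC : Nat.card C = 24 * 3 ^ 5 := by
    rw [card_eq_card_quotient_mul_card_subgroup (pCore 3 C), Nat.card_congr e.toEquiv, CL.SLn.card_SL_two, ← hc, hQ,
      card_map_subtype, ZMod.card]
    norm_num
  have cS : Nat.card (S : Subgroup G) = 3 ^ 6 := by
    rw [syl.card_eq_pow, cC, show 24 * 3 ^ 5 = 3 ^ 6 * 8 by norm_num,
      Nat.factorization_mul_apply_of_coprime (by norm_num), Nat.Prime.factorization_pow Nat.prime_three,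
      Nat.factorization_eq_zero_of_not_dvd (by norm_num)]
    simp
  obtain ⟨z, h⟩ := exists_XQ (by norm_num) S.isPGroup' QS hex (by
    have := (Q.subgroupOf S).card_mul_index
    rw [Nat.card_congr (subgroupOfEquivOfLe QS).toEquiv, hc, cS] at this
    unfold relIndex
    omega) cS.ge
  have eZ : Z = zpowers z := by
    refine le_antisymm (h.cen_eq ▸ ?_) (zpowers_le.2 (hZ ▸ ⟨h.le h.zQ, fun x hx => (h.zc x hx).symm⟩))
    have : Z ≤ centralizer (Q : Set G) := hZ ▸ inf_le_right.trans (centralizer_le QS)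
    exact le_inf (this.trans cQ) this
  obtain rfl : C = centralizer {z} := by rw [hCZ, eZ, zpowers_eq_closure, centralizer_closure]
  let π := e.toMonoidHom.comp (QuotientGroup.mk' _)
  have surj : Function.Surjective π := e.surjective.comp (QuotientGroup.mk'_surjective _)
  have ker : ∀ c, π c = 1 ↔ (c : G) ∈ Q := fun c => by
    rw [hQ]
    exact (e.map_eq_one_iff.trans (QuotientGroup.eq_one_iff c)).trans (mem_map_iff_mem (subtype_injective _)).symm
  have KC : ∀ k, k ∈ K ↔ k ∈ centralizer ({z} : Set G) := fun k => by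
    refine ⟨fun hk => map_subtype_le _ (hK ▸ hk), fun hk => hK ▸ ⟨⟨k, hk⟩, mem_comap.2 ?_, rfl⟩⟩
    have m : ∀ a : SL2, a ^ 3 = 1 → e.symm a ∈ pResidual 2 _ := fun a ha => subset_closure
      (Nat.Coprime.coprime_dvd_left (orderOf_dvd_of_pow_eq_one (by rw [← map_pow, ha, map_one])) (by norm_num))
    obtain ⟨a, ha, b, hb, c, hc, e1⟩ := f5 (e (QuotientGroup.mk' _ ⟨k, hk⟩))
    rw [e.eq_symm_apply.2 e1, map_mul, map_mul]
    exact mul_mem (mul_mem (m a ha) (m b hb)) (m c hc)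
  obtain ⟨V, _, _, pr, ρ, w, hp, R, hρ⟩ := exists_rp h hc surj ker
  refine ⟨z, π, eZ, h, hc, ex, cQ, surj, ker, fun c hc1 x hx => ?_⟩
  obtain ⟨n, hn, n0⟩ : ∃ n, ρ (-1) n = -n ∧ n ≠ 0 := by
    by_contra! t
    have t3 : π (c ^ 3) = -1 := by rw [map_pow, hc1]; simp [pow_succ]
    have t2 : (c ^ 3).1 * (c ^ 3).1 = 1 := by
      rw [← coe_mul, ← pow_add, show 3 + 3 = 2 * 3 from rfl, pow_mul, coe_pow]
      exact ex _ ((ker _).1 (by rw [map_pow, hc1]; simp))
    generalize c ^ 3 = d at t3 t2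
    refine absurd (t3.symm.trans ((ker d).2 (cQ fun y hy => ?_))) (by decide +kernel)
    have e1 := t (pr y - ρ (-1) (pr y)) (by rw [map_sub, R.cc, neg_sub])
    rw [← t3, (hρ d y hy).2, sub_eq_add_neg, ← hp.inv (hρ d y hy).1, ← hp.add _ hy _ (inv_mem (hρ d y hy).1),
      hp.ker _ (mul_mem hy (inv_mem (hρ d y hy).1))] at e1
    set u := y * (d * y * (d : G)⁻¹)⁻¹ with hu
    have du : (d : G) * u * (d : G)⁻¹ = u := by
      obtain ⟨m, hm⟩ := e1
      rw [← hm, mul_inv_eq_iff_eq_mul]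
      exact (Commute.zpow_right (mem_centralizer_singleton_iff.1 d.2) m).eq
    have u2 : u * u = 1 := by
      calc u * u = u * (d * u * (d : G)⁻¹) := by rw [du]
        _ = y * (d * d * y⁻¹ * ((d : G) * d)⁻¹) := by rw [hu]; group
        _ = 1 := by rw [t2]; group
    have u3 := h.powZ e1
    rw [pow_succ, pow_two, u2, one_mul, hu, mul_inv_eq_one, eq_mul_inv_iff_mul_eq] at u3
    exact u3
  have ZB : ∀ l, zpowers z ≤ B l ∧ B l ≤ Q := fun l =>
    ⟨eZ ▸ B0 ▸ (Fin.strictMono_iff_lt_succ.2 mono).monotone (Fin.zero_le l),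
      Br ▸ (Fin.strictMono_iff_lt_succ.2 mono).monotone (Fin.le_last l)⟩
  have P0 : ∀ p, ρ (-1) p = p → p = 0 := fun p hp' => by
    by_contra p0
    have iv : ∀ l a, ∀ v ∈ hp.im (B l), ρ a v ∈ hp.im (B l) := by
      rintro l a _ ⟨x, h1, h2, rfl⟩
      obtain ⟨k, rfl⟩ := surj a
      exact ⟨_, inv l k ((KC k).2 k.2) x h1, (hρ k x h2).1, (hρ k x h2).2.symm⟩
    have mn : ∀ {l m}, l ≤ m → hp.im (B l) ≤ hp.im (B m) := by
      rintro l m hl _ ⟨x, h1, h2, rfl⟩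
      exact ⟨x, (Fin.strictMono_iff_lt_succ.2 mono).monotone hl h1, h2, rfl⟩
    have key : ∀ l : Fin r, (∃ k ∈ K, ∃ a ∈ B l.succ, k * a * k⁻¹ * a⁻¹ ∉ B l.castSucc) →
        n ∈ hp.im (B l.succ) ∧ n ∉ hp.im (B l.castSucc) := by
      rintro l ⟨k, hk, a, ha, ne⟩
      have aQ := (ZB _).2 ha
      have hk' := hρ ⟨k, (KC k).1 hk⟩ a aQ
      refine R.factor hp' p0 hn n0 (iv _) (iv _) (mn l.castSucc_lt_succ.le) (fun D hD l1 l2 => ?_)
        ⟨π ⟨k, (KC k).1 hk⟩, pr a, (hp.mem_im (ZB _).1 aQ).2 ha, ?_⟩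
      · by_contra! t
        obtain ⟨k, hk, b, hb, nb⟩ := mx l (hp.pb D)
          (lt_of_le_not_ge (fun y hy => ⟨(ZB _).2 hy, l1 ((hp.mem_im (ZB _).1 ((ZB _).2 hy)).2 hy)⟩) fun t' =>
            t.1 fun v hv => by
              obtain ⟨y, hy, rfl⟩ := hp.surj v
              exact (hp.mem_im (ZB _).1 hy).2 (t' ⟨hy, hv⟩))
          (lt_of_le_not_ge (fun y hy => (hp.mem_im (ZB _).1 hy.1).1 (l2 hy.2)) fun t' => t.2 (by
            rintro _ ⟨y, h1, -, rfl⟩
            exact (t' h1).2))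
        have := hρ ⟨k, (KC k).1 hk⟩ b hb.1
        exact nb ⟨this.1, this.2 ▸ hD _ _ hb.2⟩
      · rw [hk'.2, sub_eq_add_neg, ← hp.inv aQ, ← hp.add _ hk'.1 _ (inv_mem aQ),
          hp.mem_im (ZB _).1 (mul_mem hk'.1 (inv_mem aQ))]
        exact ne
    rcases lt_or_gt_of_ne hij with t | t
    · exact (key j hj).2 (mn (Fin.succ_le_castSucc_iff.2 t) (key i hi).1)
    · exact (key i hi).2 (mn (Fin.succ_le_castSucc_iff.2 t) (key j hj).1)
  rw [← hp.ker _ (mul_mem (hρ c x hx).1 hx), hp.add _ (hρ c x hx).1 _ hx, ← (hρ c x hx).2, hc1]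
  exact P0 _ (by rw [map_add, R.cc, add_comm])

end CL.L3L
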