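/-
The 3-local recognition of `PSL₄(3)`, part T0b: linear algebra, transport and the linear model.
-/
import Cfsg.Agent.Rec.L3Defs
import Cfsg.Agent.Grp.ExtraAut

set_option autoImplicit false
set_option linter.unusedSectionVars false
set_option maxRecDepth 100000

open Subgroup Cfsg CL.Fus CL.Fus.Rk CL.Fus.Xs
open scoped commutatorElement

namespace CL.L3L

universe v

local notation "𝒩(" X ")" => Subgroup.normalizer ((X : Subgroup _) : Set _)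
local notation "𝒞(" X ")" => Subgroup.centralizer ((X : Subgroup _) : Set _)
local notation "𝒞{" x "}" => Subgroup.centralizer ({x} : Set _)

theorem sl2_a : ∀ x : SL2, x ^ 3 = 1 → (∀ y : SL2, (x * (y * x * y⁻¹)) ^ 3 = 1) → x = 1 := by
  decide +kernel

theorem sl2_b : ∀ x : SL2, x ^ 3 = 1 → x ≠ 1 → ∃ k : SL2, (x * (k * x⁻¹ * k⁻¹)) ^ 2 = -1 ∧ ∀ y : SL2, ∃ i j l m : Fin 3,
    y = x ^ (i : ℕ) * (k * x⁻¹ * k⁻¹) ^ (j : ℕ) * x ^ (l : ℕ) * (k * x⁻¹ * k⁻¹) ^ (m : ℕ) := by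
  decide +kernel

theorem eq_zero_of_neg : ∀ a : F, a = -a → a = 0 := by decide

section lin
variable {V : Type} [AddCommGroup V] [Module F V] {w : V →ₗ[F] V →ₗ[F] F} {n n' : V →ₗ[F] V} {e f : V}

theorem lin_sq (alt : ∀ u v, w u v = -w v u) (nd : ∀ u, (∀ v, w u v = 0) → u = 0)
    (iso : ∀ u v, w (u + n u) (v + n v) = w u v) (n3 : ∀ v, n (n (n v)) = 0) (ne : n e = 0) (nf : n f = e) (e0 : e ≠ 0)
    (perp : ∀ v, w v e = 0 → w v f = 0 → ∃ i j : F, v = i • e + j • f) (u : V) : n (n u) = 0 := by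
  have k0 : ∀ u v, w (n u) v + w u (n v) + w (n u) (n v) = 0 := fun u v => by
    have := iso u v
    simp only [map_add, LinearMap.add_apply] at this
    linear_combination this
  have k1 : ∀ u v, w (n u) (n v) = -w u (n (n v)) := fun u v => by
    have h1 := k0 u (n v)
    have h2 := k0 u (n (n v))
    simp only [n3, map_zero, add_zero] at h2
    linear_combination h1 - h2
  have k2 : ∀ u v, w (n (n u)) v = w u (n (n v)) := fun u v => by
    linear_combination alt (n (n u)) v - k1 v u + alt (n v) (n u) - k1 u v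
  have k3 : ∀ u, ∃ l : F, n (n u) = l • e := fun u => by
    obtain ⟨i, j, h⟩ := perp (n (n u)) (by rw [k2, ne, map_zero, map_zero]) (by rw [k2, nf, ne, map_zero])
    have := n3 u
    rw [h, map_add, map_smul, map_smul, ne, nf, smul_zero, zero_add, smul_eq_zero_iff_left e0] at this
    exact ⟨i, by rw [h, this, zero_smul, add_zero]⟩
  obtain ⟨l, hl⟩ := k3 u
  have h1 : w (n (n u)) u = 0 := eq_zero_of_neg _ (by rw [← alt, k2])
  refine by_contra fun c => e0 (nd _ fun v => ?_)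
  obtain ⟨m, hm⟩ := k3 v
  have l0 : l ≠ 0 := fun k => c (by rw [hl, k, zero_smul])
  have h2 := k2 u v
  simp only [hl, hm, map_smul, LinearMap.smul_apply, smul_eq_mul, mul_eq_zero, l0, false_or] at h1 h2
  rwa [alt u, h1, neg_zero, mul_zero, mul_eq_zero_iff_left l0] at h2

theorem lin_skew (iso : ∀ u v, w (u + n u) (v + n v) = w u v) (n2 : ∀ v, n (n v) = 0) (u v : V) :
    w (n u) v = -w u (n v) := by
  have h1 := iso u v
  have h2 := iso u (n v)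
  simp only [map_add, LinearMap.add_apply, n2, add_zero] at h1 h2
  linear_combination h1 - h2

theorem lin_main (alt : ∀ u v, w u v = -w v u) (sk : ∀ u v, w (n u) v = -w u (n v))
    (ac : ∀ v, n (n' v) + n' (n v) = v) (ne : n e = 0) (nf : n f = e) (e0 : e ≠ 0) (ef : w e f = 0)
    (perp : ∀ v, w v e = 0 → w v f = 0 → ∃ i j : F, v = i • e + j • f) {g : V →ₗ[F] V} {c γ δ : F}
    (gw : ∀ u v, w (g u) (g v) = -w u v) (gf : g f = f + c • e) (gh : g (n' e) = δ • e + γ • n' e)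
    (gn : ∀ a, n a = 0 → n (g a) = 0) : ∃ i : F, n' e = i • e + f := by
  have nh : n (n' e) = e := by simpa [ne] using ac e
  obtain ⟨a, ha⟩ : ∃ a, f = a + n' e := ⟨f - n' e, by abel⟩
  have na : n a = 0 := by rwa [ha, map_add, nh, add_eq_right] at nf
  have sf : ∀ v, w v v = 0 := fun v => eq_zero_of_neg _ (alt v v)
  have ae : w a e = 0 := by
    have := ac a
    rw [na, map_zero, add_zero] at this
    rw [← this, sk, ne, map_zero, neg_zero]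
  have eh : w e (n' e) = 0 := by rwa [ha, map_add, alt e a, ae, neg_zero, zero_add] at ef
  have ga : g a = f + c • e - (δ • e + γ • n' e) := by rw [← gf, ← gh, ← map_sub, ha, add_sub_cancel_right]
  have h1 := gn a na
  simp only [ga, map_sub, map_add, map_smul, nf, ne, nh, smul_zero, add_zero, zero_add, sub_eq_zero] at h1
  obtain rfl : γ = 1 := smul_left_injective F e0 (h1.symm.trans (one_smul F e).symm)
  have h2 := gw a (n' e)
  rw [ga, gh, ha] at h2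
  simp only [map_sub, map_add, map_smul, LinearMap.add_apply, LinearMap.sub_apply, LinearMap.smul_apply, smul_eq_mul,
    sf, ae, eh, alt (n' e) e, mul_zero, neg_zero, one_mul, add_zero, zero_add, sub_zero] at h2
  obtain ⟨i, j, h3⟩ := perp a ae (by rw [ha, map_add, sf, eq_zero_of_neg _ h2, add_zero])
  rw [h3, map_add, map_smul, map_smul, ne, nf, smul_zero, zero_add, smul_eq_zero_iff_left e0] at na
  rw [na, zero_smul, add_zero] at h3
  exact ⟨-i, by rw [ha, h3]; module⟩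

theorem lin_T (alt : ∀ u v, w u v = -w v u) (nd : ∀ u, (∀ v, w u v = 0) → u = 0)
    (sk : ∀ u v, w (n u) v = -w u (n v)) (sk' : ∀ u v, w (n' u) v = -w u (n' v)) (n2 : ∀ v, n (n v) = 0)
    (ac : ∀ v, n (n' v) + n' (n v) = v) (ne : n e = 0) (e0 : e ≠ 0) (eh : w e (n' e) = 0) :
    ∃ a, n a = 0 ∧ w a (n' a) = 0 ∧ w e (n' a) ≠ 0 := by
  obtain ⟨v, hv⟩ : ∃ v, w e (n' (n v)) ≠ 0 := by
    by_contra! k
    refine e0 (nd _ fun v => ?_)
    rw [← ac v, map_add, k, ← neg_neg (w e _), ← sk, ne, map_zero, LinearMap.zero_apply, neg_zero, add_zero]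
  refine ⟨n v + (w (n v) (n' (n v)) / w e (n' (n v))) • e, by simp [n2, ne], ?_, by simpa [eh]⟩
  simp only [map_add, map_smul, LinearMap.add_apply, LinearMap.smul_apply, smul_eq_mul, eh, alt (n v) (n' e), sk',
    neg_neg, mul_zero, add_zero, div_mul_cancel₀ _ hv]
  linear_combination (w (n v) (n' (n v))) * (by decide : (3 : F) = 0)

end lin

variable {G : Type v} [Group G] [Finite G] {S Q A : Subgroup G} {z e g k x y u : G} {π : 𝒞{z} →* SL2}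

theorem map_cen (f : G ≃* G) (A : Subgroup G) : 𝒞(A.map (f : G →* G)) = 𝒞(A).map (f : G →* G) := by
  ext x
  obtain ⟨x, rfl⟩ := f.surjective x
  refine ⟨fun h => ⟨x, mem_cen fun y hy => f.injective ?_, rfl⟩, ?_⟩
  · simpa using (comm_of_cen h (mem_map_of_mem _ hy)).eq
  · rintro ⟨y, hy, e⟩
    exact e ▸ mem_cen (by rintro _ ⟨u, hu, rfl⟩; exact (comm_of_cen hy hu).map _)

theorem xq_map {p : ℕ} [Fact p.Prime] (h : XQ p S Q z) (f : G ≃* G) :
    XQ p (S.map (f : G →* G)) (Q.map (f : G →* G)) (f z) where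
  p2 := h.p2
  pg := h.pg.map _
  le := map_mono h.le
  idx := by rw [relIndex_map_map_of_injective _ _ f.injective, h.idx]
  nQ := le_normalizer_of_conj (by
    rintro _ ⟨g, hg, rfl⟩ _ ⟨x, hx, rfl⟩
    exact ⟨_, h.conjQ hg hx, by simp⟩)
  zQ := mem_map_of_mem _ h.zQ
  z1 := by simpa using h.z1
  zp := by rw [← map_pow, h.zp, map_one]
  zc := by rintro _ ⟨x, hx, rfl⟩; exact (h.zc x hx).map f
  comm := by rw [← map_commutator]; exact (map_mono h.comm).trans (MonoidHom.map_zpowers _ z).le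
  pow := by
    rintro _ ⟨x, hx, rfl⟩
    exact map_pow (f : G →* G) x p ▸ (MonoidHom.map_zpowers _ z).le (mem_map_of_mem (f : G →* G) (h.pow x hx))
  cnt A h1 h2 := by
    obtain ⟨A, rfl⟩ : ∃ B : Subgroup G, B.map (f : G →* G) = A := ⟨_, map_comap_eq_self_of_surjective f.surjective A⟩
    rw [map_cen, ← map_inf _ _ _ f.injective, card_map_of_injective f.injective, card_map_of_injective f.injective,
      card_map_of_injective f.injective]
    exact h.cnt A ((map_le_map_iff_of_injective f.injective).1 ((MonoidHom.map_zpowers (f : G →* G) z).le.trans h1))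
      ((map_le_map_iff_of_injective f.injective).1 h2)
  big := by rw [card_map_of_injective f.injective]; exact h.big

theorem mem_C : x ∈ 𝒞{z} ↔ Commute x z := mem_centralizer_singleton_iff

theorem Bs.map (h : Bs S Q z π) (f : G ≃* G) : ∃ π', Bs (S.map (f : G →* G)) (Q.map (f : G →* G)) (f z) π' := by
  have hm : ∀ c : 𝒞{f z}, f.symm c ∈ 𝒞{z} := fun c => mem_C.2 (by simpa using (mem_C.1 c.2).map f.symm)
  refine ⟨π.comp (((f.symm : G →* G).comp (Subgroup.subtype _)).codRestrict _ hm), xq_map h.xq f, ?_, ?_, ?_, fun s => ?_,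
    fun c => ?_, fun c hc => ?_⟩
  · rw [card_map_of_injective f.injective, h.card]
  · rintro _ ⟨x, hx, rfl⟩; rw [← map_pow, h.ex x hx, map_one]
  · rw [map_cen]; exact map_mono h.cQ
  · obtain ⟨c, rfl⟩ := h.surj s
    exact ⟨⟨f c, mem_C.2 ((mem_C.1 c.2).map f)⟩, congrArg π (Subtype.ext (f.symm_apply_apply _))⟩
  · exact (h.ker _).trans mem_map_equiv.symm
  · rintro _ ⟨x, hx, rfl⟩
    have := (MonoidHom.map_zpowers _ z).le (mem_map_of_mem (f : G →* G)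
      (show f.symm c * x * (f.symm c)⁻¹ * x ∈ _ from h.inv _ hc x hx))
    simpa using this

theorem ex_conj (h : XQ 3 S Q z) (hx : x ∈ Q) (hA : A ≤ Q) (hy : y ∈ A) (c : ¬ Commute y x) (hu : u ∈ zpowers z) :
    ∃ y ∈ A, y * x * y⁻¹ = x * u := by
  have ad : AddOn Q fun y => om 3 z y x := fun a ha b hb => h.om_left hx ha hb
  refine ⟨y ^ (lg 3 z u / om 3 z y x).val, pow_mem hy _, ?_⟩
  rw [h.conj_eq hx (pow_mem (hA hy) _), ad.val (hA hy), div_mul_cancel₀ _ (mt (h.om_eq_zero (hA hy) hx).1 c), h.zpow_lg hu]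

theorem conj_C (hk : k * z * k⁻¹ = z⁻¹) (hx : x ∈ 𝒞{z}) : k * x * k⁻¹ ∈ 𝒞{z} :=
  mem_C.2 (Commute.inv_right_iff.1 (hk ▸ (mem_C.1 hx).map (cjh k)))

theorem conj_inv_inv (hk : k * z * k⁻¹ = z⁻¹) : k⁻¹ * z * k⁻¹⁻¹ = z⁻¹ :=
  calc _ = k⁻¹ * (k * z * k⁻¹)⁻¹ * k⁻¹⁻¹ := by rw [hk, inv_inv z]
    _ = _ := by group

namespace Bs
variable (h : Bs S Q z π)
include h

theorem le_C : Q ≤ 𝒞{z} := fun x hx => mem_C.2 (h.xq.zc x (h.xq.le hx)).symm

theorem one (hx : x ∈ Q) : π ⟨x, h.le_C hx⟩ = 1 := (h.ker _).2 hx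

theorem norm : 𝒞{z} ≤ 𝒩(Q) := le_normalizer_of_conj fun c hc x hx =>
  (h.ker (⟨c, hc⟩ * ⟨x, h.le_C hx⟩ * ⟨c, hc⟩⁻¹)).1 (by rw [map_mul, map_mul, h.one hx, mul_one, map_inv, mul_inv_cancel])

theorem norm' (hk : k * z * k⁻¹ = z⁻¹) : k ∈ 𝒩(Q) := mem_normalizer_of_finite fun x hx => by
  have k3 : ∀ y ∈ Q, ∀ hy : k * y * k⁻¹ ∈ 𝒞{z}, π ⟨_, hy⟩ ^ 3 = 1 := fun y hy hy' => by
    rw [← map_pow, ← map_one π]; congr 1; exact Subtype.ext (by simp [conj_pow, h.ex y hy])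
  refine (h.ker ⟨_, conj_C hk (h.le_C hx)⟩).1 (sl2_a _ (k3 x hx _) fun s => ?_)
  obtain ⟨c, rfl⟩ := h.surj s
  have hy := mul_mem hx (conj_mem_of_mem_normalizer (h.norm (conj_C (conj_inv_inv hk) c.2)) hx)
  rw [← k3 _ hy (conj_C hk (h.le_C hy)), ← map_inv, ← map_mul, ← map_mul, ← map_mul]
  congr 2; exact Subtype.ext (by simp [mul_assoc])

/-- a second transvection -/
theorem ex_gen {s : G} (hs : s ∈ 𝒞{z}) (sQ : s ∉ Q) (s3 : s ^ 3 = 1) : ∃ k ∈ 𝒞{z},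
    (∀ x ∈ Q, (s * (k * s⁻¹ * k⁻¹)) ^ 2 * x * ((s * (k * s⁻¹ * k⁻¹)) ^ 2)⁻¹ * x ∈ zpowers z) ∧
    ∀ K : Subgroup G, Q ≤ K → s ∈ K → k * s⁻¹ * k⁻¹ ∈ K → 𝒞{z} ≤ K := by
  obtain ⟨k, h1, h2⟩ := sl2_b (π ⟨s, hs⟩) (by rw [← map_pow, ← map_one π]; congr 1; exact Subtype.ext s3)
    (mt (h.ker _).1 sQ)
  obtain ⟨k, rfl⟩ := h.surj k
  simp only [← map_inv, ← map_mul, ← map_pow] at h1 h2
  refine ⟨k, k.2, h.inv _ h1, fun K hQ h3 h4 c hc => ?_⟩
  obtain ⟨i, j, l, m, h5⟩ := h2 (π ⟨c, hc⟩)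
  rw [← mul_inv_eq_one, ← map_inv, ← map_mul, h.ker] at h5
  exact (mul_mem_cancel_right (inv_mem (mul_mem (mul_mem (mul_mem (pow_mem h3 i) (pow_mem h4 j)) (pow_mem h3 l))
    (pow_mem h4 m)))).1 (hQ h5)

end Bs

/-- the linear model of `Q / ⟨z⟩` -/
structure Md (Q : Subgroup G) (z : G) {V : Type} [AddCommGroup V] [Module F V] (pr : G → V) (w : V →ₗ[F] V →ₗ[F] F)
    (ρ : G → V →ₗ[F] V) : Prop where
  mul : ∀ x ∈ Q, ∀ y ∈ Q, pr (x * y) = pr x + pr y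
  surj : ∀ v, ∃ x ∈ Q, pr x = v
  ker : ∀ x ∈ Q, pr x = 0 ↔ x ∈ zpowers z
  om : ∀ x ∈ Q, ∀ y ∈ Q, w (pr x) (pr y) = om 3 z x y
  act : ∀ g ∈ 𝒩(Q), ∀ x ∈ Q, ρ g (pr x) = pr (g * x * g⁻¹)

theorem ex_md (h : XQ 3 S Q z) : ∃ (d : ℕ) (pr : G → Fin d → F) (w : _) (ρ : _), Md Q z pr w ρ := by
  classical
  have hmem : ∀ x : Q, (x : G) ∈ zpowers z ↔ x ∈ zpowers (⟨z, h.zQ⟩ : Q) := fun x =>
    ⟨fun ⟨k, hk⟩ => ⟨k, Subtype.ext hk⟩, fun ⟨k, hk⟩ => ⟨k, congrArg Subtype.val hk⟩⟩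
  obtain ⟨d, H, hH⟩ := CL.Grp.exists_heis_fin (p := 3) (G := Q) (z := ⟨z, h.zQ⟩)
    (mem_center_iff.mpr fun g => Subtype.ext (h.zc g (h.le g.2)).symm)
    (by rw [← orderOf_coe]; exact orderOf_eq_prime h.zp h.z1) (fun a b => (hmem _).mp (h.comm_mem a.2 b.2))
    (fun a => (hmem _).mp (h.pow a a.2))
  have h0 : ∀ x : Q, H.π x = 0 ↔ (x : G) ∈ zpowers z := fun x => by rw [← H.mem_Z, H.Z_eq_zpowers, hH, hmem]
  have hZ : H.Z = center Q := le_antisymm H.Z_le_center fun x hx => H.mem_Z.2 ((h0 x).2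
    (h.mem_Z x.2 fun y hy => congrArg Subtype.val (mem_center_iff.1 hx ⟨y, hy⟩)))
  refine ⟨d, fun x => if hx : x ∈ Q then H.π ⟨x, hx⟩ else 0, H.B,
    fun g => if hg : g ∈ 𝒩(Q) then (H.lin hZ (Q.normalizerMonoidHom ⟨g, hg⟩)).toLinearMap else 0,
    fun x hx y hy => ?_, fun v => ?_, fun x hx => ?_, fun x hx y hy => ?_, fun g hg x hx => ?_⟩
  · simp only [dif_pos hx, dif_pos hy, dif_pos (mul_mem hx hy), ← H.π_mul]; rfl
  · obtain ⟨x, rfl⟩ := H.π_surj v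
    exact ⟨x, x.2, dif_pos x.2⟩
  · rw [dif_pos hx, h0]
  · have := congrArg Subtype.val (H.comm_eq ⟨x, hx⟩ ⟨y, hy⟩)
    rw [H.ι_eq_pow_val, hH] at this
    rw [dif_pos hx, dif_pos hy, Xs.om, show ⁅x, y⁆ = _ from this, SubmonoidClass.coe_pow, ← zpow_natCast,
      lg_zpow h.zp h.z1, Int.cast_natCast, ZMod.natCast_zmod_val]
  · rw [dif_pos hx, dif_pos hg, dif_pos (conj_mem_of_mem_normalizer hg hx)]
    exact H.lin_π hZ _ _

namespace Md
variable {V : Type} [AddCommGroup V] [Module F V] {pr : G → V} {w : V →ₗ[F] V →ₗ[F] F} {ρ : G → V →ₗ[F] V}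
  (m : Md Q z pr w ρ)
include m

theorem hom : HomOn Q fun x => Multiplicative.ofAdd (pr x) := fun x hx y hy => congrArg Multiplicative.ofAdd (m.mul x hx y hy)

theorem one : pr 1 = 0 := m.hom.map_one

theorem inv (hx : x ∈ Q) : pr x⁻¹ = -pr x := m.hom.map_inv hx

theorem zpow (hx : x ∈ Q) (i : ℤ) : pr (x ^ i) = (i : F) • pr x :=
  (congrArg Multiplicative.toAdd (m.hom.map_zpow hx i)).trans (Int.cast_smul_eq_zsmul F i _).symm

theorem val (hx : x ∈ Q) (i : F) : pr (x ^ i.val) = i • pr x := by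
  rw [← zpow_natCast, m.zpow hx, Int.cast_natCast, ZMod.natCast_zmod_val]

theorem eq (hx : x ∈ Q) (hy : y ∈ Q) (k : pr x = pr y) : y⁻¹ * x ∈ zpowers z :=
  (m.ker _ (mul_mem (inv_mem hy) hx)).1 (by rw [m.mul _ (inv_mem hy) _ hx, m.inv hy, k, neg_add_cancel])

theorem ρ_mul (hg : g ∈ 𝒩(Q)) (hk : k ∈ 𝒩(Q)) (v : V) : ρ (g * k) v = ρ g (ρ k v) := by
  obtain ⟨x, hx, rfl⟩ := m.surj v
  rw [m.act _ (mul_mem hg hk) x hx, m.act k hk x hx, m.act g hg _ (conj_mem_of_mem_normalizer hk hx)]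
  congr 1; group

theorem ρ_Q (hg : g ∈ Q) (v : V) : ρ g v = v := by
  obtain ⟨x, hx, rfl⟩ := m.surj v
  rw [m.act g (le_normalizer hg) x hx, m.mul _ (mul_mem hg hx) _ (inv_mem hg), m.mul g hg x hx, m.inv hg]; abel

theorem ρ_inv (hg : g ∈ 𝒩(Q)) (v : V) : ρ g⁻¹ (ρ g v) = v := by
  rw [← m.ρ_mul (inv_mem hg) hg, inv_mul_cancel, m.ρ_Q (one_mem Q)]

theorem ρ_inv' (hg : g ∈ 𝒩(Q)) (v : V) : ρ g (ρ g⁻¹ v) = v := by simpa using m.ρ_inv (inv_mem hg) v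

/-- the preimage of a subspace -/
def pre (U : Submodule F V) : Subgroup G where
  carrier := {x | x ∈ Q ∧ pr x ∈ U}
  mul_mem' hx hy := ⟨mul_mem hx.1 hy.1, by rw [m.mul _ hx.1 _ hy.1]; exact add_mem hx.2 hy.2⟩
  one_mem' := ⟨one_mem Q, m.one ▸ zero_mem U⟩
  inv_mem' hx := ⟨inv_mem hx.1, by rw [m.inv hx.1]; exact neg_mem hx.2⟩

/-- the stabiliser of a vector -/
def fix (a : V) : Subgroup G where
  carrier := {g | g ∈ normalizer (Q : Set G) ∧ ρ g a = a}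
  mul_mem' hx hy := ⟨mul_mem hx.1 hy.1, by rw [m.ρ_mul hx.1 hy.1, hy.2, hx.2]⟩
  one_mem' := ⟨one_mem _, m.ρ_Q (one_mem Q) a⟩
  inv_mem' hx := ⟨inv_mem hx.1, by simpa only [hx.2] using m.ρ_inv hx.1 a⟩

theorem mem_n {U : Submodule F V} (hg : g ∈ 𝒩(Q)) (k : ∀ v ∈ U, ρ g v ∈ U) : g ∈ 𝒩(m.pre U) :=
  mem_normalizer_of_finite fun x hx => ⟨conj_mem_of_mem_normalizer hg hx.1, m.act g hg x hx.1 ▸ k _ hx.2⟩

theorem ρ_mem {U : Submodule F V} {v : V} (hg : g ∈ 𝒩(Q)) (k : g ∈ 𝒩(m.pre U)) (hv : v ∈ U) : ρ g v ∈ U := by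
  obtain ⟨x, hx, rfl⟩ := m.surj v
  exact m.act g hg x hx ▸ (conj_mem_of_mem_normalizer k (show x ∈ m.pre U from ⟨hx, hv⟩)).2

variable (h : XQ 3 S Q z)
include h

theorem Z_le (U : Submodule F V) : zpowers z ≤ m.pre U := fun x hx =>
  ⟨h.Z_le hx, (m.ker x (h.Z_le hx)).2 hx ▸ zero_mem U⟩

theorem comm (hx : x ∈ Q) (hy : y ∈ Q) : w (pr x) (pr y) = 0 ↔ Commute x y := m.om x hx y hy ▸ h.om_eq_zero hx hy

theorem alt (u v : V) : w u v = -w v u := by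
  obtain ⟨x, hx, rfl⟩ := m.surj u
  obtain ⟨y, hy, rfl⟩ := m.surj v
  rw [m.om x hx y hy, m.om y hy x hx, h.om_anti hy hx]

theorem nd (u : V) (k : ∀ v, w u v = 0) : u = 0 := by
  obtain ⟨x, hx, rfl⟩ := m.surj u
  exact (m.ker x hx).2 (h.mem_Z hx fun y hy => ((m.comm h hx hy).1 (k _)).symm)

theorem w_ρ (hg : g ∈ 𝒩(Q)) {i : ℤ} (k : g * z * g⁻¹ = z ^ i) (u v : V) : w (ρ g u) (ρ g v) = i * w u v := by
  obtain ⟨x, hx, rfl⟩ := m.surj u
  obtain ⟨y, hy, rfl⟩ := m.surj v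
  rw [m.act g hg x hx, m.act g hg y hy, m.om _ (conj_mem_of_mem_normalizer hg hx) _ (conj_mem_of_mem_normalizer hg hy),
    m.om x hx y hy, Xs.om, ← conjugate_commutatorElement, h.comm_eq hx hy, ← conj_zpow, k, ← zpow_mul, lg_zpow h.zp h.z1]
  simp

end Md

end CL.L3L
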