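/-
The 3-local recognition of `PSL₄(3)`, part T0b: the normal subgroup `E = Q ⊓ Q ^ g` of order `27` and its complement.
-/
import Cfsg.Agent.Rec.L3T0b1

set_option autoImplicit false
set_option linter.unusedSectionVars false

open Subgroup Cfsg CL.Fus CL.Fus.Rk CL.Fus.Xs
open scoped commutatorElement

namespace CL.L3L

universe v

local notation "𝒩(" X ")" => Subgroup.normalizer ((X : Subgroup _) : Set _)
local notation "𝒞(" X ")" => Subgroup.centralizer ((X : Subgroup _) : Set _)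
local notation "𝒞{" x "}" => Subgroup.centralizer ({x} : Set _)

variable {G : Type v} [Group G] [Finite G] {S Q S' Q' W : Subgroup G} {z e f g k s x y u : G} {π : 𝒞{z} →* SL2}
  {π' : 𝒞{e} →* SL2}

theorem Bs.card_W (h : Bs S Q z π) (eQ : e ∈ Q) (eZ : e ∉ zpowers z) : Nat.card ↥(zpowers z ⊔ zpowers e) = 9 := by
  rw [h.xq.card_sup eQ le_rfl h.xq.Z_le eZ, h.xq.card_Z]

theorem Bs.card_H (h : Bs S Q z π) (eQ : e ∈ Q) (eZ : e ∉ zpowers z) : Nat.card ↥(Q ⊓ 𝒞{e}) = 81 := by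
  have := h.xq.cnt (zpowers z ⊔ zpowers e) le_sup_left (sup_le h.xq.Z_le (zpowers_le.2 eQ))
  rw [h.card_W eQ eZ, h.card, show Q ⊓ 𝒞(zpowers z ⊔ zpowers e) = Q ⊓ 𝒞{e} from le_antisymm
    (inf_le_inf_left _ fun x hx => mem_C.2 (comm_of_cen hx (mem_sup_right (mem_zpowers e))).symm) fun x hx => ⟨hx.1,
      mem_cen_sup (mem_cen_zpowers (mem_C.1 (h.le_C hx.1)).symm) (mem_cen_zpowers (mem_C.1 hx.2).symm)⟩] at this
  omega

theorem Bs.l1 (h : Bs S Q z π) (h' : Bs S' Q' e π') (eQ : e ∈ Q) (eZ : e ∉ zpowers z) :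
    z ∈ Q' ∧ 27 ≤ Nat.card ↥(Q ⊓ Q') := by
  let φ : ↥(Q ⊓ 𝒞{e}) →* SL2 := π'.comp (inclusion inf_le_right)
  have c : Nat.card φ.range ∣ 3 := by
    have h1 := card_range_dvd φ
    have h2 := card_subgroup_dvd_card φ.range
    rw [h.card_H eQ eZ] at h1
    rw [CL.SLn.card_SL_two, ZMod.card] at h2
    exact Nat.dvd_gcd h1 h2
  have := isCyclic_of_card_dvd_prime c
  refine ⟨(?_ : ⁅Q ⊓ 𝒞{e}, Q ⊓ 𝒞{e}⁆ ≤ Q') (h.xq.Z_le_comm inf_le_left (fun ab => ?_) (mem_zpowers z)), ?_⟩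
  · refine commutator_le.2 fun x hx y hy => (h'.ker (inclusion inf_le_right ⁅(⟨x, hx⟩ : ↥(Q ⊓ 𝒞{e})), ⟨y, hy⟩⁆)).1 ?_
    exact (map_commutatorElement φ _ _).trans (commutatorElement_eq_one_iff_mul_comm.2 (congrArg Subtype.val
      (mul_comm' (⟨_, ⟨_, rfl⟩⟩ : φ.range) ⟨_, ⟨_, rfl⟩⟩)))
  · have := h.xq.ab_card (A := Q ⊓ 𝒞{e}) (zpowers_le.2 ⟨h.xq.zQ, mem_C.2 (mem_C.1 (h.le_C eQ)).symm⟩) inf_le_left ab
    rw [h.card_H eQ eZ, h.card] at this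
    omega
  · have h1 := CL.Grp.card_inf_mul_relIndex Q' (Q ⊓ 𝒞{e})
    have h2 : Q'.subgroupOf (Q ⊓ 𝒞{e}) = φ.ker := Subgroup.ext fun x => (h'.ker (inclusion inf_le_right x)).symm
    rw [relIndex, h2, index_ker, h.card_H eQ eZ] at h1
    have h3 := Nat.mul_le_mul (card_le_of_le (show Q' ⊓ (Q ⊓ 𝒞{e}) ≤ Q ⊓ Q' from fun x hx => ⟨hx.2.1, hx.1⟩))
      (Nat.le_of_dvd three_pos c)
    omega

theorem cm_mem (hg : g ∈ 𝒩(W)) (h1 : cm g f ∈ W) (h2 : cm k f ∈ W) : cm (g * k) f ∈ W := by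
  rw [show cm (g * k) f = cm g f * (g * cm k f * g⁻¹) by simp only [cm]; group]
  exact mul_mem h1 (conj_mem_of_mem_normalizer hg h2)

theorem inv_of_conj {q q' : G} (c : e * z = z * e) (z3 : z ^ 3 = 1) (e3 : e ^ 3 = 1) (h1 : Commute q z)
    (h2 : q * e * q⁻¹ = e * z) (h3 : Commute q' e) (h4 : q' * z * q'⁻¹ = z * e) :
    q * q' * (q * q') * z * (q * q' * (q * q'))⁻¹ = z⁻¹ ∧ q * q' * (q * q') * e * (q * q' * (q * q'))⁻¹ = e⁻¹ := by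
  have c' : ∀ x, e * (z * x) = z * (e * x) := fun x => by rw [← mul_assoc, c, mul_assoc]
  have k1 : cjh (q * q') e = e * z := by
    rw [← h2]; change q * q' * e * _ = _; rw [mul_assoc q, h3.eq]; group
  have k2 : cjh (q * q') z = z * (e * z) := calc
    _ = q * (q' * z * q'⁻¹) * q⁻¹ := by change q * q' * z * _ = _; group
    _ = q * z * q⁻¹ * (q * e * q⁻¹) := by rw [h4]; group
    _ = _ := by rw [h2, h1.eq, mul_inv_cancel_right]
  have k : ∀ x, q * q' * (q * q') * x * (q * q' * (q * q'))⁻¹ = cjh (q * q') (cjh (q * q') x) := fun x => by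
    change _ = q * q' * (q * q' * x * _) * _; group
  simp only [k, k1, k2, map_mul, eq_inv_iff_mul_eq_one]
  constructor
  · rw [← one_mul 1, ← one_mul (1 * 1)]; nth_rw 1 [← z3]; nth_rw 1 [← z3, ← e3]
    simp only [pow_succ, pow_zero, one_mul, mul_assoc, c, c']
  · rw [← one_mul 1]; nth_rw 1 [← z3, ← e3]
    simp only [pow_succ, pow_zero, one_mul, mul_assoc, c, c']

/-- the symmetric situation -/
structure Sy (S Q S' Q' : Subgroup G) (z e : G) (π : 𝒞{z} →* SL2) (π' : 𝒞{e} →* SL2) : Prop where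
  h : Bs S Q z π
  h' : Bs S' Q' e π'
  eQ : e ∈ Q
  eZ : e ∉ zpowers z

namespace Sy
variable (d : Sy S Q S' Q' z e π π')
include d

theorem zQ : z ∈ Q' := (d.h.l1 d.h' d.eQ d.eZ).1

theorem triv (h1 : u ∈ zpowers z) (h2 : u ∈ zpowers e) : u = 1 := by_contra fun c => d.eZ
  (((zpowers_eq_of_mem_prime d.h'.xq.zp h2 c).symm.trans (zpowers_eq_of_mem_prime d.h.xq.zp h1 c)).le (mem_zpowers e))

theorem symm : Sy S' Q' S Q e z π' π := ⟨d.h', d.h, d.zQ, fun c => d.h.xq.z1 (d.triv (mem_zpowers z) c)⟩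

theorem Z_le : zpowers z ≤ Q ⊓ Q' := zpowers_le.2 ⟨d.h.xq.zQ, d.zQ⟩

theorem eE : e ∈ Q ⊓ Q' := ⟨d.eQ, d.h'.xq.zQ⟩

theorem ab (hx : x ∈ Q ⊓ Q') (hy : y ∈ Q ⊓ Q') : Commute x y :=
  commutatorElement_eq_one_iff_commute.1 (d.triv (d.h.xq.comm_mem hx.1 hy.1) (d.h'.xq.comm_mem hx.2 hy.2))

theorem card : Nat.card ↥(Q ⊓ Q') = 27 := by
  have h1 := d.h.xq.ab_card d.Z_le inf_le_left fun x hx => mem_cen fun y hy => d.ab hy hx
  rw [d.h.card] at h1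
  exact le_antisymm (Nat.mul_self_le_mul_self_iff.1 h1) (d.h.l1 d.h' d.eQ d.eZ).2

theorem cen : Q ⊓ 𝒞(Q ⊓ Q') = Q ⊓ Q' := (eq_of_le_of_card_ge (le_inf inf_le_left fun x hx => mem_cen fun y hy => d.ab hy hx) (by
  have := d.h.xq.cnt _ d.Z_le inf_le_left
  rw [d.card, d.h.card] at this
  rw [d.card]; omega)).symm

theorem ex_s : ∃ s ∈ Q' ⊓ 𝒞{z}, s ∉ Q ∧ Q ⊓ Q' ⊔ zpowers s = Q' ⊓ 𝒞{z} := by
  have c := d.h'.card_H d.zQ d.symm.eZ
  obtain ⟨s, hs, sQ⟩ : ∃ s ∈ Q' ⊓ 𝒞{z}, s ∉ Q ⊓ Q' := SetLike.not_le_iff_exists.1 fun k => by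
    have := card_le_of_le k
    rw [c, d.card] at this; omega
  refine ⟨s, hs, fun k => sQ ⟨k, hs.1⟩, eq_of_le_of_card_ge (sup_le (fun x hx => ⟨hx.2, d.h.le_C hx.1⟩) (zpowers_le.2 hs)) ?_⟩
  rw [c, d.h'.xq.card_sup hs.1 (zpowers_le.2 d.eE) inf_le_right sQ, d.card]

theorem ex_f (hs : s ∈ Q' ⊓ 𝒞{z}) (sQ : s ∉ Q) : ∃ f ∈ Q ⊓ Q', s * f * s⁻¹ = f * e ∧
    zpowers z ⊔ zpowers e ⊔ zpowers f = Q ⊓ Q' := by
  obtain ⟨y, hy, c⟩ : ∃ y ∈ Q ⊓ Q', ¬ Commute y s := by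
    by_contra! k
    exact sQ (d.symm.cen.le ⟨hs.1, mem_cen fun y hy => k y ⟨hy.2, hy.1⟩⟩).2
  obtain ⟨f, hf, k⟩ := ex_conj d.h'.xq hs.1 inf_le_right hy c (inv_mem (mem_zpowers e))
  have k' : s * f * s⁻¹ = f * e := calc
    _ = f * s * f⁻¹ * e * f * s⁻¹ := by rw [k]; group
    _ = _ := by
      rw [mul_assoc _ e, ← (mem_C.1 (d.h'.le_C hf.2)).eq, ← mul_assoc, mul_assoc _ e, ← (mem_C.1 (d.h'.le_C (inv_mem hs.1))).eq]
      group
  have l : zpowers z ⊔ zpowers e ≤ Q ⊓ Q' := sup_le d.Z_le (zpowers_le.2 d.eE)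
  refine ⟨f, hf, k', eq_of_le_of_card_ge (sup_le l (zpowers_le.2 hf)) ?_⟩
  rw [d.card, d.h.xq.card_sup hf.1 le_sup_left (l.trans inf_le_left) fun c => ?_, d.h.card_W d.eQ d.eZ]
  have := comm_of_cen (mem_cen_sup (mem_cen_zpowers (mem_C.1 hs.2).symm)
    (mem_cen_zpowers (mem_C.1 (d.h'.le_C hs.1)).symm)) c
  rw [← this.eq, mul_inv_cancel_right, left_eq_mul] at k'
  exact d.h'.xq.z1 k'

theorem ex_g (hf : f ∈ Q ⊓ Q') : ∃ g, g * z * g⁻¹ = z⁻¹ ∧ g * e * g⁻¹ = e⁻¹ ∧ cm g f ∈ zpowers z ⊔ zpowers e := by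
  have key : ∀ {S Q S' Q' : Subgroup G} {z e : G} {π π'}, Sy S Q S' Q' z e π π' → ∃ q ∈ Q, q * e * q⁻¹ = e * z := fun d => by
    obtain ⟨y, hy, c⟩ : ∃ y ∈ _, ¬ Commute y _ := by_contra fun k => d.eZ (d.h.xq.mem_Z d.eQ (by simpa using k))
    exact ex_conj d.h.xq d.eQ le_rfl hy c (mem_zpowers _)
  obtain ⟨q, hq, h1⟩ := key d
  obtain ⟨q', hq', h2⟩ := key d.symm
  obtain ⟨h3, h4⟩ := inv_of_conj (mem_C.1 (d.h.le_C d.eQ)).eq d.h.xq.zp d.h'.xq.zp (mem_C.1 (d.h.le_C hq)) h1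
    (mem_C.1 (d.h'.le_C hq')) h2
  have n1 : q ∈ 𝒩(zpowers z ⊔ zpowers e) := d.h.xq.norm le_sup_left (sup_le d.h.xq.Z_le (zpowers_le.2 d.eQ)) hq
  have n2 : q' ∈ 𝒩(zpowers z ⊔ zpowers e) := d.h'.xq.norm le_sup_right (sup_le (zpowers_le.2 d.zQ) d.h'.xq.Z_le) hq'
  have k := cm_mem n1 (mem_sup_left (d.h.xq.cmZ hf.1 hq)) (mem_sup_right (d.h'.xq.cmZ hf.2 hq'))
  exact ⟨_, h3, h4, cm_mem (mul_mem n1 n2) k k⟩

variable {V : Type} [AddCommGroup V] [Module F V] {pr : G → V} {w : V →ₗ[F] V →ₗ[F] F} {ρ : G → V →ₗ[F] V}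
  (m : Md Q z pr w ρ)
include m

theorem core : ∃ s ∈ Q' ⊓ 𝒞{z}, s ∉ Q ∧ ∃ n n' : V →ₗ[F] V, (∀ v, ρ s v = v + n v) ∧ (∀ v, n (n v) = 0) ∧
    (∀ u v, w (n u) v = -w u (n v)) ∧ (∀ u v, w (n' u) v = -w u (n' v)) ∧ (∀ v, n' (n' v) = 0) ∧
    (∀ v, n (n' v) + n' (n v) = v) ∧ n (pr e) = 0 ∧ (∃ y ∈ Q ⊓ Q', pr y = n' (pr e)) ∧ 𝒞{z} ≤ 𝒩(Q ⊓ Q') := by
  have h := d.h.xq
  have h3 : ∀ v : V, (3 : F) • v = 0 := fun v => by rw [show (3 : F) = 0 from rfl, zero_smul]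
  obtain ⟨s, hs, sQ, hE⟩ := d.ex_s
  obtain ⟨f, hf, sf, hF⟩ := d.ex_f hs sQ
  obtain ⟨g, gz, ge, gf⟩ := d.ex_g hf
  obtain ⟨k, hk, k1, k2⟩ := d.h.ex_gen hs.2 sQ (d.h'.ex s hs.1)
  have sN := d.h.norm hs.2
  have kN := d.h.norm hk
  have gN := d.h.norm' gz
  have iso : ∀ c ∈ 𝒞{z}, ∀ u v, w (ρ c u) (ρ c v) = w u v := fun c hc u v => by
    simpa using m.w_ρ h (d.h.norm hc) (i := 1) (by rw [(mem_C.1 hc).eq, mul_inv_cancel_right, zpow_one]) u v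
  obtain ⟨n, hn⟩ : ∃ n : V →ₗ[F] V, ∀ v, ρ s v = v + n v := ⟨ρ s - LinearMap.id, fun v => by simp⟩
  have e0 : pr e ≠ 0 := mt (m.ker e d.eQ).1 d.eZ
  have ne : n (pr e) = 0 := by
    rw [← add_eq_left (a := pr e), ← hn, m.act s sN e d.eQ, (mem_C.1 (d.h'.le_C hs.1)).eq, mul_inv_cancel_right]
  have nf : n (pr f) = pr e := by
    rw [← add_right_inj (pr f), ← hn, m.act s sN f hf.1, sf, m.mul f hf.1 e d.eQ]
  have hP : m.pre (Submodule.span F {pr e, pr f}) = Q ⊓ Q' := le_antisymm (fun x hx => by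
    obtain ⟨i, j, hij⟩ := Submodule.mem_span_pair.1 hx.2
    have hy := mul_mem (pow_mem d.eE i.val) (pow_mem hf j.val)
    exact (mul_mem_cancel_left (inv_mem hy)).1 (d.Z_le (m.eq hx.1 hy.1 (by
      rw [m.mul _ (pow_mem d.eQ _) _ (pow_mem hf.1 _), m.val d.eQ, m.val hf.1, hij])))) (hF.ge.trans (sup_le (sup_le
    (m.Z_le h _) (zpowers_le.2 ⟨d.eQ, Submodule.subset_span (by simp)⟩)) (zpowers_le.2 ⟨hf.1, Submodule.subset_span (by simp)⟩)))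
  have perp : ∀ v, w v (pr e) = 0 → w v (pr f) = 0 → ∃ i j : F, v = i • pr e + j • pr f := fun v h1 h2 => by
    obtain ⟨x, hx, rfl⟩ := m.surj v
    have : x ∈ 𝒞(zpowers z ⊔ zpowers e ⊔ zpowers f) := mem_cen_sup (mem_cen_sup (mem_cen_zpowers (h.zc x (h.le hx)))
      (mem_cen_zpowers ((m.comm h hx d.eQ).1 h1).symm)) (mem_cen_zpowers ((m.comm h hx hf.1).1 h2).symm)
    obtain ⟨i, j, hij⟩ := Submodule.mem_span_pair.1 (hP.ge (d.cen.le ⟨hx, hF ▸ this⟩)).2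
    exact ⟨i, j, hij.symm⟩
  have i1 : ∀ u v, w (u + n u) (v + n v) = w u v := fun u v => by rw [← hn, ← hn, iso s hs.2]
  have n2 := lin_sq (m.alt h) (m.nd h) i1 (fun v => by
    have : ρ s (ρ s (ρ s v)) = v := by
      rw [← m.ρ_mul sN sN, ← m.ρ_mul (mul_mem sN sN) sN, ← pow_three', d.h'.ex s hs.1, m.ρ_Q (one_mem Q)]
    simp only [hn, map_add] at this
    linear_combination (norm := module) this - h3 (n v) - h3 (n (n v))) ne nf e0 perp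
  have hn1 : ∀ v, ρ s⁻¹ v = v - n v := fun v => by
    rw [← m.ρ_inv sN (v - n v), hn (v - n v), map_sub n, n2, sub_zero, sub_add_cancel]
  have s'C : k * s⁻¹ * k⁻¹ ∈ 𝒞{z} := mul_mem (mul_mem hk (inv_mem hs.2)) (inv_mem hk)
  obtain ⟨n', hn', n2'⟩ : ∃ n' : V →ₗ[F] V, (∀ v, ρ (k * s⁻¹ * k⁻¹) v = v + n' v) ∧ ∀ v, n' (n' v) = 0 :=
    ⟨-(ρ k ∘ₗ n ∘ₗ ρ k⁻¹), fun v => by
      rw [m.ρ_mul (mul_mem kN (inv_mem sN)) (inv_mem kN), m.ρ_mul kN (inv_mem sN), hn1, map_sub, m.ρ_inv' kN,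
        sub_eq_add_neg]; rfl, fun v => by simp [m.ρ_inv kN, n2]⟩
  generalize k * s⁻¹ * k⁻¹ = s' at *
  have s'N := d.h.norm s'C
  have sk' := lin_skew (w := w) (fun u v => by rw [← hn', ← hn', iso s' s'C]) n2'
  have ac : ∀ v, n (n' v) + n' (n v) = v := fun v => by
    have h1 : ∀ v, ρ s (ρ s' (ρ s (ρ s' v))) = -v := fun v => by
      obtain ⟨x, hx, rfl⟩ := m.surj v
      have tN := pow_mem (mul_mem sN s'N) 2
      rw [← m.ρ_mul sN s'N, ← m.ρ_mul sN s'N, ← m.ρ_mul (mul_mem sN s'N) (mul_mem sN s'N), ← pow_two, m.act _ tN x hx,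
        eq_neg_iff_add_eq_zero, ← m.mul _ (conj_mem_of_mem_normalizer tN hx) x hx]
      exact (m.ker _ (h.Z_le (k1 x hx))).2 (k1 x hx)
    have := h1 (v - n v - n' (v - n v))
    simp only [hn, hn', map_add, map_sub, n2, n2', map_zero] at this
    linear_combination (norm := module) this - h3 v
  have inv : ∀ a b : V, n a ∈ Submodule.span F {a, b} → n b ∈ Submodule.span F {a, b} → n' a ∈ Submodule.span F {a, b} →
      n' b ∈ Submodule.span F {a, b} → 𝒞{z} ≤ 𝒩(m.pre (Submodule.span F {a, b})) := fun a b h1 h2 h3 h4 => by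
    refine k2 _ (h.norm (m.Z_le h _) fun x hx => hx.1) (m.mem_n sN fun v hv => ?_) (m.mem_n s'N fun v hv => ?_) <;>
    obtain ⟨i, j, rfl⟩ := Submodule.mem_span_pair.1 hv
    · rw [hn, map_add, map_smul, map_smul]
      exact add_mem hv (add_mem (Submodule.smul_mem _ _ h1) (Submodule.smul_mem _ _ h2))
    · rw [hn', map_add, map_smul, map_smul]
      exact add_mem hv (add_mem (Submodule.smul_mem _ _ h3) (Submodule.smul_mem _ _ h4))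
  have l1 : ∀ a b : V, a ∈ Submodule.span F {a, b} := fun a b => Submodule.subset_span (by simp)
  have l2 : ∀ a b : V, b ∈ Submodule.span F {a, b} := fun a b => Submodule.subset_span (by simp)
  have nh : n (n' (pr e)) = pr e := by simpa [ne] using ac (pr e)
  have ge' : ρ g (pr e) = -pr e := by rw [m.act g gN e d.eQ, ge, m.inv d.eQ]
  obtain ⟨c, hc⟩ := Submodule.mem_span_singleton.1 ((sup_le (m.Z_le h _) (zpowers_le.2 ⟨d.eQ,
    Submodule.mem_span_singleton_self _⟩) : _ ≤ m.pre (Submodule.span F {pr e})) gf).2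
  obtain ⟨δ, γ, hγ⟩ : ∃ δ γ : F, δ • pr e + γ • n' (pr e) = ρ g (n' (pr e)) := Submodule.mem_span_pair.1 (by
    have c1 := conj_C gz s'C
    have c2 := m.ρ_mem (d.h.norm c1) (inv _ _ (ne ▸ zero_mem _) (nh.symm ▸ l1 _ _) (l2 _ _) (n2' _ ▸ zero_mem _) c1)
      (neg_mem (l1 (pr e) (n' (pr e))))
    rw [← ge', ← m.ρ_mul (d.h.norm c1) gN, inv_mul_cancel_right, m.ρ_mul gN s'N, hn', map_add, ge'] at c2
    exact (add_mem_cancel_left (neg_mem (l1 _ _))).1 c2)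
  obtain ⟨i, hi⟩ := lin_main (c := c) (m.alt h) (lin_skew i1 n2) ac ne nf e0 ((m.comm h d.eQ hf.1).2 (d.ab d.eE hf)) perp
    (fun u v => by simpa using m.w_ρ h gN (i := -1) (by rw [gz, zpow_neg_one]) u v) (by
      rw [m.act g gN f hf.1, conj_eq_cm, m.mul f hf.1 (cm g f) (mul_mem (inv_mem hf.1) (conj_mem_of_mem_normalizer gN hf.1)),
        hc]) hγ.symm fun a ha => by
    have c1 : g⁻¹ * s * g⁻¹⁻¹ ∈ m.fix a := (sup_le (fun x hx => ⟨le_normalizer hx.1, m.ρ_Q hx.1 a⟩)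
      (zpowers_le.2 ⟨sN, by rw [hn, ha, add_zero]⟩) : Q ⊓ Q' ⊔ zpowers s ≤ m.fix a) (hE.ge ⟨conj_mem_of_mem_normalizer
        (inv_mem (d.h'.norm' ge)) hs.1, conj_C (conj_inv_inv gz) hs.2⟩)
    have c2 := congrArg (ρ g) c1.2
    rwa [inv_inv, m.ρ_mul (mul_mem (inv_mem gN) sN) gN, m.ρ_mul (inv_mem gN) sN, m.ρ_inv' gN, hn, add_eq_left] at c2
  have c3 : n' (pr e) ∈ Submodule.span F {pr e, pr f} := hi ▸ add_mem (Submodule.smul_mem _ _ (l1 _ _)) (l2 _ _)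
  refine ⟨s, hs, sQ, n, n', hn, n2, lin_skew i1 n2, sk', n2', ac, ne, ?_, hP ▸ inv _ _ (ne ▸ zero_mem _)
    (nf.symm ▸ l1 _ _) c3 ?_⟩
  · obtain ⟨y, hy, k⟩ := m.surj (n' (pr e))
    exact ⟨y, hP.le ⟨hy, k ▸ c3⟩, k⟩
  · rw [show n' (pr f) = -i • n' (pr e) by
      rw [neg_smul, eq_neg_iff_add_eq_zero, add_comm, ← map_smul, ← map_add, ← hi, n2']]
    exact Submodule.smul_mem _ _ c3

theorem ex_T : ∃ T ≤ 𝒞{z}, Nat.card T = 27 ∧ T ⊓ (Q ⊓ Q') = ⊥ := by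
  have h := d.h.xq
  obtain ⟨s, hs, sQ, n, n', hn, n2, sk, sk', n2', ac, ne, ⟨y, hy, ey⟩, -⟩ := d.core m
  obtain ⟨a, na, aa, ea⟩ := lin_T (m.alt h) (m.nd h) sk sk' n2 ac ne (mt (m.ker e d.eQ).1 d.eZ)
    (ey ▸ (m.comm h d.eQ hy.1).2 (d.ab d.eE hy))
  have a1 : n (n' a) = a := by simpa [na] using ac a
  have ya : w (pr y) a ≠ 0 := by rwa [ey, sk', neg_ne_zero]
  have ea' : w (pr e) a = 0 := by rw [← a1, ← neg_eq_zero, ← sk, ne, map_zero, LinearMap.zero_apply]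
  obtain ⟨q, hq, eq⟩ := m.surj (n' a)
  obtain ⟨P, hP, rfl⟩ := m.surj a
  have sN := d.h.norm hs.2
  obtain ⟨q0, hq0, k0⟩ := ex_conj h hP inf_le_left hy (mt (m.comm h hy.1 hP).2 ya) (inv_mem (m.eq
    (conj_mem_of_mem_normalizer sN hP) hP (by rw [← m.act s sN P hP, hn, na, add_zero])))
  have zc : ∀ c ∈ 𝒞{z}, ∀ u ∈ zpowers z, Commute u c := fun c hc u hu => comm_of_cen (mem_cen_zpowers (mem_C.1 hc).symm) hu
  have tC : s * q0 ∈ 𝒞{z} := mul_mem hs.2 (d.h.le_C hq0.1)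
  have tP : Commute (s * q0) P := by
    have := zc s hs.2 _ (inv_mem (m.eq (conj_mem_of_mem_normalizer sN hP) hP (by rw [← m.act s sN P hP, hn, na, add_zero])))
    generalize hu : (P⁻¹ * (s * P * s⁻¹))⁻¹ = u at this k0
    refine mul_inv_eq_iff_eq_mul.1 (calc
      _ = s * (q0 * P * q0⁻¹) * s⁻¹ := by group
      _ = s * P * s⁻¹ * u := by rw [k0, ← mul_assoc, mul_assoc _ u, this.inv_right.eq, mul_assoc (s * P)]
      _ = P * u⁻¹ * u := by rw [← hu]; group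
      _ = P := by group)
  have t3 := d.h'.ex _ (mul_mem hs.1 hq0.2)
  have tQ : s * q0 ∉ Q := fun k => sQ ((mul_mem_cancel_right (show q0 ∈ Q from hq0.1)).1 k)
  have hn' : ρ (s * q0) (pr q) = pr q + pr P := by rw [m.ρ_mul sN (le_normalizer hq0.1), m.ρ_Q hq0.1, hn, eq, a1]
  generalize s * q0 = t at *
  have tN := d.h.norm tC
  have hp : cm t q ∈ Q := mul_mem (inv_mem hq) (conj_mem_of_mem_normalizer tN hq)
  have ep : pr (cm t q) = pr P := by rwa [m.act t tN q hq, conj_eq_cm, m.mul q hq _ hp, add_right_inj] at hn'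
  have tp : Commute t (cm t q) := by
    rw [← mul_inv_cancel_left P (cm t q)]
    exact tP.mul_right (zc t tC _ (m.eq hp hP ep)).symm
  have tq := conj_eq_cm t q
  generalize cm t q = p at *
  have pq : Commute p q := (m.comm h hp hq).1 (by rw [ep, eq, aa])
  have key : ∀ i j : ℤ, p ^ i * q ^ j ∈ Q' → p ^ i * q ^ j = 1 := fun i j k => by
    have k1 := mul_mem (zpow_mem hp i) (zpow_mem hq j)
    have k2 := (m.comm h d.eQ k1).2 (d.ab d.eE ⟨k1, k⟩)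
    have k3 := (m.comm h hy.1 k1).2 (d.ab hy ⟨k1, k⟩)
    rw [m.mul _ (zpow_mem hp i) _ (zpow_mem hq j), m.zpow hp, m.zpow hq, ep, eq, map_add, map_smul, map_smul] at k2 k3
    rw [ea', smul_zero, zero_add, smul_eq_mul, mul_eq_zero_iff_right ea] at k2
    rw [k2, zero_smul, add_zero, smul_eq_mul, mul_eq_zero_iff_right ya] at k3
    obtain ⟨i, rfl⟩ := (ZMod.intCast_zmod_eq_zero_iff_dvd i 3).1 k3
    obtain ⟨j, rfl⟩ := (ZMod.intCast_zmod_eq_zero_iff_dvd j 3).1 k2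
    rw [zpow_mul, zpow_mul, zpow_natCast, zpow_natCast, d.h.ex p hp, d.h.ex q hq, one_zpow, one_zpow, one_mul]
  have p1 : p ≠ 1 := fun k => ya (by rw [← ep, k, m.one, map_zero])
  have qp : q ∉ zpowers p := by
    rintro ⟨i, rfl⟩
    exact ea (by rw [← eq, m.zpow hp, ep, map_smul, ea', smul_zero])
  have qN : q ∈ 𝒩(zpowers p) := centralizer_le_normalizer _ (mem_cen_zpowers pq)
  have c1 := card_sup_zpowers_of_normalizer (p := 3) qN qp (d.h.ex q hq ▸ one_mem _)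
  rw [card_zpowers_of_pow_eq_one (d.h.ex p hp) p1] at c1
  have l : zpowers p ⊔ zpowers q ≤ Q := sup_le (zpowers_le.2 hp) (zpowers_le.2 hq)
  have tN' : t ∈ 𝒩(zpowers p ⊔ zpowers q) := mem_normalizer_of_finite fun x hx =>
    (sup_le (zpowers_le.2 (show t * p * t⁻¹ ∈ zpowers p ⊔ zpowers q from by
      rw [tp.eq, mul_inv_cancel_right]; exact mem_sup_left (mem_zpowers p))) (zpowers_le.2
        (show t * q * t⁻¹ ∈ zpowers p ⊔ zpowers q from tq ▸ mul_mem (mem_sup_right (mem_zpowers q))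
          (mem_sup_left (mem_zpowers p)))) : zpowers p ⊔ zpowers q ≤ (zpowers p ⊔ zpowers q).comap (cjh t)) hx
  have c2 := card_sup_zpowers_of_normalizer (p := 3) tN' (fun k => tQ (l k)) (t3 ▸ one_mem _)
  refine ⟨_, sup_le (l.trans d.h.le_C) (zpowers_le.2 tC), by rw [c2, c1], eq_bot_iff.2 fun x hx => ?_⟩
  have c3 : (zpowers p ⊔ zpowers q ⊔ zpowers t) ⊓ Q = zpowers p ⊔ zpowers q :=
    (CL.Grp.eq_or_eq_of_relIndex_prime (le_inf le_sup_left l) inf_le_left (by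
      have := CL.Grp.card_eq_relIndex_mul_card (le_sup_left : zpowers p ⊔ zpowers q ≤ _ ⊔ zpowers t)
      rw [c2, c1] at this
      rw [show relIndex _ _ = 3 by omega]; exact Nat.prime_three)).resolve_right fun k =>
        tQ (k.ge (mem_sup_right (mem_zpowers t))).2
  obtain ⟨_, ⟨i, rfl⟩, _, ⟨j, rfl⟩, rfl⟩ := (mem_sup_of_le_normalizer' (zpowers_le.2 qN)).1 (c3.le ⟨hx.1, hx.2.1⟩)
  exact key i j hx.2.2

end Sy

theorem t0b : T0b.{v} := by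
  intro G _ _ S Q z π h g h1 h2
  obtain ⟨π', h'⟩ := h.map (MulAut.conj g)
  have d : Sy S Q _ _ z (g * z * g⁻¹) π π' := ⟨h, h', h1, h2⟩
  generalize Q.map (MulAut.conj g : G →* G) = Q' at *
  obtain ⟨_, pr, w, ρ, m⟩ := ex_md h.xq
  obtain ⟨_, pr', w', ρ', m'⟩ := ex_md h'.xq
  obtain ⟨T, t1, t2, t3⟩ := d.ex_T m
  obtain ⟨_, -, -, _, _, -, -, -, -, -, -, -, -, n1⟩ := d.core m
  obtain ⟨_, -, -, _, _, -, -, -, -, -, -, -, -, n2⟩ := d.symm.core m'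
  obtain ⟨y, hy, c⟩ : ∃ y ∈ Q', ¬ Commute y z := by_contra fun k => d.symm.eZ (h'.xq.mem_Z d.zQ (by simpa using k))
  obtain ⟨q, hq, k⟩ := ex_conj h'.xq d.zQ le_rfl hy c (mem_zpowers _)
  exact ⟨Q ⊓ Q', T, inf_le_left, d.Z_le (mem_zpowers z), d.eE, d.card, fun x hx y hy => d.ab hx hy, n1, inf_comm Q' Q ▸ n2,
    ⟨q, h'.le_C hq, fun k' => h2 ((mul_mem_cancel_left (mem_zpowers z)).1 (k ▸ k'))⟩, t1, t2, t3⟩

end CL.L3L
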