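/-
The 3-local recognition of `PSL₄(3)`: the normaliser of `E` is the affine group `3³ : SL₃(3)`.
-/
import Cfsg.Agent.Rec.L3Par
import Cfsg.Agent.S0051

set_option autoImplicit false
set_option maxRecDepth 100000

open Subgroup Cfsg Matrix

namespace CL.L3L

universe v

namespace T0cAux

variable {G : Type v} [Group G] [Finite G]

theorem sl2_cases : ∀ x : SL2, x = 1 ∨ x = -1 ∨ x * x = -1 ∨
    ∃ y : SL2, x * (y * x⁻¹ * y⁻¹) * (x * (y * x⁻¹ * y⁻¹)) = -1 := by decide +kernel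

theorem neg_one_mem {N : Subgroup SL2} [hN : N.Normal] {x : SL2} (hx : x ∈ N) (h1 : x ≠ 1) : -1 ∈ N := by
  rcases sl2_cases x with h | h | h | ⟨y, h⟩
  · exact absurd h h1
  · exact h ▸ hx
  · exact h ▸ mul_mem hx hx
  · have := mul_mem hx (hN.conj_mem _ (inv_mem hx) y)
    exact h ▸ mul_mem this this

theorem top_of_index {R : Subgroup SL3} (h : R.index ≤ 4) : R = ⊤ := by
  rcases CL.SLn.normal_le_center_or_eq_top (Or.inl (by simp)) R.normalCore with h1 | h1
  · have h2 : center SL3 = ⊥ := by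
      rw [← card_eq_one, CL.SLn.card_center_SL, ZMod.card]; decide
    have h3 : R.normalCore.index ∣ R.index.factorial := by
      rw [normalCore_eq_ker, index_ker, index_eq_card, ← Nat.card_perm]
      exact card_subgroup_dvd_card (MulAction.toPermHom SL3 (SL3 ⧸ R)).range
    rw [h2, le_bot_iff] at h1
    rw [h1, index_bot, card_SL3] at h3
    have := Nat.le_of_dvd (by norm_num) (h3.trans (Nat.factorial_dvd_factorial h))
    norm_num [Nat.factorial] at this
  · exact top_le_iff.1 (h1 ▸ R.normalCore_le)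

omit [Finite G] in
theorem card_conj (d : G) : Nat.card (conjugatesOf d) = (centralizer {d}).index := by
  have h := MulAction.index_stabilizer (ConjAct G) d
  rw [ConjAct.stabilizer_eq_centralizer, ConjAct.orbit_eq_carrier_conjClasses] at h
  have e : (ConjClasses.mk d).carrier = conjugatesOf d := by
    ext x; rw [ConjClasses.mem_carrier_iff_mk_eq, ConjClasses.mk_eq_mk_iff_isConj, isConj_comm]; rfl
  rw [e] at h
  exact h.symm

/-- coordinates on `E` -/
structure Co (E : Subgroup G) (z : G) (ι : (Fin 3 → F) → G) : Prop where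
  inj : Function.Injective ι
  add : ∀ v w, ι (v + w) = ι v * ι w
  mem : ∀ x, x ∈ E ↔ ∃ v, ι v = x
  z : ι ![1, 0, 0] = z

theorem exists_co {E : Subgroup G} (hc : Nat.card E = 27) (comm : ∀ x ∈ E, ∀ y ∈ E, Commute x y)
    (ex : ∀ x ∈ E, x ^ 3 = 1) {z : G} (zE : z ∈ E) (z1 : z ≠ 1) : ∃ ι, Co E z ι := by
  letI : CommGroup E := { (inferInstance : Group E) with mul_comm := fun x y => Subtype.ext (comm x x.2 y y.2) }
  letI : Module (ZMod 3) (Additive E) := AddCommGroup.zmodModule fun x =>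
    Additive.toMul.injective (Subtype.ext (ex _ (Additive.toMul x).2))
  have hr : Module.finrank (ZMod 3) (Additive E) = 3 := by
    have h := Module.natCard_eq_pow_finrank (K := ZMod 3) (V := Additive E)
    rw [Nat.card_zmod, Nat.card_congr Additive.toMul, hc] at h
    exact (Nat.pow_right_injective (a := 3) (by norm_num) (show 3 ^ 3 = _ from h)).symm
  let e := (Module.finBasisOfFinrankEq (ZMod 3) (Additive E) hr).equivFun
  have hv : e (Additive.ofMul ⟨z, zE⟩) ≠ 0 := fun h =>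
    z1 (congrArg (fun x : Additive E => (Additive.toMul x).1) (e.map_eq_zero_iff.1 h))
  obtain ⟨B, hB⟩ := exists_row hv
  have k : ∀ (B B' : SL3) (w : Fin 3 → F), w ᵥ* B.1 ᵥ* B'.1 = w ᵥ* (B * B').1 := fun B B' w => vecMul_vecMul _ _ _
  have k1 : ∀ w : Fin 3 → F, w ᵥ* (1 : SL3).1 = w := vecMul_one
  refine ⟨fun w => (Additive.toMul (e.symm (w ᵥ* B.1))).1, fun v w h => ?_, fun v w => ?_, fun x => ⟨fun h => ?_, ?_⟩, ?_⟩
  · have h1 := congrArg (· ᵥ* B⁻¹.1) (e.symm.injective (Additive.toMul.injective (Subtype.ext h)))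
    simpa only [k, mul_inv_cancel, k1] using h1
  · simp only [add_vecMul, map_add]; rfl
  · exact ⟨e (Additive.ofMul ⟨x, h⟩) ᵥ* B⁻¹.1, by simp only [k, inv_mul_cancel, k1, e.symm_apply_apply]; rfl⟩
  · rintro ⟨v, rfl⟩; exact Subtype.prop _
  · have : ![1, 0, 0] ᵥ* B.1 = e (Additive.ofMul ⟨z, zE⟩) := funext fun j => by
      rw [← hB]; simp [vecMul, dotProduct, Fin.sum_univ_three]
    simp only [this, e.symm_apply_apply]; rfl

namespace Co

variable {E : Subgroup G} {z : G} {ι : (Fin 3 → F) → G} (h : Co E z ι)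
include h

omit [Finite G]

theorem zero : ι 0 = 1 := by simpa using h.add 0 0

theorem mem' (v : Fin 3 → F) : ι v ∈ E := (h.mem _).2 ⟨v, rfl⟩

theorem line (t : F) : ι ![t, 0, 0] ∈ zpowers z := by
  have k : ∀ t : F, ![t, 0, 0] = 0 ∨ ![t, 0, 0] = ![1, 0, 0] ∨ ![t, 0, 0] = ![1, 0, 0] + ![1, 0, 0] := by decide
  rcases k t with e | e | e <;> rw [e]
  · exact h.zero ▸ one_mem _
  · exact h.z ▸ mem_zpowers _
  · rw [h.add, h.z]; exact mul_mem (mem_zpowers _) (mem_zpowers _)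

theorem mat (g : normalizer (E : Set G)) :
    ∃ B : Matrix (Fin 3) (Fin 3) F, ∀ v, g * ι v * (g : G)⁻¹ = ι (B *ᵥ v) := by
  choose f hf using fun v => (h.mem _).1 ((mem_normalizer_iff.1 g.2 _).1 (h.mem' v))
  let f' : (Fin 3 → F) →+ (Fin 3 → F) := AddMonoidHom.mk' f fun v w => h.inj (by
    rw [h.add, hf, hf, hf, h.add]; group)
  refine ⟨LinearMap.toMatrix' (f'.toZModLinearMap 3), fun v => ?_⟩
  rw [LinearMap.toMatrix'_mulVec, ← hf]; rfl

theorem rho : ∃ ρ : normalizer (E : Set G) →* GL (Fin 3) F,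
    ∀ (g : normalizer (E : Set G)) v, g * ι v * (g : G)⁻¹ = ι ((ρ g).1 *ᵥ v) := by
  choose f hf using h.mat
  let ρ : normalizer (E : Set G) →* Matrix (Fin 3) (Fin 3) F :=
    ⟨⟨f, ext_iff_mulVec.2 fun v => h.inj (by rw [← hf, one_mulVec]; simp)⟩, fun g g' =>
      ext_iff_mulVec.2 fun v => h.inj (by rw [← mulVec_mulVec, ← hf, ← hf, ← hf, coe_mul]; group)⟩
  exact ⟨ρ.toHomUnits, hf⟩

end Co

variable {S Q E T : Subgroup G} {z e : G} {π : centralizer ({z} : Set G) →* SL2} (b : Bs S Q z π) (n : En Q E T z e)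
include b

theorem Q_le {x : G} (hx : x ∈ Q) : x ∈ centralizer ({z} : Set G) :=
  mem_centralizer_singleton_iff.2 (b.xq.zc x (b.xq.le hx)).symm

theorem mem_Z_of_sq {x : G} (hx : x ∈ Q) (h : x * x ∈ zpowers z) : x ∈ zpowers z := by
  have h1 : x = x * x * (x * x) := by
    calc x = x * x ^ 3 := by rw [b.ex x hx, mul_one]
      _ = _ := by simp only [pow_succ, pow_zero, one_mul, mul_assoc]
  exact h1 ▸ mul_mem h h

theorem card_C : Nat.card (centralizer ({z} : Set G)) = 5832 := by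
  have h := π.ker.card_mul_index
  have h1 : π.ker = Q.subgroupOf _ := Subgroup.ext fun c => b.ker c
  rw [index_ker, MonoidHom.range_eq_top.2 b.surj, card_top, CL.SLn.card_SL_two, ZMod.card, h1,
    Nat.card_congr (subgroupOfEquivOfLe fun _ => Q_le b).toEquiv, b.card] at h
  exact h.symm

include n

theorem stab (c : centralizer ({z} : Set G)) (hc : ∀ x ∈ E, c * x * (c : G)⁻¹ * x⁻¹ ∈ zpowers z) : (c : G) ∈ Q := by
  have cE : ∀ (g : centralizer ({z} : Set G)) {x}, x ∈ E → g * x * (g : G)⁻¹ ∈ E := fun g x hx =>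
    (mem_normalizer_iff.1 (n.nz g.2) x).1 hx
  have cZ : ∀ (g : centralizer ({z} : Set G)) {x}, x ∈ zpowers z → g * x * (g : G)⁻¹ ∈ zpowers z := by
    rintro g _ ⟨k, rfl⟩
    have : Commute (g : G) z := mem_centralizer_singleton_iff.1 g.2
    simp only [(this.zpow_right k).eq, mul_inv_cancel_right]
    exact ⟨k, rfl⟩
  let N : Subgroup (centralizer ({z} : Set G)) :=
    { carrier := {c | ∀ x ∈ E, c * x * (c : G)⁻¹ * x⁻¹ ∈ zpowers z}
      one_mem' := fun x _ => by simp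
      mul_mem' := fun {c d} hc hd x hx => by
        have := mul_mem (cZ c (hd x hx)) (hc x hx)
        convert this using 1
        rw [coe_mul]; group
      inv_mem' := fun {c} hc x hx => by
        have := inv_mem (hc _ (cE c⁻¹ hx))
        convert this using 1
        rw [coe_inv]; group }
  haveI : N.Normal := ⟨fun c hc g x hx => by
    have := cZ g (hc _ (cE g⁻¹ hx))
    convert this using 1
    simp only [coe_mul, coe_inv]; group⟩
  haveI : (N.map π).Normal := Normal.map inferInstance _ b.surj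
  refine (b.ker c).1 (by_contra fun h => ?_)
  obtain ⟨d, hd, hd1⟩ := neg_one_mem (N := N.map π) ⟨c, hc, rfl⟩ h
  have h1 : E ≤ zpowers z := fun x hx => mem_Z_of_sq b (n.le hx) (by
    have := mul_mem (inv_mem (hd x hx)) (b.inv d hd1 x (n.le hx))
    convert this using 1
    group)
  have := card_le_of_le h1
  rw [n.card, b.xq.card_Z] at this
  omega

theorem cent_E {k : G} (hk : ∀ x ∈ E, k * x * k⁻¹ = x) : k ∈ E := by
  have k1 : ∀ x ∈ E, x * k = k * x := fun x hx => (mul_inv_eq_iff_eq_mul.1 (hk x hx)).symm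
  have h1 : k ∈ Q := stab b n ⟨k, mem_centralizer_singleton_iff.2 (k1 z n.zE).symm⟩ fun x hx => by
    simp only [hk x hx, mul_inv_cancel]; exact one_mem _
  have h2 := b.xq.cnt E (zpowers_le.2 n.zE) n.le
  rw [n.card, b.card] at h2
  have h3 : E = Q ⊓ centralizer (E : Set G) :=
    eq_of_le_of_card_ge (fun x hx => ⟨n.le hx, fun y hy => n.comm y hy x hx⟩) (by rw [n.card]; omega)
  exact h3 ▸ ⟨h1, k1⟩

theorem five : 5 ≤ Nat.card (conjugatesOf (⟨z, n.nz (Q_le b b.xq.zQ)⟩ : normalizer (E : Set G))) := by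
  classical
  obtain ⟨q, hq, nq⟩ := n.mv
  have cE : ∀ {g x}, g ∈ normalizer (E : Set G) → x ∈ E → g * x * g⁻¹ ∈ E := fun hg hx =>
    (mem_normalizer_iff.1 hg _).1 hx
  have h1 := cE (n.ne hq) n.zE
  have k : ∀ g ∈ normalizer (E : Set G), ∃ y ∈ conjugatesOf (⟨z, n.nz (Q_le b b.xq.zQ)⟩ : normalizer (E : Set G)),
      y.1 = g * z * g⁻¹ := fun g hg => ⟨_, isConj_iff.2 ⟨⟨g, hg⟩, rfl⟩, rfl⟩
  have k' : ∀ g ∈ centralizer ({z} : Set G), ∃ y ∈ conjugatesOf (⟨z, n.nz (Q_le b b.xq.zQ)⟩ : normalizer (E : Set G)),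
      y.1 = g * (q * z * q⁻¹) * g⁻¹ := fun g hg => by
    obtain ⟨y, hy, e1⟩ := k (g * q) (mul_mem (n.nz hg) (n.ne hq))
    exact ⟨y, hy, by rw [e1]; group⟩
  generalize q * z * q⁻¹ = a at *
  obtain ⟨x, hx, nx⟩ : ∃ x ∈ Q, ¬ Commute x a := by
    by_contra! h2
    exact nq (b.xq.mem_Z (n.le h1) h2)
  obtain ⟨u, hu, e1⟩ : ∃ u ∈ zpowers z, x * a * x⁻¹ = a * u := ⟨_, ⟨_, rfl⟩, b.xq.conj_eq (n.le h1) hx⟩
  have u1 : u ≠ 1 := fun e2 => nx (mul_inv_eq_iff_eq_mul.1 (by rw [e1, e2, mul_one]))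
  have u2 : u * u ≠ 1 := fun e2 => u1 (by rw [← b.xq.powZ hu, pow_succ, pow_two, e2, one_mul])
  have e2 : x * x * a * (x * x)⁻¹ = a * (u * u) := by
    calc _ = x * (x * a * x⁻¹) * x⁻¹ := by group
      _ = x * (a * u) * x⁻¹ := by rw [e1]
      _ = x * a * x⁻¹ * u := by
        rw [← mul_assoc, mul_assoc _ u, (b.xq.commZ hu (b.xq.le (inv_mem hx))).eq, ← mul_assoc]
      _ = _ := by rw [e1, mul_assoc]
  obtain ⟨c, hc⟩ := b.surj (-1)
  have h3 := b.inv c hc a (n.le h1)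
  obtain ⟨y0, m0, f0⟩ := k 1 (one_mem _)
  obtain ⟨y1, m1, f1⟩ := k' 1 (one_mem _)
  obtain ⟨y2, m2, f2⟩ := k' x (Q_le b hx)
  obtain ⟨y3, m3, f3⟩ := k' (x * x) (Q_le b (mul_mem hx hx))
  obtain ⟨y4, m4, f4⟩ := k' c c.2
  rw [e1] at f2
  rw [e2] at f3
  rw [← f4] at h3
  rw [one_mul, inv_one, mul_one] at f0
  rw [one_mul, inv_one, ← mul_one a, mul_assoc, mul_one] at f1
  have p1 : ∀ {y : normalizer (E : Set G)} {w}, w ∈ zpowers z → y.1 = a * w → y0 ≠ y ∧ y ≠ y4 := fun {y w} hw hy => by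
    refine ⟨fun e3 => nq ((mul_mem_cancel_right hw).1 (hy ▸ e3 ▸ f0 ▸ mem_zpowers z)), fun e3 => nq ?_⟩
    rw [← e3, hy, mul_assoc, (b.xq.commZ hw (b.xq.le (n.le h1))).eq, ← mul_assoc, mul_mem_cancel_right hw] at h3
    exact mem_Z_of_sq b (n.le h1) h3
  have p2 : ∀ {y y' : normalizer (E : Set G)} {w w'}, y.1 = a * w → y'.1 = a * w' → w ≠ w' → y ≠ y' :=
    fun hy hy' h4 e3 => h4 (mul_left_cancel (hy.symm.trans (e3 ▸ hy')))
  have p3 : y0 ≠ y4 := fun e3 => nq ((mul_mem_cancel_left (mem_zpowers z)).1 (by rwa [← e3, f0] at h3))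
  have q1 := p1 (one_mem _) f1
  have q2 := p1 hu f2
  have q3 := p1 (mul_mem hu hu) f3
  have h5 := Set.ncard_le_ncard (s := ([y0, y1, y2, y3, y4].toFinset : Set (normalizer (E : Set G))))
    (t := conjugatesOf ⟨z, n.nz (Q_le b b.xq.zQ)⟩) (fun y hy => by
      simp only [List.coe_toFinset, List.mem_cons, List.not_mem_nil, or_false, Set.mem_setOf_eq] at hy
      rcases hy with rfl | rfl | rfl | rfl | rfl <;> assumption) (Set.toFinite _)
  rwa [Set.ncard_coe_finset, List.toFinset_card_of_nodup (by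
    simp [q1.1, q1.2, q2.1, q2.2, q3.1, q3.2, p3, p2 f1 f2 u1.symm, p2 f1 f3 u2.symm,
      p2 f2 f3 (by simpa using u1)])] at h5

theorem card_P : ∃ k, 5 ≤ k ∧ k ≤ 26 ∧ Nat.card (normalizer (E : Set G)) = 5832 * k := by
  refine ⟨_, five b n, ?_, ?_⟩
  · have h1 : Nat.card (conjugatesOf (⟨z, n.nz (Q_le b b.xq.zQ)⟩ : normalizer (E : Set G))) ≤
        Nat.card ↥((E : Set G) \ {1}) :=
      Nat.card_le_card_of_injective (fun y => ⟨y.1.1, by
        obtain ⟨g, hg⟩ := isConj_iff.1 y.2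
        rw [← hg]
        exact ⟨(mem_normalizer_iff.1 g.2 z).1 n.zE, fun e1 => b.xq.z1 (by simpa using e1)⟩⟩)
        fun y y' h => Subtype.ext (Subtype.ext (congrArg (fun t : ↥((E : Set G) \ {1}) => t.1) h))
    rwa [Nat.card_coe_set_eq ((E : Set G) \ {1}), Set.ncard_diff_singleton_of_mem E.one_mem, ← Nat.card_coe_set_eq,
      SetLike.coe_sort_coe, n.card] at h1
  · have h1 : centralizer {(⟨z, n.nz (Q_le b b.xq.zQ)⟩ : normalizer (E : Set G))} =
        (centralizer {z}).subgroupOf _ := Subgroup.ext fun g => by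
      rw [mem_subgroupOf, mem_centralizer_singleton_iff, mem_centralizer_singleton_iff, Subtype.ext_iff]; rfl
    rw [card_conj, ← card_C b, ← Nat.card_congr (subgroupOfEquivOfLe n.nz).toEquiv, h1, card_mul_index]

variable {ι : (Fin 3 → F) → G} (h : Co E z ι)
include h

theorem rho' : ∃ ρ : normalizer (E : Set G) →* SL3, Function.Surjective ρ ∧ (∀ g, ρ g = 1 ↔ (g : G) ∈ E) ∧
    ∀ (g : normalizer (E : Set G)) v, g * ι v * (g : G)⁻¹ = ι ((ρ g).1 *ᵥ v) := by
  obtain ⟨ρ, hρ⟩ := h.rho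
  have hk : ∀ g, ρ g = 1 ↔ (g : G) ∈ E := fun g => by
    refine ⟨fun h1 => cent_E b n fun x hx => ?_, fun h1 => Units.ext (ext_iff_mulVec.2 fun v => h.inj ?_)⟩
    · obtain ⟨v, rfl⟩ := (h.mem x).1 hx
      rw [hρ, h1, Units.val_one, one_mulVec]
    · rw [← hρ, Units.val_one, one_mulVec, (n.comm _ h1 _ (h.mem' v)).eq, mul_inv_cancel_right]
  obtain ⟨k, k5, k26, hP⟩ := card_P b n
  have h1 := ρ.ker.card_mul_index
  have h2 := ρ.range.card_mul_index
  have h3 : Nat.card (GL (Fin 3) F) = 11232 := by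
    have := CL.SLn.card_SL_mul (ι := Fin 3) (F := F)
    rw [card_SL3, ZMod.card] at this
    exact this.symm
  rw [index_ker, hP, show ρ.ker = E.subgroupOf _ from Subgroup.ext hk,
    Nat.card_congr (subgroupOfEquivOfLe le_normalizer).toEquiv, n.card] at h1
  have h4 : Nat.card ρ.range = 216 * k := by omega
  rw [h4, h3] at h2
  have h5 : k * ρ.range.index = 52 := by linarith
  have h6 : ρ.range.index ≤ 4 := by
    generalize ρ.range.index = i at h5
    have : i ≤ 52 := Nat.le_of_dvd (by norm_num) ⟨k, by rw [← h5, mul_comm]⟩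
    interval_cases i <;> omega
  have h7 : ρ.range.comap SpecialLinearGroup.toGL = ⊤ := top_of_index (by
    rw [index_comap]
    exact (relIndex_le_of_le_right le_top (by rw [relIndex_top_right]; exact index_ne_zero_of_finite)).trans
      (by rwa [relIndex_top_right]))
  have h8 : (SpecialLinearGroup.toGL : SL3 →* GL (Fin 3) F).range = ρ.range := by
    refine eq_of_le_of_card_ge (by rintro _ ⟨B, rfl⟩; exact (h7 ▸ mem_top B : B ∈ ρ.range.comap _)) ?_
    rw [← Nat.card_congr (MonoidHom.ofInjective SpecialLinearGroup.toGL_injective).toEquiv, card_SL3, h4]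
    omega
  choose f hf using fun g => (h8 ▸ (⟨g, rfl⟩ : ρ g ∈ ρ.range) : ρ g ∈ (SpecialLinearGroup.toGL : SL3 →* _).range)
  have inj := SpecialLinearGroup.toGL_injective (n := Fin 3) (R := F)
  refine ⟨MonoidHom.mk' f fun g g' => inj (by rw [map_mul, hf, hf, hf, map_mul]), fun B => ?_, fun g => ?_,
    fun g v => by rw [hρ, ← hf]; rfl⟩
  · obtain ⟨g, hg⟩ := h8.le ⟨B, rfl⟩
    exact ⟨g, inj ((hf g).trans hg)⟩
  · rw [← hk, ← hf, map_eq_one_iff _ inj]; rfl

omit h in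
theorem split {ρ : normalizer (E : Set G) →* SL3} (hs : Function.Surjective ρ) (hk : ∀ g, ρ g = 1 ↔ (g : G) ∈ E) :
    ∃ κ : SL3 →* normalizer (E : Set G), ∀ B, ρ (κ B) = B := by
  have hT : T ≤ normalizer (E : Set G) := n.TC.trans n.nz
  have h0 : ρ.ker = E.subgroupOf _ := Subgroup.ext hk
  have h1 : T.subgroupOf (normalizer (E : Set G)) ⊓ ρ.ker = ⊥ := by
    exact eq_bot_iff.2 fun x hx => Subtype.ext (mem_bot.1 (n.disj.le ⟨hx.1, (hk x).1 hx.2⟩))
  haveI : IsMulCommutative ρ.ker :=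
    ⟨⟨fun x y => Subtype.ext (Subtype.ext (n.comm _ ((hk _).1 x.2) _ ((hk _).1 y.2)))⟩⟩
  have h2 : Nat.card ((T.subgroupOf (normalizer (E : Set G))).map ρ) = 27 := by
    rw [← relIndex_ker, ← inf_relIndex_left, h1, relIndex_bot_left,
      Nat.card_congr (subgroupOfEquivOfLe hT).toEquiv, n.cardT]
  have h3 := ((T.subgroupOf (normalizer (E : Set G))).map ρ).card_mul_index
  rw [h2, card_SL3] at h3
  have h4 : (ρ.ker ⊔ T.subgroupOf (normalizer (E : Set G))).index ∣ 208 := by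
    rw [← index_map_eq _ hs le_sup_left, show 208 = ((T.subgroupOf (normalizer (E : Set G))).map ρ).index by omega]
    exact index_dvd_of_le (map_mono le_sup_right)
  obtain ⟨H, hH⟩ := Cfsg.Agent.S0051.result ρ.ker _ le_sup_left (by
    rw [h0, Nat.card_congr (subgroupOfEquivOfLe le_normalizer).toEquiv, n.card]
    exact Nat.Coprime.coprime_dvd_right (h0 ▸ h4) (by norm_num)) _ le_sup_right h1 rfl
  have h5 : Function.Bijective (ρ.comp H.subtype) := by
    refine ⟨(injective_iff_map_eq_one _).2 fun x hx => Subtype.ext (disjoint_def.1 hH.disjoint hx x.2), fun B => ?_⟩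
    obtain ⟨g, rfl⟩ := hs B
    obtain ⟨⟨x, y⟩, rfl⟩ := hH.2 g
    exact ⟨y, by simp only [map_mul, MonoidHom.mem_ker.1 x.2, one_mul]; rfl⟩
  exact ⟨H.subtype.comp (MulEquiv.ofBijective _ h5).symm.toMonoidHom,
    fun B => (MulEquiv.ofBijective _ h5).apply_symm_apply B⟩

end T0cAux

open T0cAux in
theorem t0c : T0c.{v} := by
  intro G _ _ S Q E T z e π b n
  obtain ⟨ι, h⟩ := exists_co n.card n.comm (fun x hx => b.ex x (n.le hx)) n.zE b.xq.z1
  obtain ⟨ρ, hs, hk, hρ⟩ := rho' b n h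
  obtain ⟨κ, hκ⟩ := split b n hs hk
  have hc : ∀ B v, κ B * ι v = ι (B.1 *ᵥ v) * κ B := fun B v => by
    rw [← mul_inv_eq_iff_eq_mul, hρ, hκ]
  let f : A → G := fun m => ι (fun i => m.1.1 i.castSucc 3) * κ (blk m)
  have hf : ∀ B w, f (af B w) = ι w * κ B := fun B w => by
    simp only [f, blk_af]
    congr 2
    funext i
    fin_cases i <;> rfl
  let φ : A →* G := MonoidHom.mk' f fun m m' => by
    obtain ⟨B, w, rfl⟩ := af_surj m
    obtain ⟨B', w', rfl⟩ := af_surj m'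
    rw [af_mul, hf, hf, hf, add_comm, h.add, map_mul, coe_mul, mul_assoc, mul_assoc, ← mul_assoc (κ B : G), hc,
      mul_assoc]
  have hφ : ∀ B w, φ (af B w) = ι w * κ B := hf
  have hz : φ z0 = z := by
    rw [show z0 = af 1 ![1, 0, 0] from (af_one ![1, 0, 0]).symm, hφ, map_one, coe_one, mul_one, h.z]
  refine ⟨φ, (injective_iff_map_eq_one _).2 fun m hm => ?_, hz, fun g hg => ?_, fun w hw => ?_⟩
  · obtain ⟨B, w, rfl⟩ := af_surj m
    rw [hφ] at hm
    have h1 : B = 1 := (hκ B).symm.trans ((hk _).2 (eq_inv_of_mul_eq_one_right hm ▸ inv_mem (h.mem' w)))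
    rw [h1, map_one, coe_one, mul_one, ← h.zero] at hm
    rw [h1, h.inj hm, af_one_zero]
  · obtain ⟨w, hw⟩ := (h.mem _).1 ((hk (⟨g, n.nz hg⟩ * (κ (ρ ⟨g, n.nz hg⟩))⁻¹)).1
      (by rw [map_mul, map_inv, hκ, mul_inv_cancel]))
    exact ⟨af (ρ ⟨g, n.nz hg⟩) w, by rw [hφ, hw]; simp⟩
  · obtain ⟨a, c, d, e', y, rfl⟩ := mem_Q0.1 hw
    have h1 : Commute (ua a 0 c d e' y) z0 := by
      show _ * ua _ _ _ _ _ _ = ua _ _ _ _ _ _ * _
      rw [ua_mul, ua_mul, ua_inj]
      refine ⟨?_, ?_, ?_, ?_, ?_, ?_⟩ <;> ring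
    refine stab b n ⟨_, mem_centralizer_singleton_iff.2 (hz ▸ (h1.map φ).eq)⟩ fun x hx => ?_
    obtain ⟨v, rfl⟩ := (h.mem x).1 hx
    let B : SL3 := ⟨!![1, a, d; 0, 1, 0; 0, 0, 1], by simp [det_fin_three]⟩
    have h2 : ua a 0 c d e' y = af B ![y, e', c] := by
      refine Subtype.ext (Subtype.ext (Matrix.ext fun i j => ?_))
      fin_cases i <;> fin_cases j <;> rfl
    have h3 : B.1 *ᵥ v = ![a * v 1 + d * v 2, 0, 0] + v := by
      funext i
      fin_cases i <;> simp [B, mulVec, dotProduct, Fin.sum_univ_three]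
      ring
    show φ _ * ι v * (φ _)⁻¹ * (ι v)⁻¹ ∈ _
    rw [h2, hφ, mul_assoc (ι _), hc, _root_.mul_inv_rev, ← mul_assoc, ← mul_assoc, mul_inv_cancel_right,
      (n.comm _ (h.mem' _) _ (h.mem' _)).eq, mul_inv_cancel_right, h3, h.add, mul_inv_cancel_right]
    exact h.line _

end CL.L3L
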