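/-
The 3-local characterization of the McLaughlin group: the Thompson subgroup of the Sylow 3-subgroup.
-/
import Cfsg.Agent.Rec.McL3Defs

set_option autoImplicit false

open Cfsg Subgroup CL.Grp Equiv Equiv.Perm
open scoped Pointwise

namespace CL.McL3

variable {G : Type*} [Group G]

/-- The permutations induced by the elements of `A`. -/
def im (ι : V → G) (A : Subgroup G) : Subgroup S6 where
  carrier := {p | ∃ a ∈ A, Lin ι a (act p)}
  one_mem' := ⟨1, one_mem _, (Lin.one ι).act_one⟩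
  mul_mem' := fun ⟨a, ha, h⟩ ⟨b, hb, h'⟩ => ⟨a * b, mul_mem ha hb, h.act_mul h'⟩
  inv_mem' := fun ⟨a, ha, h⟩ => ⟨a⁻¹, inv_mem ha, h.act_inv⟩

theorem mem_im {ι : V → G} {A : Subgroup G} {p : S6} : p ∈ im ι A ↔ ∃ a ∈ A, Lin ι a (act p) := Iff.rfl

def st (a b : Fin 3) : S6 := σ0 ^ a.val * τ0 ^ b.val

theorem st_mul : ∀ a b c d : Fin 3, st a b * st c d = st (a + c) (b + d) := by decide +kernel

theorem st_inv : ∀ a b : Fin 3, (st a b)⁻¹ = st (-a) (-b) := by decide +kernel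

theorem st_inj : ∀ a b c d : Fin 3, st a b = st c d → a = c ∧ b = d := by decide +kernel

theorem st_sign : ∀ a b : Fin 3, sign (st a b) = 1 := by decide +kernel

theorem st_z0 : ∀ a b : Fin 3, act (st a b) z0 = z0 := by decide +kernel

/-- The Sylow 3-subgroup `⟨σ0, τ0⟩`. -/
def T0 : Subgroup S6 where
  carrier := {p | ∃ a b, p = st a b}
  one_mem' := ⟨0, 0, by decide +kernel⟩
  mul_mem' := by
    rintro _ _ ⟨a, b, rfl⟩ ⟨c, d, rfl⟩
    exact ⟨_, _, st_mul a b c d⟩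
  inv_mem' := by
    rintro _ ⟨a, b, rfl⟩
    exact ⟨_, _, st_inv a b⟩

theorem mem_T0 {p : S6} : p ∈ T0 ↔ ∃ a b, p = st a b := Iff.rfl

theorem card_T0 : Nat.card T0 = 9 := by
  rw [← Nat.card_congr (Equiv.ofBijective (fun x : Fin 3 × Fin 3 => (⟨st x.1 x.2, x.1, x.2, rfl⟩ : T0))
    ⟨fun x y e => Prod.ext_iff.2 (st_inj _ _ _ _ (congrArg Subtype.val e)),
      fun ⟨_, a, b, e⟩ => ⟨(a, b), Subtype.ext e.symm⟩⟩)]
  simp

theorem card_le_three {B : Subgroup S6} (h : B ≤ T0) (hn : B ≠ T0) : Nat.card B ≤ 3 := by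
  have h1 := card_dvd_of_le h
  rw [card_T0, show 9 = 3 ^ 2 from rfl, Nat.dvd_prime_pow Nat.prime_three] at h1
  obtain ⟨k, hk, e⟩ := h1
  interval_cases k
  · omega
  · omega
  · exact absurd (eq_of_le_of_card_ge h (by rw [card_T0, e]; decide)) hn

theorem fix_st : ∀ a b : Fin 3, st a b = 1 ∨ (Finset.univ.filter fun v => act (st a b) v = v).card = 9 := by
  decide +kernel

theorem fix_στ : ∀ v : V, act σ0 v = v → act τ0 v = v → v = 0 ∨ v = z0 ∨ v = -z0 := by decide +kernel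

namespace Emb

variable {ι : V → G} {J : Subgroup G} (h : Emb ι J)
include h

theorem card_le {B : Subgroup G} (hB : B ≤ J) (F : Finset V) (hF : ∀ v, ι v ∈ B → v ∈ F) : Nat.card B ≤ F.card := by
  classical
  have h1 : (B : Set G) ⊆ F.image ι := fun b hb => by
    obtain ⟨v, rfl⟩ := (h.mem b).1 (hB hb)
    exact Finset.mem_coe.2 (Finset.mem_image_of_mem ι (hF v hb))
  exact (Set.ncard_le_ncard h1).trans (by rw [Set.ncard_coe_finset]; exact Finset.card_image_le)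

theorem le_card [Finite G] {B : Subgroup G} (F : Finset V) (hF : ∀ v ∈ F, ι v ∈ B) : F.card ≤ Nat.card B := by
  classical
  have h1 : ((F.image ι : Finset G) : Set G) ⊆ B := fun b hb => by
    obtain ⟨v, hv, rfl⟩ := Finset.mem_image.1 (Finset.mem_coe.1 hb)
    exact hF v hv
  have h2 := Set.ncard_le_ncard h1
  rwa [Set.ncard_coe_finset, Finset.card_image_of_injective _ h.inj] at h2

theorem card_eq {A : Subgroup G} (h1 : ∀ a ∈ A, ∃ p, Lin ι a (act p)) (h2 : ∀ a ∈ A, Lin ι a id → a ∈ J) :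
    Nat.card A = Nat.card (A ⊓ J : Subgroup G) * Nat.card (im ι A) := by
  choose π hπ using fun a : A => h1 a a.2
  let φ : A →* S6 := MonoidHom.mk' π fun a b => h.act_eq (hπ (a * b)) ((hπ a).act_mul (hπ b))
  have e1 : φ.range = im ι A := by
    ext p
    exact ⟨fun ⟨a, e⟩ => ⟨a, a.2, e ▸ hπ a⟩, fun ⟨a, ha, e⟩ => ⟨⟨a, ha⟩, h.act_eq (hπ _) e⟩⟩
  have e2 : φ.ker = (A ⊓ J).subgroupOf A := by
    ext a
    rw [MonoidHom.mem_ker, mem_subgroupOf, mem_inf]
    exact ⟨fun e => ⟨a.2, h2 a a.2 (Lin.id_of_act (e ▸ hπ a))⟩,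
      fun e => h.act_eq (hπ a) (h.lin_id e.2).act_one⟩
  rw [← e1, ← index_ker, ← Nat.card_congr (subgroupOfEquivOfLe inf_le_left).toEquiv, ← e2, card_mul_index]

end Emb

namespace Crd

variable {ι : V → G} {J S M : Subgroup G} (h : Crd ι J S M)
include h

theorem SM : S ≤ M := fun g hg => ((h.memS g).1 hg).1

theorem actS {g : G} (hg : g ∈ S) : ∃ a b, Lin ι g (act (st a b)) := ((h.memS g).1 hg).2

theorem mem_S {g : G} (hg : g ∈ M) {a b : Fin 3} (e : Lin ι g (act (st a b))) : g ∈ S := (h.memS g).2 ⟨hg, a, b, e⟩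

theorem JS : J ≤ S := fun _ hg => h.mem_S (h.JM hg) (a := 0) (b := 0) (h.lin_id hg).act_one

theorem MN [Finite G] : M ≤ normalizer (J : Set G) := fun g hg =>
  let ⟨_, _, e⟩ := h.actM g hg
  h.norm e

theorem Sz {g : G} (hg : g ∈ S) : Commute g (ι z0) :=
  let ⟨a, b, e⟩ := h.actS hg
  e.commute (st_z0 a b)

theorem exists_S (a b : Fin 3) : ∃ g ∈ S, Lin ι g (act (st a b)) :=
  let ⟨g, hg, e⟩ := h.onto _ (st_sign a b)
  ⟨g, h.mem_S hg e, e⟩

theorem im_le {A : Subgroup G} (hA : A ≤ S) : im ι A ≤ T0 := fun _ ⟨_, ha, e⟩ =>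
  let ⟨i, j, e'⟩ := h.actS (hA ha)
  ⟨i, j, h.act_eq e e'⟩

theorem card_le_S {A : Subgroup G} (hA : A ≤ S) :
    Nat.card A = Nat.card (A ⊓ J : Subgroup G) * Nat.card (im ι A) :=
  h.card_eq (fun _ ha => let ⟨_, _, e⟩ := h.actS (hA ha); ⟨_, e⟩) fun a ha => h.kerM a (h.SM (hA ha))

theorem card_S : Nat.card S = 729 := by
  rw [h.card_le_S le_rfl, inf_eq_right.2 h.JS, h.card, le_antisymm (h.im_le le_rfl) fun _ ⟨a, b, e⟩ =>
    e ▸ h.exists_S a b, card_T0]

/-- An element of `M` which centralizes `S` lies in `⟨ι z0⟩`. -/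
theorem mem_Z {v : V} (hv : ∀ g ∈ S, Commute g (ι v)) : ι v ∈ zpowers (ι z0) := by
  obtain ⟨a, ha, e⟩ := h.exists_S 1 0
  obtain ⟨b, hb, e'⟩ := h.exists_S 0 1
  exact h.mem_zpowers'.2 (fix_στ v (h.fix e (hv a ha)) (h.fix e' (hv b hb)))

/-- `J` is the only abelian subgroup of `S` of order at least 81. -/
theorem eq_J [Finite G] {A : Subgroup G} (hA : A ≤ S) (hc : ∀ a ∈ A, ∀ b ∈ A, Commute a b) (hn : 81 ≤ Nat.card A) :
    A = J := by
  refine eq_of_le_of_card_ge (fun a ha => ?_) (h.card.trans_le hn)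
  by_contra haJ
  obtain ⟨i, j, e⟩ := h.actS (hA ha)
  have h1 := h.card_le_S hA
  have h9 : Nat.card (A ⊓ J : Subgroup G) ≤ 9 := by
    rcases fix_st i j with e1 | e1
    · exact absurd (h.kerM a (h.SM (hA ha)) (e1 ▸ e).id_of_act) haJ
    · exact e1 ▸ h.card_le inf_le_right _ fun v hv => by simpa using h.fix e (hc a ha _ hv.1)
  by_cases hT : im ι A = T0
  · obtain ⟨b, hb, e1⟩ : σ0 ∈ im ι A := hT ▸ ⟨1, 0, by decide +kernel⟩
    obtain ⟨c, hc', e2⟩ : τ0 ∈ im ι A := hT ▸ ⟨0, 1, by decide +kernel⟩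
    have h3 := h.card_le (B := A ⊓ J) inf_le_right {0, z0, -z0} fun v hv => by
      simpa using fix_στ v (h.fix e1 (hc b hb _ hv.1)) (h.fix e2 (hc c hc' _ hv.1))
    have h4 : ({0, z0, -z0} : Finset V).card ≤ 3 := Finset.card_le_three
    rw [hT, card_T0] at h1
    omega
  · have h3 := card_le_three (h.im_le hA) hT
    have := Nat.mul_le_mul h9 h3
    omega

theorem norm_of_conj [Finite G] {g : G} (hg : ∀ j ∈ J, g * j * g⁻¹ ∈ S) : g ∈ normalizer (J : Set G) := by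
  rw [← conj_smul_eq_self_iff]
  refine h.eq_J ((conj_smul_le_iff _ _ _).2 hg) (fun a ha b hb => ?_) (by rw [card_conj_smul, h.card])
  obtain ⟨v, hv⟩ := (h.mem _).1 ((mem_conj_smul_iff _ _ _).1 ha)
  obtain ⟨w, hw⟩ := (h.mem _).1 ((mem_conj_smul_iff _ _ _).1 hb)
  have := (h.comm v w).map (MulAut.conj g)
  rw [hv, hw] at this
  simpa [mul_assoc] using this

end Crd

end CL.McL3
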