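/-
The 3-local characterization of the McLaughlin group: from the hypotheses to coordinates.
-/
import Cfsg.Agent.Rec.McL3Crd
import Cfsg.Agent.Perm.FCZass
import Cfsg.Agent.Grp.ExtraIndex
import Cfsg.Agent.Grp.Primitive

set_option autoImplicit false
set_option linter.unusedSectionVars false

open Cfsg Subgroup CL.Grp CL.Perm Equiv Equiv.Perm
open scoped Pointwise

namespace CL.McL3

universe u

abbrev SL5 := Matrix.SpecialLinearGroup (Fin 2) (ZMod 5)

theorem sl5_sq {x : SL5} (h : x * x = 1) : x = 1 ∨ x = -1 := by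
  have key : ∀ x : ZMod 5 × ZMod 5 × ZMod 5 × ZMod 5, det4 x = 1 → mul4 x x = (1, 0, 0, 1) →
      x ∈ [(1, 0, 0, 1), (-1, 0, 0, -1)] := by decide +kernel
  rw [eq_one_iff_ent4, ← ent4_eq_iff, ent4_neg_one]
  simpa only [List.mem_cons, List.not_mem_nil, or_false] using
    key _ (det4_ent4 x) (by rw [← ent4_mul, h, ent4_one])

theorem exists_nu : ∃ ν : SL5 →* alternatingGroup (Fin 5), Function.Surjective ν ∧ ∀ x, ν x = 1 ↔ x * x = 1 := by
  have : Fact (Nat.Prime 5) := ⟨Nat.prime_five⟩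
  obtain ⟨e⟩ := CL.Cls.nonempty_PSL2_five (F := ZMod 5) (by simp)
  refine ⟨e.toMonoidHom.comp (QuotientGroup.mk' _), e.surjective.comp (QuotientGroup.mk'_surjective _), fun x =>
    (e.map_eq_one_iff.trans (QuotientGroup.eq_one_iff x)).trans ⟨fun h => sq x ▸ sl25_sq_of_mem_center h, fun h => ?_⟩⟩
  rcases sl5_sq h with rfl | rfl
  · exact one_mem _
  · exact mem_center_iff.2 fun g => by simp

variable {G : Type u} [Group G] [Finite G] {S Z J M L Q : Subgroup G}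
  {π : M →* alternatingGroup (Fin 6)} {lam : L →* SL5}

theorem card_729 (h : IsSylowIn 3 S M) (hM : Nat.card M = 29160) : Nat.card S = 729 := by
  have : Fact (Nat.Prime 3) := ⟨Nat.prime_three⟩
  rw [h.card_eq_pow, hM, ← Nat.primeFactorsList_count_eq]
  simp

theorem card_of_onto {H : Type*} [Group H] {f : M →* H} (h1 : Function.Surjective f) (h2 : J ≤ M)
    (h3 : ∀ m : M, f m = 1 ↔ (m : G) ∈ J) : Nat.card M = Nat.card J * Nat.card H := by
  rw [← f.ker.card_mul_index, index_ker, MonoidHom.range_eq_top.2 h1, card_top,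
    show f.ker = J.subgroupOf M from Subgroup.ext h3, Nat.card_congr (subgroupOfEquivOfLe h2).toEquiv]

theorem card_A6 : Nat.card (alternatingGroup (Fin 6)) = 360 := by
  have := two_mul_nat_card_alternatingGroup (α := Fin 6)
  rw [Nat.card_perm, Nat.card_eq_fintype_card (α := Fin 6), Fintype.card_fin, show Nat.factorial 6 = 720 from rfl]
    at this
  omega

namespace Hyp

variable (h : Hyp S Z J M L Q π lam)
include h

theorem triv {A : Type*} [Group A] (f : L →* A) (h1 : ∀ l : L, (l : G) ∈ Q → f l = 1)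
    (h2 : ∀ x y, f x * f y = f y * f x) (l : L) : f l = 1 := by
  obtain ⟨c, hc, e⟩ : lam l ∈ (commutator L).map lam := by
    rw [map_commutator_eq, MonoidHom.range_eq_top.2 h.lamonto, ← commutator_def, sl25_perfect]
    trivial
  have h3 : commutator L ≤ f.ker := commutator_le.2 fun x _ y _ => by
    rw [MonoidHom.mem_ker, map_commutatorElement, commutatorElement_eq_one_iff_mul_comm, h2]
  have h4 := h1 (c⁻¹ * l) ((h.lamker _).1 (by simp [e]))
  rwa [map_mul, map_inv, h3 hc, inv_one, one_mul] at h4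

theorem card_M : Nat.card M = 29160 := by rw [card_of_onto h.πonto h.JM h.πker, h.Jcard, card_A6]

theorem SL : S ≤ L := fun s hs => by
  obtain ⟨k, hk⟩ := h.syl.isPGroup ⟨s, hs⟩
  exact h.thrL s (centralizer_le_normalizer _ fun z hz => ((h.hZ ▸ hz).2 s hs).symm) k (congrArg Subtype.val hk)

theorem card_S : Nat.card S = 729 :=
  card_729 (h.syl.of_le h.SL le_top) (by rw [card_of_onto h.lamonto h.QL h.lamker, h.Qcard, card_sl25])

theorem Z_eq : Z = Q ⊓ centralizer (Q : Set G) ∧ Nat.card Z = 3 := by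
  have : Fact (Nat.Prime 3) := ⟨Nat.prime_three⟩
  obtain ⟨ν, h1, h2⟩ := exists_nu
  have h3 := (h.syl.of_le h.SL le_top).le_of_normalized (extra_isPGroup h.Qex) h.QL (h.LN.trans h.nQ)
  have h4 : Z ≤ S := h.hZ ▸ inf_le_left
  have h5 := (h.syl.isPGroup.to_le h4).comap_subtype (K := L)
  have h6 : (Z.subgroupOf L).Normal := normal_subgroupOf_of_le_normalizer h.LN
  have h7 : Z ≤ Q ⊓ centralizer (Q : Set G) := fun z hz => by
    refine ⟨(h.lamker ⟨z, h.SL (h4 hz)⟩).1 ?_, centralizer_le h3 (h.hZ ▸ hz).2⟩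
    rcases (h6.map (ν.comp lam) (h1.comp h.lamonto)).eq_bot_or_eq_top with e | e
    · obtain ⟨k, hk⟩ := h5 ⟨⟨z, h.SL (h4 hz)⟩, hz⟩
      refine (sl5_sq ((h2 _).1 (e.le (mem_map_of_mem (ν.comp lam) hz)))).resolve_right fun e' => ?_
      have h8 := congrArg lam (show (⟨z, h.SL (h4 hz)⟩ : L) ^ 3 ^ k = 1 from congrArg Subtype.val hk)
      rw [map_pow, e', map_one, Odd.neg_one_pow (Odd.pow (by decide : Odd 3))] at h8
      simpa [h8] using sl25_orderOf_neg_one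
    · obtain ⟨k, hk⟩ := IsPGroup.iff_card.1 (h5.map (ν.comp lam))
      have h8 := two_mul_nat_card_alternatingGroup (α := Fin 5)
      rw [← card_top, ← e, Nat.card_perm, Nat.card_eq_fintype_card (α := Fin 5), Fintype.card_fin] at h8
      have h9 : Odd (3 ^ k) := Odd.pow (by decide)
      rw [← hk, Nat.odd_iff] at h9
      change 2 * _ = 120 at h8
      change Nat.card ((Z.subgroupOf L).map (ν.comp lam)) % 2 = 1 at h9
      omega
  have h8 := ((Nat.dvd_prime Nat.prime_three).1 (extra_card_inf_centralizer h.Qex ▸ card_dvd_of_le h7)).resolve_left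
    fun e => inf_centralizer_ne_bot_of_isPGroup h.syl.isPGroup le_normalizer (by rw [h.card_S]; decide)
      (h.hZ ▸ card_eq_one.1 e)
  exact ⟨eq_of_le_of_card_ge h7 (by rw [h8, extra_card_inf_centralizer h.Qex]), h8⟩

theorem exists_crd (hA : CoordThm.{u}) {T : Subgroup G} (hT : IsSylowIn 3 T M)
    (hZ : Nat.card (T ⊓ centralizer (T : Set G) : Subgroup G) = 3) : ∃ ι, Crd ι J T M := by
  have : Fact (Nat.Prime 3) := ⟨Nat.prime_three⟩
  have hJ : J ≤ T := hT.le_of_normalized (.of_card (n := 4) h.Jcard) h.JM h.MN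
  have h1 : Nat.card ((T.subgroupOf M).map π) = 9 := by
    have := card_eq_card_inf_ker_mul_card_map π (T.subgroupOf M)
    rw [show π.ker = J.subgroupOf M from Subgroup.ext h.πker, inf_eq_left.2 (subgroupOf_mono M hJ),
      Nat.card_congr (subgroupOfEquivOfLe hT.le).toEquiv, Nat.card_congr (subgroupOfEquivOfLe h.JM).toEquiv,
      card_729 hT h.card_M, h.Jcard] at this
    omega
  have h2 : Nat.card (T0.subgroupOf (alternatingGroup (Fin 6))) = 9 :=
    (Nat.card_congr (subgroupOfEquivOfLe (H := T0) fun _ hx => (hx.elim fun a ha => ha.elim fun b e =>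
      mem_alternatingGroup.2 (e ▸ st_sign a b))).toEquiv).trans card_T0
  have h3 : IsSylowIn 3 (T0.subgroupOf (alternatingGroup (Fin 6))) ⊤ := ⟨le_top, .of_card (n := 2) h2, by
    have := (T0.subgroupOf (alternatingGroup (Fin 6))).card_mul_index
    rw [h2, card_A6] at this
    rw [relIndex_top_right]
    omega⟩
  obtain ⟨c, -, hc⟩ := h3.exists_conj_le (.of_card (n := 2) h1) le_top
  replace hc := eq_of_le_of_card_ge hc (by rw [card_conj_smul, h1, h2])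
  let π' := (MulAut.conj c).toMonoidHom.comp π
  have h4 : Function.Surjective π' := (MulAut.conj c).surjective.comp h.πonto
  have h5 : ∀ m, π' m = 1 ↔ (m : G) ∈ J := fun m => (MulAut.conj c).map_eq_one_iff.trans (h.πker m)
  have h6 : ∀ m : M, (m : G) ∈ T ↔ (π' m : S6) ∈ T0 := fun m => by
    rw [← mem_subgroupOf (H := T0), ← hc, conj_smul_eq_map, map_map, ← mem_comap, comap_map_eq,
      sup_eq_left.2 fun x hx => hJ ((h5 x).1 hx), mem_subgroupOf]
  let _ : CommGroup J := { (inferInstance : Group J) with mul_comm := fun a b => Subtype.ext (h.Jcomm a a.2 b b.2) }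
  let φ : M →* MulAut J := J.normalizerMonoidHom.comp (inclusion h.MN)
  let ρ := π'.liftOfSurjective h4 ⟨φ, fun m hm => MulEquiv.ext fun a => Subtype.ext
    (mul_inv_eq_iff_eq_mul.2 (h.Jcomm _ ((h5 m).1 hm) _ a.2))⟩
  have h7 : ∀ (m : M) (a : J), (ρ (π' m) a : G) = m * a * m⁻¹ := fun m a => by
    rw [MonoidHom.liftOfRightInverse_comp_apply]
    rfl
  obtain ⟨z, hz⟩ : ∃ z : J, ∀ a : J, (a : G) ∈ T ⊓ centralizer (T : Set G) → a ∈ zpowers z := by
    by_cases e : ∃ z : J, z ≠ 1 ∧ (z : G) ∈ T ⊓ centralizer (T : Set G)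
    · obtain ⟨z, z1, z2⟩ := e
      refine ⟨z, fun a ha => ?_⟩
      obtain ⟨n, e⟩ := (eq_of_le_of_card_ge (zpowers_le.2 z2) (by
        rw [hZ, Nat.card_zpowers, orderOf_eq_prime (h.Jexp z z.2) (by simpa using z1)])).ge ha
      exact ⟨n, Subtype.ext e⟩
    · exact ⟨1, fun a ha => by_contra fun e' => e ⟨a, fun e'' => e' (by rw [e'']; exact one_mem _), ha⟩⟩
  obtain ⟨ι, a1, a2, a3⟩ := hA h.Jcard (fun a => Subtype.ext (h.Jexp a a.2)) ρ z fun a ha => hz a ⟨hJ a.2, fun t ht => by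
    obtain ⟨i, j, e⟩ := (h6 ⟨t, hT.le ht⟩).1 ht
    have e' : π' ⟨t, hT.le ht⟩ = ⟨σ0, mem_alternatingGroup.2 (by decide)⟩ ^ i.val *
      ⟨τ0, mem_alternatingGroup.2 (by decide)⟩ ^ j.val := Subtype.ext e
    have h8 : ρ (π' ⟨t, hT.le ht⟩) ∈ MulAction.stabilizer (MulAut J) a := by
      rw [e', map_mul, map_pow, map_pow]
      exact mul_mem (pow_mem (ha _ (.inl rfl)) _) (pow_mem (ha _ (.inr rfl)) _)
    exact mul_inv_eq_iff_eq_mul.1 ((h7 _ a).symm.trans (congrArg Subtype.val h8))⟩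
  have E : Emb (fun v => (ι v : G)) J := ⟨fun v w => congrArg Subtype.val (a1 v w), Subtype.val_injective.comp a2.1,
    fun g => ⟨fun hg => (a2.2 ⟨g, hg⟩).imp fun _ e => congrArg Subtype.val e, fun ⟨v, e⟩ => e ▸ (ι v).2⟩⟩
  have h8 : ∀ m : M, Lin (fun v => (ι v : G)) m (act (π' m)) := fun m v =>
    (h7 m _).symm.trans (congrArg Subtype.val (a3 _ v))
  refine ⟨_, E, h.JM, fun m hm => ⟨_, mem_alternatingGroup.1 (π' ⟨m, hm⟩).2, h8 ⟨m, hm⟩⟩, fun p hp => ?_,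
    fun m hm e => (h5 ⟨m, hm⟩).1 (Subtype.ext (E.act_eq (h8 ⟨m, hm⟩) e.act_one)), fun g => ⟨fun hg => ?_, ?_⟩⟩
  · obtain ⟨m, e⟩ := h4 ⟨p, mem_alternatingGroup.2 hp⟩
    exact ⟨m, m.2, by simpa only [e] using h8 m⟩
  · obtain ⟨i, j, e⟩ := (h6 ⟨g, hT.le hg⟩).1 hg
    exact ⟨hT.le hg, i, j, by have := h8 ⟨g, hT.le hg⟩; rwa [e] at this⟩
  · rintro ⟨hg, i, j, e⟩
    exact (h6 ⟨g, hg⟩).2 ⟨i, j, E.act_eq (h8 ⟨g, hg⟩) e⟩

theorem SM (hA : CoordThm.{u}) : S ≤ M := by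
  have : Fact (Nat.Prime 3) := ⟨Nat.prime_three⟩
  obtain ⟨T, hT⟩ := exists_isSylowIn 3 M
  obtain ⟨g, -, rfl⟩ := h.syl.exists_conj_eq (h.syl.of_card_le hT.isPGroup le_top
    (by rw [h.card_S, card_729 hT h.card_M]))
  obtain ⟨ι, c⟩ := h.exists_crd hA hT (by
    rw [centralizer_conj_smul, ← smul_inf, card_conj_smul, ← h.hZ, h.Z_eq.2])
  have h1 := c.norm_of_conj fun j hj => conj_mem_conj_smul g (h.JS hj)
  intro s hs
  obtain ⟨k, hk⟩ := h.syl.isPGroup ⟨s, hs⟩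
  refine h.thrM s ?_ k (congrArg Subtype.val hk)
  simpa [mul_assoc] using mul_mem (mul_mem (inv_mem h1) (h.MN (hT.le (conj_mem_conj_smul g hs)))) h1

end Hyp

theorem base_of (hA : CoordThm.{u}) : BaseThm.{u} := by
  intro G _ _ S Z J M L Q π lam h
  obtain ⟨ι, c⟩ := h.exists_crd hA (h.syl.of_le (h.SM hA) le_top) (h.hZ ▸ h.Z_eq.2)
  have z1 : ι z0 ∈ Z := h.hZ ▸ ⟨c.JS (c.memJ _), fun g hg => c.Sz hg⟩
  have hZ : Z = zpowers (ι z0) := (eq_of_le_of_card_ge (zpowers_le.2 z1)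
    (by rw [h.Z_eq.2, Nat.card_zpowers, c.ord (by decide)])).symm
  subst hZ
  obtain ⟨ν, n1, n2⟩ := exists_nu
  let μ := ν.comp lam
  have m1 : Function.Surjective μ := n1.comp h.lamonto
  have m2 : ∀ l, μ l = 1 ↔ (l : G) * l ∈ Q := fun l => (n2 _).trans (by rw [← map_mul, h.lamker]; rfl)
  let κ : NZ ι →* MulAut L := L.normalizerMonoidHom.comp (inclusion h.nL)
  have k1 : ∀ g l, (κ g l : G) = (g : G) * l * (g : G)⁻¹ := fun _ _ => rfl
  have S5 := Cfsg.Agent.S2119.result 5 (by norm_num) (by norm_num)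
  have key : ∀ g : G, ∃ b : CL.Rec.S5, ∀ hg : g ∈ NZ ι, ∀ l, b * μ l * b⁻¹ = μ (κ ⟨g, hg⟩ l) := fun g => by
    by_cases hg : g ∈ NZ ι
    swap
    · exact ⟨1, fun e => absurd e hg⟩
    let γ := μ.liftOfSurjective m1 ⟨μ.comp (κ ⟨g, hg⟩).toMonoidHom, fun l hl => (m2 _).2 (by
      simpa only [MulEquiv.coe_toMonoidHom, k1, conj_mul] using (mem_normalizer_iff.1 (h.nQ hg) _).1 ((m2 l).1 hl))⟩
    have h1 : ∀ l, γ (μ l) = μ (κ ⟨g, hg⟩ l) := fun l => MonoidHom.liftOfRightInverse_comp_apply ..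
    obtain ⟨b, e⟩ := S5.2 (MulEquiv.ofBijective γ (Finite.surjective_iff_bijective.1 fun a => by
      obtain ⟨l, rfl⟩ := m1 a
      exact ⟨μ ((κ ⟨g, hg⟩).symm l), by rw [h1, MulEquiv.apply_symm_apply]⟩))
    exact ⟨b, fun _ l => congrArg Subtype.val ((DFunLike.congr_fun e (μ l)).trans (h1 l))⟩
  choose α hα using key
  have uniq : ∀ g (hg : g ∈ NZ ι) (b : CL.Rec.S5), (∀ l, b * μ l * b⁻¹ = μ (κ ⟨g, hg⟩ l)) → α g = b := fun g hg b e =>
    S5.1 (MulEquiv.ext fun a => by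
      obtain ⟨l, rfl⟩ := m1 a
      exact Subtype.ext ((hα g hg l).trans (e l).symm))
  have hL : ∀ l : L, α l = μ l := fun l => uniq l (h.LN l.2) _ fun l' => by
    rw [show κ ⟨l, h.LN l.2⟩ l' = l * l' * l⁻¹ from rfl, map_mul, map_mul, map_inv]
    rfl
  have h1 : ∀ l (hl : l ∈ L), α l = 1 ↔ l * l ∈ Q := fun l hl =>
    ((congrArg (· = 1) (hL ⟨l, hl⟩)).to_iff.trans OneMemClass.coe_eq_one).trans (m2 _)
  refine ⟨ι, α, ⟨c, h.syl, h.thrM, h.QL, fun l hl => ?_, h.nL, h.thrL, h.Qcard, h.Qexp,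
    fun a ha b hb => h.Z_eq.1.ge (extra_comm_mem_inf h.Qex ha hb), (h.Z_eq.1.le z1).1, h.nQ, fun g hg k hk => ?_,
    fun l hl => hL ⟨l, hl⟩ ▸ mem_alternatingGroup.1 (μ _).2, fun b hb => ?_,
    fun a ha => (h1 a (h.QL ha)).2 (mul_mem ha ha), fun a ha b hb e e' a1 b1 => ?_,
    fun l hl _ e e' => e ((h1 l hl).2 e'), fun g hg e l hl => ?_⟩, rfl⟩
  · have e := h.triv ((zpowers (ι z0)).normalizerMonoidHom.comp (inclusion h.LN))
      (fun l hl => MulEquiv.ext fun a => Subtype.ext (mul_inv_eq_iff_eq_mul.2 ((h.Z_eq.1.le a.2).2 _ hl)))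
      (fun x y => (IsCyclic.mulAutMulEquiv _).injective (by rw [map_mul, map_mul, mul_comm])) ⟨l, hl⟩
    exact mul_inv_eq_iff_eq_mul.1 (congrArg Subtype.val (DFunLike.congr_fun e ⟨_, mem_zpowers _⟩) :)
  · refine uniq _ (mul_mem hg hk) _ fun l => ?_
    rw [show κ ⟨g * k, mul_mem hg hk⟩ = κ ⟨g, hg⟩ * κ ⟨k, hk⟩ from map_mul κ ⟨g, hg⟩ ⟨k, hk⟩, MulAut.mul_apply, ← hα,
      ← hα]
    group
  · obtain ⟨l, e⟩ := m1 ⟨b, mem_alternatingGroup.2 hb⟩
    exact ⟨l, l.2, by rw [hL, e]⟩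
  · have h2 : ∀ l (hl : l ∈ L), α l = 1 → l ∉ Q → lam ⟨l, hl⟩ = -1 := fun l hl e e' =>
      (sl5_sq ((n2 _).1 ((m2 _).2 ((h1 l hl).1 e)))).resolve_left fun e'' => e' ((h.lamker _).1 e'')
    exact (h.lamker (⟨a, ha⟩ * ⟨b, hb⟩)).1 (by rw [map_mul, h2 a ha e a1, h2 b hb e' b1]; simp)
  · have h2 : ∀ l x, lam (κ ⟨g, hg⟩ l) * (lam l)⁻¹ * x = x * (lam (κ ⟨g, hg⟩ l) * (lam l)⁻¹) := fun l x => by
      have h3 : μ l = μ (κ ⟨g, hg⟩ l) := Subtype.ext (by simpa [e] using hα g hg l)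
      rcases sl5_sq ((n2 (lam (κ ⟨g, hg⟩ l) * (lam l)⁻¹)).1 (by
        rw [map_mul, map_inv, mul_inv_eq_one]; exact h3.symm)) with e | e <;> simp [e]
    have h3 := h.triv (MonoidHom.mk' (fun l => lam (κ ⟨g, hg⟩ l) * (lam l)⁻¹) fun x y => by
        rw [mul_assoc, ← h2 y, map_mul, map_mul, map_mul]
        group)
      (fun l hl => by
        simp [(h.lamker l).2 hl, (h.lamker (κ ⟨g, hg⟩ l)).2 ((mem_normalizer_iff.1 (h.nQ hg) _).1 hl)])
      (fun x y => h2 x _) ⟨l, hl⟩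
    exact (h.lamker (κ ⟨g, hg⟩ ⟨l, hl⟩ * ⟨l, hl⟩⁻¹)).1 (by rw [map_mul, map_inv]; exact h3)

end CL.McL3
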