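/-
The 3-local characterization of the McLaughlin group, part A: the four-dimensional module of the alternating group
of degree six over the field of three elements (helper80).
-/
import Cfsg.Agent.Rec.McL3Defs

set_option autoImplicit false

open Subgroup Equiv Equiv.Perm

namespace CL.McL3

universe u

namespace Coord

abbrev A6 := alternatingGroup (Fin 6)

def el (p : S6) (h : sign p = 1) : A6 := ⟨p, mem_alternatingGroup.2 h⟩

/-- `(0 1 2 3 4)` -/
def c5 : A6 := el (swap 0 1 * swap 1 2 * swap 2 3 * swap 3 4) (by decide +kernel)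
/-- `(0 1)(2 3)` -/
def ka : A6 := el (swap 0 1 * swap 2 3) (by decide +kernel)
/-- `(0 2)(1 3)` -/
def kb : A6 := el (swap 0 2 * swap 1 3) (by decide +kernel)
/-- `(0 2 1)` -/
def sg : A6 := el (swap 0 2 * swap 2 1) (by decide +kernel)
/-- `(0 1)(4 5)` -/
def kk : A6 := el (swap 0 1 * swap 4 5) (by decide +kernel)
/-- `(0 1)(2 4)` -/
def ku : A6 := el (swap 0 1 * swap 2 4) (by decide +kernel)
/-- `(1 2 3)` -/
def kr : A6 := el (swap 1 2 * swap 2 3) (by decide +kernel)

theorem alt4 : ∀ p : S6, p 5 = 5 → p 4 = 4 → sign p = 1 → ∃ i j : Fin 2, ∃ l : Fin 3,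
    p = (ka ^ i.val * kb ^ j.val * sg ^ l.val : A6) := by decide +kernel

/-- The class of `e i - e 5`. -/
def av (i : Fin 6) : V := pr fun j => if j = i then 1 else if j = 5 then -1 else 0

/-- The candidates for the action of `kk`. -/
def Gam (α β : ZMod 3) (v : V) : V :=
  ∑ i : Fin 4, (v i + (v 0 + v 1 + v 2 + v 3)) • (α • av (kk.1 (i.castLE (by decide))) + β • av 4)

theorem eq_sum_av : ∀ v : V, v = ∑ i : Fin 4, (v i + (v 0 + v 1 + v 2 + v 3)) • av (i.castLE (by decide)) := by
  decide +kernel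

theorem fix_kr : ∀ w : V, act kr w = w → ∃ α β : ZMod 3, w = α • av 0 + β • av 4 := by decide +kernel

theorem gam_eq : ∀ α β : ZMod 3,
    (∀ v, Gam α β (act ku (Gam α β (act ku (Gam α β (act ku v))))) = v) → (∀ v, Gam α β (Gam α β v) = v) →
      ∀ v, Gam α β v = act kk v := by decide +kernel

theorem exists_move : ∀ i : Fin 4, ∃ j : Fin 2, ∃ l : Fin 3, ∃ g : A6, g = ka ^ j.val * kr ^ l.val ∧
    act g (av 1) = av (i.castLE (by decide)) ∧ g.1 5 = 5 ∧ (kk * g * kk⁻¹).1 5 = 5 ∧
      act (kk * g * kk⁻¹ : A6) (av 0) = av (kk.1 (i.castLE (by decide))) ∧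
      act (kk * g * kk⁻¹ : A6) (av 4) = av 4 := by
  simp only [exists_eq_left]
  decide +kernel

variable {M : Type u} [AddCommGroup M] [Module (ZMod 3) M] (R : A6 →* Module.End (ZMod 3) M)

theorem three (x : M) : x + x + x = 0 := by
  have h : (3 : ZMod 3) • x = 0 := by rw [show (3 : ZMod 3) = 0 from rfl, zero_smul]
  rw [← h]
  module

theorem eq_zero_of_two {x : M} (h : x + x = 0) : x = 0 := by
  have := three x
  rwa [h, zero_add] at this

theorem R_mul (p p' : A6) (x : M) : R (p * p') x = R p (R p' x) := by rw [map_mul]; rfl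

theorem R_one (x : M) : R 1 x = x := by rw [map_one]; rfl

theorem R_congr {p p' : A6} (h : p.1 = p'.1) (x : M) : R p x = R p' x := by rw [Subtype.ext h]

theorem R_pow {p : A6} {x : M} (h : R p x = x) (n : ℕ) : R (p ^ n) x = x := by
  induction n with
  | zero => rw [pow_zero, R_one]
  | succ n ih => rw [pow_succ, R_mul, h, ih]

variable [Finite M] (hM : Nat.card M = 81)
include hM

theorem card_cases (W : Submodule (ZMod 3) M) (h : Nat.card W % 5 = 1) : W = ⊥ ∨ W = ⊤ := by
  have h1 : Nat.card W ∣ 3 ^ 4 := by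
    have := AddSubgroup.card_addSubgroup_dvd_card W.toAddSubgroup
    rwa [hM] at this
  obtain ⟨j, hj, e⟩ := (Nat.dvd_prime_pow Nat.prime_three).1 h1
  rw [e] at h
  interval_cases j
  · exact Or.inl (Submodule.toAddSubgroup_injective (AddSubgroup.eq_bot_of_card_eq _ e))
  · omega
  · omega
  · omega
  · exact Or.inr (Submodule.toAddSubgroup_injective (AddSubgroup.eq_top_of_card_eq _ (e.trans hM.symm)))

omit hM in
theorem card_mod (W : Submodule (ZMod 3) M) (hW : ∀ x ∈ W, R c5 x ∈ W) :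
    Nat.card W % 5 = Nat.card {x : W // R c5 x = x} % 5 := by
  classical
  have := Fintype.ofFinite W
  have : Fact (Nat.Prime 5) := ⟨Nat.prime_five⟩
  let f : Function.End W := fun x => ⟨R c5 x, hW x x.2⟩
  have h := card_fixedPoints_modEq (f := f) (p := 5) (n := 1) (funext fun x => Subtype.ext (by
    change R c5 (R c5 (R c5 (R c5 (R c5 x)))) = x
    rw [← R_mul, ← R_mul, ← R_mul, ← R_mul, R_congr R (p' := 1) (by decide +kernel), R_one]))
  rw [← Nat.card_eq_fintype_card, ← Nat.card_eq_fintype_card] at h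
  exact h.trans (congrArg (· % 5) (Nat.card_congr (Equiv.subtypeEquivRight fun x => Subtype.ext_iff)))

variable (hR : R ≠ 1)
include hR

theorem fpf {x : M} (hx : R c5 x = x) : x = 0 := by
  have h1 := card_mod R ⊤ fun _ _ => trivial
  rw [Nat.card_congr Submodule.topEquiv.toEquiv, hM] at h1
  have h2 : Nat.card {x : (⊤ : Submodule (ZMod 3) M) // R c5 x = x} = Nat.card (LinearMap.ker (R c5 - 1)) :=
    Nat.card_congr (Equiv.subtypeEquiv Submodule.topEquiv.toEquiv fun x => by
      simp [sub_eq_zero])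
  rcases card_cases hM (LinearMap.ker (R c5 - 1)) (by omega) with h | h
  · exact (Submodule.eq_bot_iff _).1 h x (by simp [hx])
  · have : IsSimpleGroup A6 := alternatingGroup.isSimpleGroup (by simp)
    rcases R.normal_ker.eq_bot_or_eq_top with h3 | h3
    · have h4 : c5 ∈ R.ker := sub_eq_zero.1 (LinearMap.ker_eq_top.1 h)
      rw [h3, mem_bot] at h4
      exact absurd (congrArg Subtype.val h4) (by decide +kernel)
    · exact absurd (MonoidHom.ext fun p => MonoidHom.mem_ker.1 (h3.ge (mem_top p))) hR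

theorem irred (W : Submodule (ZMod 3) M) (hW : ∀ x ∈ W, R c5 x ∈ W) : W = ⊥ ∨ W = ⊤ := by
  refine card_cases hM W ?_
  have h : Nat.card {x : W // R c5 x = x} = 1 := Nat.card_eq_one_iff_exists.2
    ⟨⟨0, by simp⟩, fun x => Subtype.ext (Subtype.ext (fpf R hM hR x.2))⟩
  rw [card_mod R W hW, h]

omit hR [Finite M] in
/-- The fours group has a nonzero fixed vector. -/
theorem exists_fix_four : ∃ x : M, x ≠ 0 ∧ R ka x = x ∧ R kb x = x := by
  by_contra! h
  have h0 : ∀ x, R ka x = x → R kb x = x → x = 0 := fun x h1 h2 => by_contra fun h3 => h x h3 h1 h2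
  have aa : ∀ x, R ka (R ka x) = x := fun x => by rw [← R_mul, R_congr R (p' := 1) (by decide +kernel), R_one]
  have bb : ∀ x, R kb (R kb x) = x := fun x => by rw [← R_mul, R_congr R (p' := 1) (by decide +kernel), R_one]
  have ab : ∀ x, R kb (R ka x) = R ka (R kb x) := fun x => by
    rw [← R_mul, ← R_mul]; exact R_congr R (by decide +kernel) x
  have sa : ∀ x, R kb (R sg x) = R sg (R ka x) := fun x => by
    rw [← R_mul, ← R_mul]; exact R_congr R (by decide +kernel) x
  have sb : ∀ x, R ka (R kb (R sg x)) = R sg (R kb x) := fun x => by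
    rw [← R_mul, ← R_mul, ← R_mul]; exact R_congr R (by decide +kernel) x
  have sss : ∀ x, R sg (R sg (R sg x)) = x := fun x => by
    rw [← R_mul, ← R_mul, R_congr R (p' := 1) (by decide +kernel), R_one]
  have inj : ∀ x y, R sg x = R sg y → x = y := fun x y e => by rw [← sss x, e, sss]
  have na : ∀ y, R kb y = y → R ka y = -y := fun y hy =>
    eq_neg_of_add_eq_zero_right (h0 _ (by rw [map_add, aa, add_comm]) (by rw [map_add, ab, hy]))
  have nb : ∀ y, R ka y = y → R kb y = -y := fun y hy =>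
    eq_neg_of_add_eq_zero_right (h0 _ (by rw [map_add, ← ab, hy, add_comm, add_comm]) (by rw [map_add, bb, add_comm]))
  have nc : ∀ y, R ka (R kb y) = y → R ka y = -y ∧ R kb y = -y := fun y hy => by
    have e : R kb y = R ka y := by rw [← aa (R kb y), hy]
    have e' : R ka y = -y :=
      eq_neg_of_add_eq_zero_right (h0 _ (by rw [map_add, aa, add_comm]) (by rw [map_add, ab, hy, e, add_comm]))
    exact ⟨e', e.trans e'⟩
  let N : Submodule (ZMod 3) M := LinearMap.ker (R ka - 1)
  have hN : ∀ x, x ∈ N ↔ R ka x = x := fun x => by simp [N, sub_eq_zero]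
  let f : (N × N × N) →ₗ[ZMod 3] M := N.subtype.coprod ((R sg ∘ₗ N.subtype).coprod (R sg ∘ₗ R sg ∘ₗ N.subtype))
  have hf : ∀ x y z : N, f (x, y, z) = x + (R sg y + R sg (R sg z)) := fun _ _ _ => rfl
  have hb : Function.Bijective f := by
    refine ⟨(injective_iff_map_eq_zero f).2 ?_, fun m => ?_⟩
    · rintro ⟨⟨x, hx⟩, ⟨y, hy⟩, ⟨z, hz⟩⟩ e
      rw [hf] at e
      simp only at e
      rw [hN] at hx hy hz
      have y1 : R kb (R sg y) = R sg y := by rw [sa, hy]
      have z1 := nc (R sg (R sg z)) (by rw [sb, sa, hz])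
      have e1 := congrArg (R ka) e
      have e2 := congrArg (R kb) e
      rw [map_add, map_add, map_zero] at e1 e2
      rw [hx, na _ y1, z1.1] at e1
      rw [nb _ hx, y1, z1.2] at e2
      obtain rfl : x = 0 := eq_zero_of_two (by linear_combination (norm := module) e + e1)
      have y2 : R sg y = 0 := eq_zero_of_two (by linear_combination (norm := module) e + e2)
      rw [y2, zero_add, zero_add] at e
      obtain rfl : y = 0 := inj _ _ (y2.trans (map_zero _).symm)
      obtain rfl : z = 0 := inj _ _ (inj _ _ (by rw [e, map_zero, map_zero]))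
      rfl
    · have h4 : m + R ka m + R kb m + R ka (R kb m) = 0 := h0 _
        (by simp only [map_add, aa]; abel) (by simp only [map_add, ab, bb]; abel)
      have m1 : R sg (R sg (m + R kb m)) ∈ N := (hN _).2 (inj _ _ (by rw [← sa, sss, map_add, bb, add_comm]))
      have m2 : R sg (m + R ka (R kb m)) ∈ N := (hN _).2 (inj _ _ (inj _ _ (by
        rw [← sa, ← sb, sss, map_add, map_add, ab, aa, bb, add_comm])))
      refine ⟨-(⟨m + R ka m, (hN _).2 (by rw [map_add, aa, add_comm])⟩, ⟨_, m1⟩, ⟨_, m2⟩), ?_⟩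
      rw [map_neg, hf]
      simp only [sss]
      linear_combination (norm := module) -h4 - three m
  have h5 := Nat.card_congr (Equiv.ofBijective f hb)
  rw [Nat.card_prod, Nat.card_prod, hM] at h5
  generalize Nat.card N = n at h5
  have : n ≤ 5 := by nlinarith
  interval_cases n <;> omega

omit hR [Finite M] in
/-- The alternating group of degree four has a nonzero fixed vector. -/
theorem exists_fix_alt : ∃ y : M, y ≠ 0 ∧ ∀ p : A6, p.1 4 = 4 → p.1 5 = 5 → R p y = y := by
  have key : ∃ y : M, y ≠ 0 ∧ (R ka y = y ∧ R kb y = y) ∧ R sg y = y := by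
    have st : ∀ x, R ka x = x ∧ R kb x = x → R ka (R sg x - x) = R sg x - x ∧ R kb (R sg x - x) = R sg x - x := by
      rintro x ⟨h1, h2⟩
      have e1 : R kb (R sg x) = R sg x := by
        rw [← R_mul, R_congr R (p' := sg * ka) (by decide +kernel), R_mul, h1]
      have e2 : R ka (R sg x) = R sg x := by
        rw [← R_mul, R_congr R (p' := sg * (ka * kb)) (by decide +kernel), R_mul, R_mul, h2, h1]
      rw [map_sub, map_sub, e1, e2, h1, h2]
      exact ⟨rfl, rfl⟩
    obtain ⟨x, h0, hx⟩ := exists_fix_four R hM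
    by_cases h1 : R sg x - x = 0
    · exact ⟨x, h0, hx, sub_eq_zero.1 h1⟩
    by_cases h2 : R sg (R sg x - x) - (R sg x - x) = 0
    · exact ⟨_, h1, st x hx, sub_eq_zero.1 h2⟩
    refine ⟨_, h2, st _ (st x hx), ?_⟩
    have sss : R sg (R sg (R sg x)) = x := by
      rw [← R_mul, ← R_mul, R_congr R (p' := 1) (by decide +kernel), R_one]
    simp only [map_sub, sss]
    linear_combination (norm := module) three (R sg x) - three (R sg (R sg x))
  obtain ⟨y, h0, ⟨h1, h2⟩, h3⟩ := key
  refine ⟨y, h0, fun p h4 h5 => ?_⟩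
  obtain ⟨i, j, l, e⟩ := alt4 p h5 h4 (mem_alternatingGroup.1 p.2)
  rw [R_congr R e, R_mul, R_mul, R_pow R h3, R_pow R h2, R_pow R h1]

theorem exists_iota5 : ∃ ι : V →ₗ[ZMod 3] M, Function.Bijective ι ∧
    ∀ p : A6, p.1 5 = 5 → ∀ v, R p (ι v) = ι (act p v) := by
  obtain ⟨y, h0, hy⟩ := exists_fix_alt R hM
  let A : Fin 6 → M := fun i => if i = 5 then 0 else R (c5 ^ (i.val + 1)) y
  have hc : ∀ i : Fin 6, i ≠ 5 → (c5 ^ (i.val + 1)).1 4 = i ∧ (c5 ^ (i.val + 1)).1 5 = 5 := by decide +kernel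
  have hA : ∀ p : A6, p.1 5 = 5 → ∀ i, R p (A i) = A (p.1 i) := by
    intro p hp i
    by_cases hi : i = 5
    · simp [A, hi, hp]
    have hi' : p.1 i ≠ 5 := fun e => hi (p.1.injective (e.trans hp.symm))
    simp only [A, if_neg hi, if_neg hi']
    rw [← R_mul, ← mul_inv_cancel_left (c5 ^ ((p.1 i).val + 1)) (p * _), R_mul, hy]
    · change (c5 ^ ((p.1 i).val + 1)).1⁻¹ (p.1 ((c5 ^ (i.val + 1)).1 4)) = 4
      rw [(hc i hi).1, inv_eq_iff_eq, (hc _ hi').1]
    · change (c5 ^ ((p.1 i).val + 1)).1⁻¹ (p.1 ((c5 ^ (i.val + 1)).1 5)) = 5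
      rw [(hc i hi).2, hp, inv_eq_iff_eq, (hc _ hi').2]
  have hsum : ∑ i, A i = 0 := fpf R hM hR (by
    rw [map_sum, ← Equiv.sum_comp c5.1 A]
    exact Finset.sum_congr rfl fun i _ => hA c5 (by decide +kernel) i)
  let ι : V →ₗ[ZMod 3] M := AddMonoidHom.toZModLinearMap 3 (AddMonoidHom.mk' (fun v => ∑ i, lf v i • A i)
    fun v w => by simp only [lf_add, add_smul, Finset.sum_add_distrib])
  have hι : ∀ v, ι v = ∑ i, lf v i • A i := fun v => by
    simp only [ι, AddMonoidHom.coe_toZModLinearMap, AddMonoidHom.mk'_apply]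
  clear_value ι
  have he : ∀ p : A6, p.1 5 = 5 → ∀ v, R p (ι v) = ι (act p v) := by
    intro p hp v
    have h5 : p.1.symm 5 = 5 := by rw [Equiv.symm_apply_eq, hp]
    rw [hι, hι, map_sum, ← Equiv.sum_comp p.1 fun i => lf (act p v) i • A i]
    refine Finset.sum_congr rfl fun i _ => ?_
    have h6 := lf_pr (x := fun i => lf v (p.1.symm i)) (sum_lf v p.1.symm) (p.1 i)
    simp only [h5, Equiv.symm_apply_apply] at h6
    rw [map_smul, hA p hp, show lf (act p v) (p.1 i) = _ from h6, show lf v 5 = 0 from rfl, sub_zero]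
  have hs : Function.Surjective ι := by
    refine LinearMap.range_eq_top.1 ((irred R hM hR _ ?_).resolve_left fun h => h0 ?_)
    · rintro _ ⟨v, rfl⟩
      exact ⟨_, (he c5 (by decide +kernel) v).symm⟩
    · have h1 : ι (av 4) = 0 := (Submodule.eq_bot_iff _).1 h _ ⟨_, rfl⟩
      have h2 : A 4 = y := by
        simp only [A, if_neg (show (4 : Fin 6) ≠ 5 by decide)]
        rw [R_congr R (p' := 1) (by decide +kernel), R_one]
      have h3 : ∀ i : Fin 6, i ≠ 5 → lf (av 4) i = 1 + if i = 4 then 1 else 0 := by decide +kernel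
      have h4 : ∀ i : Fin 6, lf (av 4) i • A i = A i + if i = 4 then A 4 else 0 := fun i => by
        by_cases hi : i = 5
        · simp [A, hi]
        · rw [h3 i hi]
          split_ifs with h
          · rw [h, add_smul, one_smul]
          · simp
      rw [hι, Finset.sum_congr rfl fun i _ => h4 i, Finset.sum_add_distrib, hsum] at h1
      simpa [h2] using h1
  exact ⟨ι, (Nat.bijective_iff_surjective_and_card ι).2 ⟨hs, by rw [hM]; simp⟩, he⟩

theorem exists_iota : ∃ ι : V →ₗ[ZMod 3] M, Function.Bijective ι ∧ ∀ p : A6, ∀ v, R p (ι v) = ι (act p v) := by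
  obtain ⟨ι, hb, he⟩ := exists_iota5 R hM hR
  obtain ⟨w, hw⟩ := hb.2 (R kk (ι (av 1)))
  obtain ⟨α, β, rfl⟩ := fix_kr w (hb.1 (by
    rw [← he kr (by decide +kernel), hw, ← R_mul, ← mul_inv_cancel_left kk (kr * kk), R_mul,
      he (kk⁻¹ * (kr * kk)) (by decide +kernel)]
    exact congrArg (fun v => R kk (ι v)) (by decide +kernel)))
  have h1 : ∀ v, R kk (ι v) = ι (Gam α β v) := by
    intro v
    conv_lhs => rw [eq_sum_av v]
    rw [Gam, map_sum, map_sum, map_sum]
    refine Finset.sum_congr rfl fun i _ => ?_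
    obtain ⟨j, l, g, -, g1, g5, g6, g0, g4⟩ := exists_move i
    rw [map_smul, map_smul, map_smul, ← g1, ← he g g5, ← R_mul, ← inv_mul_cancel_right (kk * g) kk,
      R_mul, ← hw, map_add, map_add, map_smul, map_smul, map_smul, map_smul, he _ g6, he _ g6, g0, g4, map_add,
      map_smul, map_smul]
  have hu := he ku (by decide +kernel)
  have h2 : ∀ v, R kk (ι v) = ι (act kk v) := fun v => by
    rw [h1, gam_eq α β (fun v => hb.1 ?_) (fun v => hb.1 ?_)]
    · rw [← h1, ← hu, ← h1, ← hu, ← h1, ← hu, ← R_mul, ← R_mul, ← R_mul, ← R_mul, ← R_mul,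
        R_congr R (p' := 1) (by decide +kernel), R_one]
    · rw [← h1, ← h1, ← R_mul, R_congr R (p' := 1) (by decide +kernel), R_one]
  refine ⟨ι, hb, fun p v => ?_⟩
  by_cases hp : p.1 5 = 5
  · exact he p hp v
  have hc : ∀ i : Fin 6, i ≠ 5 → (c5 ^ (i.val + 1) * kk).1 5 = i ∧ (c5 ^ (i.val + 1)).1 5 = 5 := by decide +kernel
  obtain ⟨h3, h4⟩ := hc _ hp
  generalize c5 ^ ((p.1 5).val + 1) = g at h3 h4
  have h5 : ((g * kk)⁻¹ * p).1 5 = 5 := by
    change (g * kk).1⁻¹ (p.1 5) = 5
    rw [inv_eq_iff_eq, h3]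
  conv_lhs => rw [← mul_inv_cancel_left (g * kk) p, R_mul, R_mul, he _ h5, h2, he g h4, ← act_mul, ← act_mul]
  congr 2
  exact congrArg Subtype.val (mul_inv_cancel_left (g * kk) p)

end Coord

open Coord in
theorem coordThm : CoordThm.{u} := by
  intro J _ _ hJ h3 ρ z hz
  obtain ⟨_⟩ : Nonempty (Module (ZMod 3) (Additive J)) :=
    ⟨AddCommGroup.zmodModule fun v => congrArg Additive.ofMul (h3 v.toMul)⟩
  let R : A6 →* Module.End (ZMod 3) (Additive J) :=
    { toFun := fun p => (MonoidHom.toAdditive (ρ p).toMonoidHom).toZModLinearMap 3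
      map_one' := by simp only [map_one]; rfl
      map_mul' := fun g h => by simp only [map_mul]; rfl }
  have hR : R ≠ 1 := fun h => by
    have h1 : zpowers z = ⊤ := eq_top_iff.2 fun a _ => hz a fun p _ =>
      congrArg Additive.toMul (LinearMap.congr_fun (DFunLike.congr_fun h p) (Additive.ofMul a))
    have h2 := orderOf_le_of_pow_eq_one (by decide) (h3 z)
    rw [← Nat.card_zpowers, h1, card_top, hJ] at h2
    omega
  obtain ⟨ι, hb, he⟩ := exists_iota R hJ hR
  exact ⟨fun v => (ι v).toMul, fun v w => congrArg Additive.toMul (map_add ι v w), Additive.toMul.bijective.comp hb,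
    fun p v => congrArg Additive.toMul (he p v)⟩

end CL.McL3
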