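/-
The 3-local characterization of the McLaughlin group, part Y: the centralizer of a nonsingular vector normalizes `J`.
-/
import Cfsg.Agent.Rec.McL3Defs

set_option autoImplicit false

open Cfsg Subgroup CL.Grp Equiv Equiv.Perm

namespace CL.McL3

universe u

/-- `e0 - e4` -/
def w0 : V := ![1, 0, 0, 0]

/-- the line through `y0` -/
def W1 : AddSubgroup V where
  carrier := {v | v 0 = v 1 ∧ v 3 = v 1 ∧ v 2 = -v 1}
  add_mem' := by
    rintro a b ⟨h1, h2, h3⟩ ⟨h4, h5, h6⟩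
    simp only [Set.mem_ofPred_eq, Pi.add_apply, h1, h2, h3, h4, h5, h6, neg_add_rev, true_and, add_comm]
  zero_mem' := by simp
  neg_mem' := by
    rintro a ⟨h1, h2, h3⟩
    simp only [Set.mem_ofPred_eq, Pi.neg_apply, h1, h2, h3, true_and]

/-- the anisotropic plane through `y0` and `w0` -/
def W2 : AddSubgroup V where
  carrier := {v | v 3 = v 1 ∧ v 2 = -v 1}
  add_mem' := by
    rintro a b ⟨h2, h3⟩ ⟨h5, h6⟩
    simp only [Set.mem_ofPred_eq, Pi.add_apply, h2, h3, h5, h6, neg_add_rev, true_and, add_comm]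
  zero_mem' := by simp
  neg_mem' := by
    rintro a ⟨h2, h3⟩
    simp only [Set.mem_ofPred_eq, Pi.neg_apply, h2, h3, true_and]

instance : DecidablePred (· ∈ W1) := fun v => inferInstanceAs (Decidable (v 0 = v 1 ∧ v 3 = v 1 ∧ v 2 = -v 1))

instance : DecidablePred (· ∈ W2) := fun v => inferInstanceAs (Decidable (v 3 = v 1 ∧ v 2 = -v 1))

def vx : Fin 3 → V := ![![1, 1, 0, 2], ![1, 2, 0, 1], ![1, 2, 0, 2]]

theorem card_W1 : Nat.card W1 = 3 := by rw [Nat.card_eq_fintype_card]; decide +kernel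

theorem card_W2 : Nat.card W2 = 9 := by rw [Nat.card_eq_fintype_card]; decide +kernel

theorem W1_cases : ∀ v ∈ W1, v = 0 ∨ v = y0 ∨ v = -y0 := by decide +kernel

theorem W2_gen : ∀ v ∈ W2, ∃ a b : Fin 3, v = a.val • y0 + b.val • w0 := by decide +kernel

theorem sing_act : ∀ v : V, q v = 0 → v ≠ 0 → ∃ p : S6, act p z0 = v ∧ sign p = 1 := by decide +kernel

theorem fix_W2 : ∀ p : S6, act p y0 = y0 → act p w0 = w0 → sign p = 1 → p = 1 := by decide +kernel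

theorem neg_W2 : ∀ p : S6, -act p y0 = y0 → -act p w0 = w0 → sign p = 1 → ∀ v, -v + act p v ∈ W2 := by decide +kernel

theorem sing_W2 : ∀ d, d ∉ W2 → ∃ e ∈ W2, q (d + e) = 0 := by decide +kernel

theorem W1_split : ∀ v, v ∉ W1 → (∃ e ∈ W1, q (v + e) = 0) ∨
    ∃ p : S6, act p y0 = y0 ∧ (-v + act p w0 ∈ W1 ∨ v + act p w0 ∈ W1) ∧ sign p = 1 := by decide +kernel

theorem vx_gen : ∀ v : V, ∃ a b c : Fin 3, -v + (a.val • vx 0 + b.val • vx 1 + c.val • vx 2) ∈ W1 := by decide +kernel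

theorem mono_pos : ∀ p : S6, act p y0 = y0 → sign p = 1 → ∃ κ : Perm (Fin 3), ∃ e : Fin 3 → ℤˣ,
    (∀ i, act p (vx i) = (e i : ℤ) • vx (κ i)) ∧ sign κ * (e 0 * e 1 * e 2) = 1 := by decide +kernel

theorem mono_neg : ∀ p : S6, -act p y0 = y0 → sign p = 1 → ∃ κ : Perm (Fin 3), ∃ e : Fin 3 → ℤˣ,
    (∀ i, -act p (vx i) = (e i : ℤ) • vx (κ i)) ∧ sign κ * (e 0 * e 1 * e 2) = 1 := by decide +kernel

theorem cent_pos : ∀ p : S6, act p y0 = y0 → (∀ i, -vx i + act p (vx i) ∈ W1) → p = 1 := by decide +kernel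

theorem cent_neg : ∀ p : S6, -act p y0 = y0 → sign p = 1 → ¬ ∀ i, -vx i + -act p (vx i) ∈ W1 := by decide +kernel

theorem fix_sing : ∀ p : S6, act p y0 = y0 → p ^ 3 = 1 → ∃ v, q v = 0 ∧ v ≠ 0 ∧ act p v = v := by decide +kernel

variable {G : Type*} [Group G] {ι : V → G} {J : Subgroup G}

namespace Emb

variable (h : Emb ι J) (W : AddSubgroup V)

/-- the subgroup of `J` with coordinates in `W` -/
def sg : Subgroup G where
  carrier := {g | ∃ v ∈ W, ι v = g}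
  mul_mem' := by
    rintro _ _ ⟨v, hv, rfl⟩ ⟨w, hw, rfl⟩
    exact ⟨v + w, add_mem hv hw, h.add v w⟩
  one_mem' := ⟨0, zero_mem _, h.zero⟩
  inv_mem' := by
    rintro _ ⟨v, hv, rfl⟩
    exact ⟨-v, neg_mem hv, h.neg v⟩

theorem mem_sg {v : V} : ι v ∈ h.sg W ↔ v ∈ W := ⟨fun ⟨_, hw, e⟩ => h.inj e ▸ hw, fun hv => ⟨v, hv, rfl⟩⟩

theorem sg_le : h.sg W ≤ J := by
  rintro _ ⟨v, -, rfl⟩
  exact h.memJ v

theorem card_sg : Nat.card (h.sg W) = Nat.card W :=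
  (Nat.card_congr (Equiv.ofBijective (fun v : W => (⟨ι v, v, v.2, rfl⟩ : h.sg W))
    ⟨fun _ _ e => Subtype.ext (h.inj (congrArg Subtype.val e)), fun ⟨_, v, hv, e⟩ => ⟨⟨v, hv⟩, Subtype.ext e⟩⟩)).symm

/-- the centralizer of `W` -/
abbrev Y : Subgroup G := centralizer (h.sg W : Set G)

theorem mem_Y {g : G} : g ∈ h.Y W ↔ ∀ v ∈ W, Commute g (ι v) :=
  ⟨fun hg v hv => (hg _ ⟨v, hv, rfl⟩).symm, by
    rintro hg _ ⟨v, hv, rfl⟩
    exact (hg v hv).symm⟩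

theorem ι_mem_Y (v : V) : ι v ∈ h.Y W := (h.mem_Y W).2 fun w _ => h.comm v w

instance : ((h.sg W).subgroupOf (h.Y W)).Normal := ⟨fun a ha g => by
  have : (g : G) * a * (g : G)⁻¹ = a := by rw [← g.2 a ha, mul_inv_cancel_right]
  change (g : G) * a * (g : G)⁻¹ ∈ h.sg W
  rw [this]
  exact ha⟩

/-- the section -/
abbrev X : Type _ := h.Y W ⧸ (h.sg W).subgroupOf (h.Y W)

/-- the image of a vector -/
def bar (v : V) : h.X W := ((⟨ι v, h.ι_mem_Y W v⟩ : h.Y W) : h.X W)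

theorem bar_add (v w : V) : h.bar W (v + w) = h.bar W v * h.bar W w :=
  congrArg QuotientGroup.mk (Subtype.ext (h.add v w))

theorem bar_eq {v w : V} : h.bar W v = h.bar W w ↔ -v + w ∈ W := by
  rw [bar, bar, QuotientGroup.eq, mem_subgroupOf, ← h.mem_sg, h.add, h.neg]
  rfl

theorem bar_zero : h.bar W 0 = 1 := by simpa using h.bar_add W 0 0

theorem bar_neg (v : V) : h.bar W (-v) = (h.bar W v)⁻¹ :=
  eq_inv_of_mul_eq_one_left (by rw [← h.bar_add, neg_add_cancel, h.bar_zero])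

theorem bar_nsmul (n : ℕ) (v : V) : h.bar W (n • v) = h.bar W v ^ n := by
  induction n with
  | zero => simp [h.bar_zero]
  | succ n ih => rw [succ_nsmul, h.bar_add, ih, pow_succ]

theorem bar_unit (e : ℤˣ) (v : V) : h.bar W ((e : ℤ) • v) = h.bar W v ^ (e : ℤ) := by
  rcases Int.units_eq_one_or e with rfl | rfl <;> simp [h.bar_neg]

theorem bar_eq_one {v : V} : h.bar W v = 1 ↔ v ∈ W := by
  rw [← h.bar_zero, h.bar_eq, add_zero, neg_mem_iff]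

/-- the image of `J` -/
def T : Subgroup (h.X W) := (J.subgroupOf (h.Y W)).map (QuotientGroup.mk' _)

theorem mem_T {x : h.X W} : x ∈ h.T W ↔ ∃ v, h.bar W v = x := by
  refine ⟨?_, ?_⟩
  · rintro ⟨g, hg, rfl⟩
    obtain ⟨v, e⟩ := (h.mem g).1 hg
    exact ⟨v, congrArg QuotientGroup.mk (Subtype.ext e)⟩
  · rintro ⟨v, rfl⟩
    exact ⟨_, h.memJ v, rfl⟩

theorem bar_mem (v : V) : h.bar W v ∈ h.T W := (h.mem_T W).2 ⟨v, rfl⟩

theorem mk_mem_T {g : h.Y W} : (g : h.X W) ∈ h.T W ↔ (g : G) ∈ J := by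
  refine ⟨fun hg => ?_, fun hg => ⟨g, hg, rfl⟩⟩
  obtain ⟨v, e⟩ := (h.mem_T W).1 hg
  exact (mul_mem_cancel_left (inv_mem (h.memJ v))).1 (h.sg_le W (QuotientGroup.eq (a := (⟨_, h.ι_mem_Y W v⟩ : h.Y W)).1 e))

theorem mk_mem_norm [Finite G] {g : h.Y W} :
    (g : h.X W) ∈ normalizer (h.T W : Set (h.X W)) ↔ (g : G) ∈ normalizer (J : Set G) := by
  refine ⟨fun hg => mem_normalizer_fintype fun j hj => ?_, fun hg => mem_normalizer_fintype fun x hx => ?_⟩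
  · obtain ⟨v, rfl⟩ := (h.mem j).1 hj
    have := (mem_normalizer_iff.1 hg _).1 (h.bar_mem W v)
    exact (h.mk_mem_T W (g := g * (⟨ι v, h.ι_mem_Y W v⟩ : h.Y W) * g⁻¹)).1 this
  · obtain ⟨v, rfl⟩ := (h.mem_T W).1 hx
    exact (h.mk_mem_T W (g := g * ⟨_, h.ι_mem_Y W v⟩ * g⁻¹)).2 ((mem_normalizer_iff.1 hg _).1 (h.memJ v))

theorem card_T : Nat.card W * Nat.card (h.T W) = 81 := by
  have hJ : J ≤ h.Y W := fun j hj => by
    obtain ⟨v, rfl⟩ := (h.mem j).1 hj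
    exact h.ι_mem_Y W v
  rw [T, ← relIndex_ker, QuotientGroup.ker_mk', relIndex_subgroupOf hJ, ← h.card_sg, ← h.card,
    ← relIndex_bot_left, ← relIndex_bot_left, relIndex_mul_relIndex _ _ _ bot_le (h.sg_le W)]

theorem conj_bar {g : h.Y W} {γ : V → V} (hg : Lin ι g γ) (v : V) :
    (g : h.X W) * h.bar W v * (g : h.X W)⁻¹ = h.bar W (γ v) :=
  congrArg QuotientGroup.mk (Subtype.ext (hg v) : g * ⟨_, h.ι_mem_Y W v⟩ * g⁻¹ = _)

theorem of_comm {g : h.Y W} {v : V} (hc : (g : h.X W) * h.bar W v = h.bar W v * g) :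
    ∃ e ∈ W, (g : G) * ι v * (g : G)⁻¹ = ι (v + e) := by
  obtain ⟨e, he, e1⟩ := QuotientGroup.eq.1 (mul_inv_eq_iff_eq_mul.2 hc :
    ((g * ⟨_, h.ι_mem_Y W v⟩ * g⁻¹ : h.Y W) : h.X W) = h.bar W v).symm
  exact ⟨e, he, by rw [h.add, e1]; simp⟩

theorem cube_T : ∀ a ∈ h.T W, a ^ 3 = 1 := fun a ha => by
  obtain ⟨v, rfl⟩ := (h.mem_T W).1 ha
  exact congrArg QuotientGroup.mk (Subtype.ext (h.cube v) : (⟨_, h.ι_mem_Y W v⟩ : h.Y W) ^ 3 = 1)

theorem comm_T : ∀ a ∈ h.T W, ∀ b ∈ h.T W, Commute a b := fun a ha b hb => by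
  obtain ⟨v, rfl⟩ := (h.mem_T W).1 ha
  obtain ⟨w, rfl⟩ := (h.mem_T W).1 hb
  rw [Commute, SemiconjBy, ← h.bar_add, ← h.bar_add, add_comm]

theorem norm_of_cent [Finite G] {g : h.Y W} (hg : (g : h.X W) ∈ centralizer (h.T W : Set (h.X W))) :
    (g : G) ∈ normalizer (J : Set G) := (h.mk_mem_norm W).1 (centralizer_le_normalizer _ hg)

theorem le_norm [Finite G] (hT : (h.T W).Normal) {g : G} (hg : g ∈ h.Y W) : g ∈ normalizer (J : Set G) :=
  (h.mk_mem_norm W (g := ⟨g, hg⟩)).1 (normalizer_eq_top (h.T W) ▸ mem_top _)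

include h in
theorem comm_add {g : G} {v w : V} (h1 : Commute g (ι v)) (h2 : Commute g (ι w)) : Commute g (ι (v + w)) :=
  h.add v w ▸ h1.mul_right h2

include h in
theorem comm_neg {g : G} {v : V} (h1 : Commute g (ι v)) : Commute g (ι (-v)) := h.neg v ▸ h1.inv_right

theorem mem_Y1 {g : G} : g ∈ h.Y W1 ↔ Commute g (ι y0) := by
  refine (h.mem_Y W1).trans ⟨fun hg => hg _ (by decide), fun hg v hv => ?_⟩
  rcases W1_cases v hv with rfl | rfl | rfl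
  exacts [h.zero ▸ Commute.one_right g, hg, h.comm_neg hg]

theorem mem_Y2 {g : G} : g ∈ h.Y W2 ↔ Commute g (ι y0) ∧ Commute g (ι w0) := by
  refine (h.mem_Y W2).trans ⟨fun hg => ⟨hg _ (by decide), hg _ (by decide)⟩, fun hg v hv => ?_⟩
  obtain ⟨a, b, rfl⟩ := W2_gen v hv
  rw [h.add, h.nsmul, h.nsmul]
  exact (hg.1.pow_right _).mul_right (hg.2.pow_right _)

end Emb

theorem comm_conj {g j a : G} (hj : Commute j a) : Commute (g * j * g⁻¹) (g * a * g⁻¹) := hj.map (MulAut.conj g)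

theorem comm_conj_fix {g j a : G} (hg : Commute g a) (hj : Commute j a) : Commute (g * j * g⁻¹) a :=
  (hg.mul_left hj).mul_left hg.inv_left

namespace Fj

variable {t f s : G} (h : Fj ι J t f s)
include h

theorem sing_conj {v : V} (h1 : q v = 0) (h2 : v ≠ 0) : IsConj (ι z0) (ι v) := by
  obtain ⟨p, rfl, hp⟩ := sing_act v h1 h2
  obtain ⟨m, hm⟩ := h.onto p hp
  exact isConj_iff.2 ⟨m, hm z0⟩

theorem l5y {v : V} (h1 : q v = 0) (h2 : v ≠ 0) {g : G} (hv : Commute g (ι v)) (hy : Commute g (ι y0)) :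
    g ∈ normalizer (J : Set G) :=
  h.l5 v y0 h1 h2 (by decide) (fun e => absurd (e ▸ h1) (by decide))
    (fun e => absurd (e ▸ (q_neg v).trans h1) (by decide)) g hv hy

theorem commJ {j : G} (hj : j ∈ J) (v : V) : Commute j (ι v) := (h.lin_id hj).commute rfl

theorem pm {g : G} (hg : g ∈ normalizer (J : Set G)) (hy : Commute g (ι y0)) : ∃ p : S6, sign p = 1 ∧
    ((Lin ι g (act p) ∧ act p y0 = y0) ∨ (Lin ι g (fun v => -act p v) ∧ -act p y0 = y0)) := by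
  obtain ⟨p, hp, h1⟩ := h.n2 g hg y0 y0 (mul_inv_eq_iff_eq_mul.2 hy) rfl (by decide)
  exact ⟨p, hp, h1.imp (fun e => ⟨e, h.fix e hy⟩) fun e => ⟨e, h.fix e hy⟩⟩

variable [Finite G]

theorem an_cases {g : G} (hg : g ∈ normalizer (J : Set G)) (hY : g ∈ h.Y W2) :
    g ∈ J ∨ ∃ p : S6, Lin ι g (fun v => -act p v) ∧ ∀ v, -v + act p v ∈ W2 := by
  obtain ⟨hy, hw⟩ := h.mem_Y2.1 hY
  obtain ⟨p, hp, ⟨h1, h2⟩ | ⟨h1, h2⟩⟩ := h.pm hg hy
  · obtain rfl := fix_W2 p h2 (h.fix h1 hw) hp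
    exact Or.inl (h.cJ g h1.id_of_act)
  · exact Or.inr ⟨p, h1, neg_W2 p h2 (h.fix h1 hw) hp⟩

end Fj

theorem an_of {G : Type u} [Group G] [Finite G] {ι : V → G} {J : Subgroup G} {t f s : G} (h9 : C9Thm.{u})
    (h : Fj ι J t f s) {g : G} (hy : Commute g (ι y0)) (hw : Commute g (ι w0)) : g ∈ normalizer (J : Set G) := by
  have h3 : Fact (Nat.Prime 3) := ⟨Nat.prime_three⟩
  have hc : Nat.card (h.T W2) = 9 := by
    have := h.card_T W2
    rw [card_W2] at this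
    omega
  have inv : ∀ {n : h.Y W2} {p : S6}, Lin ι n (fun v => -act p v) → (∀ v, -v + act p v ∈ W2) →
      ∀ a ∈ h.T W2, (n : h.X W2) * a * (n : h.X W2)⁻¹ = a⁻¹ := fun h1 h2 a ha => by
    obtain ⟨v, rfl⟩ := (h.mem_T W2).1 ha
    rw [h.conj_bar W2 h1, h.bar_neg, inv_inj, eq_comm, h.bar_eq]
    exact h2 v
  refine h.le_norm W2 (h9 (isSylowIn_of_maximal le_top (.of_card (n := 2) hc) fun U hU h1 _ => le_antisymm ?_ h1) hc
    (h.cube_T W2) ?_ ?_ ?_) (h.mem_Y2.2 ⟨hy, hw⟩)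
  · intro x hx
    obtain ⟨x, rfl⟩ := QuotientGroup.mk_surjective x
    have hP : IsPGroup 3 ((U.comap (QuotientGroup.mk' _)).map (h.Y W2).subtype) := (hU.comap_of_ker_isPGroup _ (by
      rw [QuotientGroup.ker_mk']
      exact (h.isPGroup.to_le (h.sg_le W2)).comap_of_injective _ (subtype_injective _))).map _
    have hx' : (x : G) ∈ (U.comap (QuotientGroup.mk' _)).map (h.Y W2).subtype := ⟨x, hx, rfl⟩
    have hN := h.u3 _ hP (fun j hj => by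
      obtain ⟨v, rfl⟩ := (h.mem j).1 hj
      exact ⟨⟨_, h.ι_mem_Y W2 v⟩, h1 (h.bar_mem W2 v), rfl⟩) hx'
    obtain ⟨k, hk⟩ := hP ⟨x, hx'⟩
    obtain ⟨p, hp, h2⟩ := h.thr x hN k (congrArg Subtype.val hk)
    obtain ⟨hy, hw⟩ := h.mem_Y2.1 x.2
    obtain rfl := fix_W2 p (h.fix h2 hy) (h.fix h2 hw) hp
    exact (h.mk_mem_T W2).2 (h.cJ _ h2.id_of_act)
  · intro x hx
    obtain ⟨x, rfl⟩ := QuotientGroup.mk_surjective x
    rcases h.an_cases (h.norm_of_cent W2 hx) x.2 with e | ⟨p, h1, h2⟩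
    · exact (h.mk_mem_T W2).2 e
    have h4 := inv h1 h2 _ (h.bar_mem W2 z1)
    rw [← hx _ (h.bar_mem W2 z1), mul_inv_cancel_right, ← h.bar_neg, h.bar_eq] at h4
    exact absurd h4 (by decide)
  · intro a ha a1 x hx
    obtain ⟨x, rfl⟩ := QuotientGroup.mk_surjective x
    obtain ⟨d, rfl⟩ := (h.mem_T W2).1 ha
    obtain ⟨e, he, e1⟩ := h.of_comm W2 (mem_centralizer_singleton_iff.1 hx)
    have hd : d + e ∉ W2 := fun e2 => a1 ((h.bar_eq_one W2).2 ((add_mem_cancel_right he).1 e2))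
    obtain ⟨e', he', h1⟩ := sing_W2 _ hd
    refine (h.mk_mem_norm W2).2 (h.uJ _ fun j hj => h.l5y h1 (fun e2 => hd ?_)
      (h.comm_add (e1 ▸ comm_conj (h.commJ hj d)) (comm_conj_fix ((h.mem_Y W2).1 x.2 _ he') (h.commJ hj _)))
      (comm_conj_fix (h.mem_Y2.1 x.2).1 (h.commJ hj _)))
    exact (add_mem_cancel_right he').1 (e2 ▸ zero_mem _)
  · intro x hx
    obtain ⟨x, rfl⟩ := QuotientGroup.mk_surjective x
    refine (h.an_cases ((h.mk_mem_norm W2).1 hx) x.2).imp (fun e a ha => ?_) fun ⟨p, h1, h2⟩ => inv h1 h2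
    exact mul_inv_eq_iff_eq_mul.2 (h.comm_T W2 _ ((h.mk_mem_T W2).2 e) a ha)

/-- the centralizer of a plane through `y0` normalizes `J` -/
theorem plane_of {G : Type u} [Group G] [Finite G] {ι : V → G} {J : Subgroup G} {t f s : G} (h9 : C9Thm.{u})
    (h : Fj ι J t f s) {v : V} (hv : v ∉ W1) {g : G} (hy : Commute g (ι y0)) (hw : Commute g (ι v)) :
    g ∈ normalizer (J : Set G) := by
  have hY := (h.mem_Y W1).1 (h.mem_Y1.2 hy)
  rcases W1_split v hv with ⟨e, he, h1⟩ | ⟨p, h1, h2, hp⟩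
  · exact h.l5y h1 (fun e2 => hv ((add_mem_cancel_right he).1 (e2 ▸ zero_mem _))) (h.comm_add hw (hY e he)) hy
  obtain ⟨m, hm⟩ := h.onto p hp
  have h3 : Commute g (ι (act p w0)) := by
    rcases h2 with e | e
    · simpa using h.comm_add hw (hY _ e)
    · simpa using h.comm_add (h.comm_neg hw) (hY _ e)
  have key : ∀ w, Commute g (ι (act p w)) → Commute (m⁻¹ * g * m⁻¹⁻¹) (ι w) := fun w hc => by
    have := comm_conj (g := m⁻¹) hc
    rwa [← hm w, show m⁻¹ * (m * ι w * m⁻¹) * m⁻¹⁻¹ = ι w by group] at this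
  have h4 := an_of h9 h (key y0 (h1.symm ▸ hy)) (key w0 h3)
  have hmN := h.norm hm
  exact (mul_mem_cancel_left (inv_mem hmN)).1 ((mul_mem_cancel_right (inv_mem (inv_mem hmN))).1 h4)

theorem cy_of (h27 : C27Thm.{u}) (h9 : C9Thm.{u}) : CyThm.{u} := by
  intro G _ _ ι J t f s h g hg
  have hc : Nat.card (h.T W1) = 27 := by
    have := h.card_T W1
    rw [card_W1] at this
    omega
  obtain ⟨m, hm⟩ := h.onto ρ0 (by decide)
  have tY : t ∈ h.Y W1 := h.mem_Y1.2 (h.lt.commute (by decide))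
  have sY : s ∈ h.Y W1 := h.mem_Y1.2 (h.ls.commute (by decide))
  have mY : m ∈ h.Y W1 := h.mem_Y1.2 (hm.commute (by decide))
  have st : s * t = t * s := by
    rw [← mul_inv_eq_iff_eq_mul]
    calc s * t * s⁻¹ = s * f * s⁻¹ * (s * f * s⁻¹) := by rw [← h.f2]; group
      _ = t := by rw [h.sf, ← mul_inv_rev, h.f2, inv_eq_of_mul_eq_one_left h.t2]
  have ct := h.conj_bar W1 (g := ⟨t, tY⟩) h.lt
  have cs := h.conj_bar W1 (g := ⟨s, sY⟩) h.ls
  refine h.le_norm W1 (h27 (x := fun i => h.bar W1 (vx i)) (ta := ((⟨t, tY⟩ : h.Y W1) : h.X W1))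
    (tb := ((⟨s, sY⟩ : h.Y W1) : h.X W1)) (ρ := ((⟨m, mY⟩ : h.Y W1) : h.X W1))
    ⟨hc, le_antisymm (fun a ha => ?_) ((closure_le _).2 ?_), h.cube_T W1, h.comm_T W1, ?_, ?_, ?_,
      congrArg QuotientGroup.mk (Subtype.ext h.t2 : (⟨t, tY⟩ : h.Y W1) * ⟨t, tY⟩ = 1),
      congrArg QuotientGroup.mk (Subtype.ext h.s2 : (⟨s, sY⟩ : h.Y W1) * ⟨s, sY⟩ = 1),
      congrArg QuotientGroup.mk (Subtype.ext st : (⟨s, sY⟩ : h.Y W1) * ⟨t, tY⟩ = ⟨t, tY⟩ * ⟨s, sY⟩),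
      (ct _).trans (congrArg _ (by decide)), (ct _).trans ((congrArg _ (by decide)).trans (h.bar_neg W1 _)),
      (ct _).trans ((congrArg _ (by decide)).trans (h.bar_neg W1 _)),
      (cs _).trans ((congrArg _ (by decide)).trans (h.bar_neg W1 _)), (cs _).trans (congrArg _ (by decide)),
      (cs _).trans ((congrArg _ (by decide)).trans (h.bar_neg W1 _)),
      fun i => (h.conj_bar W1 (g := ⟨m, mY⟩) hm _).trans (congrArg _ (by revert i; decide)), ?_⟩) (h.mem_Y1.2 hg)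
  · obtain ⟨v, rfl⟩ := (h.mem_T W1).1 ha
    obtain ⟨a, b, c, e⟩ := vx_gen v
    rw [(h.bar_eq W1).2 e, h.bar_add, h.bar_add, h.bar_nsmul, h.bar_nsmul, h.bar_nsmul]
    exact mul_mem (mul_mem (pow_mem (Subgroup.subset_closure (Set.mem_range_self 0)) _) (pow_mem (Subgroup.subset_closure (Set.mem_range_self 1)) _))
      (pow_mem (Subgroup.subset_closure (Set.mem_range_self 2)) _)
  · rintro _ ⟨i, rfl⟩
    exact h.bar_mem W1 _
  · intro x hx
    obtain ⟨x, rfl⟩ := QuotientGroup.mk_surjective x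
    have key : ∀ {γ}, Lin ι x γ → ∀ i, -vx i + γ (vx i) ∈ W1 := fun h1 i => (h.bar_eq W1).1 (by
      rw [← h.conj_bar W1 h1, ← hx _ (h.bar_mem W1 _), mul_inv_cancel_right])
    obtain ⟨p, hp, ⟨h1, h2⟩ | ⟨h1, h2⟩⟩ := h.pm (h.norm_of_cent W1 hx) (h.mem_Y1.1 x.2)
    · obtain rfl := cent_pos p h2 (key h1)
      exact (h.mk_mem_T W1).2 (h.cJ _ h1.id_of_act)
    · exact (cent_neg p h2 hp (key h1)).elim
  · intro a ha a1 x hx
    obtain ⟨x, rfl⟩ := QuotientGroup.mk_surjective x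
    obtain ⟨d, rfl⟩ := (h.mem_T W1).1 ha
    obtain ⟨e, he, e1⟩ := h.of_comm W1 (mem_centralizer_singleton_iff.1 hx)
    exact (h.mk_mem_norm W1).2 (h.uJ _ fun j hj => plane_of h9 h
      (fun e2 => a1 ((h.bar_eq_one W1).2 ((add_mem_cancel_right he).1 e2)))
      (comm_conj_fix (h.mem_Y1.1 x.2) (h.commJ hj _)) (e1 ▸ comm_conj (h.commJ hj d)))
  · intro a ha x hx
    obtain ⟨x, rfl⟩ := QuotientGroup.mk_surjective x
    obtain ⟨v, rfl⟩ := (h.mem_T W1).1 ha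
    have hy := h.mem_Y1.1 x.2
    replace hx := (h.mk_mem_norm W1 (g := x * (⟨ι v, h.ι_mem_Y W1 v⟩ : h.Y W1) * x⁻¹)).1 hx
    refine (h.mk_mem_T W1 (g := x * ⟨_, h.ι_mem_Y W1 v⟩ * x⁻¹)).2 ?_
    change (x : G) * ι v * (x : G)⁻¹ ∈ _ at hx ⊢
    by_cases hv : v ∈ W1
    · rw [((h.mem_Y W1).1 x.2 v hv).eq, mul_inv_cancel_right]
      exact h.memJ v
    have h3 : ((x : G) * ι v * (x : G)⁻¹) ^ 3 = 1 := by rw [conj_pow, h.cube, mul_one, mul_inv_cancel]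
    obtain ⟨p, -, h1⟩ := h.thr _ hx 1 h3
    obtain ⟨u, u1, u2, u3⟩ := fix_sing p (h.fix h1 (comm_conj_fix hy (h.comm v y0)))
      (h.act_eq (h1.act_pow 3) (h3 ▸ (Lin.one ι).act_one))
    have h4 := comm_conj (g := (x : G)⁻¹) (h1.commute u3).symm
    rw [show (x : G)⁻¹ * (x * ι v * (x : G)⁻¹) * (x : G)⁻¹⁻¹ = ι v by group] at h4
    have h5 := h.o3 _ (plane_of h9 h hv (comm_conj_fix hy.inv_left (h.comm u y0)) h4)
      ((h.sing_conj u1 u2).trans (isConj_iff.2 ⟨_, rfl⟩))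
    refine (mem_normalizer_iff.1 (h.uJ x fun j hj => h.l5y u1 u2 ?_ (comm_conj_fix hy (h.commJ hj _))) _).1 (h.memJ v)
    obtain ⟨w, e⟩ := (h.mem _).1 h5
    have := comm_conj (g := (x : G)) (h.commJ hj w)
    rwa [e, show (x : G) * ((x : G)⁻¹ * ι u * (x : G)⁻¹⁻¹) * (x : G)⁻¹ = ι u by group] at this
  · intro x hx
    obtain ⟨x, rfl⟩ := QuotientGroup.mk_surjective x
    obtain ⟨p, hp, ⟨h1, h2⟩ | ⟨h1, h2⟩⟩ := h.pm ((h.mk_mem_norm W1).1 hx) (h.mem_Y1.1 x.2)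
    · obtain ⟨κ, e, h3, h4⟩ := mono_pos p h2 hp
      exact ⟨κ, e, h4, fun i => by rw [h.conj_bar W1 h1, h3, h.bar_unit]⟩
    · obtain ⟨κ, e, h3, h4⟩ := mono_neg p h2 hp
      exact ⟨κ, e, h4, fun i => by rw [h.conj_bar W1 h1, h3, h.bar_unit]⟩

end CL.McL3
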