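/-
The case in which `s` is conjugate to a transposition: the group is the symmetric group of degree eight.
-/
import Cfsg.Agent.Rec.S8Tau

set_option autoImplicit false
set_option maxRecDepth 100000

open Cfsg Subgroup CL.Grp CL.Perm Equiv Equiv.Perm
open scoped Pointwise

namespace CL.Rec

variable {G : Type*} [Group G]

theorem s6_link' : ∀ a : S6, a * a = 1 → a * swap 0 1 = swap 0 1 * a → (a * swap 1 2) ^ 3 = 1 →
    (a * swap 3 4) ^ 3 = 1 → a = swap 2 3 ∨ a = swap 2 4 := by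
  decide +kernel

theorem s8_two {a : Perm (Fin 8)} (h : orderOf a = 2) : IsConj (swap 6 7) a ∨ IsConj (swap 3 4 * swap 6 7) a ∨
    IsConj (swap 0 3 * swap 1 4 * swap 2 5) a ∨ IsConj (swap 0 3 * swap 1 4 * swap 2 5 * swap 6 7) a := by
  obtain ⟨n, -, h1, h2⟩ := RecA8.cyc_of_prime Nat.prime_two h
  have key : ∀ b : Perm (Fin 8), b * b = 1 → b ≠ 1 → b.support.card = a.support.card → IsConj b a :=
    fun b b2 b1 e => isConj_iff_cycleType_eq.2 (RecA8.cyc_eq Nat.prime_two (ord2 b2 b1) h e)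
  rcases (by omega : n = 0 ∨ n = 1 ∨ n = 2 ∨ n = 3) with rfl | rfl | rfl | rfl
  · exact Or.inl (key _ (by decide +kernel) (by decide +kernel) (h1 ▸ by decide +kernel))
  · exact Or.inr (Or.inl (key _ (by decide +kernel) (by decide +kernel) (h1 ▸ by decide +kernel)))
  · exact Or.inr (Or.inr (Or.inl (key _ (by decide +kernel) (by decide +kernel) (h1 ▸ by decide +kernel))))
  · exact Or.inr (Or.inr (Or.inr (key _ (by decide +kernel) (by decide +kernel) (h1 ▸ by decide +kernel))))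

theorem mem_of_cube_of_index_two {N : Subgroup G} (hi : N.index = 2) {x : G} (hx : x ^ 3 = 1) : x ∈ N := by
  have h1 := N.sq_mem_of_index_two hi (x ^ 2)
  rwa [← pow_mul, show 2 * 2 = 3 + 1 from rfl, pow_succ, hx, one_mul] at h1

namespace Fs

variable {z s t : G} {σ : S5 →* G} (h : Fs z s t σ) [Finite G]
include h

/-- A subgroup of index two missing `τ` is the alternating group of degree eight. -/
theorem alt_of_index_two {N : Subgroup G} [hN : N.Normal] (hi : N.index = 2) (hτ : σ τ0 ∉ N)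
    (hs : s ∉ N) : Nonempty (N ≃* alternatingGroup (Fin 8)) := by
  have mm : ∀ {a b : G}, a * b ∈ N ↔ (a ∈ N ↔ b ∈ N) := mul_mem_iff_of_index_two hi
  have hσ : ∀ b, σ b ∈ N ↔ sign b = 1 := fun b => by
    have h1 : (N.comap σ).index ∣ 2 := by
      rw [index_comap, ← hi]; exact relIndex_dvd_index_of_normal _ _
    have h2 := eq_alternatingGroup_of_index_eq_two (((Nat.dvd_prime Nat.prime_two).1 h1).resolve_left
      fun e => hτ (show τ0 ∈ N.comap σ from index_eq_one.1 e ▸ mem_top _))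
    rw [← mem_comap, h2, mem_alternatingGroup]
  have hx : ∀ {x}, x ∈ zpowers z → x ∈ N := fun hx => mem_of_cube_of_index_two hi (h.cube_mem hx)
  have hz := hx (mem_zpowers z)
  let f : S5 → G := fun b => if sign b = 1 then σ b else σ b * s
  have f1 : ∀ b, sign b = 1 → f b = σ b := fun b hb => if_pos hb
  have f2 : ∀ b, sign b = -1 → f b = σ b * s := fun b hb => if_neg (by rw [hb]; decide)
  have fm : ∀ a b, f (a * b) = f a * f b := fun a b => by
    rcases Int.units_eq_one_or (sign a) with ha | ha <;> rcases Int.units_eq_one_or (sign b) with hb | hb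
    · rw [f1 a ha, f1 b hb, f1 _ (by simp [ha, hb]), map_mul]
    · rw [f1 a ha, f2 b hb, f2 _ (by simp [ha, hb]), map_mul, mul_assoc]
    · rw [f2 a ha, f1 b hb, f2 _ (by simp [ha, hb]), map_mul, mul_assoc, mul_assoc, (h.cs b).eq]
    · rw [f2 a ha, f2 b hb, f1 _ (by simp [ha, hb]), map_mul, mul_assoc, ← mul_assoc s, ← (h.cs b).eq,
        mul_assoc (σ b), h.s2, mul_one]
  have fN : ∀ b, f b ∈ N := fun b => by
    rcases Int.units_eq_one_or (sign b) with hb | hb
    · rw [f1 b hb]; exact (hσ b).2 hb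
    · rw [f2 b hb, mm, hσ, hb]; simp [hs]
  let σ0 : S5 →* N := (MonoidHom.mk' f fm).codRestrict N fN
  have e0 : ∀ b, (σ0 b : G) = f b := fun b => rfl
  have ew : (σ0 w0 : G) = σ w0 := f1 w0 (by decide)
  have od : ∀ b, σ b * s * z * (σ b * s)⁻¹ = z⁻¹ := fun b => by
    rw [mul_inv_rev, mul_assoc, mul_assoc, ← mul_assoc z, ← mul_assoc s, ← mul_assoc s, h.sz,
      ← mul_assoc, conj_eq_iff.2 (h.cz b).inv_right]
  have zp : ∀ x (hx' : x ∈ zpowers z), (⟨x, hx hx'⟩ : N) ∈ zpowers (⟨z, hz⟩ : N) := by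
    rintro _ ⟨k, rfl⟩; exact ⟨k, rfl⟩
  obtain ⟨t', htN, t2, tz⟩ : ∃ t' ∈ N, t' * t' = 1 ∧ t' * z * t'⁻¹ = σ w0 := by
    by_cases ht : t ∈ N
    · exact ⟨t, ht, h.t2, h.tz⟩
    · refine ⟨t * σ τ0, mm.2 (by simp [ht, hτ]), ?_, ?_⟩
      · rw [← sq, (conj_eq_iff.1 h.t_tau).mul_pow, sq, sq, h.t2, h.tau2, mul_one]
      · calc _ = t * (σ τ0 * z * (σ τ0)⁻¹) * t⁻¹ := by group
          _ = _ := by rw [conj_eq_iff.2 (h.cz τ0), h.tz]
  refine (Fr.of_one (z := (⟨z, hz⟩ : N)) (σ := σ0) (by rw [orderOf_mk, h.ord]) (fun b ⟨k, hk⟩ => ?_)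
    (fun b hb => Subtype.ext ?_) (fun b hb => Subtype.ext ?_) (fun g hg => ?_) (c := w0) (by decide)
    (by decide) (isConj_iff.2 ⟨⟨t', htN⟩, Subtype.ext (tz.trans ew.symm)⟩)
    (fun e => h.ny (by simpa [ew] using N.subtype.map_isConj e)) (fun g hg => ?_)
    ⟨⟨t', htN⟩, ?_, Subtype.ext ?_⟩ fun e => h.syl (e.trans (card_subgroup_dvd_card N))).iso
  · have h1 : f b ∈ zpowers z := ⟨k, congrArg Subtype.val hk⟩
    rcases Int.units_eq_one_or (sign b) with hb | hb
    · exact h.inj b (f1 b hb ▸ h1)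
    · rw [f2 b hb] at h1
      obtain ⟨j, hj⟩ := h1
      exact absurd ((conj_eq_iff.2 (hj ▸ (Commute.refl z).zpow_left j)).symm.trans (od b)) h.ne_inv
  · simp only [Subgroup.coe_mul, Subgroup.coe_inv, e0, f1 b hb]
    exact conj_eq_iff.2 (h.cz b)
  · simp only [Subgroup.coe_mul, Subgroup.coe_inv, e0, f2 b hb]
    exact od b
  · rcases hg with e | e
    · obtain ⟨b, x, hx', e1⟩ := h.cent g (conj_eq_iff.1 (congrArg Subtype.val e))
      refine ⟨b, _, zp x hx', Subtype.ext ?_⟩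
      rw [Subgroup.coe_mul, e0, f1 b ((hσ b).1 ((mm.1 (e1 ▸ g.2)).2 (hx hx'))), e1]
    · obtain ⟨b, x, hx', e1⟩ := h.cent (s * g) (conj_eq_iff.1 (by
        calc _ = s * (g * z * (g : G)⁻¹) * s⁻¹ := by group
          _ = z := by rw [show (g : G) * z * (g : G)⁻¹ = z⁻¹ from congrArg Subtype.val e, ← conj_inv,
            h.sz, inv_inv]))
      refine ⟨b, _, zp x hx', Subtype.ext ?_⟩
      have h1 : σ b ∉ N := fun hb => hs ((mm.1 (e1 ▸ mul_mem hb (hx hx'))).2 g.2)
      rw [Subgroup.coe_mul, e0, f2 b ((Int.units_eq_one_or _).resolve_left (mt (hσ b).2 h1)),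
        (h.cs b).eq, mul_assoc, ← e1, ← mul_assoc, h.s2, one_mul]
  · rcases h.yc g (by simpa [ew] using hg.map N.subtype) with e | e
    · exact mem_sup_left (by rw [show g * ⟨z, hz⟩ * g⁻¹ = ⟨z, hz⟩ from Subtype.ext e]; exact mem_zpowers _)
    · exact mem_sup_right (by
        rw [show g * ⟨z, hz⟩ * g⁻¹ = σ0 w0 from Subtype.ext (e.trans ew.symm)]; exact mem_zpowers _)
  · rw [orderOf_mk]
    exact CL.Rec.ord2 t2 fun e => h.ne_w (by simpa [e] using tz)
  · simp only [Subgroup.coe_mul, ew]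
    refine (conj_eq_iff.1 ?_).eq
    rw [← conj_mul, tz, ← tz, conj_twice t2, tz, h.zw.eq]

theorem exists_psi (ts : t * s * t⁻¹ = σ (swap 1 2)) : ∃ ψ : Perm (Fin 8) →* G, Function.Injective ψ ∧
    ψ (swap 6 7) = σ τ0 ∧ ψ (swap 3 4) = σ (swap 1 2) ∧
    ψ (swap 0 1 * swap 1 2 * (swap 3 4 * swap 4 5)) = z * σ w0 ∧
    ∀ g, Commute g (σ τ0) → g ∈ ψ.range := by
  let π0 : S5 := swap 0 3 * swap 0 1 * swap 2 4
  let ρ : S5 →* G := (MulAut.conj (σ π0 * t)).toMonoidHom.comp σ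
  have hρ : ∀ b, ρ b = σ π0 * (t * σ b * t⁻¹) * (σ π0)⁻¹ := fun b => by simp [ρ, mul_assoc]
  have ρi : Function.Injective ρ := (MulAut.conj _).injective.comp h.injective
  have r1 : ρ w0 = z := by rw [hρ, h.tw, conj_eq_iff.2 (h.cz _)]
  have r2 : ρ (swap 1 2) = s := by rw [hρ, ← ts, conj_twice h.t2, conj_eq_iff.2 (h.cs _)]
  have r3 : ρ τ0 = σ (swap 1 2) := by
    rw [hρ, h.t_tau, ← map_inv, ← map_mul, ← map_mul]; congr 1; decide
  have r4 : ρ (swap 2 3) = s * z := by rw [← r1, ← r2, ← map_mul]; congr 1; decide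
  have c5 : ∀ b, Commute (ρ b) (σ (swap 3 4)) := fun b => by
    have h1 := commute_conj (commute_conj (h.cs b) t) (σ π0)
    rwa [← hρ, ts, ← map_inv, ← map_mul, ← map_mul, show π0 * swap 1 2 * π0⁻¹ = swap 3 4 by decide] at h1
  have c6 : ∀ b, Commute (ρ b) (σ τ0) := fun b => by
    have h1 := commute_conj (commute_conj (h.cz b) t) (σ π0)
    rw [← hρ, h.tz, ← map_inv, ← map_mul, ← map_mul] at h1
    have h2 := (c5 b).mul_right h1
    rwa [← map_mul, show swap 3 4 * (π0 * w0 * π0⁻¹) = τ0 by decide] at h2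
  obtain hd | ⟨π, hπ⟩ := h.dich
  · have h1 := h.D_comm ((mem_normalizer_iff.1 (hd _ (c6 (swap 0 3))) z).1 (mem_sup_left (mem_zpowers z)))
      (mem_sup_left (mem_zpowers z))
    rw [← r1, ← map_inv, ← map_mul, ← map_mul, commute_iff_eq, ← map_mul, ← map_mul] at h1
    exact absurd (ρi h1) (by decide)
  let ρ' : S5 →* centralizer ({σ τ0} : Set G) :=
    ρ.codRestrict _ fun b => mem_centralizer_singleton_iff.2 (c6 b)
  have p1 : π (ρ' (swap 1 2)) = swap 0 1 := hπ.s _ r2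
  have p2 : π (ρ' (swap 2 3)) = swap 1 2 := by
    rw [show swap 2 3 = swap 1 2 * w0 by decide, map_mul, map_mul, p1, hπ.z _ r1]; decide
  have p3 : π (ρ' τ0) = swap 3 4 := hπ.a _ r3
  have c23 : Commute (σ (swap 2 3)) (σ τ0) := h.comm_iff.2 (by decide)
  let g4 : centralizer ({σ τ0} : Set G) := ⟨σ (swap 2 3), mem_centralizer_singleton_iff.2 c23⟩
  have p4 : π g4 = swap 4 5 := by
    rw [show g4 = ρ' τ0 * ⟨σ w0, mem_centralizer_singleton_iff.2 (h.comm_iff.2 (by decide))⟩ from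
      Subtype.ext (show σ _ = ρ τ0 * σ w0 by rw [r3, ← map_mul]; congr 1; decide), map_mul, p3, hπ.w _ rfl]
    decide
  obtain ⟨c, c2, c12, c23', c04, pc⟩ : ∃ c : S5, c * c = 1 ∧ (swap 1 2 * c) ^ 2 = 1 ∧
      (swap 2 3 * c) ^ 3 = 1 ∧ (c * τ0) ^ 3 = 1 ∧ π (ρ' c) = swap 2 3 := by
    have tr : ∀ {a b : S5}, a = b → π (ρ' a) = π (ρ' b) := fun e => by rw [e]
    rcases s6_link' (π (ρ' (swap 0 3))) (by rw [← map_mul, ← map_mul, swap_mul_self, map_one, map_one])
      (by rw [← p1, ← map_mul, ← map_mul, ← map_mul, ← map_mul]; exact tr (by decide))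
      (by rw [← p2, ← map_mul, ← map_mul, ← map_pow, ← map_pow, ← map_one π, ← map_one ρ']
          exact tr (by decide))
      (by rw [← p3, ← map_mul, ← map_mul, ← map_pow, ← map_pow, ← map_one π, ← map_one ρ']
          exact tr (by decide)) with e | e
    · exact ⟨swap 0 3, by decide, by decide, by decide, by decide, e⟩
    · refine ⟨τ0 * swap 0 3 * τ0, by decide, by decide, by decide, by decide, ?_⟩
      rw [map_mul, map_mul, map_mul, map_mul, p3, e]; decide
  have c24 : Commute (ρ c) (σ (swap 2 3)) := by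
    rcases (hπ.eq_iff (ρ' c * g4 * (ρ' c)⁻¹) g4).1 (by
      rw [map_mul, map_mul, map_inv, pc, p4]; decide) with e | e
    · exact conj_eq_iff.1 e
    · refine absurd ?_ h.u_not_tau
      replace e : ρ c * σ (swap 2 3) * (ρ c)⁻¹ = σ (swap 2 3 * τ0) := by rw [map_mul]; exact e
      exact ((h.isConj_u (by decide) (by decide) (by decide)).trans (isConj_iff.2 ⟨_, e⟩).symm).trans
        (h.isConj_tau (by decide) (by decide)).symm
  have rr : ∀ {a b : S5} {n : ℕ}, (a * b) ^ n = 1 → (ρ a * ρ b) ^ n = 1 := fun e => by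
    rw [← map_mul, ← map_pow, e, map_one]
  have ss : ∀ {a b : S5} {n : ℕ}, (a * b) ^ n = 1 → (σ a * σ b) ^ n = 1 := fun e => by
    rw [← map_mul, ← map_pow, e, map_one]
  have r3' : ∀ {a : S5} {n : ℕ}, (a * τ0) ^ n = 1 → (ρ a * σ (swap 1 2)) ^ n = 1 := fun e => r3 ▸ rr e
  have rs : ∀ {a b : S5}, a * a = 1 → b * b = 1 → Commute (ρ a) (σ b) → (ρ a * σ b) ^ 2 = 1 :=
    fun ha hb hc => by rw [hc.mul_pow, sq, sq, ← map_mul, ← map_mul, ha, hb]; simp
  have sw : ∀ {a c : G} {n : ℕ}, (a * c) ^ n = 1 → (c * a) ^ n = 1 := fun {a c n} e => by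
    rw [show c * a = c * (a * c) * c⁻¹ by group, conj_pow, e]; simp
  have k0 : ∀ {b}, b * b = 1 → (ρ (swap 1 2) * σ b) ^ 2 = 1 := fun hb =>
    rs (by decide) hb (r2 ▸ (h.cs _).symm)
  have k1 : ∀ {b}, b * b = 1 → (ρ (swap 2 3) * σ b) ^ 2 = 1 := fun hb =>
    rs (by decide) hb (r4 ▸ ((h.cs _).mul_right (h.cz _)).symm)
  have k24 := rs c2 (by decide) c24
  have k25 := rs c2 (by decide) (c5 c)
  have k26 := rs c2 (by decide) (c6 c)
  have kc : (c * c) ^ 1 = 1 := by rw [c2, one_pow]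
  obtain ⟨ψ, hi, e⟩ := exists_hom_of_coxeter 7 (by decide)
    ![ρ (swap 1 2), ρ (swap 2 3), ρ c, σ (swap 1 2), σ (swap 2 3), σ (swap 3 4), σ τ0] (by
      intro i j
      fin_cases i <;> fin_cases j
      exacts [rr (by decide), rr (by decide), rr c12, k0 (by decide), k0 (by decide), k0 (by decide),
        k0 (by decide),
        rr (by decide), rr (by decide), rr c23', k1 (by decide), k1 (by decide), k1 (by decide),
        k1 (by decide),
        sw (rr c12), sw (rr c23'), rr kc, r3' c04, k24, k25, k26,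
        sw (k0 (by decide)), sw (k1 (by decide)), sw (r3' c04), ss (by decide), ss (by decide),
        ss (by decide), ss (by decide),
        sw (k0 (by decide)), sw (k1 (by decide)), sw k24, ss (by decide), ss (by decide),
        ss (by decide), ss (by decide),
        sw (k0 (by decide)), sw (k1 (by decide)), sw k25, ss (by decide), ss (by decide),
        ss (by decide), ss (by decide),
        sw (k0 (by decide)), sw (k1 (by decide)), sw k26, ss (by decide), ss (by decide),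
        ss (by decide), ss (by decide)])
    (by show ρ _ * ρ _ ≠ 1
        rw [← map_mul, ← w0, r1]; exact ne_one_of_ord3 h.ord)
  have e0 : ψ (swap 0 1) = ρ (swap 1 2) := e 0
  have e1 : ψ (swap 1 2) = ρ (swap 2 3) := e 1
  have e2 : ψ (swap 2 3) = ρ c := e 2
  have e3 : ψ (swap 3 4) = σ (swap 1 2) := e 3
  have e4 : ψ (swap 4 5) = σ (swap 2 3) := e 4
  have e6 : ψ (swap 6 7) = σ τ0 := e 6
  refine ⟨ψ, hi, e6, e3, ?_, fun g hg => ?_⟩
  · rw [map_mul, map_mul, map_mul, e0, e1, e3, e4, ← map_mul, ← map_mul, ← w0, r1]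
  · have h4 : π ⟨g, mem_centralizer_singleton_iff.2 hg⟩ ∈
        Submonoid.closure (Set.range fun i : Fin 5 ↦ swap i.castSucc i.succ) := by
      rw [mclosure_swap_castSucc_succ]; trivial
    obtain ⟨a, ha, e⟩ : π ⟨g, mem_centralizer_singleton_iff.2 hg⟩ ∈ (ψ.range.subgroupOf _).map π := by
      refine (Submonoid.closure_le (S := ((ψ.range.subgroupOf _).map π).toSubmonoid)).2 ?_ h4
      rintro _ ⟨i, rfl⟩
      fin_cases i
      exacts [⟨_, ⟨_, e0⟩, p1⟩, ⟨_, ⟨_, e1⟩, p2⟩, ⟨_, ⟨_, e2⟩, pc⟩, ⟨_, ⟨_, e3.trans r3.symm⟩, p3⟩,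
        ⟨_, ⟨_, e4⟩, p4⟩]
    rcases (hπ.eq_iff _ _).1 e.symm with e | e <;> rw [show g = _ from e]
    · exact ha
    · exact mul_mem ha ⟨_, e6⟩

/-- The case in which `s` is conjugate to a transposition. -/
theorem sym (ts : t * s * t⁻¹ = σ (swap 1 2)) : Nonempty (G ≃* Perm (Fin 8)) := by
  have : Fact (Nat.Prime 2) := ⟨Nat.prime_two⟩
  obtain ⟨ψ, hi, e1, e2, e3, hc⟩ := h.exists_psi ts
  have key : ∀ g a, ψ a = g * σ τ0 * g⁻¹ → IsConj (swap 6 7) a := fun g a e => by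
    have h1 : IsConj (σ τ0) (ψ a) := isConj_iff.2 ⟨g, e.symm⟩
    have h2 : ∀ b, IsConj b a → b * (swap 0 1 * swap 1 2 * (swap 3 4 * swap 4 5)) =
        swap 0 1 * swap 1 2 * (swap 3 4 * swap 4 5) * b → b = swap 6 7 := fun b hb hy =>
      hi ((h.eq_tau_of_y (h1.trans (ψ.map_isConj hb).symm) (e3 ▸ Commute.map hy ψ)).trans e1.symm)
    rcases s8_two (a := a) (by rw [← orderOf_injective ψ hi, e, CL.Inv.orderOf_conj, h.ord_tau]) with
      e | e | e | e
    · exact e
    · refine absurd (IsConj.trans ?_ h1.symm) h.u_not_tau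
      simpa [e1, e2, u1, τ0] using ψ.map_isConj e
    · exact absurd (h2 _ e (by decide +kernel)) (by decide +kernel)
    · exact absurd (h2 _ e (by decide +kernel)) (by decide +kernel)
  have hodd := relIndex_mod (p := 2) (H := ψ.range) (J := ⊤) h.ord_tau ⟨_, e1⟩ (mem_top _) fun g ⟨a, ha⟩ => by
    obtain ⟨c, rfl⟩ := isConj_iff.1 (key g⁻¹ a (by simpa using ha))
    have h1 := hc (g * ψ c) (conj_eq_iff.1 (by
      rw [map_mul, map_mul, map_inv, e1] at ha
      calc _ = g * (ψ c * σ τ0 * (ψ c)⁻¹) * g⁻¹ := by group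
        _ = _ := by rw [ha]; group))
    simpa using mul_mem h1 (inv_mem (⟨c, rfl⟩ : ψ c ∈ ψ.range))
  rw [relIndex_top_right] at hodd
  obtain ⟨N, hN, h2, hτ⟩ := CL.Transfer.thompson_transfer ψ.range ((alternatingGroup _).map ψ)
    (Nat.odd_iff.2 hodd) (by
      rw [MonoidHom.range_eq_map, relIndex_map_map_of_injective _ _ hi, relIndex_top_right,
        alternatingGroup.index_eq_two]) (σ τ0) (by rw [sq, h.tau2]) (by
      rintro g ⟨a, ha, e⟩
      obtain ⟨c, rfl⟩ := isConj_iff.1 (key g a e)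
      simpa using mem_alternatingGroup.1 ha)
  obtain ⟨f⟩ := h.alt_of_index_two h2 hτ fun hs => hτ (by
    obtain ⟨k, hk⟩ := isConj_iff.1 (h.isConj_tau (b := swap 1 2) (by decide) (by decide)).symm
    rw [← hk, ← ts]
    exact hN.conj_mem _ (hN.conj_mem _ hs t) k)
  refine ⟨(MulEquiv.ofBijective ψ ((Nat.bijective_iff_injective_and_card ψ).2 ⟨hi, ?_⟩)).symm⟩
  rw [← card_mul_index N, h2, Nat.card_congr f.toEquiv, mul_comm, two_mul_nat_card_alternatingGroup]

end Fs

end CL.Rec
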