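/-
The 3-local characterization of the symmetric group of degree eight.
-/
import Cfsg.Agent.Rec.S8X4
import Cfsg.Agent.Rec.S8T

set_option autoImplicit false

open Cfsg Subgroup CL.Grp CL.Perm Equiv Equiv.Perm
open scoped Pointwise IsMulCommutative commutatorElement

namespace CL.Rec

variable {G : Type*} [Group G]

/-- The product of the two alternating groups. -/
def Ng (t : G) (σ : S5 →* G) : Subgroup G where
  carrier := {g | ∃ a b, Co t σ g a b ∧ sign a = 1}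
  one_mem' := ⟨1, 1, Co.one, Perm.sign_one⟩
  mul_mem' := fun ⟨_, _, h, e⟩ ⟨_, _, h', e'⟩ => ⟨_, _, h.mul h', by rw [Perm.sign_mul, e, e', mul_one]⟩
  inv_mem' := fun ⟨_, _, h, e⟩ => ⟨_, _, h.inv, by rw [sign_inv, e]⟩

namespace Gd

variable {z s t : G} {σ : S5 →* G} (h : Gd z s t σ) [Finite G]
include h

theorem normal : (Ng t σ).Normal := ⟨fun g ⟨a, b, c, e⟩ k => by
  rcases h.co_conj (h.mem_H k) c with ⟨-, p, q, -, c'⟩ | ⟨p, q, -, c'⟩
  · exact ⟨_, _, c', (sign_conj5 _ _).trans e⟩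
  · exact ⟨_, _, c', (sign_conj5 _ _).trans (c.1.symm.trans e)⟩⟩

theorem co_mul {a b : S5} (ha : sign a = 1) (hb : sign b = 1) : Co t σ (σ a * rho t σ b) a b :=
  ((h.co_even ha).mul (h.co_rho hb)).cast (mul_one _) (one_mul _)

theorem equiv : Nonempty (Ng t σ ≃* alternatingGroup (Fin 5) × alternatingGroup (Fin 5)) := by
  let φ := (σ.comp (alternatingGroup (Fin 5)).subtype).noncommCoprod
    ((rho t σ).comp (alternatingGroup (Fin 5)).subtype)
    fun a b => h.comm a b (mem_alternatingGroup.1 a.2) (mem_alternatingGroup.1 b.2)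
  have c : ∀ p, Co t σ (φ p) p.1 p.2 := fun p =>
    h.co_mul (mem_alternatingGroup.1 p.1.2) (mem_alternatingGroup.1 p.2.2)
  have hi : Function.Injective φ := fun p q e =>
    Prod.ext (Subtype.ext ((h.co_eq_iff (c p) (c q)).1 e).1) (Subtype.ext ((h.co_eq_iff (c p) (c q)).1 e).2)
  have hr : Ng t σ = φ.range := by
    ext g
    exact ⟨fun ⟨a, b, c', e⟩ => ⟨(⟨a, mem_alternatingGroup.2 e⟩, ⟨b, mem_alternatingGroup.2 (c'.1.symm.trans e)⟩),
      h.co_eq (c _) c'⟩, fun ⟨p, e⟩ => ⟨_, _, e ▸ c p, mem_alternatingGroup.1 p.1.2⟩⟩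
  exact ⟨(MulEquiv.subgroupCongr hr).trans (MonoidHom.ofInjective hi).symm⟩

theorem index : (Ng t σ).index = 4 := by
  have h1 : (Mg t σ).index = 2 := by
    refine index_eq_two_iff.2 ⟨t, fun g => ?_⟩
    have h2 : ¬ (g * t ∈ Mg t σ ∧ g ∈ Mg t σ) := fun e => by
      obtain ⟨a, b, c⟩ := (mul_mem_cancel_left e.2).1 e.1
      have c' := c.conj h.co_u
      rw [h.tu h.ts] at c'
      exact absurd (conj_eq_one_iff.1 (h.co_uniq c' h.co_s).1) (by decide)
    rcases h.mem_H g with e | e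
    · exact Or.inr ⟨e, fun e' => h2 ⟨e', e⟩⟩
    · exact Or.inl ⟨e, fun e' => h2 ⟨e, e'⟩⟩
  have h2 : (Ng t σ).relIndex (Mg t σ) = 2 := by
    refine index_eq_two_iff.2 ⟨⟨_, h.sig_mem τ0⟩, fun ⟨g, a, b, c⟩ => ?_⟩
    have key : ∀ {g a b}, Co t σ g a b → (g ∈ Ng t σ ↔ sign a = 1) := fun c =>
      ⟨fun ⟨_, _, c', e⟩ => (h.co_uniq c c').1 ▸ e, fun e => ⟨_, _, c, e⟩⟩
    rw [mem_subgroupOf, mem_subgroupOf, Subgroup.coe_mul, key c, key (c.mul h.co_tau), Perm.sign_mul]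
    rcases Int.units_eq_one_or (sign a) with e | e <;> rw [e] <;> decide
  rw [← relIndex_mul_index (show Ng t σ ≤ Mg t σ from fun g ⟨a, b, c, _⟩ => ⟨a, b, c⟩), h1, h2]

theorem minimal (K : Subgroup G) (hK : K.Normal) (hle : K ≤ Ng t σ) : K = ⊥ ∨ K = Ng t σ := by
  refine or_iff_not_imp_left.2 fun hne => le_antisymm hle ?_
  obtain ⟨k, a, b, hk, c, a1⟩ : ∃ k a b, k ∈ K ∧ Co t σ k a b ∧ a ≠ 1 := by
    obtain ⟨⟨k, hk⟩, k1⟩ := ne_bot_iff_exists_ne_one.1 hne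
    obtain ⟨a, b, c, -⟩ := hle hk
    by_cases a1 : a = 1
    · exact ⟨_, _, _, hK.conj_mem k hk t, c.swap h.t2, fun b1 =>
        k1 (Subtype.ext (h.co_eq (c.cast a1 b1) Co.one))⟩
    · exact ⟨k, a, b, hk, c, a1⟩
  obtain ⟨e, se, he⟩ : ∃ e, sign e = 1 ∧ a * e ≠ e * a := by
    by_contra hn
    push Not at hn
    exact a1 (s5_center a (hn _ (by decide)) (hn _ (by decide)))
  have := alternatingGroup.isSimpleGroup (α := Fin 5) (by simp)
  have h1 := ((hK.comap (σ.comp (alternatingGroup (Fin 5)).subtype)).eq_bot_or_eq_top).resolve_left fun e' => by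
    have h2 : (⟨a * e * a⁻¹ * e⁻¹, mem_alternatingGroup.2 (by simp [se, mul_right_comm])⟩ :
        alternatingGroup (Fin 5)) ∈ K.comap (σ.comp (alternatingGroup (Fin 5)).subtype) := by
      change σ (a * e * a⁻¹ * e⁻¹) ∈ K
      rw [map_mul, ← c.2.1 e se, map_inv, mul_assoc k, mul_assoc k]
      exact mul_mem hk (hK.conj_mem _ (inv_mem hk) _)
    rw [e', mem_bot, Subtype.ext_iff] at h2
    exact he (mul_inv_eq_iff_eq_mul.1 (mul_inv_eq_one.1 h2))
  have h2 : ∀ a, sign a = 1 → σ a ∈ K := fun a ha =>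
    show (⟨a, mem_alternatingGroup.2 ha⟩ : alternatingGroup (Fin 5)) ∈
      K.comap (σ.comp (alternatingGroup (Fin 5)).subtype) from h1 ▸ mem_top _
  rintro g ⟨a, b, c, e⟩
  rw [h.co_eq c (h.co_mul e (c.1.symm.trans e))]
  exact mul_mem (h2 a e) (hK.conj_mem _ (h2 b (c.1.symm.trans e)) t)

theorem sq_mem (g : G) : g ^ 2 ∈ Ng t σ := sq g ▸ h.sq_even (h.mem_H g)

theorem fstar : generalizedFittingSubgroup G = Ng t σ := by
  have hN := h.normal
  have hz : z ∈ Ng t σ := ⟨_, _, h.co_z, Perm.sign_one⟩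
  have hs : s ∈ Ng t σ := ⟨_, _, h.co_s, Perm.sign_one⟩
  have cm : ∀ K : Subgroup G, K.Normal → K ⊓ Ng t σ = ⊥ → ∀ k ∈ K, ∀ g ∈ Ng t σ, Commute k g :=
    fun K hK e k hk g hg => commute_of_normal_of_disjoint K _ hK hN (disjoint_iff.2 e) k g hk hg
  have hF : fittingSubgroup G = ⊥ := by
    rcases h.minimal (fittingSubgroup G ⊓ Ng t σ) inferInstance inf_le_right with e | e
    · refine eq_bot_iff.2 fun k hk => h.co_eq ⟨rfl, fun c hc => ?_, fun c hc => ?_⟩ Co.one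
      · simpa using conj_eq_iff.2 (cm _ inferInstance e k hk _ ⟨_, _, h.co_even hc, hc⟩)
      · simpa using conj_eq_iff.2 (cm _ inferInstance e k hk _ ⟨_, _, h.co_rho hc, Perm.sign_one⟩)
    · have := fittingSubgroup_isNilpotent G
      have h1 := commute_of_coprime_orderOf_of_isNilpotent (G := fittingSubgroup G)
        (x := ⟨s, (inf_eq_right.1 e) hs⟩) (y := ⟨z, (inf_eq_right.1 e) hz⟩) (by
          rw [orderOf_mk, orderOf_mk, h.ord]
          exact Nat.Coprime.coprime_dvd_left (orderOf_dvd_of_pow_eq_one (n := 2) (by rw [sq, h.s2]))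
            (by decide))
      exact absurd ((conj_eq_iff.2 (congrArg Subtype.val h1 :)).symm.trans h.sz) h.ne_inv
  have := CL.Loc.fstar_normal (G := G)
  refine le_antisymm (sup_le ?_ (hF ▸ bot_le)) (inf_eq_right.1
    ((h.minimal (generalizedFittingSubgroup G ⊓ Ng t σ) inferInstance inf_le_right).resolve_left fun e => ?_))
  · rw [← CL.Loc.commutator_layer_self, commutator_le]
    intro a _ b _
    rw [show ⁅a, b⁆ = a ^ 2 * (a⁻¹ * b) ^ 2 * (b⁻¹) ^ 2 by simp [commutatorElement_def, sq, mul_assoc]]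
    exact mul_mem (mul_mem (h.sq_mem _) (h.sq_mem _)) (h.sq_mem _)
  · have h1 := CL.Loc.centralizer_fstar_le_fitting (show z ∈ centralizer _ from
      fun k hk => cm _ this e k hk z hz)
    rw [hF, mem_bot] at h1
    exact ne_one_of_ord3 h.ord h1

end Gd

theorem Fs.reparam {z s t : G} {σ : S5 →* G} (h : Fs z s t σ) {π : S5} (hπ : π * w0 * π⁻¹ = w0) :
    Fs z s t (σ.comp (MulAut.conj π).toMonoidHom) := by
  have e : (σ.comp (MulAut.conj π).toMonoidHom) w0 = σ w0 := congrArg σ hπ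
  refine ⟨h.ord, h.s2, h.sz, fun b => h.cz _, fun b => h.cs _, fun b hb => by simpa using h.inj _ hb,
    fun g hg => ?_, h.t2, e ▸ h.tz, e ▸ h.ny, e ▸ h.yc, h.syl, by rw [Dg, e]; exact h.nD⟩
  obtain ⟨b, x, hx, rfl⟩ := h.cent g hg
  exact ⟨π⁻¹ * b * π, x, hx, by simp [mul_assoc]⟩

/-- The 3-local characterization of the symmetric group of degree eight. -/
theorem Fs.main {z s t : G} {σ : S5 →* G} (h : Fs z s t σ) [Finite G] :
    Nonempty (G ≃* Perm (Fin 8)) ∨ ∃ N : Subgroup G, N.Normal ∧ generalizedFittingSubgroup G = N ∧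
      Nonempty (N ≃* alternatingGroup (Fin 5) × alternatingGroup (Fin 5)) ∧
      (∀ K : Subgroup G, K.Normal → K ≤ N → K = ⊥ ∨ K = N) ∧ N.index = 4 ∧ ∀ g : G, g ^ 2 ∈ N := by
  obtain ⟨b, b2, bw, e⟩ := h.exists_ts
  obtain ⟨π, hπ, rfl | rfl⟩ := s5_inv_w0 b b2 bw
  · exact Or.inl ((h.reparam hπ).sym e)
  · have g := (h.reparam hπ).gd e
    exact Or.inr ⟨_, g.normal, g.fstar, g.equiv, g.minimal, g.index, g.sq_mem⟩

theorem s3_comm : ∀ a p : Perm (Fin 3), a ^ 3 = 1 → a ≠ 1 → p * a = a * p → p = 1 ∨ p = a ∨ p = a⁻¹ := by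
  decide

/-- Building a frame from the normalizer of `⟨z⟩`. -/
theorem exists_fs [Finite G] {z : G} (hz : orderOf z = 3)
    (f : normalizer (zpowers z : Set G) ≃* Perm (Fin 3) × S5) {c : S5} (c3 : c ^ 3 = 1) (c1 : c ≠ 1)
    {w : G} (hw : w = f.symm (1, c)) (sw : IsConj z w) (ny : ¬ IsConj z (z * w))
    (yD : ∀ g, Commute g (z * w) → g * z * g⁻¹ ∈ zpowers z ⊔ zpowers w ∧ g ^ 2 ∈ zpowers z ⊔ zpowers w)
    (yt : ∃ g, Commute g (z * w) ∧ ¬ Commute g z) (syl : ¬ 27 ∣ Nat.card G)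
    (nD : Nat.card (normalizer ((zpowers z ⊔ zpowers w : Subgroup G) : Set G)) = 144) :
    ∃ s t σ, Fs z s t σ := by
  obtain ⟨a, a3, a1, ha⟩ := exists_fst hz f.toMonoidHom f.injective fun b => f.surjective _
  replace ha : (f.symm (a, 1) : G) = z := by rw [← ha]; simp
  obtain ⟨π, hπ, -⟩ := s5_conj_three c c3 c1
  obtain ⟨ρ, hρ, -⟩ := s5_conj_three w0 (by decide) (by decide)
  let F := (Subgroup.subtype _).comp f.symm.toMonoidHom
  have Fi : Function.Injective F := (subtype_injective _).comp f.symm.injective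
  let σ : S5 →* G := (F.comp (MonoidHom.inr _ _)).comp (MulAut.conj (π * ρ⁻¹)).toMonoidHom
  have hσ : ∀ b, σ b = F (1, π * ρ⁻¹ * b * (π * ρ⁻¹)⁻¹) := fun b => rfl
  have ew : σ w0 = w := by rw [hσ, hw, ← hπ, ← hρ]; exact congrArg (fun b => F (1, b)) (by group)
  have ez : F (a, 1) = z := ha
  have cz : ∀ p b, Commute (σ b) (F (p, 1)) := fun p b => Commute.map (by simp [Commute, SemiconjBy]) F
  have sz : F (swap 0 1, 1) * z * (F (swap 0 1, 1))⁻¹ = z⁻¹ := by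
    rw [← ez, ← map_inv, ← map_inv, ← map_mul, ← map_mul, Prod.inv_mk, Prod.inv_mk, Prod.mk_mul_mk,
      Prod.mk_mul_mk, s3_swap a a3]; simp
  have wo : orderOf w = 3 := by
    obtain ⟨k, rfl⟩ := isConj_iff.1 sw
    rw [CL.Inv.orderOf_conj, hz]
  have zw : Commute z w := ew ▸ ez ▸ (cz a w0).symm
  have yc : ∀ g, Commute g (z * w) → g * z * g⁻¹ = z ∨ g * z * g⁻¹ = w := fun g hg =>
    conj_cases_of_comm hz wo zw sw ny (isConj_iff.2 ⟨σ (swap 1 2), by
      rw [← conj_mul, ← ez, conj_eq_iff.2 (cz a _), ← ew, ← map_inv σ w0, map_conj_eq (c := w0⁻¹) (by decide)]⟩)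
      (isConj_iff.2 ⟨_, sz⟩) hg (yD g hg).1
  obtain ⟨g, hg, hgz⟩ := yt
  obtain ⟨_, ⟨i, rfl⟩, _, ⟨j, rfl⟩, e⟩ := exists_mul_of_mem_sup zw (yD g hg).2
  refine ⟨F (swap 0 1, 1), g ^ 2 * g, σ, hz, by rw [← map_mul, ← map_one F]; exact congrArg F (by decide), sz, fun b => ez ▸ cz a b, cz _,
    fun b ⟨k, hk⟩ => ?_, fun g hg => ?_, ?_, ?_, ew ▸ ny, ew ▸ yc, syl, by rw [Dg, ew]; exact nD⟩
  · simp only at hk
    rw [← ez, ← map_zpow, hσ] at hk
    exact conj_eq_one_iff.1 ((congrArg Prod.snd (Fi hk)).symm.trans (one_zpow k))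
  · obtain ⟨⟨p, b⟩, e⟩ := f.symm.surjective ⟨g, mem_normalizer_zpowers (by simp [conj_eq_iff.2 hg])⟩
    replace e : F (p, b) = g := congrArg Subtype.val e
    rw [← e, ← ez, commute_iff_eq, ← map_mul, ← map_mul] at hg
    refine ⟨(π * ρ⁻¹)⁻¹ * b * (π * ρ⁻¹), F (p, 1), ?_, ?_⟩
    · rcases s3_comm a p a3 a1 (congrArg Prod.fst (Fi hg)) with rfl | rfl | rfl
      · exact (map_one F).symm ▸ one_mem _
      · exact ez ▸ mem_zpowers _
      · rw [← ez, show (a⁻¹, (1 : S5)) = (a, 1)⁻¹ by simp, map_inv]; exact inv_mem (mem_zpowers _)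
    · rw [hσ, ← map_mul, ← e]; simp [mul_assoc]
  · have e3 : ∀ (a : G) (k : ℤ), a ^ 3 = 1 → (a ^ k) ^ 3 = 1 := fun a k ha => by
      rw [← zpow_natCast, ← zpow_mul, mul_comm, zpow_mul, zpow_natCast, ha, one_zpow]
    rw [← pow_succ, ← pow_add, show 2 + 1 + (2 + 1) = 2 * 3 from rfl, pow_mul, e, (zw.zpow_zpow i j).mul_pow,
      e3 _ _ (cube_of_ord hz), e3 _ _ (cube_of_ord wo), mul_one]
  · calc _ = g ^ 2 * (g * z * g⁻¹) * (g ^ 2)⁻¹ := by group
      _ = _ := by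
        rw [(yc g hg).resolve_left (mt conj_eq_iff.1 hgz), ew, e]
        exact conj_eq_iff.2 ((zw.zpow_left i).mul_left ((Commute.refl w).zpow_left j))

end CL.Rec
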