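/-
The 3-local characterization of the McLaughlin group, part F: general tools.
-/
import Cfsg.Agent.Rec.McL3Defs
import Cfsg.Agent.Rec.A8Setup
import Cfsg.Agent.Rec.A8Phi
import Cfsg.Agent.Rec.S8Fin
import Cfsg.Agent.Rec.S8T
import Cfsg.Agent.Transfer.Control
import Cfsg.Agent.Fgs.ClassBasic

set_option autoImplicit false

open Cfsg Subgroup CL.Grp CL.Rec CL.Perm Equiv Equiv.Perm

namespace CL.McL3

universe u

variable {G : Type*} [Group G] {H H' : Type*} [Group H] [Group H']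

/-- `p` induces an isomorphism of `C(t) / ⟨t⟩` onto `H`. -/
structure Qt (t : G) (p : G → H) : Prop where
  t2 : t * t = 1
  t1 : t ≠ 1
  mul : ∀ a b, Commute a t → Commute b t → p (a * b) = p a * p b
  onto : ∀ x, ∃ g, Commute g t ∧ p g = x
  ker : ∀ g, Commute g t → (p g = 1 ↔ g = 1 ∨ g = t)

theorem exists_qt [Finite G] {t : G} (t2 : t * t = 1) (t1 : t ≠ 1) :
    ∃ (N : Subgroup (centralizer ({t} : Set G))) (_ : N.Normal) (p : G → centralizer ({t} : Set G) ⧸ N), Qt t p := by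
  classical
  obtain ⟨N, hN, -, h⟩ := exists_quot t2
  refine ⟨N, hN, fun g => if hg : g ∈ centralizer ({t} : Set G) then ((⟨g, hg⟩ : centralizer ({t} : Set G)) : _ ⧸ N)
    else 1, t2, t1, fun a b ha hb => ?_, fun x => ?_, fun g hg => ?_⟩
  · have h1 := mem_centralizer_singleton_iff.2 ha
    have h2 := mem_centralizer_singleton_iff.2 hb
    rw [dif_pos h1, dif_pos h2, dif_pos (mul_mem h1 h2)]
    rfl
  · obtain ⟨g, rfl⟩ := QuotientGroup.mk_surjective x
    exact ⟨g, mem_centralizer_singleton_iff.1 g.2, by rw [dif_pos g.2]⟩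
  · rw [dif_pos (mem_centralizer_singleton_iff.2 hg)]
    simpa using h ⟨g, mem_centralizer_singleton_iff.2 hg⟩ 1

namespace Qt

variable {t : G} {p : G → H} (h : Qt t p) {a b k : G}
include h

theorem one : p 1 = 1 := (h.ker 1 (Commute.one_left t)).2 (.inl rfl)

theorem pt : p t = 1 := (h.ker t (Commute.refl t)).2 (.inr rfl)

theorem inv (ha : Commute a t) : p a⁻¹ = (p a)⁻¹ :=
  eq_inv_of_mul_eq_one_left (by rw [← h.mul _ _ ha.inv_left ha, inv_mul_cancel, h.one])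

/-- the homomorphism on the centralizer -/
def hom : centralizer ({t} : Set G) →* H :=
  MonoidHom.mk' (fun g => p g) fun a b =>
    h.mul _ _ (mem_centralizer_singleton_iff.1 a.2) (mem_centralizer_singleton_iff.1 b.2)

theorem zpow (ha : Commute a t) (n : ℤ) : p (a ^ n) = p a ^ n :=
  map_zpow h.hom ⟨a, mem_centralizer_singleton_iff.2 ha⟩ n

theorem pow (ha : Commute a t) (n : ℕ) : p (a ^ n) = p a ^ n :=
  map_pow h.hom ⟨a, mem_centralizer_singleton_iff.2 ha⟩ n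

theorem conj (hk : Commute k t) (ha : Commute a t) : p (k * a * k⁻¹) = p k * p a * (p k)⁻¹ := by
  rw [h.mul _ _ (hk.mul_left ha) hk.inv_left, h.mul _ _ hk ha, h.inv hk]

theorem eq_iff (ha : Commute a t) (hb : Commute b t) : p a = p b ↔ a = b ∨ a = b * t := by
  rw [← inv_mul_eq_one, ← h.inv ha, ← h.mul _ _ ha.inv_left hb, h.ker _ (ha.inv_left.mul_left hb), inv_mul_eq_one,
    inv_mul_eq_iff_eq_mul]
  refine or_congr Iff.rfl ⟨fun e => ?_, fun e => ?_⟩ <;> rw [e, mul_assoc, h.t2, mul_one]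

theorem sq_mul_t (ha : Commute a t) : a * t * (a * t) = a * a := by
  rw [mul_assoc, ← mul_assoc t, ← ha.eq, mul_assoc, h.t2, mul_one]

theorem eq_of_cube (ha : Commute a t) (hb : Commute b t) (a3 : a ^ 3 = 1) (b3 : b ^ 3 = 1) (e : p a = p b) :
    a = b := ((h.eq_iff ha hb).1 e).resolve_right fun e' => h.t1 (eq_one_of_two_three h.t2 (by
  rwa [e', hb.mul_pow, b3, one_mul] at a3))

theorem conj_lift (hk : Commute k t) (ha : Commute a t) (hb : Commute b t) (a3 : a ^ 3 = 1) (b3 : b ^ 3 = 1)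
    (e : p k * p a * (p k)⁻¹ = p b) : k * a * k⁻¹ = b :=
  h.eq_of_cube ((hk.mul_left ha).mul_left hk.inv_left) hb (by rw [conj_pow, a3, mul_one, mul_inv_cancel]) b3
    ((h.conj hk ha).trans e)

theorem comm_lift (hk : Commute k t) (ha : Commute a t) (a3 : a ^ 3 = 1) (e : Commute (p k) (p a)) : Commute k a :=
  mul_inv_eq_iff_eq_mul.1 (h.conj_lift hk ha ha a3 a3 (mul_inv_eq_iff_eq_mul.2 e))

theorem comm (hk : Commute k t) (ha : Commute a t) (e : Commute k a) : Commute (p k) (p a) := by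
  rw [Commute, SemiconjBy, ← h.mul _ _ hk ha, ← h.mul _ _ ha hk, e.eq]

theorem ord3 (ha : Commute a t) (a3 : a ^ 3 = 1) (a1 : a ≠ 1) : orderOf (p a) = 3 :=
  CL.Rec.ord3 (by rw [← h.pow ha, a3, h.one]) fun e =>
    a1 (h.eq_of_cube ha (Commute.one_left t) a3 (one_pow 3) (e.trans h.one.symm))

theorem isConj_lift (ha : Commute a t) (hb : Commute b t) (e : IsConj (p a) (p b)) :
    ∃ k, Commute k t ∧ (b = k * a * k⁻¹ ∨ b = k * (a * t) * k⁻¹) := by
  obtain ⟨x, hx⟩ := isConj_iff.1 e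
  obtain ⟨k, hk, rfl⟩ := h.onto x
  refine ⟨k, hk, ((h.eq_iff hb ((hk.mul_left ha).mul_left hk.inv_left)).1 (hx.symm.trans (h.conj hk ha).symm)).imp_right
    fun e => ?_⟩
  rw [e, mul_assoc (k * a), hk.inv_left.eq]
  group

theorem sq_of_isConj (ha : Commute a t) (hb : Commute b t) (e : IsConj (p a) (p b)) (a2 : a * a = 1) : b * b = 1 := by
  obtain ⟨k, -, e | e⟩ := h.isConj_lift ha hb e <;> rw [e, conj_mul]
  · rw [a2, mul_one, mul_inv_cancel]
  · rw [h.sq_mul_t ha, a2, mul_one, mul_inv_cancel]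

theorem mem_zpowers (ha : Commute a t) {x : G} (hx : x ∈ zpowers a) : p x ∈ zpowers (p a) := by
  obtain ⟨n, rfl⟩ := hx
  exact ⟨n, (h.zpow ha n).symm⟩

theorem comp (e : H ≃* H') : Qt t fun g => e (p g) :=
  ⟨h.t2, h.t1, fun a b ha hb => by rw [h.mul a b ha hb, map_mul], fun x =>
    (h.onto (e.symm x)).imp fun _ hg => ⟨hg.1, by rw [hg.2, e.apply_symm_apply]⟩,
    fun g hg => by rw [e.map_eq_one_iff, h.ker g hg]⟩

theorem card_dvd : Nat.card H ∣ Nat.card (centralizer ({t} : Set G)) :=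
  card_dvd_of_surjective h.hom fun x =>
    let ⟨g, hg, e⟩ := h.onto x
    ⟨⟨g, mem_centralizer_singleton_iff.2 hg⟩, e⟩

end Qt

theorem cover_of {t v : G} (t2 : t * t = 1) (t1 : t ≠ 1) {p : G → alternatingGroup (Fin 8)} (h : Qt t p)
    (hv : v * v = t) : IsNonsplitDoubleCover (centralizer ({t} : Set G)) (alternatingGroup (Fin 8)) := by
  have hs : Function.Surjective h.hom := fun x =>
    let ⟨g, hg, e⟩ := h.onto x
    ⟨⟨g, mem_centralizer_singleton_iff.2 hg⟩, e⟩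
  have tK : t ∈ centralizer ({t} : Set G) := mem_centralizer_singleton_iff.2 rfl
  have hk : ∀ g : centralizer ({t} : Set G), g ∈ h.hom.ker ↔ g = 1 ∨ g = ⟨t, tK⟩ := fun g => by
    rw [Subtype.ext_iff, Subtype.ext_iff]
    exact h.ker g (mem_centralizer_singleton_iff.1 g.2)
  have tc : (⟨t, tK⟩ : centralizer ({t} : Set G)) ∈ center _ :=
    mem_center_iff.2 fun g => Subtype.ext (mem_centralizer_singleton_iff.1 g.2)
  have hc : center (centralizer ({t} : Set G)) = h.hom.ker := by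
    refine le_antisymm (fun g hg => ?_) fun g hg => ?_
    · rw [MonoidHom.mem_ker, ← mem_bot, ← alternatingGroup.center_eq_bot (α := Fin 8) (by simp), mem_center_iff]
      intro x
      obtain ⟨k, rfl⟩ := hs x
      rw [← map_mul, ← map_mul, mem_center_iff.1 hg]
    · rcases (hk g).1 hg with rfl | rfl
      exacts [one_mem _, tc]
  have hz : center (centralizer ({t} : Set G)) = zpowers ⟨t, tK⟩ := by
    refine le_antisymm (fun g hg => ?_) (zpowers_le.2 tc)
    rcases (hk g).1 (hc ▸ hg) with rfl | rfl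
    exacts [one_mem _, mem_zpowers _]
  refine ⟨by rw [hz, Nat.card_zpowers, orderOf_mk, ord2 t2 t1],
    ⟨(QuotientGroup.quotientMulEquivOfEq hc).trans (QuotientGroup.quotientKerEquivOfSurjective _ hs)⟩, fun L hL => ?_⟩
  have vK : v ∈ centralizer ({t} : Set G) := mem_centralizer_singleton_iff.2 (by rw [← hv, mul_assoc])
  obtain ⟨⟨⟨a, ha⟩, ⟨l, hl⟩⟩, e⟩ := hL.2 ⟨v, vK⟩
  have h1 : l * l = ⟨t, tK⟩ := by
    have h2 : a * a = 1 := by
      rcases (hk a).1 (hc ▸ ha) with rfl | rfl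
      exacts [mul_one _, Subtype.ext t2]
    have h3 : a * l * (a * l) = ⟨t, tK⟩ := by
      simp only at e
      rw [e]; exact Subtype.ext hv
    rwa [mul_assoc, ← mul_assoc l, mem_center_iff.1 ha l, ← mul_assoc, ← mul_assoc, h2, one_mul] at h3
  exact t1 (congrArg Subtype.val (disjoint_def.1 hL.disjoint tc (h1 ▸ mul_mem hl hl)))

theorem three_mul_dvd [Finite G] {A B : Subgroup G} (hB : IsPGroup 3 B) (h : A < B) :
    3 * Nat.card A ∣ Nat.card B := by
  haveI : Fact (Nat.Prime 3) := ⟨Nat.prime_three⟩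
  obtain ⟨k, hk⟩ := hB.index (A.subgroupOf B)
  rw [← card_mul_relIndex h.le, relIndex, hk, mul_comm]
  refine Nat.mul_dvd_mul_left _ (dvd_pow_self 3 fun h0 => h.not_ge ?_)
  rwa [h0, pow_zero, index_eq_one, subgroupOf_eq_top] at hk

theorem s5_conj_w0 : ∀ c : S5, c ^ 3 = 1 → c ≠ 1 → ∃ π : S5, π * w0 * π⁻¹ = c := by decide +kernel

theorem s5_card_norm : Fintype.card {b : S5 // b * w0 * b⁻¹ = w0 ∨ b * w0 * b⁻¹ = w0⁻¹} = 12 := by decide +kernel

/-- the order of `N(D)` follows from the other conditions -/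
theorem fs_of [Finite G] {z s t : G} {σ : S5 →* G} (ord : orderOf z = 3) (s2 : s * s = 1) (sz : s * z * s⁻¹ = z⁻¹)
    (cz : ∀ b, Commute (σ b) z) (cs : ∀ b, Commute (σ b) s) (inj : ∀ b, σ b ∈ zpowers z → b = 1)
    (cent : ∀ g, Commute g z → ∃ b, ∃ x ∈ zpowers z, g = σ b * x) (t2 : t * t = 1) (tz : t * z * t⁻¹ = σ w0)
    (ny : ¬ IsConj z (z * σ w0))
    (yc : ∀ g, Commute g (z * σ w0) → g * z * g⁻¹ = z ∨ g * z * g⁻¹ = σ w0) (syl : ¬ 27 ∣ Nat.card G) :
    Fs z s t σ := by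
  refine ⟨ord, s2, sz, cz, cs, inj, cent, t2, tz, ny, yc, syl, ?_⟩
  have zD : z ∈ Dg z σ := mem_sup_left (mem_zpowers _)
  have wD : σ w0 ∈ Dg z σ := mem_sup_right (mem_zpowers _)
  have ow : orderOf (σ w0) = 3 := by rw [← tz, CL.Fgs.orderOf_conj', ord]
  have tw : t * σ w0 * t⁻¹ = z := by rw [← tz, conj_twice t2]
  have sw : s * σ w0 * s⁻¹ = σ w0 := conj_eq_iff.2 (cs w0).symm
  have tN : t ∈ normalizer (Dg z σ : Set G) := mem_normalizer_sup rfl (tz ▸ wD) (tw ▸ zD)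
  have sN : s ∈ normalizer (Dg z σ : Set G) := mem_normalizer_sup rfl (sz ▸ inv_mem zD) (sw.symm ▸ wD)
  have aw : σ (swap 1 2) * σ w0 * (σ (swap 1 2))⁻¹ = (σ w0)⁻¹ := by
    rw [← map_inv, ← map_mul, ← map_mul, ← map_inv]; congr 1; decide
  have c1 : IsConj (z * (σ w0)⁻¹) (z * σ w0) :=
    (isConj_iff.2 ⟨σ (swap 1 2), by rw [← conj_mul, aw, conj_eq_iff.2 (cz _)]⟩ : IsConj (z * σ w0) _).symm
  have ci : IsConj z z⁻¹ := isConj_iff.2 ⟨s, sz⟩
  have zw : z ≠ σ w0 := fun e => absurd (inj w0 (e ▸ mem_zpowers z)) (by decide)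
  have zw' : z ≠ (σ w0)⁻¹ := fun e => absurd (inj w0 (inv_mem_iff.1 (e ▸ mem_zpowers z))) (by decide)
  have ni : ∀ {x : G}, orderOf x = 3 → x ≠ x⁻¹ := fun hx e =>
    ne_one_of_ord3 hx (eq_one_of_two_three (mul_eq_one_iff_eq_inv.2 e) (cube_of_ord hx))
  have hO : {y : G | ∃ n ∈ normalizer (Dg z σ : Set G), n * z * n⁻¹ = y} = {z, z⁻¹, σ w0, (σ w0)⁻¹} := by
    ext y
    constructor
    · rintro ⟨n, hn, rfl⟩
      have c : IsConj z (n * z * n⁻¹) := isConj_iff.2 ⟨n, rfl⟩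
      rcases nine_cases ord ow (cz w0).symm ((mem_normalizer_iff.1 hn z).1 zD) with
        e | (e | e) | (e | e) | (e | e) | e | e <;> rw [e] at c ⊢
      · exact absurd (isConj_one_left.1 c) (ne_one_of_ord3 ord)
      · simp
      · simp
      · simp
      · simp
      · exact absurd c ny
      · exact absurd (ci.trans (by simpa using isConj_inv_inv c)) ny
      · exact absurd (c.trans c1) ny
      · exact absurd ((ci.trans (by simpa using isConj_inv_inv c)).trans c1) ny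
    · rintro (rfl | rfl | rfl | rfl)
      · exact ⟨1, one_mem _, by simp⟩
      · exact ⟨s, sN, sz⟩
      · exact ⟨t, tN, tz⟩
      · exact ⟨t * s, mul_mem tN sN, by
          rw [← tz, conj_inv, ← sz]; group⟩
  have h4 : ({z, z⁻¹, σ w0, (σ w0)⁻¹} : Set G).ncard = 4 :=
    Set.ncard_eq_four.2 ⟨_, _, _, _, ni ord, zw, zw', fun e => zw' (inv_eq_iff_eq_inv.1 e),
      fun e => zw (inv_injective e), ni ow, rfl⟩
  have h5 := CL.Fgs.ncard_conj_subgroup (normalizer (Dg z σ : Set G)) z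
  rw [hO, h4] at h5
  rw [← card_inf_mul_relIndex (centralizer {z}), ← h5]
  have cx : ∀ x ∈ zpowers z, ∀ b, Commute (σ b) x := by
    rintro _ ⟨n, rfl⟩ b; exact (cz b).zpow_right n
  have cxz : ∀ x ∈ zpowers z, Commute x z := by
    rintro _ ⟨n, rfl⟩; exact (Commute.refl z).zpow_left n
  let φ : {b : S5 // b * w0 * b⁻¹ = w0 ∨ b * w0 * b⁻¹ = w0⁻¹} × zpowers z →
      ↥(centralizer {z} ⊓ normalizer (Dg z σ : Set G)) := fun a =>
    ⟨σ a.1 * a.2, mem_centralizer_singleton_iff.2 ((cz _).mul_left (cxz _ a.2.2)),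
      mul_mem (mem_normalizer_sup rfl (by rw [conj_eq_iff.2 (cz _)]; exact zD) (by
        rw [← map_inv, ← map_mul, ← map_mul]
        rcases a.1.2 with e | e <;> rw [e]
        exacts [wD, map_inv σ w0 ▸ inv_mem wD])) (le_normalizer (mem_sup_left a.2.2))⟩
  have hφ : Function.Bijective φ := by
    refine ⟨fun a a' e => ?_, fun g => ?_⟩
    · have e1 : σ a.1 * a.2 = σ a'.1 * a'.2 := congrArg Subtype.val e
      have e2 : (a'.1 : S5)⁻¹ * a.1 = 1 := inj _ (by
        rw [map_mul, map_inv, show (σ a'.1)⁻¹ * σ a.1 = a'.2 * (a.2 : G)⁻¹ by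
          rw [inv_mul_eq_iff_eq_mul, ← mul_assoc, ← e1, mul_inv_cancel_right]]
        exact mul_mem a'.2.2 (inv_mem a.2.2))
      have e3 : a.1 = a'.1 := Subtype.ext (inv_mul_eq_one.1 e2).symm
      rw [e3, mul_right_inj] at e1
      exact Prod.ext e3 (Subtype.ext e1)
    · obtain ⟨b, x, hx, e⟩ := cent g (mem_centralizer_singleton_iff.1 g.2.1)
      have h1 : σ b ∈ normalizer (Dg z σ : Set G) :=
        (mul_mem_cancel_right (le_normalizer (mem_sup_left hx))).1 (e ▸ g.2.2)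
      obtain ⟨x', hx', y, hy, e'⟩ := exists_mul_of_mem_sup (cz w0).symm ((mem_normalizer_iff.1 h1 _).1 wD)
      rw [← map_inv, ← map_mul, ← map_mul, ← mul_inv_eq_iff_eq_mul] at e'
      have h2 : b * w0 * b⁻¹ = w0 ∨ b * w0 * b⁻¹ = w0⁻¹ := by
        rcases (mem_zpowers_three ow).1 hy with rfl | rfl | rfl
        · rw [inv_one, mul_one] at e'
          exact absurd (conj_eq_one_iff.1 (inj _ (e' ▸ hx'))) (by decide)
        · rw [← map_inv, ← map_mul] at e'
          exact Or.inl (mul_inv_eq_one.1 (inj _ (e' ▸ hx')))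
        · rw [inv_inv, ← map_mul] at e'
          exact Or.inr (mul_eq_one_iff_eq_inv.1 (inj _ (e' ▸ hx')))
      exact ⟨(⟨b, h2⟩, ⟨x, hx⟩), Subtype.ext e.symm⟩
  rw [← Nat.card_congr (Equiv.ofBijective φ hφ), Nat.card_prod, Nat.card_eq_fintype_card, s5_card_norm,
    Nat.card_zpowers, ord]

theorem sign_of_isConj {a b : Perm (Fin 8)} (h : IsConj a b) : sign a = sign b :=
  isConj_iff_eq.1 (sign.map_isConj h)

theorem s8_classes {a b x : Perm (Fin 8)} (ha : orderOf a = 2) (hb : orderOf b = 2) (hx : orderOf x = 2)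
    (e1 : sign a = sign x) (e2 : sign b = sign x) (hn : ¬ IsConj a b) : IsConj a x ∨ IsConj b x := by
  have key : ∀ {y : Perm (Fin 8)}, orderOf y = 2 →
      (sign y = 1 ∧ (IsConj (swap 3 4 * swap 6 7) y ∨ IsConj (swap 0 3 * swap 1 4 * swap 2 5 * swap 6 7) y)) ∨
      (sign y = -1 ∧ (IsConj (swap 6 7) y ∨ IsConj (swap 0 3 * swap 1 4 * swap 2 5) y)) := fun hy => by
    rcases s8_two hy with e | e | e | e
    · exact .inr ⟨(sign_of_isConj e).symm.trans (by decide), .inl e⟩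
    · exact .inl ⟨(sign_of_isConj e).symm.trans (by decide), .inl e⟩
    · exact .inr ⟨(sign_of_isConj e).symm.trans (by decide), .inr e⟩
    · exact .inl ⟨(sign_of_isConj e).symm.trans (by decide), .inr e⟩
  have fin : ∀ {c d : Perm (Fin 8)}, (IsConj c a ∨ IsConj d a) → (IsConj c b ∨ IsConj d b) →
      (IsConj c x ∨ IsConj d x) → IsConj a x ∨ IsConj b x := by
    rintro c d (h1 | h1) (h2 | h2) (h3 | h3)
    exacts [absurd (h1.symm.trans h2) hn, absurd (h1.symm.trans h2) hn, .inl (h1.symm.trans h3),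
      .inr (h2.symm.trans h3), .inr (h2.symm.trans h3), .inl (h1.symm.trans h3), absurd (h1.symm.trans h2) hn,
      absurd (h1.symm.trans h2) hn]
  rcases key ha with ⟨s1, h1⟩ | ⟨s1, h1⟩ <;> rcases key hb with ⟨s2, h2⟩ | ⟨s2, h2⟩ <;>
    rcases key hx with ⟨s3, h3⟩ | ⟨s3, h3⟩ <;> rw [s1, s3] at e1 <;> rw [s2, s3] at e2 <;>
    first | exact fin h1 h2 h3 | exact absurd e1 (by decide) | exact absurd e2 (by decide)

theorem s8_odd_comm {a : Perm (Fin 8)} (h : a ^ 3 = 1) : ∃ b, sign b = -1 ∧ Commute b a := by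
  haveI : Fact (Nat.Prime 3) := ⟨Nat.prime_three⟩
  have h1 := card_compl_support_modEq (p := 3) (n := 1) (σ := a) (by simpa using h)
  rw [Fintype.card_fin, Nat.ModEq] at h1
  obtain ⟨i, hi, j, hj, hij⟩ := Finset.one_lt_card.1 (show 1 < a.supportᶜ.card by omega)
  rw [Finset.mem_compl, notMem_support] at hi hj
  refine ⟨swap i j, sign_swap hij, (mul_inv_eq_iff_eq_mul.1 ?_ : Commute a _).symm⟩
  rw [← swap_apply_apply, hi, hj]

theorem a5_pow : ∀ b : S5, sign b = 1 → b ^ 30 = 1 := by decide +kernel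

theorem mem_of_sq {N : Subgroup G} (h : ∀ g : G, g ^ 2 ∈ N) (a b : G) : a * b * a⁻¹ * b⁻¹ ∈ N := by
  have := mul_mem (mul_mem (h a) (h (a⁻¹ * b))) (h b⁻¹)
  rwa [show a ^ 2 * (a⁻¹ * b) ^ 2 * b⁻¹ ^ 2 = a * b * a⁻¹ * b⁻¹ by simp only [pow_two]; group] at this

end CL.McL3
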