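/-
The 3-local characterization of the McLaughlin group, part F: the Sylow 3-subgroup of `C(t)`, the end of the proof
and the case `C(t) = 2 A₈`.
-/
import Cfsg.Agent.Rec.McL3Fin1

set_option autoImplicit false
set_option synthInstance.maxSize 2000

open Cfsg Subgroup CL.Grp CL.Rec CL.Perm Equiv Equiv.Perm

namespace CL.McL3

universe u

/-- the singular vectors fixed by `t0` -/
abbrev InX (v : V) : Prop := v = z0 ∨ v = -z0 ∨ v = z1 ∨ v = -z1

def gam (a b v : V) : V := if v = z0 then a else if v = -z0 then -a else if v = z1 then b else -b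

theorem v_fix : ∀ v : V, act t0 v = v → ∃ i j : Fin 3, v = i.val • z0 + j.val • z1 := by decide +kernel

theorem v_sing : ∀ v : V, act t0 v = v → q v = 0 → v = 0 ∨ InX v := by decide +kernel

theorem v_gam : ∀ a : V, InX a → ∀ b : V, InX b → a ≠ b → a ≠ -b →
    (gam a b (gam a b (gam a b (gam a b z0))) = z0 ∧ gam a b (gam a b (gam a b (gam a b z1))) = z1) ∧
      ∀ v : V, InX v → InX (gam a b v) := by decide +kernel

theorem v_yc : ∀ a : V, act t0 a = a → q a = 0 → q (a - y0) = 0 → a = z0 ∨ a = -z1 := by decide +kernel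

theorem v_neg : ∀ v : V, -act t0 v = v → q v = 0 → v = 0 := by decide +kernel

theorem v_zero : ∀ v : V, act σ0 v = v → act McL3.τ0 v = v → act ρ0 v = v → v = 0 := by decide +kernel

theorem s6_four : ∀ p : S6, sign p = 1 → p * t0 = t0 * p → p ^ 4 = 1 := by decide +kernel

theorem s6_three : ∀ p : S6, p * σ0 = σ0 * p → p * McL3.τ0 = McL3.τ0 * p → p ^ 3 = 1 := by decide +kernel

variable {G : Type*} [Group G] {ι : V → G} {J E : Subgroup G} {α : G → S5} {t f s u : G}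

namespace Fx

variable (h : Fx ι J E α t f s u)
include h

theorem emb : Emb ι J := h.toFj.toEmb

theorem t1 : t ≠ 1 := fun e => absurd (h.emb.act_eq h.lt (e ▸ (Lin.one ι).act_one)) (by decide)
theorem zt : Commute (ι z0) t := (h.lt.commute (by decide)).symm
theorem zt' : Commute (ι z1) t := (h.lt.commute (by decide)).symm
theorem yt : Commute (ι y0) t := (h.lt.commute (by decide)).symm
theorem ft : Commute f t := h.f2 ▸ (Commute.refl f).mul_right (Commute.refl f)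
theorem ut : Commute u t := h.u2 ▸ (Commute.refl u).mul_right (Commute.refl u)
theorem st : Commute s t := mul_inv_eq_iff_eq_mul.1 (by
  rw [← h.f2, ← conj_mul, h.sf, ← mul_inv_rev, h.f2, inv_eq_of_mul_eq_one_right h.t2])
theorem fz : f * ι z0 * f⁻¹ = (ι z0)⁻¹ := by rw [h.lf, ← h.emb.neg]; congr 1; decide
theorem fz' : f * ι z1 * f⁻¹ = (ι z1)⁻¹ := by rw [h.lf, ← h.emb.neg]; congr 1; decide
theorem sz : s * ι z0 * s⁻¹ = (ι z1)⁻¹ := by rw [h.ls, ← h.emb.neg]; congr 1; decide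
theorem sz' : s * ι z1 * s⁻¹ = (ι z0)⁻¹ := by rw [h.ls, ← h.emb.neg]; congr 1; decide
theorem sy : Commute s (ι y0) := h.ls.commute (by decide)
theorem yz : ι z0 * (ι z1)⁻¹ = ι y0 := by rw [← h.emb.sub]; congr 1; decide
theorem tE : t ∈ E := h.u2 ▸ mul_mem h.uE h.uE

theorem fs : f * s * f⁻¹ = s * t := by
  have h1 : f * s = s * f⁻¹ := by rw [← h.sf, ← mul_assoc, ← mul_assoc, h.s2, one_mul, inv_eq_of_mul_eq_one_right h.s2]
  rw [h1, mul_assoc, ← mul_inv_rev, h.f2, inv_eq_of_mul_eq_one_right h.t2]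

theorem conj_zz : IsConj (ι z0) (ι z1) :=
  isConj_iff.2 ⟨f * s, by rw [← inv_inv (ι z1), ← h.fz', conj_inv, ← h.sz]; group⟩

theorem ny : ¬ IsConj (ι z0) (ι y0) := fun e => absurd (h.fus _ e) (by decide)

theorem memD {g : G} : g ∈ zpowers (ι z0) ⊔ zpowers (ι z1) ↔ ∃ v, act t0 v = v ∧ ι v = g := by
  constructor
  · intro hg
    have h1 : g ∈ J ⊓ centralizer {t} := (sup_le (zpowers_le.2 ⟨h.emb.memJ _, mem_centralizer_singleton_iff.2 h.zt⟩)
      (zpowers_le.2 ⟨h.emb.memJ _, mem_centralizer_singleton_iff.2 h.zt'⟩) : _ ≤ J ⊓ centralizer {t}) hg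
    obtain ⟨v, rfl⟩ := (h.emb.mem g).1 h1.1
    exact ⟨v, h.emb.fix h.lt (mem_centralizer_singleton_iff.1 h1.2).symm, rfl⟩
  · rintro ⟨v, hv, rfl⟩
    obtain ⟨i, j, rfl⟩ := v_fix v hv
    rw [h.emb.add, h.emb.nsmul, h.emb.nsmul]
    exact mul_mem (mem_sup_left (pow_mem (mem_zpowers _) _)) (mem_sup_right (pow_mem (mem_zpowers _) _))

theorem memD' {g : G} (hg : g ∈ J) (ht : Commute g t) : g ∈ zpowers (ι z0) ⊔ zpowers (ι z1) := by
  obtain ⟨v, rfl⟩ := (h.emb.mem g).1 hg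
  exact h.memD.2 ⟨v, h.emb.fix h.lt ht.symm, rfl⟩

theorem inX {g : G} (hg : g ∈ zpowers (ι z0) ⊔ zpowers (ι z1)) (hc : IsConj (ι z0) g) : ∃ v, InX v ∧ ι v = g := by
  obtain ⟨v, hv, rfl⟩ := h.memD.1 hg
  refine ⟨v, (v_sing v hv (h.fus v hc)).resolve_left ?_, rfl⟩
  rintro rfl
  rw [h.emb.zero, isConj_one_left, h.emb.eq_one] at hc
  exact absurd hc (by decide)

theorem αone : α 1 = 1 := by simpa using h.mul 1 (one_mem _) 1 (one_mem _)

/-- `α` as a homomorphism -/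
def αh : NZ ι →* S5 := MonoidHom.mk' (fun g => α g) fun a b => h.mul _ a.2 _ b.2

theorem αinv {g : G} (hg : g ∈ NZ ι) : α g⁻¹ = (α g)⁻¹ := map_inv h.αh ⟨g, hg⟩
theorem αpow {g : G} (hg : g ∈ NZ ι) (n : ℕ) : α (g ^ n) = α g ^ n := map_pow h.αh ⟨g, hg⟩ n

theorem αzp {x : G} (hx : x ∈ zpowers (ι z0)) : α x = 1 := by
  obtain ⟨n, rfl⟩ := hx
  exact (map_zpow h.αh ⟨_, le_normalizer (mem_zpowers _)⟩ n).trans (by
    rw [show h.αh ⟨_, le_normalizer (mem_zpowers _)⟩ = 1 from h.αz, one_zpow])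

variable [Finite G]

omit h in
theorem nz_of_comm {g : G} (hg : Commute g (ι z0)) : g ∈ NZ ι :=
  mem_normalizer_zpowers (by rw [conj_eq_iff.2 hg]; exact mem_zpowers _)

omit h in
theorem nz_of_inv {g : G} (hg : g * ι z0 * g⁻¹ = (ι z0)⁻¹) : g ∈ NZ ι :=
  mem_normalizer_zpowers (by rw [hg]; exact inv_mem (mem_zpowers _))

theorem ENZ : E ≤ NZ ι := fun e he => nz_of_comm (h.Ez e he)
theorem tNZ : t ∈ NZ ι := h.ENZ h.tE
theorem fNZ : f ∈ NZ ι := nz_of_inv h.fz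

theorem cardD : Nat.card ↥(zpowers (ι z0) ⊔ zpowers (ι z1)) ∣ 9 := by
  have := card_sup_dvd (H := zpowers (ι z0)) (K := zpowers (ι z1))
    (zpowers_le.2 (mem_normalizer_zpowers (by rw [conj_eq_iff.2 (h.emb.comm _ _)]; exact mem_zpowers _)))
  rwa [Nat.card_zpowers, Nat.card_zpowers, h.emb.ord (by decide), h.emb.ord (by decide)] at this

theorem sylD : IsSylowIn 3 (zpowers (ι z0) ⊔ zpowers (ι z1)) (centralizer {t}) := by
  haveI : Fact (Nat.Prime 3) := ⟨Nat.prime_three⟩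
  have zD : ι z0 ∈ zpowers (ι z0) ⊔ zpowers (ι z1) := mem_sup_left (mem_zpowers _)
  have zD' : ι z1 ∈ zpowers (ι z0) ⊔ zpowers (ι z1) := mem_sup_right (mem_zpowers _)
  refine isSylowIn_of_maximal (sup_le (zpowers_le.2 (mem_centralizer_singleton_iff.2 h.zt))
    (zpowers_le.2 (mem_centralizer_singleton_iff.2 h.zt'))) (h.emb.isPGroup.to_le
      (sup_le (zpowers_le.2 (h.emb.memJ _)) (zpowers_le.2 (h.emb.memJ _)))) fun U hU h1 h2 => ?_
  by_contra hne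
  obtain ⟨g, ⟨hg, hn⟩, hD⟩ := SetLike.exists_of_lt (lt_inf_normalizer_of_isPGroup hU (lt_of_le_of_ne h1 (Ne.symm hne)))
  have gt : Commute g t := mem_centralizer_singleton_iff.1 (h2 hg)
  obtain ⟨k, hk⟩ := hU ⟨g, hg⟩
  replace hk : g ^ 3 ^ k = 1 := congrArg Subtype.val hk
  obtain ⟨a, ha, ea⟩ := h.inX ((mem_normalizer_iff.1 hn _).1 zD) (isConj_iff.2 ⟨g, rfl⟩)
  obtain ⟨b, hb, eb⟩ := h.inX ((mem_normalizer_iff.1 hn _).1 zD') (h.conj_zz.trans (isConj_iff.2 ⟨g, rfl⟩))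
  have step : ∀ v, InX v → g * ι v * g⁻¹ = ι (gam a b v) := by
    rintro v (rfl | rfl | rfl | rfl)
    · rw [gam, if_pos rfl, ea]
    · rw [gam, if_neg (by decide), if_pos rfl, h.emb.neg, h.emb.neg, ea, conj_inv]
    · rw [gam, if_neg (by decide), if_neg (by decide), if_pos rfl, eb]
    · rw [gam, if_neg (by decide), if_neg (by decide), if_neg (by decide), h.emb.neg, h.emb.neg, eb, conj_inv]
  obtain ⟨⟨e0, e1⟩, hx⟩ := v_gam a ha b hb (fun e => by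
      rw [e, eb, mul_left_inj, mul_right_inj, h.emb.inj.eq_iff] at ea
      exact absurd ea (by decide)) fun e => by
    rw [e, h.emb.neg, eb, conj_inv, mul_left_inj, mul_right_inj, ← h.emb.neg, h.emb.inj.eq_iff] at ea
    exact absurd ea (by decide)
  have ho : Odd (orderOf g) := odd_orderOf_of_pow (Odd.pow (by decide)) hk
  have four : ∀ v, InX v → gam a b (gam a b (gam a b (gam a b v))) = v → Commute g (ι v) := fun v hv e => by
    refine commute_of_sq_of_odd ho (commute_of_sq_of_odd (ho.of_dvd_nat (orderOf_pow_dvd 2)) (conj_eq_iff.1 ?_))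
    conv_rhs => rw [← e, ← step _ (hx _ (hx _ (hx _ hv))), ← step _ (hx _ (hx _ hv)), ← step _ (hx _ hv), ← step _ hv]
    simp only [pow_two]
    group
  have gN := h.l5 z0 z1 (by decide) (by decide) (by decide) (by decide) (by decide) g (four _ (.inl rfl) e0)
    (four _ (.inr (.inr (.inl rfl))) e1)
  obtain ⟨p, hp, lp⟩ := h.thr g gN k hk
  have p4 := s6_four p hp (h.emb.act_eq (lp.act_mul h.lt) (gt.eq ▸ h.lt.act_mul lp))
  have p3 : p ^ 3 ^ k = 1 := h.emb.act_eq (lp.act_pow _) (hk ▸ (Lin.one ι).act_one)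
  obtain rfl : p = 1 := orderOf_eq_one_iff.1 (Nat.eq_one_of_dvd_coprimes
    (Nat.Coprime.pow_right k (by decide) : Nat.Coprime 4 (3 ^ k)) (orderOf_dvd_of_pow_eq_one p4)
    (orderOf_dvd_of_pow_eq_one p3))
  exact hD (h.memD' (h.cJ g lp.id_of_act) gt)

theorem not27 : ¬ 27 ∣ Nat.card (centralizer ({t} : Set G)) := fun e => by
  haveI : Fact (Nat.Prime 3) := ⟨Nat.prime_three⟩
  have h1 := h.cardD
  rw [h.sylD.card_eq_pow] at h1
  have h2 := (Nat.prime_three.pow_dvd_iff_le_factorization (k := 3) Nat.card_pos.ne').1 e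
  exact absurd ((pow_dvd_pow 3 h2).trans h1) (by decide)

/-- a non-cyclic 3-group centralizing a conjugate of `t` contains a conjugate of `z` -/
theorem exists_conj {a x y : G} (ha : IsConj a t) {P : Subgroup G} (hP : IsPGroup 3 P)
    (hc : ∀ g ∈ P, Commute g a) (hx : x ∈ P) (x1 : x ≠ 1) (hy : y ∈ P) (yx : y ∉ zpowers x) :
    ∃ g ∈ P, IsConj (ι z0) g := by
  haveI : Fact (Nat.Prime 3) := ⟨Nat.prime_three⟩
  obtain ⟨c, rfl⟩ := isConj_iff.1 ha
  obtain ⟨k, -, hk⟩ := h.sylD.exists_conj_le (IsPGroup.conj_smul hP c) ((conj_smul_le_iff _ _ _).2 fun g hg =>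
    mem_centralizer_singleton_iff.2 (commute_conj (hc g hg) c))
  rw [conj_smul_conj_smul] at hk
  have h1 := three_mul_dvd hP (lt_of_le_of_ne (zpowers_le.2 hx) fun e => yx (e ▸ hy))
  have h2 := three_mul_dvd (hP.to_le (zpowers_le.2 hx)) (bot_lt_iff_ne_bot.2 (zpowers_ne_bot.2 x1))
  rw [card_bot] at h2
  have h3 := eq_of_le_of_card_ge hk (by
    rw [card_conj_smul]
    exact (Nat.le_of_dvd (by decide) h.cardD).trans
      (Nat.le_of_dvd Nat.card_pos ((Nat.mul_dvd_mul_left 3 h2).trans h1)))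
  exact ⟨_, (mem_conj_smul_iff _ _ _).1 (h3.ge (mem_sup_left (mem_zpowers _))),
    isConj_iff.2 ⟨(k * c)⁻¹, by rw [inv_inv]⟩⟩

variable {H : Type*} [Group H] {p : G → H}

theorem exists_sigma (hp : Qt t p) {c : G} (cN : c ∈ NZ ι) (c2 : c * c = t) (hc : sign (α c) = -1) :
    ∃ σ : S5 →* H, (∀ e ∈ E, σ (α e) = p e) ∧ (∀ e ∈ E, σ (α (e * c)) = p (e * c)) ∧
      (∀ b, σ b ∈ zpowers (p (ι z0)) → b = 1) ∧
      ∀ b, (sign b = 1 ∧ ∃ e ∈ E, α e = b) ∨ (sign b = -1 ∧ ∃ e ∈ E, α (e * c) = b) := by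
  have ct : Commute c t := c2 ▸ (Commute.refl c).mul_right (Commute.refl c)
  have cE := h.nE c cN ct
  obtain ⟨L, hL⟩ : ∃ L, L = E ⊔ zpowers c := ⟨_, rfl⟩
  have LN : L ≤ NZ ι := hL ▸ sup_le h.ENZ (zpowers_le.2 cN)
  have LK : L ≤ centralizer {t} := hL ▸ sup_le (fun e he => mem_centralizer_singleton_iff.2 (h.Et e he))
    (zpowers_le.2 (mem_centralizer_singleton_iff.2 ct))
  have EL : E ≤ L := hL ▸ le_sup_left
  have cL : c ∈ L := hL ▸ mem_sup_right (mem_zpowers c)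
  have cov : ∀ b, (sign b = 1 ∧ ∃ e ∈ E, α e = b) ∨ (sign b = -1 ∧ ∃ e ∈ E, α (e * c) = b) := fun b => by
    refine (Int.units_eq_one_or (sign b)).imp (fun e => ⟨e, h.ontoE b e⟩) fun e => ⟨e, ?_⟩
    obtain ⟨x, hx, e'⟩ := h.ontoE (b * (α c)⁻¹) (by rw [Perm.sign_mul, sign_inv, e, hc]; decide)
    exact ⟨x, hx, by rw [h.mul _ (h.ENZ hx) _ cN, e', inv_mul_cancel_right]⟩
  have hs : Function.Surjective (h.αh.comp (inclusion LN)) := fun b => by
    rcases cov b with ⟨-, e, he, rfl⟩ | ⟨-, e, he, rfl⟩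
    exacts [⟨⟨e, EL he⟩, rfl⟩, ⟨⟨e * c, mul_mem (EL he) cL⟩, rfl⟩]
  have hk : (h.αh.comp (inclusion LN)).ker ≤ (hp.hom.comp (inclusion LK)).ker := fun x hx => by
    have h1 : (x : G) ∈ ((E ⊔ zpowers c : Subgroup G) : Set G) := hL ▸ x.2
    rw [coe_mul_of_right_le_normalizer_left _ _ (zpowers_le.2 cE)] at h1
    obtain ⟨e, he, _, ⟨n, rfl⟩, e1⟩ := h1
    have h2 : α x = 1 := hx
    have h3 : ∀ j : ℤ, c ^ (2 * j) ∈ E := fun j => by rw [zpow_mul, zpow_two, c2]; exact zpow_mem h.tE j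
    obtain ⟨j, rfl | rfl⟩ := Int.even_or_odd' n
    · have h4 : (x : G) ∈ E := e1 ▸ mul_mem he (h3 j)
      exact (hp.ker x (h.Et _ h4)).2 (h.kerE x h4 h2)
    · have h4 := congrArg sign h2
      simp only at e1
      rw [← e1, zpow_add_one, ← mul_assoc, h.mul _ (h.ENZ (mul_mem he (h3 j))) _ cN, Perm.sign_mul,
        h.evenE _ (mul_mem he (h3 j)), hc] at h4
      exact absurd h4 (by decide)
  have key : ∀ x ∈ L, (MonoidHom.liftOfSurjective _ hs ⟨_, hk⟩) (α x) = p x := fun x hx =>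
    MonoidHom.liftOfRightInverse_comp_apply _ _ _ _ (⟨x, hx⟩ : L)
  refine ⟨_, fun e he => key e (EL he), fun e he => key _ (mul_mem (EL he) cL), fun b hb => ?_, cov⟩
  obtain ⟨x, rfl⟩ := hs b
  obtain ⟨n, hn⟩ := hb
  have h1 : p (ι z0 ^ n) = p x := (hp.zpow h.zt n).trans (hn.trans (key x x.2))
  have h2 := h.αzp (zpow_mem (mem_zpowers _) n)
  change α x = 1
  rcases (hp.eq_iff (mem_centralizer_singleton_iff.1 (LK x.2)) (h.zt.zpow_left n)).1 h1.symm with e | e <;> rw [e]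
  · exact h2
  · rw [h.mul _ (le_normalizer (zpow_mem (mem_zpowers _) n)) _ h.tNZ, h2, h.αt, mul_one]

theorem αz' : α (ι z1)⁻¹ ^ 3 = 1 ∧ α (ι z1)⁻¹ ≠ 1 := by
  refine ⟨by rw [← h.αpow (h.ENZ (inv_mem h.zE)), inv_pow, h.emb.cube, inv_one, h.αone], fun e => ?_⟩
  rcases h.kerE _ (inv_mem h.zE) e with e | e
  · rw [inv_eq_one, h.emb.eq_one] at e
    exact absurd e (by decide)
  · exact h.t1 (eq_one_of_two_three h.t2 (by rw [← e, inv_pow, h.emb.cube, inv_one]))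

theorem py (hp : Qt t p) : p (ι z0) * p (ι z1)⁻¹ = p (ι y0) := by rw [← hp.mul _ _ h.zt h.zt'.inv_left, h.yz]

theorem pny (hp : Qt t p) : ¬ IsConj (p (ι z0)) (p (ι y0)) := fun e => by
  obtain ⟨x, hx⟩ := isConj_iff.1 e
  obtain ⟨k, hk, rfl⟩ := hp.onto x
  exact h.ny (isConj_iff.2 ⟨k, hp.conj_lift hk h.zt h.yt (h.emb.cube _) (h.emb.cube _) hx⟩)

theorem pyc (hY : ∀ g, Commute g (ι y0) → g ∈ normalizer (J : Set G)) (hp : Qt t p) {x : H}
    (hx : Commute x (p (ι y0))) : x * p (ι z0) * x⁻¹ = p (ι z0) ∨ x * p (ι z0) * x⁻¹ = p (ι z1)⁻¹ := by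
  obtain ⟨g, hg, rfl⟩ := hp.onto x
  have h1 := hp.comm_lift hg h.yt (h.emb.cube _) hx
  obtain ⟨γ, hγ⟩ := h.emb.exists_lin (hY g h1)
  have h2 : γ z1 = γ z0 - y0 := by
    rw [eq_sub_iff_add_eq, ← h.emb.fix hγ h1, ← h.emb.lin_add hγ]; congr 1; decide
  rw [← hp.conj hg h.zt, hγ, ← h.emb.neg]
  exact (v_yc (γ z0) (h.emb.fix h.lt (hγ z0 ▸ ((hg.mul_left h.zt).mul_left hg.inv_left).symm))
    (h.fus _ (isConj_iff.2 ⟨g, hγ _⟩)) (h2 ▸ h.fus _ (h.conj_zz.trans (isConj_iff.2 ⟨g, hγ _⟩)))).imp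
    (fun e => by rw [e]) fun e => by rw [e]

end Fx

/-- the end of the proof -/
theorem Fx.concl (hR : RecThm.{u}) {G : Type u} [Group G] [Finite G] {ι : V → G} {J E : Subgroup G} {α : G → S5}
    {t f s u : G} (h : Fx ι J E α t f s u) {N : Subgroup G} [N.Normal] (hN : N = ⊤ ∨ N.index = 2) (uN : u ∈ N)
    {p : N → alternatingGroup (Fin 8)} (hp : Qt (⟨t, h.u2 ▸ mul_mem uN uN⟩ : N) p) : Concl G := by
  have sq : ∀ g : G, g * g ∈ N := fun g => by
    rcases hN with rfl | e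
    exacts [mem_top _, mul_self_mem_of_index_two e g]
  have ex : ∀ r : S6, r ^ 3 = 1 → ∃ m ∈ N, Lin ι m (act r) := fun r hr => by
    obtain ⟨m, hm⟩ := h.onto r⁻¹ (by rw [sign_inv, sign_of_cube hr])
    refine ⟨m * m, sq m, ?_⟩
    rw [show r = r⁻¹ * r⁻¹ by rw [← mul_inv_rev, eq_inv_iff_mul_eq_one, ← hr, pow_three]]
    exact hm.act_mul hm
  obtain ⟨m, mN, hm⟩ := ex ρ0 (by decide)
  refine ⟨N, inferInstance, hN, (hR _ (ord2 hp.t2 hp.t1) (cover_of hp.t2 hp.t1 hp (v := ⟨u, uN⟩)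
    (Subtype.ext h.u2))).resolve_left fun e => ?_, eq_bot_iff.2 fun c hc => ?_⟩
  · obtain ⟨k, hk, o, ho, e1⟩ := mem_sup_of_normal_right.1 (e.ge (mem_top (⟨m, mN⟩⁻¹ : N)))
    obtain ⟨τ, hτ⟩ : ∃ τ : N, τ = ⟨t, h.u2 ▸ mul_mem uN uN⟩ := ⟨_, rfl⟩
    rw [← hτ] at hk
    have h1 : (⟨m, mN⟩ : N) * τ * (⟨m, mN⟩ : N)⁻¹ * τ⁻¹ ∈ oddCore N := by
      rw [← inv_inv (⟨m, mN⟩ : N), ← e1, show (k * o)⁻¹ * τ * (k * o)⁻¹⁻¹ * τ⁻¹ =
        o⁻¹ * (k⁻¹ * (τ * k) * o * τ⁻¹) by group, ← mem_centralizer_singleton_iff.1 hk, inv_mul_cancel_left]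
      exact mul_mem (inv_mem ho) (Normal.conj_mem inferInstance o ho τ)
    haveI : Fact (Nat.Prime 2) := ⟨Nat.prime_two⟩
    obtain ⟨n, hn⟩ := Nat.not_even_iff_odd.1 fun e => not_dvd_card_pPrimeCore 2 N e.two_dvd
    have h2 : (m * t * m⁻¹ * t⁻¹) ^ (2 * n + 1) = 1 := by
      have := congrArg Subtype.val (congrArg Subtype.val (pow_card_eq_one' (x := (⟨_, h1⟩ : oddCore N))))
      subst hτ
      rwa [hn] at this
    have h3 := h.emb.act_eq ((((hm.act_mul h.lt).act_mul hm.act_inv).act_mul h.lt.act_inv).act_pow (2 * n + 1))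
      (h2 ▸ (Lin.one ι).act_one)
    rw [pow_succ, pow_mul, show (ρ0 * t0 * ρ0⁻¹ * t0⁻¹) ^ 2 = 1 by decide, one_pow, one_mul] at h3
    exact absurd h3 (by decide)
  · obtain ⟨v, rfl⟩ := (h.emb.mem c).1 (h.cJ c fun v => mul_inv_eq_iff_eq_mul.2 (hc _ (by
      rw [show ι v = ι v * ι v * (ι v * ι v) by rw [mul_assoc, ← pow_three, h.emb.cube v, mul_one]]
      exact sq _)).symm)
    obtain ⟨a, aN, ha⟩ := ex σ0 (by decide)
    obtain ⟨b, bN, hb⟩ := ex McL3.τ0 (by decide)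
    exact h.emb.eq_one.2 (v_zero v (h.emb.fix ha (hc a aN)) (h.emb.fix hb (hc b bN)) (h.emb.fix hm (hc m mN)))

/-- the case `C(t) / ⟨t⟩ = A₈` -/
theorem Fx.caseA {G : Type*} [Group G] [Finite G] {ι : V → G} {J E : Subgroup G} {α : G → S5} {t f s u : G}
    (h : Fx ι J E α t f s u) (hY : ∀ g, Commute g (ι y0) → g ∈ normalizer (J : Set G))
    (hA : ∀ g, Commute g (ι z0) → sign (α g) = 1) {H : Type*} [Group H] [Finite H] {p : G → H} (hp : Qt t p) :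
    Nonempty (H ≃* alternatingGroup (Fin 8)) := by
  obtain ⟨σ, s1, s2, inj, cov⟩ := h.exists_sigma hp h.fNZ h.f2 h.αf
  have ef : ∀ e ∈ E, e * f * ι z0 * (e * f)⁻¹ = (ι z0)⁻¹ := fun e he => by
    rw [show e * f * ι z0 * (e * f)⁻¹ = e * (f * ι z0 * f⁻¹) * e⁻¹ by group, h.fz, conj_eq_iff.2 (h.Ez e he).inv_right]
  have sc := s1 _ (inv_mem h.zE)
  refine (Fr.of_one (z := p (ι z0)) (σ := σ) (hp.ord3 h.zt (h.emb.cube _) (mt h.emb.eq_one.1 (by decide))) inj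
    (fun b hb => ?_) (fun b hb => ?_) (fun x hx => ?_) h.αz'.1 h.αz'.2 ?_ ?_ (fun x hx => ?_) ?_
    fun e => h.not27 (e.trans hp.card_dvd)).iso
  · rcases cov b with ⟨-, e, he, rfl⟩ | ⟨e, -⟩
    · rw [s1 e he, ← hp.conj (h.Et e he) h.zt, conj_eq_iff.2 (h.Ez e he)]
    · exact absurd (hb.symm.trans e) (by decide)
  · rcases cov b with ⟨e, -⟩ | ⟨-, e, he, rfl⟩
    · exact absurd (hb.symm.trans e) (by decide)
    · rw [s2 e he, ← hp.conj ((h.Et e he).mul_left h.ft) h.zt, ef e he, hp.inv h.zt]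
  · obtain ⟨g, hg, rfl⟩ := hp.onto x
    have xt : ∀ x ∈ zpowers (ι z0), Commute x t := by rintro _ ⟨n, rfl⟩; exact h.zt.zpow_left n
    rcases hx with e | e
    · have h1 := conj_eq_iff.1 (hp.conj_lift hg h.zt h.zt (h.emb.cube _) (h.emb.cube _) e)
      obtain ⟨a, ha, x, hx, rfl⟩ := h.kerC g h1 hg (hA g h1)
      exact ⟨α a, p x, hp.mem_zpowers h.zt hx, by rw [s1 a ha, hp.mul _ _ (h.Et a ha) (xt x hx)]⟩
    · have h1 := hp.conj_lift hg h.zt h.zt.inv_left (h.emb.cube _) (by rw [inv_pow, h.emb.cube, inv_one])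
        (e.trans (hp.inv h.zt).symm)
      have h2 : Commute (g * f⁻¹) (ι z0) := conj_eq_iff.1 (by
        conv_lhs => rw [← inv_inv (ι z0), ← h.fz]
        conv_rhs => rw [← inv_inv (ι z0), ← h1]
        group)
      obtain ⟨e, he, x, hx, e1⟩ := h.kerC _ h2 (hg.mul_left h.ft.inv_left) (hA _ h2)
      have h3 : f⁻¹ * x * f⁻¹⁻¹ ∈ zpowers (ι z0) := (mem_normalizer_iff.1 (inv_mem h.fNZ) x).1 hx
      refine ⟨α (e * f), p _, hp.mem_zpowers h.zt h3, ?_⟩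
      rw [s2 e he, ← hp.mul _ _ ((h.Et e he).mul_left h.ft) (xt _ h3), mul_inv_eq_iff_eq_mul.1 e1]
      congr 1; group
  · exact isConj_iff.2 ⟨p s, by rw [sc, ← hp.conj h.st h.zt, h.sz]⟩
  · rw [sc, h.py hp]; exact h.pny hp
  · rw [sc, h.py hp] at hx
    rw [sc]
    rcases h.pyc hY hp hx with e | e <;> rw [e]
    exacts [mem_sup_left (mem_zpowers _), mem_sup_right (mem_zpowers _)]
  · refine ⟨p s, ord2 (by rw [← hp.mul _ _ h.st h.st, h.s2, hp.one]) fun e => ?_, ?_⟩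
    · rcases (hp.ker s h.st).1 e with e | e
      · exact absurd (h.emb.act_eq h.ls (e ▸ (Lin.one ι).act_one)) (by decide)
      · exact absurd (h.emb.act_eq h.ls (e ▸ h.lt)) (by decide)
    · rw [sc, h.py hp]; exact hp.comm h.st h.yt h.sy

end CL.McL3
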