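/-
The 3-local characterization of the McLaughlin group, part F: the case `C(t) = 2 S₈` and `fin_of`.
-/
import Cfsg.Agent.Rec.McL3Fin2

set_option autoImplicit false

open Cfsg Subgroup CL.Grp CL.Rec CL.Perm Equiv Equiv.Perm

namespace CL.McL3

universe u

variable {G : Type*} [Group G] {H : Type*} [Group H]

theorem Qt.sub {t : G} {p : G → H} (hp : Qt t p) {N : Subgroup G} (tN : t ∈ N) {A : Subgroup H}
    (h : ∀ g, Commute g t → (g ∈ N ↔ p g ∈ A)) : ∃ p' : N → A, Qt (⟨t, tN⟩ : N) p' := by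
  classical
  have c : ∀ a : N, Commute a (⟨t, tN⟩ : N) → Commute (a : G) t := fun a ha => congrArg Subtype.val ha
  refine ⟨fun g => if hg : p g ∈ A then ⟨p g, hg⟩ else 1, Subtype.ext hp.t2,
    fun e => hp.t1 (congrArg Subtype.val e), fun a b ha hb => ?_, fun x => ?_, fun g hg => ?_⟩
  · rw [dif_pos ((h _ (c a ha)).1 a.2), dif_pos ((h _ (c b hb)).1 b.2), dif_pos ((h _ (c _ (ha.mul_left hb))).1 (a * b).2)]
    exact Subtype.ext (hp.mul _ _ (c a ha) (c b hb))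
  · obtain ⟨g, hg, e⟩ := hp.onto x
    have h1 : p g ∈ A := e ▸ x.2
    exact ⟨⟨g, (h g hg).2 h1⟩, Subtype.ext hg, by rw [dif_pos h1]; exact Subtype.ext e⟩
  · rw [dif_pos ((h _ (c g hg)).1 g.2), Subtype.ext_iff, Subtype.ext_iff, Subtype.ext_iff]
    exact hp.ker g (c g hg)

theorem Qt.mem_pre {t : G} {p : G → H} (hp : Qt t p) {A : Subgroup H} {g : G} :
    g ∈ (A.comap hp.hom).map (centralizer ({t} : Set G)).subtype ↔ Commute g t ∧ p g ∈ A :=
  ⟨by rintro ⟨x, hx, rfl⟩; exact ⟨mem_centralizer_singleton_iff.1 x.2, hx⟩,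
    fun h => ⟨⟨g, mem_centralizer_singleton_iff.2 h.1⟩, h.2, rfl⟩⟩

variable {ι : V → G} {J E : Subgroup G} {α : G → S5} {t f s u r : G} {p : G → H}

namespace Fx

variable (h : Fx ι J E α t f s u)
include h

theorem h0t : Commute (s * u * s⁻¹ * u⁻¹) t := ((h.st.mul_left h.ut).mul_left h.st.inv_left).mul_left h.ut.inv_left

theorem h0z : s * u * s⁻¹ * u⁻¹ * ι z0 * (s * u * s⁻¹ * u⁻¹)⁻¹ = (ι z0)⁻¹ := by
  have h1 : u⁻¹ * ι z0 * u = ι z0 := by rw [mul_assoc, ← (h.Ez u h.uE).eq, inv_mul_cancel_left]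
  have h2 : s⁻¹ * ι z0 * s = (ι z1)⁻¹ := by rw [← inv_inv (ι z0), ← h.sz']; group
  calc _ = s * (u * (s⁻¹ * (u⁻¹ * ι z0 * u) * s) * u⁻¹) * s⁻¹ := by group
    _ = _ := by rw [h1, h2, ← conj_inv, h.uz, inv_inv, h.sz']

theorem h0_mem (hp : Qt t p) {A : Subgroup H} (hA : ∀ g : H, g ^ 2 ∈ A) : p (s * u * s⁻¹ * u⁻¹) ∈ A := by
  rw [hp.mul _ _ ((h.st.mul_left h.ut).mul_left h.st.inv_left) h.ut.inv_left, hp.conj h.st h.ut, hp.inv h.ut]
  exact mem_of_sq hA _ _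

theorem E_mem (hp : Qt t p) {A : Subgroup H} (hA : ∀ g : H, g ^ 2 ∈ A) {e : G} (he : e ∈ E) : p e ∈ A := by
  refine (hp.mem_pre.1 ((h.perf.trans (commutator_le.2 fun a ha b hb => hp.mem_pre.2 ?_)) he)).2
  have h1 := h.Et a ha
  have h2 := h.Et b hb
  rw [commutatorElement_def]
  refine ⟨((h1.mul_left h2).mul_left h1.inv_left).mul_left h2.inv_left, ?_⟩
  rw [hp.mul _ _ ((h1.mul_left h2).mul_left h1.inv_left) h2.inv_left, hp.conj h1 h2, hp.inv h2]
  exact mem_of_sq hA _ _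

theorem conj_ts : IsConj t s := by
  obtain ⟨m, hm⟩ := h.onto ρ0 (by decide)
  have h1 := ((hm.act_mul h.lt).act_mul hm.act_inv).act_mul h.ls.act_inv
  rw [show ρ0 * t0 * ρ0⁻¹ * s0⁻¹ = 1 by decide] at h1
  obtain ⟨v, e⟩ := (h.emb.mem _).1 (h.cJ _ h1.id_of_act)
  rw [eq_mul_inv_iff_mul_eq] at e
  have h2 : ι v * s * (ι v * s) = 1 := by rw [e, conj_mul, h.t2, mul_one, mul_inv_cancel]
  have h3 : s * (ι v)⁻¹ = ι v * s := by
    rw [← inv_eq_of_mul_eq_one_right h2, mul_inv_rev, inv_eq_of_mul_eq_one_right h.s2]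
  refine isConj_iff.2 ⟨ι v * m, ?_⟩
  calc _ = ι v * (m * t * m⁻¹) * (ι v)⁻¹ := by group
    _ = s := by rw [← e, mul_assoc, mul_assoc, h3, ← mul_assoc, ← mul_assoc, ← pow_three', h.emb.cube, one_mul]

variable [Finite G]

theorem no_exc (hp : Qt t p) {A : Subgroup H} (hA : ∀ g : H, g ^ 2 ∈ A)
    (e : A ≃* alternatingGroup (Fin 5) × alternatingGroup (Fin 5)) : False := by
  have hN := nz_of_inv h.h0z
  obtain ⟨a, ha, e1⟩ := h.ontoE (swap 0 1 * swap 1 2 * swap 2 3 * (α (s * u * s⁻¹ * u⁻¹))⁻¹) (by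
    rw [Perm.sign_mul, sign_inv, h.αsu]; decide)
  have gt := (h.Et a ha).mul_left h.h0t
  have h1 : p (a * (s * u * s⁻¹ * u⁻¹)) ∈ A := by
    rw [hp.mul _ _ (h.Et a ha) h.h0t]
    exact mul_mem (h.E_mem hp hA ha) (h.h0_mem hp hA)
  have h2 : e ⟨_, h1⟩ ^ 30 = 1 :=
    Prod.ext (Subtype.ext (a5_pow _ (e ⟨_, h1⟩).1.2)) (Subtype.ext (a5_pow _ (e ⟨_, h1⟩).2.2))
  rw [← map_pow, e.map_eq_one_iff, Subtype.ext_iff] at h2
  have h3 := (hp.ker _ (gt.pow_left 30)).1 ((hp.pow gt 30).trans h2)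
  have h4 := h.αpow (mul_mem (h.ENZ ha) hN) 30
  rw [h.mul _ (h.ENZ ha) _ hN, e1, inv_mul_cancel_right] at h4
  rcases h3 with e | e <;> rw [e] at h4
  · exact absurd (h.αone.symm.trans h4) (by decide +kernel)
  · exact absurd (h.αt.symm.trans h4) (by decide +kernel)

variable (r2 : r * r = 1) (lr : Lin ι r fun v => -v) (rf : Commute r f) (rs : Commute r s) (αr : sign (α r) = 1)

omit [Finite G] in
include rf in
theorem rt : Commute r t := h.f2 ▸ rf.mul_right rf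

omit [Finite G] in
include r2 rf in
theorem c2 : r * f * (r * f) = t := by rw [mul_assoc, ← mul_assoc f, ← rf.eq, ← mul_assoc, ← mul_assoc, r2, one_mul, h.f2]

omit [Finite G] in
include lr in
theorem rv (v : V) : r * ι v * r⁻¹ = (ι v)⁻¹ := (lr v).trans (h.emb.neg v)

omit [Finite G] in
include lr in
theorem cz : Commute (r * f) (ι z0) := conj_eq_iff.1 (by
  rw [show r * f * ι z0 * (r * f)⁻¹ = r * (f * ι z0 * f⁻¹) * r⁻¹ by group, h.fz, ← conj_inv, h.rv lr, inv_inv])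

include lr αr in
theorem αc : sign (α (r * f)) = -1 := by
  rw [h.mul _ (nz_of_inv (h.rv lr _)) _ h.fNZ, Perm.sign_mul, αr, h.αf, one_mul]

include lr rf αr in
theorem centz {g : G} (hz : Commute g (ι z0)) (ht : Commute g t) :
    ∃ e ∈ E, ∃ x ∈ zpowers (ι z0), g = e * x ∨ g = e * (r * f) * x := by
  rcases Int.units_eq_one_or (sign (α g)) with e | e
  · obtain ⟨a, ha, x, hx, e⟩ := h.kerC g hz ht e
    exact ⟨a, ha, x, hx, .inl e⟩
  · have cN := nz_of_comm (h.cz lr)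
    obtain ⟨a, ha, x, hx, e⟩ := h.kerC (g * (r * f)⁻¹) (hz.mul_left (h.cz lr).inv_left)
      (ht.mul_left ((h.rt rf).mul_left h.ft).inv_left) (by
        rw [h.mul _ (nz_of_comm hz) _ (inv_mem cN), h.αinv cN, Perm.sign_mul, sign_inv, e, h.αc lr αr]; decide)
    obtain ⟨n, rfl⟩ := hx
    refine ⟨a, ha, _, ⟨n, rfl⟩, .inr ?_⟩
    rw [mul_inv_eq_iff_eq_mul.1 e, mul_assoc, mul_assoc a, ((h.cz lr).zpow_right n).eq]

include r2 lr rf αr in
theorem exists_fs (hY : ∀ g, Commute g (ι y0) → g ∈ normalizer (J : Set G)) [Finite H] (hp : Qt t p) :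
    ∃ w σ, Fs (p (ι z0)) w (p s) σ := by
  have rN := nz_of_inv (h.rv lr z0)
  have cN := nz_of_comm (h.cz lr)
  have rt := h.rt rf
  have ct := rt.mul_left h.ft
  obtain ⟨σ, s1, s2, inj, cov⟩ := h.exists_sigma hp cN (h.c2 r2 rf) (h.αc lr αr)
  obtain ⟨a, ha, ea⟩ := h.ontoE _ αr
  have aN := h.ENZ ha
  have wN := mul_mem rN (inv_mem aN)
  have wt := rt.mul_left (h.Et a ha).inv_left
  have αw : α (r * a⁻¹) = 1 := by rw [h.mul _ rN _ (inv_mem aN), h.αinv aN, ea, mul_inv_cancel]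
  have wz : r * a⁻¹ * ι z0 * (r * a⁻¹)⁻¹ = (ι z0)⁻¹ := by
    rw [show r * a⁻¹ * ι z0 * (r * a⁻¹)⁻¹ = r * (a⁻¹ * ι z0 * a⁻¹⁻¹) * r⁻¹ by group,
      conj_eq_iff.2 (h.Ez a ha).inv_left, h.rv lr]
  have xt : ∀ x ∈ zpowers (ι z0), Commute x t := by rintro _ ⟨n, rfl⟩; exact h.zt.zpow_left n
  have cw : ∀ x ∈ NZ ι, Commute x t → r * a⁻¹ * x * (r * a⁻¹)⁻¹ * x⁻¹ ∈ E → Commute (p x) (p (r * a⁻¹)) :=
    fun x hx xt e => by
      have h1 := (hp.ker _ (h.Et _ e)).2 (h.kerE _ e (by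
        rw [h.mul _ (mul_mem (mul_mem wN hx) (inv_mem wN)) _ (inv_mem hx), h.mul _ (mul_mem wN hx) _ (inv_mem wN),
          h.mul _ wN _ hx, h.αinv wN, h.αinv hx, αw]; group))
      rw [hp.mul _ _ ((wt.mul_left xt).mul_left wt.inv_left) xt.inv_left, hp.conj wt xt, hp.inv xt,
        mul_inv_eq_one] at h1
      exact (conj_eq_iff.1 h1).symm
  have cwE : ∀ e ∈ E, Commute (p e) (p (r * a⁻¹)) := fun e he => cw e (h.ENZ he) (h.Et e he)
    (mul_mem ((mem_normalizer_iff.1 (h.nE _ wN wt) e).1 he) (inv_mem he))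
  have cwc : Commute (p (r * f)) (p (r * a⁻¹)) := cw _ cN ct (by
    have h1 : r * (r * f)⁻¹ * r⁻¹ = (r * f)⁻¹ := conj_eq_iff.2 ((Commute.refl r).mul_right rf).inv_right
    rw [show r * a⁻¹ * (r * f) * (r * a⁻¹)⁻¹ * (r * f)⁻¹ =
      r * (a⁻¹ * (r * f * a * (r * f)⁻¹)) * r⁻¹ * ((r * (r * f)⁻¹ * r⁻¹)⁻¹ * (r * f)⁻¹) by group, h1, inv_mul_cancel,
      mul_one]
    exact (mem_normalizer_iff.1 (h.nE _ rN rt) _).1
      (mul_mem (inv_mem ha) ((mem_normalizer_iff.1 (h.nE _ cN ct) a).1 ha)))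
  obtain ⟨π, hπ⟩ := s5_conj_w0 _ h.αz'.1 h.αz'.2
  have sw : (σ.comp (MulAut.conj π).toMonoidHom) w0 = p (ι z1)⁻¹ := (congrArg σ hπ).trans (s1 _ (inv_mem h.zE))
  have all : ∀ {y : H}, (∀ e ∈ E, Commute (p e) y) → Commute (p (r * f)) y → ∀ b, Commute (σ b) y :=
    fun h1 h2 b => by
      rcases cov b with ⟨-, e, he, rfl⟩ | ⟨-, e, he, rfl⟩
      · rw [s1 e he]; exact h1 e he
      · rw [s2 e he, hp.mul _ _ (h.Et e he) ct]; exact (h1 e he).mul_left h2
  refine ⟨p (r * a⁻¹), σ.comp (MulAut.conj π).toMonoidHom, fs_of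
    (hp.ord3 h.zt (h.emb.cube _) (mt h.emb.eq_one.1 (by decide))) ?_ ?_
    (fun b => all (fun e he => hp.comm (h.Et e he) h.zt (h.Ez e he)) (hp.comm ct h.zt (h.cz lr)) _)
    (fun b => all cwE cwc _) (fun b hb => conj_eq_one_iff.1 (inj _ hb)) (fun x hx => ?_) ?_ ?_ ?_ (fun x hx => ?_)
    fun e => h.not27 (e.trans hp.card_dvd)⟩
  · have h1 : Commute (r * a⁻¹ * (r * a⁻¹)) (ι z0) := conj_eq_iff.1 (by
      rw [show r * a⁻¹ * (r * a⁻¹) * ι z0 * (r * a⁻¹ * (r * a⁻¹))⁻¹ =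
        r * a⁻¹ * (r * a⁻¹ * ι z0 * (r * a⁻¹)⁻¹) * (r * a⁻¹)⁻¹ by group, wz, ← conj_inv, wz, inv_inv])
    have h2 : α (r * a⁻¹ * (r * a⁻¹)) = 1 := by rw [h.mul _ wN _ wN, αw, mul_one]
    obtain ⟨e, he, x, hx, e1⟩ := h.kerC _ h1 (wt.mul_left wt) (by rw [h2, Perm.sign_one])
    rw [e1, h.mul _ (h.ENZ he) _ (le_normalizer hx), h.αzp hx, mul_one] at h2
    have h3 : p (r * a⁻¹) * p (r * a⁻¹) = p x := by
      rw [← hp.mul _ _ wt wt, e1, hp.mul _ _ (h.Et e he) (xt x hx), (hp.ker e (h.Et e he)).2 (h.kerE e he h2), one_mul]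
    obtain ⟨n, rfl⟩ := hx
    have x3 : (ι z0 ^ n) ^ 3 = 1 := by rw [← zpow_natCast, zpow_comm, zpow_natCast, h.emb.cube, one_zpow]
    have h4 := hp.comm_lift wt (h.zt.zpow_left n) x3 (h3 ▸ (Commute.refl _).mul_right (Commute.refl _))
    have h5 : ι z0 ^ n = (ι z0 ^ n)⁻¹ := by rw [← inv_zpow, ← wz, conj_zpow, conj_eq_iff.2 h4]
    simp only at h3
    rw [h3, eq_one_of_two_three (mul_eq_one_iff_eq_inv.2 h5) x3, hp.one]
  · rw [← hp.conj wt h.zt, wz, hp.inv h.zt]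
  · obtain ⟨g, hg, rfl⟩ := hp.onto x
    obtain ⟨e, he, x, hx', e1 | e1⟩ := h.centz lr rf αr (hp.comm_lift hg h.zt (h.emb.cube _) hx) hg
    · exact ⟨π⁻¹ * α e * π, p x, hp.mem_zpowers h.zt hx', by
        rw [e1, hp.mul _ _ (h.Et e he) (xt x hx'), ← s1 e he]; simp [mul_assoc]⟩
    · exact ⟨π⁻¹ * α (e * (r * f)) * π, p x, hp.mem_zpowers h.zt hx', by
        rw [e1, hp.mul _ _ ((h.Et e he).mul_left ct) (xt x hx'), ← s2 e he]; simp [mul_assoc]⟩
  · rw [← hp.mul _ _ h.st h.st, h.s2, hp.one]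
  · rw [sw, ← hp.conj h.st h.zt, h.sz]
  · rw [sw, h.py hp]; exact h.pny hp
  · rw [sw, h.py hp] at hx
    rw [sw]; exact h.pyc hY hp hx

include lr in
theorem eq_one_of_comm {j : G} (hj : j ∈ J) (hc : Commute j r) : j = 1 := by
  obtain ⟨v, rfl⟩ := (h.emb.mem j).1 hj
  exact eq_one_of_two_three (mul_eq_one_iff_eq_inv.2 ((conj_eq_iff.2 hc.symm).symm.trans (h.rv lr v))) (h.emb.cube v)

include lr in
theorem not_rt : ¬ IsConj (r * t) t := fun e => by
  have l := lr.mul h.lt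
  obtain ⟨g, hg, hc⟩ := h.exists_conj e (P := J ⊓ centralizer {r * t}) (h.emb.isPGroup.to_le inf_le_left)
    (fun g hg => mem_centralizer_singleton_iff.1 hg.2) (x := ι ![1, 2, 0, 0]) (y := ι ![0, 0, 0, 1])
    ⟨h.emb.memJ _, mem_centralizer_singleton_iff.2 (l.commute (by decide)).symm⟩ (mt h.emb.eq_one.1 (by decide))
    ⟨h.emb.memJ _, mem_centralizer_singleton_iff.2 (l.commute (by decide)).symm⟩ (mt h.emb.mem_zpowers'.1 (by decide))
  obtain ⟨v, rfl⟩ := (h.emb.mem g).1 hg.1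
  rw [v_neg v (h.emb.fix l (mem_centralizer_singleton_iff.1 hg.2).symm) (h.fus v hc), h.emb.zero, isConj_one_left,
    h.emb.eq_one] at hc
  exact absurd hc (by decide)

include lr in
theorem not_r : ¬ IsConj r t := fun e => by
  have ex : ∀ a : S6, sign a = 1 → ∃ n, Commute n r ∧ Lin ι n (act a) := fun a ha => by
    obtain ⟨m, hm⟩ := h.onto a ha
    have h1 : Lin ι (m * r * m⁻¹ * r⁻¹) id :=
      (((hm.mul lr).mul hm.act_inv).mul (lr.inv (γ' := fun v => -v) neg_neg)).congr fun v => by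
        simp only [act_neg, neg_neg, ← act_mul, mul_inv_cancel, act_one, id]
    obtain ⟨v, e⟩ := (h.emb.mem _).1 (h.cJ _ h1)
    refine ⟨ι v * m, conj_eq_iff.1 ?_, ((h.emb.lin_id (h.emb.memJ v)).mul hm).congr fun _ => rfl⟩
    calc _ = ι v * (m * r * m⁻¹ * r⁻¹) * (r * ι v * r⁻¹)⁻¹ * r := by group
      _ = r := by rw [← e, h.rv lr, inv_inv, mul_assoc (ι v), ← pow_three, h.emb.cube, one_mul]
  let P : Subgroup G :=
    { carrier := {g | Commute g r ∧ ∃ a : S6, Commute a σ0 ∧ Commute a McL3.τ0 ∧ Lin ι g (act a)}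
      one_mem' := ⟨Commute.one_left _, 1, Commute.one_left _, Commute.one_left _, (Lin.one ι).act_one⟩
      mul_mem' := fun ⟨h1, _, h2, h3, h4⟩ ⟨h1', _, h2', h3', h4'⟩ =>
        ⟨h1.mul_left h1', _, h2.mul_left h2', h3.mul_left h3', h4.act_mul h4'⟩
      inv_mem' := fun ⟨h1, _, h2, h3, h4⟩ => ⟨h1.inv_left, _, h2.inv_left, h3.inv_left, h4.act_inv⟩ }
  have hP : IsPGroup 3 P := fun ⟨g, h1, a, h2, h3, h4⟩ => ⟨1, Subtype.ext (by
    have h5 := h4.act_pow 3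
    rw [s6_three a h2 h3] at h5
    exact h.eq_one_of_comm lr (h.cJ _ h5.id_of_act) (h1.pow_left 3))⟩
  obtain ⟨m, mr, hm⟩ := ex σ0 (by decide)
  obtain ⟨n, nr, hn⟩ := ex McL3.τ0 (by decide)
  obtain ⟨g, ⟨h1, a, -, -, h4⟩, hc⟩ := h.exists_conj e hP (fun g hg => hg.1) (x := m) (y := n)
    ⟨mr, σ0, Commute.refl _, (by decide : _ = _), hm⟩
    (fun e => absurd (h.emb.act_eq hm (e ▸ (Lin.one ι).act_one)) (by decide))
    ⟨nr, McL3.τ0, (by decide : _ = _), Commute.refl _, hn⟩ fun e => by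
      obtain ⟨k, rfl⟩ := mem_powers_iff_mem_zpowers.2 e
      have h5 := congrArg (fun a : S6 => a 3) (h.emb.act_eq hn (hm.act_pow k))
      simp only [pow_apply_eq_self_of_apply_eq_self (show σ0 3 = 3 by decide)] at h5
      exact absurd h5 (by decide)
  rw [h.eq_one_of_comm lr (h.o3 g (h.emb.norm h4) hc) h1, isConj_one_left, h.emb.eq_one] at hc
  exact absurd hc (by decide)

include r2 lr rf αr in
/-- the case `C(t) / ⟨t⟩ = S₈` -/
theorem sym {θ : G → Perm (Fin 8)} (hp : Qt t θ) :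
    ∃ N : Subgroup G, N.Normal ∧ N.index = 2 ∧ u ∈ N ∧ ∀ g, Commute g t → (g ∈ N ↔ θ g ∈ alternatingGroup (Fin 8)) := by
  haveI : Fact (Nat.Prime 2) := ⟨Nat.prime_two⟩
  have hA : ∀ g : Perm (Fin 8), g ^ 2 ∈ alternatingGroup (Fin 8) := fun g => by
    rw [mem_alternatingGroup, map_pow, Int.units_sq]
  have rt := h.rt rf
  have ct := rt.mul_left h.ft
  have sE : ∀ e ∈ E, sign (θ e) = 1 := fun e he => h.E_mem hp hA he
  have xt : ∀ x ∈ zpowers (ι z0), Commute x t := by rintro _ ⟨n, rfl⟩; exact h.zt.zpow_left n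
  have sx : ∀ x ∈ zpowers (ι z0), sign (θ x) = 1 := by
    rintro _ ⟨n, rfl⟩
    rw [hp.zpow h.zt, map_zpow, sign_of_cube (by rw [← hp.pow h.zt, h.emb.cube, hp.one]), one_zpow]
  have sf : sign (θ f) = 1 := by
    obtain ⟨e, he, x, hx, e1⟩ := h.kerC (s * u * s⁻¹ * u⁻¹ * f) (conj_eq_iff.1 (by
      rw [show s * u * s⁻¹ * u⁻¹ * f * ι z0 * (s * u * s⁻¹ * u⁻¹ * f)⁻¹ =
        s * u * s⁻¹ * u⁻¹ * (f * ι z0 * f⁻¹) * (s * u * s⁻¹ * u⁻¹)⁻¹ by group, h.fz, ← conj_inv, h.h0z, inv_inv]))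
      (h.h0t.mul_left h.ft) (by rw [h.mul _ (nz_of_inv h.h0z) _ h.fNZ, Perm.sign_mul, h.αsu, h.αf]; decide)
    have h1 : sign (θ _) = sign (θ _) := congrArg (fun g => sign (θ g)) e1
    rwa [hp.mul _ _ h.h0t h.ft, hp.mul _ _ (h.Et e he) (xt x hx), Perm.sign_mul, Perm.sign_mul, sE e he, sx x hx,
      mem_alternatingGroup.1 (h.h0_mem hp hA), one_mul, one_mul] at h1
  have sc : sign (θ (r * f)) = -1 := (Int.units_eq_one_or _).resolve_left fun e => by
    obtain ⟨b, hb, hc⟩ := s8_odd_comm (a := θ (ι z0)) (by rw [← hp.pow h.zt, h.emb.cube, hp.one])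
    obtain ⟨g, hg, rfl⟩ := hp.onto b
    obtain ⟨a, ha, x, hx, e1 | e1⟩ := h.centz lr rf αr (hp.comm_lift hg h.zt (h.emb.cube _) hc) hg <;> rw [e1] at hb
    · rw [hp.mul _ _ (h.Et a ha) (xt x hx), Perm.sign_mul, sE a ha, sx x hx] at hb
      exact absurd hb (by decide)
    · rw [hp.mul _ _ ((h.Et a ha).mul_left ct) (xt x hx), hp.mul _ _ (h.Et a ha) ct, Perm.sign_mul, Perm.sign_mul,
        sE a ha, sx x hx, e] at hb
      exact absurd hb (by decide)
  have sr : sign (θ r) = -1 := by rwa [hp.mul _ _ rt h.ft, Perm.sign_mul, sf, mul_one] at sc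
  have o2 : ∀ {x : G}, Commute x t → (x * x = 1 ∨ x * x = t) → x ≠ 1 → x ≠ t → orderOf (θ x) = 2 :=
    fun hx h2 h1 ht => ord2 (by rw [← hp.mul _ _ hx hx, (hp.ker _ (hx.mul_left hx)).2 h2])
      fun e => ((hp.ker _ hx).1 e).elim h1 ht
  have o4 : ∀ {x : G}, Commute x t → x * x = t → orderOf (θ x) = 2 := fun hx h2 => o2 hx (.inr h2)
    (fun e => h.t1 (by rw [← h2, e, mul_one])) fun e => h.t1 (by rw [← h2, e, h.t2])
  have cl : ∀ {a b x : G}, Commute a t → Commute b t → Commute x t → a * a = 1 → a ≠ 1 → a ≠ t → b * b = t →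
      x * x = 1 → x ≠ 1 → x ≠ t → sign (θ a) = sign (θ x) → sign (θ b) = sign (θ x) →
      ∃ k, Commute k t ∧ (x = k * a * k⁻¹ ∨ x = k * (a * t) * k⁻¹) :=
    fun ha hb hx a2 a1 at' b2 x2 x1 xt e1 e2 => hp.isConj_lift ha hx
      ((s8_classes (o2 ha (.inl a2) a1 at') (o4 hb b2) (o2 hx (.inl x2) x1 xt) e1 e2
        fun e => h.t1 (b2 ▸ hp.sq_of_isConj ha hb e a2)).resolve_right
        fun e => h.t1 (b2 ▸ hp.sq_of_isConj hx hb e.symm x2))
  have r1 : r ≠ 1 := fun e => by rw [e, hp.one] at sr; exact absurd sr (by decide)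
  have rt' : r ≠ t := fun e => h.not_r lr (e ▸ IsConj.refl _)
  have s1 : s ≠ 1 := fun e => absurd (h.emb.act_eq h.ls (e ▸ (Lin.one ι).act_one)) (by decide)
  have st' : s ≠ t := fun e => absurd (h.emb.act_eq h.ls (e ▸ h.lt)) (by decide)
  have even : ∀ {x : G}, Commute x t → IsConj t x → x ≠ t → sign (θ x) = 1 := fun {x} hx hc xt =>
    (Int.units_eq_one_or _).resolve_right fun e => by
      obtain ⟨c, rfl⟩ := isConj_iff.1 hc
      obtain ⟨k, -, e1 | e1⟩ := cl rt ct hx r2 r1 rt' (h.c2 r2 rf) (by rw [conj_mul, h.t2, mul_one, mul_inv_cancel])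
        (mt conj_eq_one_iff.1 h.t1) xt (sr.trans e.symm) (sc.trans e.symm)
      · exact h.not_r lr ((isConj_iff.2 ⟨k, e1.symm⟩ : IsConj r _).trans hc.symm)
      · exact h.not_rt lr ((isConj_iff.2 ⟨k, e1.symm⟩ : IsConj (r * t) _).trans hc.symm)
  have ss := even h.st h.conj_ts st'
  have cs : ∀ {x : G}, Commute x t → x * x = 1 → x ≠ 1 → x ≠ t → sign (θ x) = 1 →
      ∃ k, Commute k t ∧ x = k * s * k⁻¹ := fun hx x2 x1 xt e => by
    obtain ⟨k, hk, e1 | e1⟩ := cl h.st h.ut hx h.s2 s1 st' h.u2 x2 x1 xt (ss.trans e.symm) ((sE u h.uE).trans e.symm)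
    · exact ⟨k, hk, e1⟩
    · exact ⟨k * f, hk.mul_left h.ft, by rw [e1, ← h.fs]; group⟩
  have odd : Odd (centralizer ({t} : Set G)).index := by
    obtain ⟨T, hT⟩ := exists_isSylowIn 2 (centralizer ({t} : Set G))
    have tT : t ∈ T := zpowers_le.1 (hT.le_of_normalized (IsPGroup.of_card (n := 1) (by
      rw [Nat.card_zpowers, ord2 h.t2 h.t1, pow_one])) (zpowers_le.2 (mem_centralizer_singleton_iff.2 rfl))
      fun g hg => mem_normalizer_zpowers (by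
        rw [conj_eq_iff.2 (mem_centralizer_singleton_iff.1 hg)]; exact mem_zpowers _))
    have hS : IsSylowIn 2 T ⊤ := isSylowIn_of_maximal le_top hT.isPGroup fun U hU h1 _ => by
      by_contra hne
      obtain ⟨g, ⟨hg, hn⟩, hgT⟩ :=
        SetLike.exists_of_lt (lt_inf_normalizer_of_isPGroup hU (lt_of_le_of_ne h1 (Ne.symm hne)))
      obtain ⟨x, hx⟩ : ∃ x, x = g * t * g⁻¹ := ⟨_, rfl⟩
      have xK : Commute x t := mem_centralizer_singleton_iff.1 (hT.le (hx ▸ (mem_normalizer_iff.1 hn t).1 tT))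
      have xt : x ≠ t := fun e => hgT ((hT.eq_of_le (hU.to_le inf_le_left) (le_inf h1 hT.le) inf_le_right).le
        ⟨hg, mem_centralizer_singleton_iff.2 (conj_eq_iff.1 (hx ▸ e))⟩)
      obtain ⟨k, hk, e1⟩ := cs xK (by rw [hx, conj_mul, h.t2, mul_one, mul_inv_cancel])
        (hx ▸ mt conj_eq_one_iff.1 h.t1) xt (even xK (isConj_iff.2 ⟨g, hx.symm⟩) xt)
      have e2 : k * f * k⁻¹ * x * (k * f * k⁻¹)⁻¹ = x * t := by
        calc _ = k * (f * s * f⁻¹) * k⁻¹ := by rw [e1]; group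
          _ = x * t := by rw [h.fs, e1, mul_assoc (k * s), hk.inv_left.eq]; group
      have kt : Commute (k * f * k⁻¹) t := (hk.mul_left h.ft).mul_left hk.inv_left
      have cj : ∀ a b : G, Commute a t → a * x * a⁻¹ = b → a * (x * t) * a⁻¹ = b * t := fun a b ha e => by
        rw [← conj_mul, e, conj_eq_iff.2 ha]
      have tt : x * t * t = x := by rw [mul_assoc, h.t2, mul_one]
      have ml : ∀ a b : G, a * b * x * (a * b)⁻¹ = a * (b * x * b⁻¹) * a⁻¹ := fun a b => by group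
      let L : Subgroup G :=
        { carrier := {a | Commute a t ∧ (a * x * a⁻¹ = x ∨ a * x * a⁻¹ = x * t)}
          one_mem' := ⟨Commute.one_left _, .inl (by simp)⟩
          mul_mem' := by
            rintro a b ⟨ha, e⟩ ⟨hb, e' | e'⟩ <;> refine ⟨ha.mul_left hb, ?_⟩ <;> rw [ml, e']
            · exact e
            · exact e.symm.imp (fun e => (cj _ _ ha e).trans tt) (cj _ _ ha)
          inv_mem' := by
            rintro a ⟨ha, e | e⟩ <;> refine ⟨ha.inv_left, ?_⟩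
            · exact .inl (conj_eq_iff.2 (conj_eq_iff.1 e).inv_left)
            · right
              conv_lhs => rw [← tt, ← cj _ _ ha e]
              group }
      have TC : T ≤ centralizer {x} ⊓ L := fun y hy => by
        have h2 : Commute y x := by
          have := commute_conj (mem_centralizer_singleton_iff.1 (hT.le ((mem_normalizer_iff''.1 hn y).1 hy))) g
          rwa [← hx, show g * (g⁻¹ * y * g) * g⁻¹ = y by group] at this
        exact ⟨mem_centralizer_singleton_iff.2 h2, mem_centralizer_singleton_iff.1 (hT.le hy), .inl (conj_eq_iff.2 h2)⟩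
      refine (hT.of_le (TC.trans inf_le_right) fun a ha =>
        mem_centralizer_singleton_iff.2 ha.1).not_dvd_relIndex_of_le TC inf_le_right ?_
      rw [inf_relIndex_right, (relIndex_eq_two_iff (K := L)).2 ⟨k * f * k⁻¹, ⟨kt, .inr e2⟩, fun b hb => ?_⟩]
      have ne : x * t ≠ x := fun e => h.t1 (mul_eq_left.1 e)
      rw [mem_centralizer_singleton_iff, mem_centralizer_singleton_iff, ← mul_inv_eq_iff_eq_mul,
        ← mul_inv_eq_iff_eq_mul (a := b * x), ml, e2]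
      rcases hb.2 with e | e <;> rw [cj _ _ hb.1 e, e]
      · exact .inr ⟨rfl, ne⟩
      · exact .inl ⟨tt, ne⟩
    exact Nat.not_even_iff_odd.1 fun e => hS.not_dvd_relIndex_of_le hT.le le_top (by simpa using e.two_dvd)
  have sgn : ∀ a b : G, Commute a t → Commute b t → sign (θ (a * b)) = sign (θ a) * sign (θ b) :=
    fun a b ha hb => by rw [hp.mul _ _ ha hb, Perm.sign_mul]
  obtain ⟨N, hN, hi, rN⟩ := CL.Transfer.thompson_transfer (centralizer {t})
    (((alternatingGroup (Fin 8)).comap hp.hom).map (centralizer ({t} : Set G)).subtype) odd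
    (relIndex_eq_two_iff.2 ⟨r, mem_centralizer_singleton_iff.2 rt, fun b hb => by
      have bt : Commute b t := mem_centralizer_singleton_iff.1 hb
      rw [hp.mem_pre, hp.mem_pre, mem_alternatingGroup, mem_alternatingGroup, sgn _ _ bt rt, sr]
      rcases Int.units_eq_one_or (sign (θ b)) with e | e <;> rw [e]
      · exact .inr ⟨⟨bt, rfl⟩, fun e => absurd e.2 (by decide)⟩
      · exact .inl ⟨⟨bt.mul_left rt, by decide⟩, fun e => absurd e.2 (by decide)⟩⟩) r (by rw [pow_two, r2])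
    fun g hg => by
      obtain ⟨h1, h2⟩ := hp.mem_pre.1 hg
      have c : IsConj r (g * r * g⁻¹) := isConj_iff.2 ⟨g, rfl⟩
      obtain ⟨k, -, e⟩ := cs h1 (by rw [conj_mul, r2, mul_one, mul_inv_cancel]) (mt conj_eq_one_iff.1 r1)
        (fun e => h.not_r lr (e ▸ c)) h2
      exact h.not_r lr (c.trans ((h.conj_ts.trans (isConj_iff.2 ⟨k, e.symm⟩)).symm))
  have tN : t ∈ N := h.u2 ▸ mul_self_mem_of_index_two hi u
  have K0 : ∀ g, Commute g t → sign (θ g) = 1 → g ∈ N := fun g hg e => by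
    have h1 : alternatingGroup (Fin 8) ≤ (N.subgroupOf (centralizer {t})).map hp.hom := by
      rw [← closure_three_cycles_eq_alternating, closure_le]
      intro b hb
      obtain ⟨a, ha, e⟩ := hp.onto b⁻¹
      refine ⟨⟨a * a, mem_centralizer_singleton_iff.2 (ha.mul_left ha)⟩, mul_self_mem_of_index_two hi a, ?_⟩
      change θ (a * a) = b
      rw [hp.mul _ _ ha ha, e, ← mul_inv_rev, inv_eq_iff_mul_eq_one, ← pow_three', ← hb.orderOf, pow_orderOf_eq_one]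
    obtain ⟨a, ha, e1⟩ := h1 (mem_alternatingGroup.2 e)
    rcases (hp.eq_iff hg (mem_centralizer_singleton_iff.1 a.2)).1 e1.symm with e2 | e2 <;> rw [e2]
    exacts [ha, mul_mem ha tN]
  refine ⟨N, hN, hi, K0 u h.ut (sE u h.uE), fun g hg => ⟨fun gN => ?_, K0 g hg⟩⟩
  exact (Int.units_eq_one_or _).resolve_right fun e => rN ((mul_mem_cancel_left gN).1
    (K0 _ (hg.mul_left rt) (by rw [sgn _ _ hg rt, e, sr]; decide)))

end Fx

/-- Part F. -/
theorem fin_of (hR : RecThm.{u}) : FinThm.{u} := by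
  intro G _ _ ι J E α t f s u h hY
  obtain ⟨Z, _, p, hp⟩ := exists_qt h.t2 h.t1
  rcases h.dich with hA | ⟨r, r2, lr, rf, -, αr⟩
  · obtain ⟨e⟩ := h.caseA hY hA hp
    obtain ⟨p', hp'⟩ := hp.sub (N := ⊤) (mem_top t) (A := ⊤) fun _ _ => iff_of_true (mem_top _) (mem_top _)
    exact h.concl hR (.inl rfl) (mem_top u) (hp'.comp (topEquiv.trans e))
  · obtain ⟨w, σ, hF⟩ := h.exists_fs r2 lr rf αr hY hp
    rcases hF.main with ⟨⟨e⟩⟩ | ⟨A, -, -, ⟨e⟩, -, -, hA⟩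
    · obtain ⟨N, hN, hi, uN, hs⟩ := h.sym r2 lr rf αr (hp.comp e)
      obtain ⟨p', hp'⟩ := (hp.comp e).sub (h.u2 ▸ mul_mem uN uN) hs
      exact h.concl hR (.inr hi) uN hp'
    · exact (h.no_exc hp hA e).elim

end CL.McL3
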