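/-
The 3-local characterization of the McLaughlin group: finite checks.
-/
import Cfsg.Agent.Rec.McL3Crd

set_option autoImplicit false

open Equiv Equiv.Perm

namespace CL.McL3

open CL.Rec (S5)

theorem perp_of : ∀ (a b : Fin 3) (v : V), st a b ≠ 1 →
    (act (st a b) v - v = 0 ∨ act (st a b) v - v = z0 ∨ act (st a b) v - v = -z0) → v 0 + v 1 + v 2 = 0 := by
  decide +kernel

theorem perp_of_cube : ∀ (a b : Fin 3) (v : V), st a b ≠ 1 →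
    v + act (st a b) v + act (st a b) (act (st a b) v) = 0 → v 0 + v 1 + v 2 = 0 := by
  decide +kernel

theorem perp_st : ∀ (a b : Fin 3) (v : V), v 0 + v 1 + v 2 = 0 →
    act (st a b) v - v = 0 ∨ act (st a b) v - v = z0 ∨ act (st a b) v - v = -z0 := by
  decide +kernel

theorem perp_cases : ∀ v w : V, w 0 + w 1 + w 2 ≠ 0 → v 0 + v 1 + v 2 = 0 ∨
    (v - w) 0 + (v - w) 1 + (v - w) 2 = 0 ∨ (v + w) 0 + (v + w) 1 + (v + w) 2 = 0 := by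
  decide +kernel

theorem perp_t0 : ∀ v : V, v 0 + v 1 + v 2 = 0 →
    act t0 v + v = 0 ∨ act t0 v + v = z0 ∨ act t0 v + v = -z0 := by
  decide +kernel

theorem sing_conj : ∀ v : V, q v = 0 → v ≠ 0 → ∃ p : S6, sign p = 1 ∧ act p z0 = v := by decide +kernel

theorem sing_st : ∀ v : V, q v = 0 → v ≠ 0 → v ≠ z0 → v ≠ -z0 →
    ∃ a b, act (st a b) v = z1 ∨ act (st a b) v = -z1 := by decide +kernel

theorem st_z1 : ∀ a b : Fin 3, act (st a b) z1 = z1 ∨ act (st a b) z1 = -z1 → st a b = 1 := by decide +kernel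

theorem t0_st : ∀ a b : Fin 3, t0 * st a b * t0⁻¹ * st a b = 1 := by decide +kernel

theorem cent_t0 : ∀ p : S6, p * t0 = t0 * p → sign p = 1 → p ^ 4 = 1 := by decide +kernel

theorem s5_nine : ∀ c : S5, c ^ 9 = 1 → c = 1 ∨ ∃ π : S5, sign π = 1 ∧ (c * (π * c * π⁻¹)) ^ 9 ≠ 1 := by
  decide +kernel

theorem s5_two3 : ∀ c : S5, c ^ 3 = 1 → c ≠ 1 → ∀ b : S5, b ^ 3 = 1 → (b = 1 ∨ b = c ∨ b = c⁻¹) ∨
    ∃ w ∈ [c * b, c * b⁻¹, c * b * c⁻¹ * b, c * b * c⁻¹ * b⁻¹], w * w = 1 ∧ w ≠ 1 := by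
  decide +kernel

theorem s5_comm3 : ∀ c : S5, c ^ 3 = 1 → c ≠ 1 → ∀ a : S5, a * c * a⁻¹ = c⁻¹ → sign a = 1 →
    ∀ b : S5, b * c * b⁻¹ = c ∨ b * c * b⁻¹ = c⁻¹ →
      (b * a * b⁻¹ * a⁻¹ = 1 ∨ b * a * b⁻¹ * a⁻¹ = c ∨ b * a * b⁻¹ * a⁻¹ = c⁻¹) ∧
      (sign b = 1 → ∃ i : Fin 2, ∃ k : Fin 3, b * (a ^ i.val)⁻¹ * (c ^ k.val)⁻¹ = 1) := by
  decide +kernel

theorem s5_inv3 : ∀ c : S5, c ^ 3 = 1 → c ≠ 1 → ∃ a : S5, sign a = 1 ∧ a * a = 1 ∧ a ≠ 1 ∧ a * c * a⁻¹ = c⁻¹ := by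
  decide +kernel

/-- `e0 - e1` -/
def e1 : V := ![1, 2, 0, 0]
/-- `e3 - e4` -/
def e2 : V := ![0, 0, 0, 1]

/-- The linear map with given values on the basis `z0, z1, e1, e2`. -/
def lin (A B C D v : V) : V :=
  (2 * v 0 - v 1) • A + (2 * (v 2 - (2 * v 0 - v 1))) • B + (v 1 - v 0) • C + (v 3 - v 2 + (2 * v 0 - v 1)) • D

theorem lin_self : ∀ v, lin z0 z1 e1 e2 v = v := by decide +kernel

theorem eq_lin {γ : V → V} (h : ∀ v w, γ (v + w) = γ v + γ w) (v : V) : γ v = lin (γ z0) (γ z1) (γ e1) (γ e2) v := by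
  have h0 : γ 0 = 0 := by simpa using h 0 0
  have hs : ∀ (k : ZMod 3) w, γ (k • w) = k • γ w := fun k w => by
    have : k = 0 ∨ k = 1 ∨ k = 1 + 1 := by revert k; decide
    rcases this with rfl | rfl | rfl
    · simp [h0]
    · simp
    · rw [add_smul, add_smul, one_smul, one_smul, h]
  conv_lhs => rw [← lin_self v]
  simp only [lin, h, hs]

/-- The images of eight singular points are singular. -/
def Sg (A B C D : V) : Prop := (q (A + B + C) = 0 ∧ q (A + B - C) = 0) ∧ (q (A + B + D) = 0 ∧ q (A + B - D) = 0) ∧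
  q (A - B + C + D) = 0 ∧ q (A - B + C - D) = 0 ∧ q (A - B - C + D) = 0 ∧ q (A - B - C - D) = 0

theorem sg_of {γ : V → V} (h : ∀ v w, γ (v + w) = γ v + γ w) (hq : ∀ v, q v = 0 → q (γ v) = 0) :
    Sg (γ z0) (γ z1) (γ e1) (γ e2) := by
  have hs : ∀ v w, γ (v - w) = γ v - γ w := fun v w => eq_sub_of_add_eq (by rw [← h, sub_add_cancel])
  simp only [Sg, ← h, ← hs]
  refine ⟨⟨?_, ?_⟩, ⟨?_, ?_⟩, ?_, ?_, ?_, ?_⟩ <;> exact hq _ (by decide +kernel)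

def U1 : Fin 4 → V := ![![1, 2, 0, 1], ![1, 2, 0, 2], ![2, 1, 0, 1], ![2, 1, 0, 2]]
def U2 : Fin 4 → V := ![![1, 2, 0, 2], ![2, 1, 0, 2], ![1, 2, 0, 1], ![2, 1, 0, 1]]

/-- The four possible actions of `u`. -/
def ups (i : Fin 4) : V → V := lin z0 (-z1) (U1 i) (U2 i)

set_option synthInstance.maxSize 4000 in
theorem ups_cases' : ∀ C : V, (q (z0 + -z1 + C) = 0 ∧ q (z0 + -z1 - C) = 0) → ∀ D : V,
    lin z0 (-z1) C D C = -e1 → lin z0 (-z1) C D D = -e2 → q (z0 - -z1 + C + D) = 0 → q (z0 - -z1 + C - D) = 0 →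
      q (z0 + -z1 + D) = 0 → ∃ i, C = U1 i ∧ D = U2 i := by
  decide +kernel

theorem ups_cases {C D : V} (h : Sg z0 (-z1) C D) (h1 : lin z0 (-z1) C D C = -e1) (h2 : lin z0 (-z1) C D D = -e2) :
    ∃ i, C = U1 i ∧ D = U2 i :=
  ups_cases' C h.1 D h1 h2 h.2.2.1 h.2.2.2.1 h.2.1.1

theorem q_ups : ∀ i v, q (ups i v) = -q v := by decide +kernel

theorem s_ups : ∀ i, (∀ v, act s0 (ups i (act s0 v)) = act f0 (ups i v)) ∨
    ∀ v, act s0 (ups i (act s0 v)) = act f0⁻¹ (ups i v) := by decide +kernel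

theorem f_ups : ∀ i, act f0 (ups i e1) ≠ ups i (act f0 e1) ∧ -act f0 (ups i e1) ≠ ups i (-act f0 e1) := by
  decide +kernel

/-- The action of `f ^ k * u ^ n`. -/
def fu (i k : Fin 4) (n : Fin 2) (v : V) : V := act (f0 ^ k.val) ((ups i)^[n.val] v)

set_option synthInstance.maxSize 4000 in
set_option synthInstance.maxHeartbeats 200000 in
theorem lin_cases' : ∀ i : Fin 4, ∀ A ∈ [z0, -z0], ∀ B ∈ [z1, -z1], ∀ C : V, (q (A + B + C) = 0 ∧ q (A + B - C) = 0) →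
    ∀ D : V, (q (A + B + D) = 0 ∧ q (A + B - D) = 0) → (q (A - B + C + D) = 0 ∧ q (A - B + C - D) = 0 ∧
      q (A - B - C + D) = 0 ∧ q (A - B - C - D) = 0) →
    lin A B C D (U1 i) = ups i C ∨ lin A B C D (U1 i) = act t0 (ups i C) →
    ∃ k n, ((A = fu i k n z0 ∧ B = fu i k n z1 ∧ C = fu i k n e1 ∧ D = fu i k n e2) ∨
      (A = -fu i k n z0 ∧ B = -fu i k n z1 ∧ C = -fu i k n e1 ∧ D = -fu i k n e2)) ∧
      (lin A B C D (U1 i) = ups i C → k = 0 ∨ k = 2) := by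
  decide +kernel

theorem fu_z0 : ∀ i k n, (fu i k n z0 = z0 ∧ (k = 0 ∨ k = 2)) ∨ (fu i k n z0 = -z0 ∧ (k = 1 ∨ k = 3)) := by
  decide +kernel

end CL.McL3
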