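/-
The 3-local characterization of the McLaughlin group: the Sylow 3-subgroup and fusion in `J`.
-/
import Cfsg.Agent.Rec.McL3D

set_option autoImplicit false

open Cfsg Subgroup CL.Grp Equiv Equiv.Perm
open scoped Pointwise

namespace CL.McL3

variable {G : Type*} [Group G]

theorem mem_NZ [Finite G] {ι : V → G} {g : G} (hg : g * ι z0 * g⁻¹ ∈ zpowers (ι z0)) : g ∈ NZ ι :=
  mem_normalizer_fintype fun _ hn =>
    (show zpowers (ι z0) ≤ (zpowers (ι z0)).comap (MulAut.conj g).toMonoidHom from zpowers_le.2 hg) hn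

theorem mem_NZ_of_comm [Finite G] {ι : V → G} {g : G} (hg : Commute g (ι z0)) : g ∈ NZ ι :=
  mem_NZ (by rw [mul_inv_eq_iff_eq_mul.2 hg.eq]; exact mem_zpowers _)

theorem exists_pow {P : Subgroup G} (hP : IsPGroup 3 P) {g : G} (hg : g ∈ P) : ∃ k : ℕ, g ^ 3 ^ k = 1 :=
  (hP ⟨g, hg⟩).imp fun _ e => congrArg Subtype.val e

theorem conj_mem {H : Subgroup G} {g x : G} (hg : g ∈ normalizer (H : Set G)) (hx : x ∈ H) : g * x * g⁻¹ ∈ H :=
  (mem_normalizer_iff.1 hg x).1 hx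

theorem cube_comm {g x ζ : G} (e : g * x * g⁻¹ = ζ * x) (hc : Commute g ζ) (h3 : ζ ^ 3 = 1) : Commute (g ^ 3) x := by
  have e' : g * x = ζ * x * g := mul_inv_eq_iff_eq_mul.1 e
  have e1 : ∀ a, g * (ζ * a) = ζ * (g * a) := fun a => by rw [← mul_assoc, hc.eq, mul_assoc]
  have e2 : ∀ a, g * (x * a) = ζ * (x * (g * a)) := fun a => by rw [← mul_assoc, e', mul_assoc, mul_assoc]
  calc g ^ 3 * x = g * (g * (g * (x * 1))) := by simp [pow_succ, mul_assoc]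
    _ = ζ ^ 3 * (x * g ^ 3) := by
      rw [e2, e1, e2, e1, e1, e2]
      simp [pow_succ, mul_assoc]
    _ = x * g ^ 3 := by rw [h3, one_mul]

namespace Base

variable [Finite G] {ι : V → G} {J S M L Q : Subgroup G} {α : G → CL.Rec.S5} (h : Base ι J S M L Q α)
include h

theorem LN : L ≤ NZ ι := fun l hl => mem_NZ_of_comm (h.LC l hl)

theorem SN : S ≤ NZ ι := fun _ hg => mem_NZ_of_comm (h.Sz hg)

theorem SL : S ≤ L := fun g hg =>
  let ⟨k, e⟩ := exists_pow h.syl.isPGroup hg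
  h.thrL g (h.SN hg) k e

omit [Finite G] in
theorem pQ : IsPGroup 3 Q := .of_card (n := 5) h.Qcard

theorem QS : Q ≤ S :=
  haveI : Fact (Nat.Prime 3) := ⟨Nat.prime_three⟩
  (h.syl.of_le h.SN le_top).le_of_normalized h.pQ (h.QL.trans h.LN) h.nQ

theorem SNJ : S ≤ normalizer (J : Set G) := h.SM.trans h.MN

omit [Finite G] in
theorem Zc {x g : G} (hx : x ∈ zpowers (ι z0)) (hg : Commute g (ι z0)) : Commute g x := by
  rcases h.mem_zpowers.1 hx with rfl | rfl | rfl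
  · exact Commute.one_right g
  · exact hg
  · exact h.neg z0 ▸ hg.inv_right

omit [Finite G] in
theorem Z3 {x : G} (hx : x ∈ zpowers (ι z0)) : x ^ 3 = 1 := h.Qexp x (zpowers_le.2 h.zQ hx)

omit [Finite G] in
theorem α1 : α 1 = 1 := h.kerQ 1 (one_mem _)

omit [Finite G] in
theorem αinv {g : G} (hg : g ∈ NZ ι) : α g⁻¹ = (α g)⁻¹ :=
  eq_inv_of_mul_eq_one_left (by rw [← h.mul _ (inv_mem hg) _ hg, inv_mul_cancel, h.α1])

omit [Finite G] in
theorem αpow {g : G} (hg : g ∈ NZ ι) (n : ℕ) : α (g ^ n) = α g ^ n := by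
  induction n with
  | zero => simpa using h.α1
  | succ n ih => rw [pow_succ, h.mul _ (pow_mem hg n) _ hg, ih, pow_succ]

omit [Finite G] in
theorem αconj {g x : G} (hg : g ∈ NZ ι) (hx : x ∈ NZ ι) : α (g * x * g⁻¹) = α g * α x * (α g)⁻¹ := by
  rw [h.mul _ (mul_mem hg hx) _ (inv_mem hg), h.mul _ hg _ hx, h.αinv hg]

theorem card_QJ : Nat.card (Q ⊓ J : Subgroup G) = 27 ∧ im ι Q = T0 ∧ ∀ v, ι v ∈ Q → v 0 + v 1 + v 2 = 0 := by
  obtain ⟨a, ha, haJ⟩ : ∃ a ∈ Q, a ∉ J := by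
    by_contra hh
    push Not at hh
    have := card_le_of_le (show Q ≤ J from hh)
    rw [h.Qcard, h.card] at this
    omega
  obtain ⟨i, j, e⟩ := h.actS (h.QS ha)
  have h3 : ∀ v, ι v ∈ Q → v 0 + v 1 + v 2 = 0 := fun v hv =>
    perp_of i j v (fun e1 => haJ (h.kerM a (h.SM (h.QS ha)) (e1 ▸ e).id_of_act))
      (h.mem_zpowers'.1 (by rw [h.sub, ← e]; exact h.Qcomm a ha _ hv))
  have h1 := h.card_le_S h.QS
  have h2 := h.card_le (B := Q ⊓ J) inf_le_right (Finset.univ.filter fun v => v 0 + v 1 + v 2 = 0) fun v hv => by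
    simpa using h3 v hv.1
  rw [show (Finset.univ.filter fun v : V => v 0 + v 1 + v 2 = 0).card = 27 by decide +kernel] at h2
  have h4 : im ι Q = T0 := by
    by_contra hT
    have := Nat.mul_le_mul h2 (card_le_three (h.im_le h.QS) hT)
    rw [← h1, h.Qcard] at this
    omega
  rw [h4, card_T0, h.Qcard] at h1
  exact ⟨by omega, h4, h3⟩

theorem memQ {v : V} : ι v ∈ Q ↔ v 0 + v 1 + v 2 = 0 := by
  refine ⟨h.card_QJ.2.2 v, fun hv => by_contra fun hn => ?_⟩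
  have h2 := h.card_le (B := Q ⊓ J) inf_le_right ((Finset.univ.filter fun v => v 0 + v 1 + v 2 = 0).erase v)
    fun w hw => Finset.mem_erase.2 ⟨fun e => hn (e ▸ hw.1), by simpa using h.card_QJ.2.2 w hw.1⟩
  rw [h.card_QJ.1, Finset.card_erase_of_mem (by simpa using hv),
    show (Finset.univ.filter fun v : V => v 0 + v 1 + v 2 = 0).card = 27 by decide +kernel] at h2
  omega

theorem exists_Q (a b : Fin 3) : ∃ g ∈ Q, Lin ι g (act (st a b)) :=
  (h.card_QJ.2.1 ▸ (⟨a, b, rfl⟩ : st a b ∈ T0) : st a b ∈ im ι Q)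

theorem decS {g : G} (hg : g ∈ S) : ∃ v, ∃ a ∈ Q, g = ι v * a := by
  obtain ⟨i, j, e⟩ := h.actS hg
  obtain ⟨a, ha, e'⟩ := h.exists_Q i j
  obtain ⟨v, hv⟩ := (h.mem _).1 (h.kerM (g * a⁻¹) (h.SM (mul_mem hg (inv_mem (h.QS ha))))
    (Lin.id_of_act (mul_inv_cancel (st i j) ▸ e.act_mul e'.act_inv)))
  exact ⟨v, a, ha, by simp [hv]⟩

theorem mem_or {g : G} (hg : g ∈ S) (h3 : g ^ 3 = 1) : g ∈ Q ∨ g ∈ J := by
  obtain ⟨v, a, ha, rfl⟩ := h.decS hg
  obtain ⟨i, j, e⟩ := h.actS (h.QS ha)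
  by_cases e1 : st i j = 1
  · exact .inr (mul_mem (h.memJ v) (h.kerM a (h.SM (h.QS ha)) (e1 ▸ e).id_of_act))
  refine .inl (mul_mem (h.memQ.2 (perp_of_cube i j v e1 (h.eq_one.1 ?_))) ha)
  rw [h.add, h.add, ← e (act _ v), ← e v]
  calc _ = (ι v * a) ^ 3 * (a ^ 3)⁻¹ := by simp only [pow_succ]; group
    _ = _ := by rw [h.Qexp a ha, inv_one, mul_one, h3]

theorem conjS {H P : Subgroup G} (hH : S ≤ H) (hP : IsPGroup 3 P) (hPH : P ≤ H) :
    ∃ k ∈ H, ∀ x ∈ P, k * x * k⁻¹ ∈ S :=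
  haveI : Fact (Nat.Prime 3) := ⟨Nat.prime_three⟩
  let ⟨k, hk, e⟩ := (h.syl.of_le hH le_top).exists_conj_le hP hPH
  ⟨k, hk, (conj_smul_le_iff _ _ _).1 e⟩

/-- If a conjugate of `J` lies in `H ≥ S`, the conjugating element lies in `H N(J)`. -/
theorem frat {H : Subgroup G} (hH : S ≤ H) {g : G} (hg : ∀ j ∈ J, g * j * g⁻¹ ∈ H) :
    ∃ k ∈ H, k * g ∈ normalizer (J : Set G) := by
  obtain ⟨k, hk, e⟩ := h.conjS hH (IsPGroup.conj_smul h.isPGroup g) ((conj_smul_le_iff _ _ _).2 hg)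
  refine ⟨k, hk, h.norm_of_conj fun j hj => ?_⟩
  simpa only [mul_inv_rev, mul_assoc] using e _ (conj_mem_conj_smul g hj)

theorem uJ (g : G) (hg : ∀ j ∈ J, g * j * g⁻¹ ∈ normalizer (J : Set G)) : g ∈ normalizer (J : Set G) :=
  let ⟨_, hk, e⟩ := h.frat h.SNJ hg
  (mul_mem_cancel_left hk).1 e

theorem u3 (P : Subgroup G) (hP : IsPGroup 3 P) (hJ : J ≤ P) : P ≤ normalizer (J : Set G) := fun x hx => by
  obtain ⟨k, -, e⟩ := h.conjS le_top hP le_top
  have hk := h.norm_of_conj fun j hj => e j (hJ hj)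
  exact (mul_mem_cancel_left hk).1 ((mul_mem_cancel_right (inv_mem hk)).1 (h.SNJ (e x hx)))

theorem fus (v : V) (hv : IsConj (ι z0) (ι v)) : q v = 0 := by
  obtain ⟨g, hg⟩ := isConj_iff.1 hv.symm
  obtain ⟨c, hc, hn⟩ := h.frat (H := centralizer {ι z0}) (g := g)
    (fun _ hx => mem_centralizer_singleton_iff.2 (h.Sz hx)) fun j hj => by
      obtain ⟨w, rfl⟩ := (h.mem j).1 hj
      exact mem_centralizer_singleton_iff.2 (hg ▸ (h.comm w v).map (MulAut.conj g))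
  have e : c * g * ι v * (c * g)⁻¹ = ι z0 := by
    rw [← mul_inv_eq_iff_eq_mul.2 (mem_centralizer_singleton_iff.1 hc), ← hg]
    group
  generalize c * g = n at hn e
  obtain ⟨m, hm, e1⟩ := h.conjS h.SM (IsPGroup.conj_smul h.syl.isPGroup n⁻¹) fun x hx => by
    obtain ⟨k, hk⟩ := exists_pow (IsPGroup.conj_smul h.syl.isPGroup n⁻¹) hx
    have h1 := h.SNJ ((mem_conj_smul_iff _ _ _).1 hx)
    exact h.thrM x ((mul_mem_cancel_left (inv_mem (inv_mem hn))).1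
      ((mul_mem_cancel_right (inv_mem hn)).1 h1)) k hk
  have hk : m * n⁻¹ ∈ normalizer (S : Set G) := mem_normalizer_fintype fun x hx => by
    simpa only [mul_inv_rev, mul_assoc, SetLike.mem_coe] using e1 _ (conj_mem_conj_smul n⁻¹ hx)
  obtain ⟨p, -, hp⟩ := h.actM m hm
  have h2 := h.mem_Z (v := act p v) fun x hx => by
    have h3 := (h.Sz (conj_mem (inv_mem hk) hx)).map (MulAut.conj (m * n⁻¹))
    rw [← e] at h3
    rw [← hp]
    simpa [mul_assoc] using h3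
  rw [← q_act p v]
  rcases h.mem_zpowers'.1 h2 with e | e | e <;> rw [e] <;> decide

omit [Finite G] in
theorem isConj_sing {v : V} (h0 : q v = 0) (h1 : v ≠ 0) : ∃ m ∈ M, m * ι z0 * m⁻¹ = ι v := by
  obtain ⟨p, hp, rfl⟩ := sing_conj v h0 h1
  obtain ⟨m, hm, e⟩ := h.onto p hp
  exact ⟨m, hm, e z0⟩

theorem lin_sing {g : G} {γ : V → V} (hg : Lin ι g γ) {v : V} (h0 : q v = 0) : q (γ v) = 0 := by
  by_cases h1 : v = 0
  · rw [h1, show γ 0 = 0 by simpa using h.lin_add hg 0 0]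
    decide
  · obtain ⟨m, -, e⟩ := h.isConj_sing h0 h1
    exact h.fus _ ((isConj_iff.2 ⟨m, e⟩).trans (isConj_iff.2 ⟨g, hg v⟩))

variable (hc : centralizer (Q : Set G) ≤ Q)
include hc

theorem cJ (g : G) (hg : Lin ι g id) : g ∈ J := by
  have h3 : g ^ 3 ∈ Q := hc fun x hx => by
    obtain ⟨i, j, e⟩ := h.actS (h.QS hx)
    have h1 : g * x * g⁻¹ * x⁻¹ ∈ Q := mul_mem (conj_mem (h.nQ (mem_NZ_of_comm (hg.commute rfl))) hx) (inv_mem hx)
    obtain ⟨v, hv⟩ := (h.mem _).1 (h.kerM _ (h.SM (h.QS h1))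
      ((((hg.mul e).mul (hg.inv (γ' := id) fun _ => rfl)).mul e.act_inv).congr fun v => by
        simp only [id, ← act_mul, mul_inv_cancel, act_one]))
    exact (cube_comm (ζ := ι v) (by simp [hv]) (hg.commute rfl) (h.cube v)).symm
  exact h.kerM g (h.thrM g (h.norm hg) 2 (by rw [pow_two, pow_mul, h.Qexp _ h3])) hg

/-- An element centralizing `Z` and `Q / Z` lies in `Q`. -/
theorem mem_Q {g : G} (hz : Commute g (ι z0)) (hg : ∀ x ∈ Q, g * x * g⁻¹ * x⁻¹ ∈ zpowers (ι z0)) : g ∈ Q := by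
  have nine : ∀ g, Commute g (ι z0) → (∀ x ∈ Q, g * x * g⁻¹ * x⁻¹ ∈ zpowers (ι z0)) → g ^ 9 = 1 := fun g hz hg => by
    have h3 : g ^ 3 ∈ Q := hc fun x hx =>
      (cube_comm (ζ := g * x * g⁻¹ * x⁻¹) (by simp) (h.Zc (hg x hx) hz) (h.Z3 (hg x hx))).symm
    rw [show 9 = 3 * 3 from rfl, pow_mul, h.Qexp _ h3]
  have h9 := nine g hz hg
  have hN := mem_NZ_of_comm hz
  have hL := h.thrL g hN 2 h9
  rcases s5_nine (α g) (by rw [← h.αpow hN, h9, h.α1]) with e | ⟨π, hπ, e⟩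
  · by_contra hn
    have h2 := pow_mem (h.two g hL g hL e e hn hn) 5
    rw [← pow_two, ← pow_mul, show 2 * 5 = 9 + 1 from rfl, pow_succ, h9, one_mul] at h2
    exact hn h2
  obtain ⟨l, hl, rfl⟩ := h.ontoL π hπ
  have hl' := h.LN hl
  have hgl : l * g * l⁻¹ ∈ L := mul_mem (mul_mem hl hL) (inv_mem hl)
  refine absurd ?_ e
  rw [← h.αconj hl' hN, ← h.mul _ hN _ (h.LN hgl), ← h.αpow (h.LN (mul_mem hL hgl)),
    nine _ (h.LC _ (mul_mem hL hgl)) fun x hx => ?_, h.α1]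
  have h1 := conj_mem hl' (hg _ (conj_mem (h.nQ (inv_mem hl')) hx))
  have h2 := mul_mem (conj_mem hN h1) (hg x hx)
  convert h2 using 1
  group

end Base

end CL.McL3
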