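/-
The 3-local characterization of the McLaughlin group: the action on `Q / Z`, conjugates of `Z`.
-/
import Cfsg.Agent.Rec.McL3L1
import Cfsg.Agent.Grp.Primitive
import Cfsg.Agent.Grp.PGroupSCN

set_option autoImplicit false

open Cfsg Subgroup CL.Grp Equiv Equiv.Perm
open scoped Pointwise

namespace CL.McL3

variable {G : Type*} [Group G]

theorem mem_of_sq3 {H : Subgroup G} {x : G} (h3 : x ^ 3 = 1) (h : x * x ∈ H) : x ∈ H := by
  have := mul_mem h h
  rwa [show x * x * (x * x) = x ^ 3 * x by simp only [pow_succ, pow_zero, one_mul, mul_assoc], h3, one_mul] at this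

theorem isPGroup_zpowers {x : G} {p : ℕ} (h : x ^ p = 1) : IsPGroup p (zpowers x) := fun ⟨_, k, rfl⟩ =>
  ⟨1, Subtype.ext (by
    rw [pow_one, SubmonoidClass.coe_pow, ← zpow_natCast, ← zpow_mul, mul_comm, zpow_mul, zpow_natCast, h, one_zpow]
    rfl)⟩

theorem pow_three_cases {n : ℕ} (h : n ∣ 243) (h5 : n ≡ 3 [MOD 5]) : n = 3 ∨ n = 243 := by
  rw [show 243 = 3 ^ 5 from rfl, Nat.dvd_prime_pow Nat.prime_three] at h
  obtain ⟨k, hk, rfl⟩ := h
  interval_cases k <;> simp_all [Nat.ModEq]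

namespace Base

variable [Finite G] {ι : V → G} {J S M L Q : Subgroup G} {α : G → CL.Rec.S5} (h : Base ι J S M L Q α)
include h

omit [Finite G] in
theorem card_Z : Nat.card (zpowers (ι z0)) = 3 := by rw [Nat.card_zpowers, h.ord (by decide)]

theorem QN : Q ≤ NZ ι := h.QL.trans h.LN

omit [Finite G] in
theorem sq_mem {l : G} (hl : l ∈ L) (e : α l = 1) : l * l ∈ Q :=
  (em (l ∈ Q)).elim (fun hq => mul_mem hq hq) fun hq => h.two l hl l hl e e hq hq

theorem z1_notMem : ι z1 ∉ Q := mt h.memQ.1 (by decide)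

theorem JL : J ≤ L := h.JS.trans h.SL

theorem α_z1 : α (ι z1) ^ 3 = 1 ∧ α (ι z1) ≠ 1 :=
  ⟨by rw [← h.αpow (h.LN (h.JL (h.memJ _))), h.cube, h.α1],
    fun e => h.z1_notMem (mem_of_sq3 (h.cube _) (h.sq_mem (h.JL (h.memJ _)) e))⟩

theorem mem_S_of_cube {a s : G} (ha : a ∈ L) (e : α a = 1) (hs : s ∈ S) (h3 : (a * s) ^ 3 = 1) : a * s ∈ S := by
  refine mem_of_sq3 h3 ?_
  have := mul_mem (mul_mem (mul_mem (h.QS (h.kerN a (h.LN ha) e s (h.SL hs))) hs) (h.QS (h.sq_mem ha e))) hs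
  convert this using 1
  group

variable (hc : centralizer (Q : Set G) ≤ Q)
include hc

theorem irr {W : Subgroup G} (hZ : ι z0 ∈ W) (hW : W ≤ Q) (hn : ∀ l ∈ L, ∀ x ∈ W, l * x * l⁻¹ ∈ W) :
    W ≤ zpowers (ι z0) ∨ Q ≤ W := by
  have : Fact (Nat.Prime 5) := ⟨Nat.prime_five⟩
  obtain ⟨l, hl, e⟩ := h.ontoL (swap 0 1 * swap 1 2 * swap 2 3 * swap 3 4) (by decide +kernel)
  have h5 : (l ^ 6) ^ 5 = 1 := by
    have := h.Qexp _ (h.sq_mem (pow_mem hl 5) (by rw [h.αpow (h.LN hl), e]; decide +kernel))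
    rwa [← pow_two, ← pow_mul, ← pow_mul, show 5 * (2 * 3) = 6 * 5 from rfl, pow_mul] at this
  have ha1 : α (l ^ 6) ≠ 1 := by rw [h.αpow (h.LN hl), e]; decide +kernel
  have ha := pow_mem hl 6
  generalize l ^ 6 = a at h5 ha1 ha
  have hA : IsPGroup 5 (zpowers a) := isPGroup_zpowers h5
  have hz : ι z0 ∈ centralizer (zpowers a : Set G) := fun x hx => h.LC x (zpowers_le.2 ha hx)
  have h1 : Nat.card (Q ⊓ centralizer (zpowers a : Set G) : Subgroup G) = 3 := by
    have h2 := card_modEq_card_inf_centralizer (K := Q) hA (zpowers_le.2 (h.nQ (h.LN ha)))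
    rw [h.Qcard] at h2
    refine (pow_three_cases (h.Qcard ▸ card_dvd_of_le inf_le_left) (h2.symm.trans (by decide))).resolve_right fun e => ?_
    have h3 := eq_of_le_of_card_ge (inf_le_left : Q ⊓ centralizer (zpowers a : Set G) ≤ Q) (by rw [e, h.Qcard])
    exact ha1 (h.kerQ a (hc fun x hx => ((h3.ge hx).2 a (mem_zpowers a)).symm))
  have h2 := card_modEq_card_inf_centralizer (K := W) hA (zpowers_le.2 (mem_normalizer_fintype (hn a ha)))
  rw [show Nat.card (W ⊓ centralizer (zpowers a : Set G) : Subgroup G) = 3 from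
    le_antisymm (h1 ▸ card_le_of_le (inf_le_inf_right _ hW))
      (h.card_Z ▸ card_le_of_le (zpowers_le.2 ⟨hZ, hz⟩))] at h2
  rcases pow_three_cases (h.Qcard ▸ card_dvd_of_le hW) h2 with e | e
  · exact .inl (eq_of_le_of_card_ge (zpowers_le.2 hZ) (by rw [e, h.card_Z])).ge
  · exact .inr (eq_of_le_of_card_ge hW (by rw [e, h.Qcard])).ge

/-- The central involution of `L / Q` inverts `Q / Z`. -/
theorem invq {l : G} (hl : l ∈ L) (e : α l = 1) (hq : l ∉ Q) {x : G} (hx : x ∈ Q) :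
    l * x * l⁻¹ * x ∈ zpowers (ι z0) := by
  let W : Subgroup G :=
    { carrier := {x | x ∈ Q ∧ l * x * l⁻¹ * x⁻¹ ∈ zpowers (ι z0)}
      one_mem' := ⟨one_mem _, by simp⟩
      mul_mem' := fun {x y} hx hy => ⟨mul_mem hx.1 hy.1, by
        convert mul_mem hx.2 (conj_mem (h.QN hx.1) hy.2) using 1
        group⟩
      inv_mem' := fun {x} hx => ⟨inv_mem hx.1, by
        convert conj_mem (inv_mem (h.QN hx.1)) (inv_mem hx.2) using 1
        group⟩ }
  have hlQ := h.nQ (h.LN hl)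
  have hW := (h.irr hc (W := W) ⟨h.zQ, by rw [mul_inv_eq_iff_eq_mul.2 (h.LC l hl).eq]; simp⟩ (fun _ hx => hx.1)
    fun k hk x hx => ⟨conj_mem (h.nQ (h.LN hk)) hx.1, by
      convert conj_mem (h.LN hk) (mul_mem (h.Qcomm _ (inv_mem (h.kerN l (h.LN hl) e _ (inv_mem hk))) _
        (conj_mem hlQ hx.1)) hx.2) using 1
      group⟩).resolve_right fun hW => hq (h.mem_Q hc (h.LC l hl) fun x hx => (hW hx).2)
  refine hW ⟨mul_mem (conj_mem hlQ hx) hx, ?_⟩
  convert mul_mem (h.Qcomm _ (h.sq_mem hl e) x hx) (h.Qcomm x hx _ (conj_mem hlQ hx)) using 1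
  group

omit hc in
/-- `Z` is weakly closed in `Q`. -/
theorem Qz {x : G} (hx : x ∈ Q) (hz : IsConj (ι z0) x) : x ∈ zpowers (ι z0) := by
  obtain ⟨g, hg⟩ := isConj_iff.1 hz.symm
  have h81 : 81 ≤ Nat.card (centralizer {x} ⊓ Q : Subgroup G) := by
    have h1 := relIndex_centralizer_singleton_le_card (H := Q) (x := x) fun a ha => h.Qcomm a ha x hx
    have h2 := card_mul_index ((centralizer {x} ⊓ Q).subgroupOf Q)
    rw [Nat.card_congr (subgroupOfEquivOfLe inf_le_right).toEquiv, inf_subgroupOf_right, h.Qcard] at h2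
    rw [h.card_Z] at h1
    have := Nat.mul_le_mul_left (Nat.card (centralizer {x} ⊓ Q : Subgroup G)) h1
    rw [relIndex, h2] at this
    omega
  obtain ⟨c, hc, e⟩ := h.conjS (H := centralizer {ι z0}) (fun _ hx => mem_centralizer_singleton_iff.2 (h.Sz hx))
    (IsPGroup.conj_smul (h.pQ.to_le (inf_le_right : centralizer {x} ⊓ Q ≤ Q)) g)
    ((conj_smul_le_iff _ _ _).2 fun a ha => mem_centralizer_singleton_iff.2
      (hg ▸ Commute.map (mem_centralizer_singleton_iff.1 ha.1) (MulAut.conj g)))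
  have e1 : c * g * x * (c * g)⁻¹ = ι z0 := by
    rw [← mul_inv_eq_iff_eq_mul.2 (mem_centralizer_singleton_iff.1 hc), ← hg]
    group
  have e2 : ∀ a ∈ centralizer {x} ⊓ Q, c * g * a * (c * g)⁻¹ ∈ Q ∨ c * g * a * (c * g)⁻¹ ∈ J := fun a ha =>
    h.mem_or (by simpa only [mul_inv_rev, mul_assoc] using e _ (conj_mem_conj_smul g ha))
      (by rw [conj_pow, h.Qexp a ha.2, mul_one, mul_inv_cancel])
  generalize c * g = k at e1 e2
  obtain ⟨a, ha, b, hb, hab⟩ : ∃ a ∈ centralizer {x} ⊓ Q, ∃ b ∈ centralizer {x} ⊓ Q, ¬ Commute a b := by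
    by_contra hh
    push Not at hh
    exact h.z1_notMem ((h.eq_J (inf_le_right.trans h.QS) hh h81).ge (h.memJ _)).2
  have hJ : ¬ (k * a * k⁻¹ ∈ J ∧ k * b * k⁻¹ ∈ J) := fun hh => hab (by
    obtain ⟨v, hv⟩ := (h.mem _).1 hh.1
    obtain ⟨w, hw⟩ := (h.mem _).1 hh.2
    have := (h.comm v w).map (MulAut.conj k⁻¹)
    rw [hv, hw] at this
    simpa [mul_assoc] using this)
  have e3 := e2 _ (mul_mem ha hb)
  rw [← conj_mul] at e3
  have hQ : k * a * k⁻¹ ∈ Q ∧ k * b * k⁻¹ ∈ Q := by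
    rcases e2 a ha with h1 | h1 <;> rcases e2 b hb with h2 | h2
    · exact ⟨h1, h2⟩
    · exact ⟨h1, e3.elim (mul_mem_cancel_left h1).1 fun h3 => absurd ⟨(mul_mem_cancel_right h2).1 h3, h2⟩ hJ⟩
    · exact ⟨e3.elim (mul_mem_cancel_right h2).1 fun h3 => absurd ⟨h1, (mul_mem_cancel_left h1).1 h3⟩ hJ, h2⟩
    · exact absurd ⟨h1, h2⟩ hJ
  have h4 : k * (a * b * a⁻¹ * b⁻¹) * k⁻¹ ∈ zpowers (ι z0) := by
    convert h.Qcomm _ hQ.1 _ hQ.2 using 1
    group
  have hk : k ∈ NZ ι := mem_NZ (by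
    rcases h.mem_zpowers.1 (h.Qcomm a ha.2 b hb.2) with h5 | h5 | h5
    · exact absurd (commutatorElement_eq_one_iff_commute.1 h5) hab
    · rwa [h5] at h4
    · rwa [h5, h.neg, ← conj_inv, inv_mem_iff] at h4)
  convert conj_mem (inv_mem hk) (mem_zpowers _) using 1
  rw [← e1]
  group

omit hc in
theorem o3 (x : G) (hx : x ∈ normalizer (J : Set G)) (hz : IsConj (ι z0) x) : x ∈ J := by
  have h3 : x ^ 3 = 1 := by
    obtain ⟨g, rfl⟩ := isConj_iff.1 hz
    rw [conj_pow, h.cube, mul_one, mul_inv_cancel]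
  obtain ⟨m, hm, e⟩ := h.conjS h.SM (P := zpowers x) (isPGroup_zpowers h3) (zpowers_le.2 (h.thrM x hx 1 h3))
  have h1 := (h.mem_or (e x (mem_zpowers x)) (by rw [conj_pow, h3, mul_one, mul_inv_cancel])).elim
    (fun hq => zpowers_le.2 (h.memJ z0) (h.Qz hq (hz.trans (isConj_iff.2 ⟨m, rfl⟩)))) id
  exact (mem_normalizer_iff.1 (h.MN hm) x).2 h1

theorem l5' {w : V} (hw : ι w ∉ zpowers (ι z0)) {g : G} (hz : Commute g (ι z0)) (hg : Commute g (ι w)) :
    g ∈ normalizer (J : Set G) := by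
  refine h.norm_of_conj fun j hj => ?_
  obtain ⟨v, rfl⟩ := (h.mem j).1 hj
  have hN := mem_NZ_of_comm hz
  have hgw : g * ι w * g⁻¹ = ι w := mul_inv_eq_iff_eq_mul.2 hg.eq
  by_cases hp : w 0 + w 1 + w 2 = 0
  · have h3 : (g * ι v * g⁻¹) ^ 3 = 1 := by rw [conj_pow, h.cube, mul_one, mul_inv_cancel]
    have hl : g * ι v * g⁻¹ ∈ L := conj_mem (h.nL hN) (h.JL hj)
    have hlw : Commute (g * ι v * g⁻¹) (ι w) := hgw ▸ (h.comm v w).map (MulAut.conj g)
    generalize g * ι v * g⁻¹ = l at h3 hl hlw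
    have hz1 := h.JS (h.memJ z1)
    have n1 := h.SN hz1
    have nl := h.LN hl
    have key : ∀ x ∈ L, Commute x (ι w) → α x * α x = 1 → α x = 1 := fun x hx hxw e => by
      by_contra e'
      have h1 := h.invq hc (mul_mem hx hx) (by rw [h.mul _ (h.LN hx) _ (h.LN hx), e]) (h.sqL x hx e e')
        (h.memQ.2 hp)
      rw [mul_inv_eq_iff_eq_mul.2 (hxw.mul_left hxw).eq] at h1
      exact hw (mem_of_sq3 (h.cube w) h1)
    have c1 := h.comm z1 w
    have hz1' := h.SL hz1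
    rcases s5_two3 _ h.α_z1.1 h.α_z1.2 (α l) (by rw [← h.αpow nl, h3, h.α1]) with (e | e | e) | ⟨x, hx, e, e'⟩
    · simpa using h.mem_S_of_cube hl e (one_mem _) (by simpa using h3)
    · simpa using h.mem_S_of_cube (mul_mem hl (inv_mem hz1'))
        (by rw [h.mul _ nl _ (inv_mem n1), h.αinv n1, e, mul_inv_cancel]) hz1 (by simpa using h3)
    · simpa using h.mem_S_of_cube (mul_mem hl hz1') (by rw [h.mul _ nl _ n1, e, inv_mul_cancel]) (inv_mem hz1)
        (by simpa using h3)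
    refine absurd ?_ e'
    have c2 := (c1.mul_left hlw).mul_left c1.inv_left
    have l2 := mul_mem (mul_mem hz1' hl) (inv_mem hz1')
    simp only [List.mem_cons, List.not_mem_nil, or_false] at hx
    rcases hx with rfl | rfl | rfl | rfl
    · rw [← h.mul _ n1 _ nl] at e ⊢
      exact key _ (mul_mem hz1' hl) (c1.mul_left hlw) e
    · rw [← h.αinv nl, ← h.mul _ n1 _ (inv_mem nl)] at e ⊢
      exact key _ (mul_mem hz1' (inv_mem hl)) (c1.mul_left hlw.inv_left) e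
    · rw [← h.αconj n1 nl, ← h.mul _ (h.LN l2) _ nl] at e ⊢
      exact key _ (mul_mem l2 hl) (c2.mul_left hlw) e
    · rw [← h.αconj n1 nl, ← h.αinv nl, ← h.mul _ (h.LN l2) _ (inv_mem nl)] at e ⊢
      exact key _ (mul_mem l2 (inv_mem hl)) (c2.mul_left hlw.inv_left) e
  · have hwS := h.JS (h.memJ w)
    have key := fun (v : V) (hv : v 0 + v 1 + v 2 = 0) => h.QS (conj_mem (h.nQ hN) (h.memQ.2 hv))
    rcases perp_cases v w hp with e | e | e
    · exact key v e
    · have := key _ e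
      rwa [h.sub, ← conj_mul, ← conj_inv, hgw, mul_mem_cancel_right (inv_mem hwS)] at this
    · have := key _ e
      rwa [h.add, ← conj_mul, hgw, mul_mem_cancel_right hwS] at this

theorem l5 (v w : V) (h0 : q v = 0) (h1 : v ≠ 0) (w0 : w ≠ 0) (w1 : w ≠ v) (w2 : w ≠ -v) (g : G)
    (hv : Commute g (ι v)) (hw : Commute g (ι w)) : g ∈ normalizer (J : Set G) := by
  obtain ⟨m, hm, e⟩ := h.isConj_sing h0 h1
  have hN := h.MN hm
  obtain ⟨w', e'⟩ := (h.mem _).1 (conj_mem (inv_mem hN) (h.memJ w))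
  have e1 : m * ι w' * m⁻¹ = ι w := by rw [e']; group
  have h2 := h.l5' hc (w := w') (g := m⁻¹ * g * m) (fun hh => by
      rcases h.mem_zpowers.1 hh with h3 | h3 | h3
      · exact w0 (h.eq_one.1 (by rw [← e1, h3, mul_one, mul_inv_cancel]))
      · exact w1 (h.inj (by rw [← e1, h3, e]))
      · exact w2 (h.inj (by rw [← e1, h3, h.neg, h.neg, ← conj_inv, e])))
    (by simpa [← e, mul_assoc] using hv.map (MulAut.conj m⁻¹))
    (by simpa [← e1, mul_assoc] using hw.map (MulAut.conj m⁻¹))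
  exact (mul_mem_cancel_left (inv_mem hN)).1 ((mul_mem_cancel_right hN).1 h2)

end Base

end CL.McL3
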