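/-
The 3-local characterization of the McLaughlin group: the involution `t` and the complement `E ≅ SL₂(5)`.
-/
import Cfsg.Agent.Rec.McL3L2
import Cfsg.Agent.Transfer.Control

set_option autoImplicit false

open Cfsg Subgroup CL.Grp Equiv Equiv.Perm
open scoped Pointwise

namespace CL.McL3

variable {G : Type*} [Group G]

structure Mid (ι : V → G) (J S M L Q : Subgroup G) (α : G → CL.Rec.S5) (t f s : G) : Prop
    extends Base ι J S M L Q α where
  cQ : centralizer (Q : Set G) ≤ Q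
  lt : Lin ι t (act t0)
  lf : Lin ι f (act f0)
  ls : Lin ι s (act s0)
  t2 : t * t = 1
  f2 : f * f = t
  s2 : s * s = 1
  sf : s * f * s⁻¹ = f⁻¹

theorem eq_one_of_sq {x : G} (h3 : x ^ 3 = 1) (h : x * x = 1) : x = 1 :=
  mem_bot.1 (mem_of_sq3 h3 (mem_bot.2 h))

theorem sing_t0 : ∀ w : V, q w = 0 → act t0 w = w → (w = 0 ∨ w = z0 ∨ w = -z0) ∨ w = z1 ∨ w = -z1 := by
  decide +kernel

namespace Base

variable [Finite G] {ι : V → G} {J S M L Q : Subgroup G} {α : G → CL.Rec.S5} (h : Base ι J S M L Q α)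
  (hc : centralizer (Q : Set G) ≤ Q)
include h hc

theorem mid_of {T : Subgroup G} (hT : ∀ x ∈ T, x ∈ J → x = 1) {f s : G} (hf : f ∈ T) (hs : s ∈ T)
    (lf : Lin ι f (act f0)) (ls : Lin ι s (act s0)) : Mid ι J S M L Q α (f * f) f s := by
  have key : ∀ x ∈ T, ∀ p, Lin ι x (act p) → p = 1 → x = 1 := fun x hx p e e' =>
    hT x hx (h.cJ hc x (e' ▸ e).id_of_act)
  have lt : Lin ι (f * f) (act t0) := (show f0 * f0 = t0 by decide +kernel) ▸ lf.act_mul lf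
  exact ⟨h, hc, lt, lf, ls, key _ (mul_mem (mul_mem hf hf) (mul_mem hf hf)) _ (lt.act_mul lt) (by decide +kernel), rfl,
    key _ (mul_mem hs hs) _ (ls.act_mul ls) (by decide +kernel), eq_inv_of_mul_eq_one_left (key _
      (mul_mem (mul_mem (mul_mem hs hf) (inv_mem hs)) hf) _ (((ls.act_mul lf).act_mul ls.act_inv).act_mul lf)
      (by decide +kernel))⟩

theorem exists_mid : ∃ t f s, Mid ι J S M L Q α t f s ∧ ((∀ r, ¬ Lin ι r fun v => -v) ∨
    ∃ r, r * r = 1 ∧ Lin ι r (fun v => -v) ∧ Commute r f ∧ Commute r s) := by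
  by_cases hr : ∃ r, Lin ι r fun v => -v
  · obtain ⟨r, hr⟩ := hr
    have hT : ∀ x ∈ centralizer {r}, x ∈ J → x = 1 := fun x hx hJ => by
      obtain ⟨v, rfl⟩ := (h.mem x).1 hJ
      have e := h.fix hr (mem_centralizer_singleton_iff.1 hx).symm
      exact eq_one_of_sq (h.cube v) (by rw [← h.add, h.eq_one]; exact eq_neg_iff_add_eq_zero.1 e.symm)
    have key : ∀ p : S6, sign p = 1 → ∃ m ∈ centralizer {r}, Lin ι m (act p) := fun p hp => by
      obtain ⟨m, -, e⟩ := h.onto p hp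
      obtain ⟨v, hv⟩ := (h.mem _).1 (h.cJ hc _ ((((e.mul hr).mul e.act_inv).mul
        (hr.inv (γ' := fun v => -v) neg_neg)).congr fun v => by
          simp only [act_neg, neg_neg, ← act_mul, mul_inv_cancel, act_one, id]))
      refine ⟨ι v * m, mem_centralizer_singleton_iff.2 (mul_inv_eq_iff_eq_mul.1 ?_),
        (h.lin_id (h.memJ v)).mul e⟩
      calc _ = ι v * (m * r * m⁻¹ * r⁻¹) * (r * ι v * r⁻¹)⁻¹ * r := by group
        _ = ι v ^ 3 * r := by rw [← hv, hr, h.neg, inv_inv, pow_three']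
        _ = r := by rw [h.cube, one_mul]
    obtain ⟨f, hf, lf⟩ := key f0 (by decide +kernel)
    obtain ⟨s, hs, ls⟩ := key s0 (by decide +kernel)
    exact ⟨_, f, s, h.mid_of hc hT hf hs lf ls, .inr ⟨r, hT _ (mem_centralizer_singleton_iff.2 (mul_assoc r r r))
      (h.cJ hc _ ((hr.mul hr).congr neg_neg)), hr, (mem_centralizer_singleton_iff.1 hf).symm,
      (mem_centralizer_singleton_iff.1 hs).symm⟩⟩
  have : Fact (Nat.Prime 2) := ⟨Nat.prime_two⟩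
  let D : Subgroup G :=
    { carrier := {m | ∃ p ∈ centralizer {t0} ⊓ alternatingGroup (Fin 6), Lin ι m (act p)}
      one_mem' := ⟨1, one_mem _, (Lin.one ι).act_one⟩
      mul_mem' := fun ⟨p, hp, e⟩ ⟨p', hp', e'⟩ => ⟨_, mul_mem hp hp', e.act_mul e'⟩
      inv_mem' := fun ⟨p, hp, e⟩ => ⟨_, inv_mem hp, e.act_inv⟩ }
  have hJD : J ≤ D := fun j hj => ⟨1, one_mem _, (h.lin_id hj).act_one⟩
  obtain ⟨n, hn⟩ : ∃ n, J.relIndex D = 2 ^ n := by
    have h1 := h.card_eq (A := D) (fun a ⟨p, _, e⟩ => ⟨p, e⟩) fun a _ => h.cJ hc a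
    have h2 := card_mul_index (J.subgroupOf D)
    rw [Nat.card_congr (subgroupOfEquivOfLe hJD).toEquiv, h1, inf_eq_right.2 hJD, h.card] at h2
    obtain ⟨n, hn⟩ := IsPGroup.iff_card.1 (show IsPGroup 2 (im ι D) from fun ⟨p, a, ⟨p', hp, e⟩, e'⟩ =>
      ⟨2, Subtype.ext (cent_t0 p (h.act_eq e e' ▸ mem_centralizer_singleton_iff.1 hp.1) (h.act_eq e e' ▸ hp.2))⟩)
    exact ⟨n, hn ▸ Nat.eq_of_mul_eq_mul_left (by decide) h2⟩
  obtain ⟨T, hT⟩ := exists_isSylowIn 2 D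
  have key : ∀ p : S6, p * t0 = t0 * p → sign p = 1 → ∃ m ∈ T, Lin ι m (act p) := fun p h1 hp => by
    obtain ⟨m, -, e⟩ := h.onto p hp
    obtain ⟨j, hj, x, hx, rfl⟩ := hT.exists_mul_eq_of_relIndex_pow hn
      (show m ∈ D from ⟨p, ⟨mem_centralizer_singleton_iff.2 h1, hp⟩, e⟩)
    exact ⟨x, hx, by simpa using (h.lin_id (inv_mem hj)).mul e⟩
  obtain ⟨f, hf, lf⟩ := key f0 (by decide +kernel) (by decide +kernel)
  obtain ⟨s, hs, ls⟩ := key s0 (by decide +kernel) (by decide +kernel)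
  refine ⟨_, f, s, h.mid_of hc (fun x hx hJ => ?_) hf hs lf ls, .inl (not_exists.1 hr)⟩
  have := IsPGroup.disjoint_of_ne 2 3 (by decide) T J hT.isPGroup h.isPGroup
  exact mem_bot.1 (this.le_bot ⟨hx, hJ⟩)

end Base

/-- The complement to `Q` in `L`. -/
def Eg (L : Subgroup G) (t : G) : Subgroup G := ⁅L ⊓ centralizer {t}, L ⊓ centralizer {t}⁆

namespace Mid

variable [Finite G] {ι : V → G} {J S M L Q : Subgroup G} {α : G → CL.Rec.S5} {t f s : G}
  (h : Mid ι J S M L Q α t f s)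
include h

omit [Finite G] in
theorem tz : Commute t (ι z0) := h.lt.commute (by decide +kernel)

omit [Finite G] in
theorem tinv : t⁻¹ = t := inv_eq_of_mul_eq_one_left h.t2

omit [Finite G] in
theorem t_ne : t ^ 3 ≠ 1 := fun e =>
  absurd (h.act_eq h.lt (eq_one_of_sq e h.t2 ▸ (Lin.one ι).act_one)) (by decide +kernel)

theorem t_inv {x : G} (hx : x ∈ Q) : t * x * t⁻¹ * x ∈ zpowers (ι z0) := by
  have hx' := conj_mem (h.nQ (mem_NZ_of_comm h.tz)) hx
  obtain ⟨a, b, e⟩ := h.actS (h.QS hx)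
  obtain ⟨v, hv⟩ := (h.mem _).1 (h.cJ h.cQ _
    (Lin.id_of_act (t0_st a b ▸ ((h.lt.act_mul e).act_mul h.lt.act_inv).act_mul e)))
  have h1 := h.mem_zpowers'.2 (perp_t0 v (h.memQ.1 (hv ▸ mul_mem hx' hx)))
  rw [h.add, ← h.lt, hv] at h1
  refine mem_of_sq3 (hv ▸ h.cube v) ?_
  convert mul_mem (h.Qcomm _ hx' _ hx) h1 using 1
  calc _ = t * x * t⁻¹ * x * (t * x * t⁻¹)⁻¹ * x⁻¹ * (1 * x * 1⁻¹ * t * x * t⁻¹ * (t * x * t⁻¹ * x)) := by group
    _ = _ := by rw [← h.t2]; group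

theorem tL : t ∈ L ∧ α t = 1 := by
  obtain ⟨l, hl, e⟩ := h.ontoL CL.Rec.u0 (by decide +kernel)
  have e1 : α l * α l = 1 := by rw [e]; decide +kernel
  have h1 := h.sqL l hl e1 (by rw [e]; decide +kernel)
  rw [← h.mul _ (h.LN hl) _ (h.LN hl)] at e1
  have hl2 := mul_mem hl hl
  generalize l * l = k at e1 h1 hl2
  have tN := mem_NZ_of_comm h.tz
  have h2 : t * k ∈ Q := h.mem_Q h.cQ (h.tz.mul_left (h.LC k hl2)) fun x hx => by
    convert mul_mem (conj_mem tN (h.invq h.cQ hl2 e1 h1 hx)) (h.t_inv (inv_mem hx)) using 1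
    group
  refine ⟨(mul_mem_cancel_right hl2).1 (h.QL h2), ?_⟩
  simpa [h.mul _ tN _ (h.LN hl2), e1] using h.kerQ _ h2

theorem kerL {l : G} (hl : l ∈ L) (e : α l = 1) : l ∈ Q ∨ l * t ∈ Q :=
  (em _).imp_right fun hq => h.two l hl t h.tL.1 e h.tL.2 hq fun ht => h.t_ne (h.Qexp t ht)

theorem kerC' {l : G} (hl : l ∈ L) (ht : Commute l t) (e : α l = 1) :
    l ∈ zpowers (ι z0) ∨ l * t ∈ zpowers (ι z0) := by
  have key : ∀ x ∈ Q, Commute x t → x ∈ zpowers (ι z0) := fun x hx e => mem_of_sq3 (h.Qexp x hx) (by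
    simpa only [mul_inv_eq_iff_eq_mul.2 e.symm.eq] using h.t_inv hx)
  exact (h.kerL hl e).imp (key _ · ht) (key _ · (ht.mul_left (Commute.refl t)))

theorem ontoC (b : CL.Rec.S5) (hb : sign b = 1) : ∃ l ∈ L ⊓ centralizer {t}, α l = b := by
  obtain ⟨l, hl, rfl⟩ := h.ontoL b hb
  have ha := h.kerN t (h.LN h.tL.1) h.tL.2 l hl
  have e1 : l * t * l⁻¹ = t * (t * l * t⁻¹ * l⁻¹) := by rw [h.tinv, ← one_mul (l * t * l⁻¹), ← h.t2]; group
  generalize t * l * t⁻¹ * l⁻¹ = a at ha e1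
  have e2 : a * t = t * a⁻¹ := by
    have : t * a * (t * a) = 1 := by rw [← e1, conj_mul, h.t2, mul_one, mul_inv_cancel]
    calc _ = t⁻¹ * (t * a * (t * a)) * a⁻¹ := by group
      _ = _ := by rw [this, h.tinv, mul_one]
  refine ⟨a * a * l, ⟨mul_mem (h.QL (mul_mem ha ha)) hl, mem_centralizer_singleton_iff.2
    (mul_inv_eq_iff_eq_mul.1 ?_)⟩, by rw [h.mul _ (h.QN (mul_mem ha ha)) _ (h.LN hl), h.kerQ _ (mul_mem ha ha), one_mul]⟩
  calc _ = a * a * (l * t * l⁻¹) * a⁻¹ * a⁻¹ := by group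
    _ = a * (a * t) * a⁻¹ := by rw [e1]; group
    _ = t * (a ^ 3)⁻¹ := by rw [e2, ← mul_assoc, e2, pow_three']; group
    _ = t := by rw [h.Qexp a ha, inv_one, mul_one]

theorem sylD : IsSylowIn 3 (J ⊓ centralizer {t}) (L ⊓ centralizer {t}) := by
  have : Fact (Nat.Prime 3) := ⟨Nat.prime_three⟩
  refine isSylowIn_of_maximal (inf_le_inf_right _ h.JL) (h.isPGroup.to_le inf_le_left) fun U hU h1 h2 => ?_
  by_contra hn
  obtain ⟨g, ⟨hg, hgn⟩, hgD⟩ := SetLike.exists_of_lt (lt_inf_normalizer_of_isPGroup hU (lt_of_le_of_ne h1 (Ne.symm hn)))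
  obtain ⟨k, hk⟩ := exists_pow hU hg
  have gz := h.LC g (h2 hg).1
  have hz1 : ι z1 ∈ J ⊓ centralizer {t} :=
    ⟨h.memJ _, mem_centralizer_singleton_iff.2 (h.lt.commute (by decide +kernel)).symm⟩
  obtain ⟨w, hw⟩ := (h.mem _).1 (conj_mem hgn hz1).1
  obtain ⟨m, -, hm⟩ := h.isConj_sing (v := z1) (by decide) (by decide)
  have hz : ι w ∉ zpowers (ι z0) := fun hh => by
    have := conj_mem (inv_mem (mem_NZ_of_comm gz)) hh
    rw [hw, show g⁻¹ * (g * ι z1 * g⁻¹) * g⁻¹⁻¹ = ι z1 by group, h.mem_zpowers'] at this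
    exact absurd this (by decide)
  have h4 : Commute (g * g) (ι z1) := mul_inv_eq_iff_eq_mul.1 (by
    rw [show g * g * ι z1 * (g * g)⁻¹ = g * (g * ι z1 * g⁻¹) * g⁻¹ by group]
    rcases (sing_t0 w (h.fus w ((isConj_iff.2 ⟨m, hm⟩).trans (isConj_iff.2 ⟨g, hw.symm⟩))) (h.fix h.lt
      (hw ▸ (mem_centralizer_singleton_iff.1 (conj_mem hgn hz1).2).symm))).resolve_left
      (mt h.mem_zpowers'.2 hz) with rfl | rfl
    · rw [← hw, ← hw]
    · rw [← hw, h.neg, ← conj_inv, ← hw, h.neg, inv_inv])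
  have odd : ∀ {H : Type _} [Group H] {x : H}, x ^ 3 ^ k = 1 → ∃ n, x = (x * x) ^ n := fun {_} _ {x} e => by
    obtain ⟨n, hn⟩ : Odd (3 ^ k) := Odd.pow (by decide)
    exact ⟨n + 1, by rw [← pow_two, ← pow_mul, show 2 * (n + 1) = 3 ^ k + 1 by omega, pow_succ, e, one_mul]⟩
  obtain ⟨n, e⟩ := odd hk
  have hN := h.l5' h.cQ (w := z1) (mt h.mem_zpowers'.1 (by decide)) gz (e ▸ h4.pow_left n)
  obtain ⟨p, hp, lp⟩ := h.actM g (h.thrM g hN k hk)
  have gt := mem_centralizer_singleton_iff.1 (h2 hg).2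
  have p4 := cent_t0 p (h.act_eq (lp.act_mul h.lt) (gt ▸ h.lt.act_mul lp)) hp
  have p3 : p ^ 3 ^ k = 1 := h.act_eq (lp.act_pow _) (hk ▸ (Lin.one ι).act_one)
  have p1 : p = 1 := by
    have := pow_gcd_eq_one.2 ⟨p4, p3⟩
    rwa [show Nat.gcd 4 (3 ^ k) = 1 from Nat.Coprime.pow_right k (by decide), pow_one] at this
  exact hgD ⟨h.cJ h.cQ g (p1 ▸ lp).id_of_act, (h2 hg).2⟩

omit [Finite G] h in
theorem E_le : Eg L t ≤ L ⊓ centralizer {t} := commutator_le.2 fun _ ha _ hb =>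
  mul_mem (mul_mem (mul_mem ha hb) (inv_mem ha)) (inv_mem hb)

theorem EZ {x : G} (hx : x ∈ Eg L t) (hz : x ∈ zpowers (ι z0)) : x = 1 := by
  have : Fact (Nat.Prime 3) := ⟨Nat.prime_three⟩
  rw [Eg, ← map_subtype_commutator] at hx
  obtain ⟨y, hy, rfl⟩ := hx
  have h1 := CL.Transfer.inf_commutator_inf_center_le_of_hall _ h.sylD.toSylow.card_coprime_index
    ⟨⟨⟨zpowers_le.2 (h.memJ _) hz, y.2.2⟩, hy⟩, mem_center_iff.2 fun g => Subtype.ext (h.Zc hz (h.LC g g.2.1))⟩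
  rw [commutator_eq_bot_iff_le_centralizer.2 fun a ha b hb => Subtype.ext (by
    obtain ⟨v, hv⟩ := (h.mem _).1 ha.1
    obtain ⟨w, hw⟩ := (h.mem _).1 hb.1
    have := (h.comm w v).eq
    rwa [hv, hw] at this)] at h1
  exact congrArg Subtype.val (mem_bot.1 h1)

theorem nE (g : G) (hg : g ∈ NZ ι) (ht : Commute g t) : g ∈ normalizer (Eg L t : Set G) := by
  have h1 : g ∈ normalizer ((L ⊓ centralizer {t} : Subgroup G) : Set G) := mem_normalizer_fintype fun x hx =>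
    ⟨conj_mem (h.nL hg) hx.1, mem_centralizer_singleton_iff.2
      ((ht.mul_left (mem_centralizer_singleton_iff.1 hx.2)).mul_left ht.inv_left)⟩
  rw [← conj_smul_eq_self_iff, conj_smul_eq_map] at h1 ⊢
  rw [Eg, map_commutator, h1]

theorem ontoE (b : CL.Rec.S5) (hb : sign b = 1) : ∃ e ∈ Eg L t, α e = b := by
  have N := fun {e} (he : e ∈ Eg L t) => h.LN (E_le he).1
  rw [← mem_alternatingGroup, ← closure_three_cycles_eq_alternating] at hb
  induction hb using closure_induction with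
  | mem c hc =>
    have c3 : c ^ 3 = 1 := hc.orderOf ▸ pow_orderOf_eq_one c
    obtain ⟨a, ha, -, -, e⟩ := s5_inv3 c c3 hc.isCycle.ne_one
    obtain ⟨x, hx, rfl⟩ := h.ontoC a ha
    obtain ⟨y, hy, rfl⟩ := h.ontoC c hc.sign
    refine ⟨_, commutator_mem_commutator hx hy, ?_⟩
    rw [commutatorElement_def, h.mul _ (h.LN (mul_mem (mul_mem hx hy) (inv_mem hx)).1) _ (h.LN (inv_mem hy.1)),
      h.αconj (h.LN hx.1) (h.LN hy.1), h.αinv (h.LN hy.1), e, ← mul_inv_rev]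
    exact inv_eq_of_mul_eq_one_right (by rw [← c3, pow_three'])
  | one => exact ⟨1, one_mem _, h.α1⟩
  | mul _ _ _ _ h1 h2 =>
    obtain ⟨x, hx, rfl⟩ := h1
    obtain ⟨y, hy, rfl⟩ := h2
    exact ⟨_, mul_mem hx hy, h.mul _ (N hx) _ (N hy)⟩
  | inv _ _ h1 =>
    obtain ⟨x, hx, rfl⟩ := h1
    exact ⟨_, inv_mem hx, h.αinv (N hx)⟩

theorem kerE (e : G) (he : e ∈ Eg L t) (e1 : α e = 1) : e = 1 ∨ e = t := by
  have ht := mem_centralizer_singleton_iff.1 (E_le he).2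
  refine (h.kerC' (E_le he).1 ht e1).imp (h.EZ he) fun hz => ?_
  have h1 : e * t * (e * t) = e * e := by
    rw [mul_assoc, ← mul_assoc t, ← ht, mul_assoc, h.t2, mul_one]
  have h2 := eq_one_of_sq (h.Z3 hz) (h1.trans (h.EZ (mul_mem he he) (h1 ▸ mul_mem hz hz)))
  rw [eq_inv_of_mul_eq_one_left h2, h.tinv]

theorem sqE {u : G} (hu : u ∈ Eg L t) (e : α u * α u = 1) (e' : α u ≠ 1) : u * u = t := by
  have hL := (E_le hu).1
  refine (h.kerE _ (mul_mem hu hu) (by rw [h.mul _ (h.LN hL) _ (h.LN hL), e])).resolve_left fun e1 => ?_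
  exact h.sqL u hL e e' (e1 ▸ one_mem _)

theorem decC {g : G} (hg : g ∈ L ⊓ centralizer {t}) : ∃ e ∈ Eg L t, ∃ x ∈ zpowers (ι z0), g = e * x := by
  obtain ⟨e, he, e1⟩ := h.ontoE _ (h.evenL g hg.1)
  have h1 := mul_mem (inv_mem (E_le he)) hg
  have ht := mem_centralizer_singleton_iff.1 h1.2
  rcases h.kerC' h1.1 ht (by
    rw [h.mul _ (inv_mem (h.LN (E_le he).1)) _ (h.LN hg.1), h.αinv (h.LN (E_le he).1), e1, inv_mul_cancel]) with hz | hz
  · exact ⟨e, he, _, hz, by group⟩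
  · obtain ⟨u, hu, e2⟩ := h.ontoE CL.Rec.u0 (by decide +kernel)
    have e3 := mul_mem hu hu
    rw [h.sqE hu (by rw [e2]; decide +kernel) (by rw [e2]; decide +kernel)] at e3
    refine ⟨e * t, mul_mem he e3, _, hz, ?_⟩
    rw [ht, mul_assoc, ← mul_assoc t, h.t2]
    group

theorem perf : Eg L t ≤ ⁅Eg L t, Eg L t⁆ := commutator_le.2 fun a ha b hb => by
  obtain ⟨e, he, x, hx, rfl⟩ := h.decC ha
  obtain ⟨e', he', y, hy, rfl⟩ := h.decC hb
  convert commutator_mem_commutator he he' using 1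
  have h1 := h.Zc hx (h.LC _ hb.1)
  have h2 := h.Zc hy (h.LC _ (inv_mem (E_le he).1))
  calc _ = e * (x * (e' * y) * x⁻¹) * e⁻¹ * (e' * y)⁻¹ := by rw [commutatorElement_def]; group
    _ = e * e' * (y * e⁻¹ * y⁻¹) * e'⁻¹ := by rw [mul_inv_eq_iff_eq_mul.2 h1.symm.eq]; group
    _ = _ := by rw [mul_inv_eq_iff_eq_mul.2 h2.symm.eq, commutatorElement_def]

theorem exists_u : ι z1 ∈ Eg L t ∧ ∃ u ∈ Eg L t, u * u = t ∧ u * ι z1 * u⁻¹ = (ι z1)⁻¹ ∧
    u ∈ normalizer (J : Set G) := by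
  obtain ⟨e, he, x, hx, e1⟩ := h.decC (g := ι z1)
    ⟨h.JL (h.memJ _), mem_centralizer_singleton_iff.2 (h.lt.commute (by decide +kernel)).symm⟩
  obtain ⟨k, rfl⟩ := (h.mem _).1 (zpowers_le.2 (h.memJ _) hx)
  obtain rfl : ι (z1 - k) = e := by rw [h.sub, e1, mul_inv_cancel_right]
  have hk := h.mem_zpowers'.1 hx
  have eN := h.LN (E_le he).1
  have e2 : α (ι z1) = α (ι (z1 - k)) := by
    rw [e1, h.mul _ eN _ (h.QN (zpowers_le.2 h.zQ hx)), h.kerQ _ (zpowers_le.2 h.zQ hx), mul_one]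
  obtain ⟨a, ha, a2, a1, e3⟩ := s5_inv3 _ h.α_z1.1 h.α_z1.2
  obtain ⟨u, hu, rfl⟩ := h.ontoE a ha
  have uN := h.LN (E_le hu).1
  have h1 := mul_mem (mul_mem hu he) (inv_mem hu)
  have e4 : u * ι (z1 - k) * u⁻¹ = (ι (z1 - k))⁻¹ := by
    rcases h.kerE _ (mul_mem h1 he) (by
      rw [h.mul _ (h.LN (E_le h1).1) _ eN, h.αconj uN eN, ← e2, e3, inv_mul_cancel]) with e5 | e5
    · exact eq_inv_of_mul_eq_one_left e5
    · refine absurd ?_ h.t_ne
      have h2 : Commute t (ι (z1 - k))⁻¹ :=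
        Commute.inv_right (mem_centralizer_singleton_iff.1 (E_le he).2).symm
      have h3 := congrArg (· ^ 3) (eq_mul_inv_of_mul_eq e5)
      simpa only [conj_pow, h.cube, mul_one, mul_inv_cancel, h2.mul_pow, inv_pow, inv_one] using h3.symm
  have uk : u * ι k * u⁻¹ = ι k := mul_inv_eq_iff_eq_mul.2 (h.Zc hx (h.LC u (E_le hu).1)).eq
  have e5 : u * ι z1 * u⁻¹ = ι (-(z1 - k) + k) := by rw [h.add, h.neg, ← e4, ← uk, conj_mul, ← e1]
  obtain ⟨m, -, hm⟩ := h.isConj_sing (v := z1) (by decide) (by decide)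
  have h2 := h.fus _ ((isConj_iff.2 ⟨m, hm⟩).trans (isConj_iff.2 ⟨u, e5⟩))
  obtain rfl : k = 0 := by
    rcases hk with rfl | rfl | rfl
    · rfl
    · exact absurd h2 (by decide)
    · exact absurd h2 (by decide)
  rw [sub_zero] at he e4
  refine ⟨he, u, hu, h.sqE hu a2 a1, e4, h.norm_of_conj fun j hj => ?_⟩
  obtain ⟨v, rfl⟩ := (h.mem j).1 hj
  have hS := h.JS (h.memJ z1)
  have key := fun (v : V) (hv : v 0 + v 1 + v 2 = 0) => h.QS (conj_mem (h.nQ uN) (h.memQ.2 hv))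
  rcases perp_cases v z1 (by decide) with e | e | e
  · exact key v e
  · have := key _ e
    rwa [h.sub, ← conj_mul, ← conj_inv, e4, inv_inv, mul_mem_cancel_right hS] at this
  · have := key _ e
    rwa [h.add, ← conj_mul, e4, mul_mem_cancel_right (inv_mem hS)] at this

end Mid

end CL.McL3
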