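/-
The 3-local characterization of the McLaughlin group: the normalizers of `J` and `Z`.
-/
import Cfsg.Agent.Rec.McL3L3

set_option autoImplicit false

open Cfsg Subgroup CL.Grp Equiv Equiv.Perm
open scoped Pointwise

namespace CL.McL3

universe u

variable {G : Type*} [Group G]

theorem ups_e1 : ∀ i, ups i e1 = U1 i := by decide +kernel

theorem Lin.div {ι : V → G} {g g' : G} {γ : V → V} (h : Lin ι g γ) (h' : Lin ι g' γ) : Lin ι (g'⁻¹ * g) id :=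
  fun v => by
    calc _ = g'⁻¹ * (g * ι v * g⁻¹) * g' := by group
      _ = _ := by rw [h, ← h']; simp [mul_assoc]

theorem Lin.iter {ι : V → G} {g : G} {γ : V → V} (h : Lin ι g γ) (n : ℕ) : Lin ι (g ^ n) γ^[n] := by
  induction n with
  | zero => simpa using Lin.one ι
  | succ n ih => exact pow_succ g n ▸ ih.mul h

structure Top (ι : V → G) (J S M L Q : Subgroup G) (α : G → CL.Rec.S5) (t f s u : G) (i : Fin 4) : Prop
    extends Mid ι J S M L Q α t f s where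
  uE : u ∈ Eg L t
  u2 : u * u = t
  uz : u * ι z1 * u⁻¹ = (ι z1)⁻¹
  lu : Lin ι u (ups i)

theorem Mid.exists_top [Finite G] {ι : V → G} {J S M L Q : Subgroup G} {α : G → CL.Rec.S5} {t f s : G}
    (h : Mid ι J S M L Q α t f s) : ∃ u i, Top ι J S M L Q α t f s u i := by
  obtain ⟨-, u, hu, u2, uz, uN⟩ := h.exists_u
  obtain ⟨γ, hγ⟩ := h.exists_lin uN
  have e0 : γ z0 = z0 := h.fix hγ (h.LC u (Mid.E_le hu).1)
  have e1' : γ z1 = -z1 := h.inj (by rw [← hγ, uz, h.neg])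
  have e2' := eq_lin (h.lin_add hγ)
  have e3 := h.lin_ext (hγ.mul hγ) (u2 ▸ h.lt)
  have e4 := sg_of (h.lin_add hγ) fun v => h.lin_sing hγ
  rw [e0, e1'] at e2' e4
  obtain ⟨i, h1, h2⟩ := ups_cases e4 (by rw [← e2', e3]; decide +kernel) (by rw [← e2', e3]; decide +kernel)
  exact ⟨u, i, h, hu, u2, uz, hγ.congr fun v => by rw [e2', h1, h2, ups]⟩

namespace Top

variable [Finite G] {ι : V → G} {J S M L Q : Subgroup G} {α : G → CL.Rec.S5} {t f s u : G} {i : Fin 4}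
  (h : Top ι J S M L Q α t f s u i)
include h

omit [Finite G] in
theorem uL : u ∈ L := (Mid.E_le h.uE).1

theorem fN : f ∈ NZ ι := mem_NZ (by rw [h.lf, h.mem_zpowers']; decide +kernel)

theorem mem_M {g : G} {p : S6} (hp : sign p = 1) (e : Lin ι g (act p)) : g ∈ M := by
  obtain ⟨m, hm, e'⟩ := h.onto p hp
  exact (mul_mem_cancel_left (inv_mem hm)).1 (h.JM (h.cJ h.cQ _ (e.div e')))

omit [Finite G] in
theorem mem_J {x : G} (hx : x ∈ S) (e : Commute x (ι z1)) : x ∈ J := by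
  obtain ⟨a, b, e'⟩ := h.actS hx
  exact h.kerM x (h.SM hx) (st_z1 a b (.inl (h.fix e' e)) ▸ e').id_of_act

omit [Finite G] in
theorem comm_z1 {g : G} (e : g * ι z1 * g⁻¹ = ι z1 ∨ g * ι z1 * g⁻¹ = (ι z1)⁻¹) :
    Commute (g * u * g⁻¹ * u⁻¹) (ι z1) := by
  have e1 : u⁻¹ * ι z1 * u = (ι z1)⁻¹ := by
    calc _ = (u⁻¹ * (ι z1)⁻¹ * u)⁻¹ := by group
      _ = (u⁻¹ * (u * ι z1 * u⁻¹) * u)⁻¹ := by rw [h.uz]
      _ = _ := by group
  have e2 : g⁻¹ * (ι z1)⁻¹ * g = (ι z1)⁻¹ ∧ g * ι z1 * g⁻¹ = ι z1 ∨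
      g⁻¹ * (ι z1)⁻¹ * g = ι z1 ∧ g * (ι z1)⁻¹ * g⁻¹ = ι z1 := by
    rcases e with e | e
    · exact .inl ⟨by conv_lhs => rw [← e]
                     group, e⟩
    · exact .inr ⟨by rw [← e]; group, by rw [← conj_inv, e, inv_inv]⟩
  refine mul_inv_eq_iff_eq_mul.1 ?_
  calc _ = g * (u * (g⁻¹ * (u⁻¹ * ι z1 * u) * g) * u⁻¹) * g⁻¹ := by group
    _ = _ := by
      rw [e1]
      rcases e2 with ⟨e2, e3⟩ | ⟨e2, e3⟩
      · rw [e2, ← conj_inv, h.uz, inv_inv, e3]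
      · rw [e2, h.uz, e3]

theorem α_norm {g : G} (hg : g ∈ NZ ι) (e : g * ι z1 * g⁻¹ = ι z1 ∨ g * ι z1 * g⁻¹ = (ι z1)⁻¹) :
    α g * α (ι z1) * (α g)⁻¹ = α (ι z1) ∨ α g * α (ι z1) * (α g)⁻¹ = (α (ι z1))⁻¹ := by
  have n1 := h.LN (h.JL (h.memJ z1))
  rw [← h.αconj hg n1, ← h.αinv n1]
  exact e.imp (congrArg α) (congrArg α)

theorem s5 {g : G} (hg : g ∈ NZ ι) (e : g * ι z1 * g⁻¹ = ι z1 ∨ g * ι z1 * g⁻¹ = (ι z1)⁻¹) :
    (α g * α u * (α g)⁻¹ * (α u)⁻¹ = 1 ∨ α g * α u * (α g)⁻¹ * (α u)⁻¹ = α (ι z1) ∨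
      α g * α u * (α g)⁻¹ * (α u)⁻¹ = (α (ι z1))⁻¹) ∧
      (sign (α g) = 1 → ∃ n : Fin 2, ∃ k : Fin 3, α g * (α u ^ n.val)⁻¹ * (α (ι z1) ^ k.val)⁻¹ = 1) :=
  have n1 := h.LN (h.JL (h.memJ z1))
  s5_comm3 _ h.α_z1.1 h.α_z1.2 _ (by rw [← h.αconj (h.LN h.uL) n1, h.uz, h.αinv n1]) (h.evenL u h.uL) _
    (h.α_norm hg e)

theorem comm_cases {g : G} (hg : g ∈ NZ ι) (e : g * ι z1 * g⁻¹ = ι z1 ∨ g * ι z1 * g⁻¹ = (ι z1)⁻¹) :
    g * u * g⁻¹ * u⁻¹ ∈ J ∨ g * u * g⁻¹ * u⁻¹ * t ∈ J := by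
  have uN := h.LN h.uL
  have h1 := (h.s5 hg e).1
  have h2 := h.comm_z1 e
  have h3 := conj_mem (h.nL hg) h.uL
  rw [← h.αconj hg uN, ← h.αinv uN, ← h.mul _ (h.LN h3) _ (inv_mem uN)] at h1
  have hx := mul_mem h3 (inv_mem h.uL)
  generalize g * u * g⁻¹ * u⁻¹ = x at h1 h2 hx
  have key : ∀ v, act t0 v = v → α x = α (ι v) → x ∈ J ∨ x * t ∈ J := fun v hv e => by
    have hS := h.JS (h.memJ v)
    have ht := h.lt.commute hv
    refine (h.kerL (mul_mem hx (inv_mem (h.SL hS))) (by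
      rw [h.mul _ (h.LN hx) _ (inv_mem (h.SN hS)), h.αinv (h.SN hS), e, mul_inv_cancel])).imp
      (fun e => h.mem_J ((mul_mem_cancel_right (inv_mem hS)).1 (h.QS e)) h2) fun e => h.mem_J ?_
        (h2.mul_left (h.lt.commute (by decide +kernel)))
    rw [mul_assoc, ← ht.inv_right.eq, ← mul_assoc] at e
    exact (mul_mem_cancel_right (inv_mem hS)).1 (h.QS e)
  rcases h1 with e | e | e
  · exact key 0 (act_zero _) (by rw [e, h.zero, h.α1])
  · exact key z1 (by decide +kernel) e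
  · exact key (-z1) (by decide +kernel) (by rw [e, h.neg, h.αinv (h.LN (h.JL (h.memJ z1)))])

theorem comm_even {g : G} (hg : g ∈ NZ ι) (hJ : g ∈ normalizer (J : Set G))
    (e : g * ι z1 * g⁻¹ = ι z1 ∨ g * ι z1 * g⁻¹ = (ι z1)⁻¹) (he : sign (α g) = 1) : g * u * g⁻¹ * u⁻¹ ∈ J := by
  have uN := h.LN h.uL
  have uJ := h.norm h.lu
  have hz := h.memJ z1
  have n1 := h.LN (h.JL hz)
  obtain ⟨n, k, e1⟩ := (h.s5 hg e).2 he
  have h1 := mul_mem hg (inv_mem (pow_mem uN n.val))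
  rw [← h.αpow uN, ← h.αpow n1, ← h.αinv (pow_mem uN _), ← h.αinv (pow_mem n1 _),
    ← h.mul _ hg _ (inv_mem (pow_mem uN _)), ← h.mul _ h1 _ (inv_mem (pow_mem n1 _))] at e1
  have h2 := h.QS (h.kerN _ (mul_mem h1 (inv_mem (pow_mem n1 _))) e1 u h.uL)
  have h3 := mul_mem hJ (inv_mem (pow_mem uJ n.val))
  have hj := inv_mem (pow_mem hz k.val)
  refine h.mem_J ((mul_mem_cancel_left (h.JS (conj_mem h3 (mul_mem hj (conj_mem uJ (inv_mem hj)))))).1 ?_)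
    (h.comm_z1 e)
  convert h2 using 1
  group

omit [Finite G] in
theorem lin_comm {g : G} {γ : V → V} (hγ : Lin ι g γ) {x : G} {η : V → V} (hx : Lin ι x η)
    (e : g * u * g⁻¹ * u⁻¹ * x⁻¹ ∈ J) : γ (ups i e1) = η (ups i (γ e1)) := by
  have := ((h.lin_id e).mul hx).mul (h.lu.mul hγ)
  rw [show g * u * g⁻¹ * u⁻¹ * x⁻¹ * x * (u * g) = g * u by group] at this
  exact h.lin_ext (hγ.mul h.lu) this e1

theorem αf : sign (α f) = -1 := by
  refine (Int.units_eq_one_or _).resolve_left fun e => (f_ups i).1 ?_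
  exact h.lin_comm h.lf (Lin.one ι) (by
    simpa using h.comm_even h.fN (h.norm h.lf) (.inr (by rw [h.lf, ← h.neg]; congr 1; decide +kernel)) e)

theorem αr {r : G} (hr : Lin ι r fun v => -v) : sign (α r) = 1 := by
  have rN : r ∈ NZ ι := mem_NZ (by rw [hr, h.mem_zpowers']; decide)
  refine (Int.units_eq_one_or _).resolve_right fun e => (f_ups i).2 ?_
  exact h.lin_comm (hr.mul h.lf) (Lin.one ι) (by
    simpa using h.comm_even (mul_mem rN h.fN) (h.norm (hr.mul h.lf))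
      (.inl (by rw [hr.mul h.lf]; congr 1; decide +kernel)) (by rw [h.mul _ rN _ h.fN, map_mul, e, h.αf]; decide))

theorem two_pt {g : G} {γ : V → V} (hγ : Lin ι g γ) (e0 : γ z0 = z0 ∨ γ z0 = -z0) (e1' : γ z1 = z1 ∨ γ z1 = -z1) :
    ∃ k : Fin 4, ∃ n : Fin 2, ((Lin ι ((f ^ k.val * u ^ n.val)⁻¹ * g) id ∧ γ z0 = fu i k n z0) ∨
      (Lin ι ((f ^ k.val * u ^ n.val)⁻¹ * g) (fun v => -v) ∧ γ z0 = -fu i k n z0)) ∧
      (sign (α g) = 1 → k = 0 ∨ k = 2) := by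
  have hg : g ∈ NZ ι := mem_NZ (by rw [hγ, h.mem_zpowers']; exact .inr e0)
  have e : g * ι z1 * g⁻¹ = ι z1 ∨ g * ι z1 * g⁻¹ = (ι z1)⁻¹ := by
    rw [hγ, ← h.neg]
    exact e1'.imp (congrArg ι) (congrArg ι)
  have e2' := eq_lin (h.lin_add hγ)
  have e4 := sg_of (h.lin_add hγ) fun v => h.lin_sing hγ
  obtain ⟨k, n, h1, h2⟩ := lin_cases' i _ (by simpa using e0) _ (by simpa using e1') _ e4.1 _ e4.2.1 e4.2.2 (by
    rw [← e2', ← ups_e1]
    exact (h.comm_cases hg e).imp (fun e => h.lin_comm hγ (Lin.one ι) (by simpa using e))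
      fun e => h.lin_comm hγ h.lt (by rwa [h.tinv]))
  have lb : Lin ι (f ^ k.val * u ^ n.val) (fu i k n) := (h.lf.act_pow _).mul (h.lu.iter _)
  have e3 := eq_lin (h.lin_add lb)
  refine ⟨k, n, h1.imp (fun ⟨a, b, c, d⟩ => ⟨hγ.div (lb.congr fun v => by rw [e2', e3, a, b, c, d]), a⟩)
    fun ⟨a, b, c, d⟩ => ⟨fun v => ?_, a⟩, fun he => h2 (by
      rw [← e2', ← ups_e1]
      exact h.lin_comm hγ (Lin.one ι) (by simpa using h.comm_even hg (h.norm hγ) e he))⟩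
  have e5 : γ v = -fu i k n v := by
    rw [e2', e3, a, b, c, d]
    simp only [lin, smul_neg, neg_add]
  calc _ = (f ^ k.val * u ^ n.val)⁻¹ * (g * ι v * g⁻¹) * (f ^ k.val * u ^ n.val) := by group
    _ = _ := by rw [hγ, e5, h.neg, ← lb, h.neg]; group

theorem red {g : G} (hJ : g ∈ normalizer (J : Set G)) (hg : g ∈ NZ ι) : ∃ a ∈ S, ∃ γ, Lin ι (a * g) γ ∧
    (γ z0 = z0 ∨ γ z0 = -z0) ∧ (γ z1 = z1 ∨ γ z1 = -z1) := by
  obtain ⟨γ, hγ⟩ := h.exists_lin hJ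
  have e : γ 0 = 0 := by simpa using h.lin_add hγ 0 0
  have e' : γ (-z0) = -γ z0 := eq_neg_of_add_eq_zero_left (by rw [← h.lin_add hγ, neg_add_cancel, e])
  have inj := h.lin_inj hγ
  have e0 : γ z0 = z0 ∨ γ z0 = -z0 := (h.mem_zpowers'.1 (hγ z0 ▸ conj_mem hg (mem_zpowers _))).resolve_left
    fun e1 => absurd (inj (e1.trans e.symm)) (by decide)
  obtain ⟨a, b, e1⟩ := sing_st (γ z1) (h.lin_sing hγ (by decide)) (fun e1 => absurd (inj (e1.trans e.symm)) (by decide))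
    (fun e1 => by
      rcases e0 with e0 | e0
      · exact absurd (inj (e1.trans e0.symm)) (by decide)
      · exact absurd (inj (e1.trans (by rw [e', e0, neg_neg] : γ (-z0) = z0).symm)) (by decide))
    (fun e1 => by
      rcases e0 with e0 | e0
      · exact absurd (inj (e1.trans (by rw [e', e0] : γ (-z0) = -z0).symm)) (by decide)
      · exact absurd (inj (e1.trans e0.symm)) (by decide))
  obtain ⟨x, hx, lx⟩ := h.exists_S a b
  refine ⟨x, hx, _, lx.mul hγ, ?_, e1⟩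
  rcases e0 with e0 | e0 <;> simp [e0, act_neg, st_z0]

theorem n1 {g : G} (hJ : g ∈ normalizer (J : Set G)) : ∃ m ∈ M, ∃ n : Fin 2,
    Lin ι ((m * u ^ n.val)⁻¹ * g) id ∨ Lin ι ((m * u ^ n.val)⁻¹ * g) fun v => -v := by
  obtain ⟨γ, hγ⟩ := h.exists_lin hJ
  obtain ⟨m, hm, e⟩ := h.isConj_sing (h.lin_sing hγ (v := z0) (by decide)) fun e =>
    absurd (h.lin_inj hγ (e.trans (by simpa using h.lin_add hγ 0 0 : γ 0 = 0).symm)) (by decide)
  obtain ⟨a, ha, η, hη, e0, e1⟩ := h.red (mul_mem (inv_mem (h.MN hm)) hJ) (mem_NZ (by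
    rw [show m⁻¹ * g * ι z0 * (m⁻¹ * g)⁻¹ = m⁻¹ * (g * ι z0 * g⁻¹) * m by group, hγ, ← e]
    simp [mul_assoc]))
  obtain ⟨k, n, h1, -⟩ := h.two_pt hη e0 e1
  refine ⟨m * a⁻¹ * f ^ k.val, mul_mem (mul_mem hm (inv_mem (h.SM ha)))
    (pow_mem (h.mem_M (by decide +kernel) h.lf) _), n, ?_⟩
  rw [show (m * a⁻¹ * f ^ k.val * u ^ n.val)⁻¹ * g = (f ^ k.val * u ^ n.val)⁻¹ * (a * (m⁻¹ * g)) by group]
  exact h1.imp And.left And.left

theorem n2 (g : G) (hJ : g ∈ normalizer (J : Set G)) (v w : V) (e : g * ι v * g⁻¹ = ι w) (h1 : q v = q w)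
    (h2 : q v ≠ 0) : ∃ p : S6, sign p = 1 ∧ (Lin ι g (act p) ∨ Lin ι g fun v => -act p v) := by
  obtain ⟨m, hm, n, h3⟩ := h.n1 hJ
  obtain ⟨p, hp, lp⟩ := h.actM m hm
  have h4 := h3.imp (lp.mul (h.lu.iter n.val)).mul (lp.mul (h.lu.iter n.val)).mul
  rw [mul_inv_cancel_left] at h4
  have key : ∀ x : ZMod 3, x = -x → x = 0 := by decide
  fin_cases n
  · exact ⟨p, hp, h4.imp id fun e => e.congr fun v => act_neg p v⟩
  · refine absurd (key _ (h1.trans ?_)) h2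
    rcases h4 with e1 | e1 <;> rw [← h.inj ((e1 v).symm.trans e), q_act]
    · exact q_ups i v
    · exact (q_ups i (-v)).trans (congrArg _ (q_neg v))

theorem mem_L {g : G} (hz : Commute g (ι z0)) (he : sign (α g) = 1 ∨ ∀ r, ¬ Lin ι r fun v => -v) : g ∈ L := by
  have hg := mem_NZ_of_comm hz
  obtain ⟨l, hl, hJ⟩ := h.frat h.SL (g := g) fun j hj => conj_mem (h.nL hg) (h.JL hj)
  obtain ⟨a, ha, γ, hγ, e0, e1⟩ := h.red hJ (mul_mem (h.LN hl) hg)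
  have e2 : γ z0 = z0 := h.fix hγ ((h.Sz ha).mul_left ((h.LC l hl).mul_left hz))
  obtain ⟨k, n, h1, h2⟩ := h.two_pt hγ e0 e1
  have h3 : Lin ι ((f ^ k.val * u ^ n.val)⁻¹ * (a * (l * g))) id ∧ (k = 0 ∨ k = 2) := by
    rcases h1 with ⟨h1, e⟩ | ⟨h1, e⟩
    · exact ⟨h1, ((fu_z0 i k n).resolve_right fun e' => absurd (e2.symm.trans (e.trans e'.1)) (by decide)).2⟩
    · have h4 := h2 (by
        rw [h.mul _ (h.SN ha) _ (mul_mem (h.LN hl) hg), h.mul _ (h.LN hl) _ hg, map_mul, map_mul,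
          h.evenL a (h.SL ha), h.evenL l hl, he.resolve_right fun e => e _ h1, one_mul, one_mul])
      rcases fu_z0 i k n with e' | e'
      · exact absurd (e2.symm.trans (e'.1 ▸ e)) (by decide)
      · rcases h4 with rfl | rfl <;> exact absurd e'.2 (by decide)
  have h4 : f ^ k.val ∈ L := by
    rcases h3.2 with rfl | rfl
    · exact (pow_zero f).symm ▸ L.one_mem
    · exact (show f ^ 2 = t from (pow_two f).trans h.f2) ▸ h.tL.1
  exact (mul_mem_cancel_left hl).1 ((mul_mem_cancel_left (h.SL ha)).1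
    ((mul_mem_cancel_left (inv_mem (mul_mem h4 (pow_mem h.uL _)))).1 (h.JL (h.cJ h.cQ _ h3.1))))

theorem αsu : sign (α (s * u * s⁻¹ * u⁻¹)) = -1 := by
  have l1 : Lin ι (s * u * s⁻¹) fun v => act s0 (ups i (act s0 v)) :=
    (h.ls.mul h.lu).mul ((show s0⁻¹ = s0 by decide +kernel) ▸ h.ls.act_inv)
  have key : ∀ x ∈ NZ ι, sign (α x) = -1 → (x * u)⁻¹ * (s * u * s⁻¹) ∈ J → sign (α (s * u * s⁻¹ * u⁻¹)) = -1 :=
    fun x hx e hj => by
      have h1 := h.JL (conj_mem (h.norm h.lu) hj)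
      rw [show s * u * s⁻¹ * u⁻¹ = x * (u * ((x * u)⁻¹ * (s * u * s⁻¹)) * u⁻¹) by group, h.mul _ hx _ (h.LN h1),
        map_mul, e, h.evenL _ h1, mul_one]
  rcases s_ups i with e | e
  · exact key f h.fN h.αf (h.cJ h.cQ _ ((l1.congr e).div (h.lf.mul h.lu)))
  · exact key f⁻¹ (inv_mem h.fN) (by rw [h.αinv h.fN, map_inv, h.αf]; rfl)
      (h.cJ h.cQ _ ((l1.congr e).div (h.lf.act_inv.mul h.lu)))

end Top

theorem fxThm : FxThm.{u} := by
  intro G _ _ ι J S M L Q α hb hc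
  obtain ⟨t, f, s, hm, hd⟩ := hb.exists_mid hc
  obtain ⟨u, i, h⟩ := hm.exists_top
  exact ⟨Eg L t, t, f, s, u,
    { toEmb := hb.toEmb
      onto := fun p hp => let ⟨m, _, e⟩ := hb.onto p hp; ⟨m, e⟩
      cJ := hb.cJ hc
      thr := fun g hg k e => hb.actM g (hb.thrM g hg k e)
      fus := hb.fus
      o3 := hb.o3
      l5 := hb.l5 hc
      uJ := hb.uJ
      u3 := hb.u3
      n2 := h.n2
      lt := h.lt
      lf := h.lf
      ls := h.ls
      t2 := h.t2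
      f2 := h.f2
      s2 := h.s2
      sf := h.sf
      mul := hb.mul
      αz := hb.kerQ _ hb.zQ
      αt := hm.tL.2
      αf := h.αf
      Ez := fun e he => hb.LC e (Mid.E_le he).1
      Et := fun e he => mem_centralizer_singleton_iff.1 (Mid.E_le he).2
      nE := hm.nE
      evenE := fun e he => hb.evenL e (Mid.E_le he).1
      ontoE := hm.ontoE
      kerE := hm.kerE
      perf := hm.perf
      zE := hm.exists_u.1
      uE := h.uE
      u2 := h.u2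
      uz := h.uz
      αsu := h.αsu
      kerC := fun g hz ht he => hm.decC ⟨h.mem_L hz (.inl he), mem_centralizer_singleton_iff.2 ht⟩
      dich := hd.imp (fun hr g hz => hb.evenL g (h.mem_L hz (.inr hr)))
        fun ⟨r, h1, h2, h3, h4⟩ => ⟨r, h1, h2, h3, h4, h.αr h2⟩ }⟩

end CL.McL3
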