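/-
The 3-local characterization of the McLaughlin group: from the hypotheses of the statements to `Hyp`, and from
`Concl` to their conclusions.
-/
import Cfsg.Agent.Rec.McL3Defs
import Cfsg.Agent.Loc.Bal2
import Cfsg.Agent.Loc.PElemClosure
import Cfsg.Agent.Cls.OutGrp
import Cfsg.Agent.Perm.FCZass
import Cfsg.Agent.Spor.LeechSimple
import Cfsg.Agent.Spor.PGStruct
import Cfsg.Agent.S2073

set_option autoImplicit false

open Cfsg Subgroup CL.Grp CL.Loc

namespace CL.McL3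

universe u

theorem mcl_not_comm : ¬ IsMulCommutative Spor.McL := fun h => by
  have := CL.Spor.Leech.isMcL_McL.1
  have h1 : (Nat.card Spor.McL).Prime := by
    let _ : CommGroup Spor.McL := { (inferInstance : Group Spor.McL) with mul_comm := h.is_comm.comm }
    exact IsSimpleGroup.prime_card
  rw [CL.Spor.Leech.isMcL_McL.2] at h1
  exact absurd h1 (by norm_num)

theorem mcl_center : center Spor.McL = ⊥ := by
  have := CL.Spor.Leech.isMcL_McL.1
  refine (inferInstance : (center Spor.McL).Normal).eq_bot_or_eq_top.resolve_right fun h => mcl_not_comm ⟨⟨fun a b => ?_⟩⟩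
  exact mem_center_iff.1 (h ▸ mem_top b) a

variable {G : Type*} [Group G]

theorem concl_iso [Finite G] (h : Concl G) : Nonempty (G ≃* Spor.McL) ∨ Nonempty (G ≃* MulAut Spor.McL) := by
  obtain ⟨N, hN, h1 | h1, ⟨e⟩, hc⟩ := h
  · exact .inl ⟨(topEquiv.symm.trans (MulEquiv.subgroupCongr h1.symm)).trans e⟩
  · have hi : Function.Injective (MulAut.conjNormal (H := N) : G →* MulAut N) := by
      rw [injective_iff_map_eq_one]
      intro g hg
      rw [← mem_bot, ← hc, mem_centralizer_iff]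
      intro n hn
      have h2 := MulAut.conjNormal_apply (H := N) g ⟨n, hn⟩
      rw [hg] at h2
      exact eq_mul_inv_iff_mul_eq.1 h2
    have hb : Function.Bijective (MulAut.conjNormal (H := N) : G →* MulAut N) := by
      refine hi.bijective_of_nat_card_le (le_of_eq ?_)
      rw [Nat.card_congr (MulAut.congr e).toEquiv, CL.Cls.card_mulAut_eq mcl_center, Cfsg.Agent.S2073.result,
        ← N.index_mul_card, h1, Nat.card_congr e.toEquiv]
    exact .inr ⟨(MulEquiv.ofBijective _ hb).trans (MulAut.congr e)⟩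

theorem concl_fstar (h : Concl G) : Spor.IsoMcL (generalizedFittingSubgroup G) := by
  obtain ⟨N, hN, -, ⟨e⟩, hc⟩ := h
  have := CL.Spor.Leech.isMcL_McL.1
  have hq : IsQuasisimple N := (isQuasisimple_congr e).2 (isQuasisimple_of_isSimpleGroup mcl_not_comm)
  rw [fstar_eq_of_cent_eq_bot ⟨hN.isSubnormal, hq⟩ hc]
  exact ⟨e⟩

theorem thr_closure {H : Subgroup G} {g : G} (hg : g ∈ H) {k : ℕ} (h : g ^ 3 ^ k = 1) : g ∈ pElementClosure 3 H := by
  obtain ⟨j, -, hj⟩ := (Nat.dvd_prime_pow Nat.prime_three).1 (orderOf_dvd_of_pow_eq_one h)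
  exact subset_closure ⟨hg, j, hj⟩

/-- The quotient map of a section. -/
theorem exists_quot {T : Type*} [Group T] {N H : Subgroup G} [(N.subgroupOf H).Normal]
    (e : H ⧸ N.subgroupOf H ≃* T) : ∃ f : H →* T, Function.Surjective f ∧ ∀ m : H, f m = 1 ↔ (m : G) ∈ N :=
  ⟨e.toMonoidHom.comp (QuotientGroup.mk' _), e.surjective.comp (QuotientGroup.mk'_surjective _), fun m =>
    (map_eq_one_iff e e.injective).trans (QuotientGroup.eq_one_iff m)⟩

theorem exists_sec {T : Type*} [Group T] {C : Subgroup G} (N : Subgroup C) [N.Normal] (X : Subgroup (C ⧸ N))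
    (e : X ≃* T) : ∃ f : ((X.comap (QuotientGroup.mk' N)).map C.subtype) →* T, Function.Surjective f ∧
      ∀ l, f l = 1 ↔ (l : G) ∈ N.map C.subtype := by
  let i := (X.comap (QuotientGroup.mk' N)).equivMapOfInjective C.subtype C.subtype_injective
  refine ⟨e.toMonoidHom.comp (((QuotientGroup.mk' N).subgroupComap X).comp i.symm.toMonoidHom),
    e.surjective.comp ((MonoidHom.subgroupComap_surjective_of_surjective _ _
      (QuotientGroup.mk'_surjective N)).comp i.symm.surjective), fun l => ?_⟩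
  obtain ⟨l, rfl⟩ := i.surjective l
  refine (map_eq_one_iff e e.injective).trans ?_
  have h1 : (i l : G) = C.subtype l := rfl
  rw [h1, mem_map_iff_mem C.subtype_injective, ← QuotientGroup.eq_one_iff]
  change (QuotientGroup.mk' N).subgroupComap X (i.symm (i l)) = 1 ↔ _
  rw [i.symm_apply_apply, Subtype.ext_iff]
  rfl

/-- The hypotheses common to the first two statements. -/
theorem hyp_of [Finite G] (S : Sylow 3 G) {Z J : Subgroup G}
    (hZ : Z = (S : Subgroup G) ⊓ centralizer ((S : Subgroup G) : Set G)) (hJS : J ≤ S) (hJcomm : IsMulCommutative J)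
    (hJexp : ∀ a ∈ J, a ^ 3 = 1) (hJcard : Nat.card J = 3 ^ 4) {M L Q : Subgroup G}
    (hM : M = pElementClosure 3 (normalizer (J : Set G))) (hJM : J ≤ M) [(J.subgroupOf M).Normal]
    (eM : M ⧸ J.subgroupOf M ≃* alternatingGroup (Fin 6)) (hL : L = pElementClosure 3 (normalizer (Z : Set G)))
    (hQ : Q = pCoreOf 3 (normalizer (Z : Set G))) (hQex : IsExtraspecial 3 Q) (hQcard : Nat.card Q = 3 ^ 5)
    (hQexp : ∀ a ∈ Q, a ^ 3 = 1) (hQL : Q ≤ L) [(Q.subgroupOf L).Normal]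
    (eL : L ⧸ Q.subgroupOf L ≃* Matrix.SpecialLinearGroup (Fin 2) (ZMod 5)) :
    (∃ π lam, Hyp S Z J M L Q π lam) ∧ pCoreOf 3 (centralizer (Z : Set G)) = Q := by
  have : Fact (Nat.Prime 3) := ⟨Nat.prime_three⟩
  obtain ⟨π, hπ, hπk⟩ := exists_quot eM
  obtain ⟨lam, hl, hlk⟩ := exists_quot eL
  have nQ : normalizer (Z : Set G) ≤ normalizer (Q : Set G) := hQ ▸ le_normalizer_pCoreOf 3 _
  have pQ : IsPGroup 3 Q := hQex.1.1
  have SC : (S : Subgroup G) ≤ centralizer (Z : Set G) := le_centralizer_iff.1 (hZ ▸ inf_le_right)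
  have CN : centralizer (Z : Set G) ≤ normalizer (Z : Set G) := centralizer_le_normalizer _
  have QS : Q ≤ S := (isSylowIn_of_le S (SC.trans CN)).le_of_normalized pQ (hQ ▸ pCoreOf_le 3 _) nQ
  refine ⟨⟨π, lam, isSylowIn_top S, hZ, hJS, fun a ha b hb => ?_, hJexp, hJcard, hJM, hM ▸ pElementClosure_le 3 _,
    fun g hg k hk => hM ▸ thr_closure hg hk, hπ, hπk, hQL, hL ▸ pElementClosure_le 3 _,
    hL ▸ le_normalizer_pElementClosure _, fun g hg k hk => hL ▸ thr_closure hg hk, hl, hlk, hQex, hQcard, hQexp, nQ⟩,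
    le_antisymm (hQ ▸ pCoreOf_le_of_le_normalizer CN (le_normalizer_centralizer' le_rfl))
      (le_pCoreOf (QS.trans SC) (CN.trans nQ) pQ)⟩
  exact congrArg Subtype.val (hJcomm.is_comm.comm ⟨a, ha⟩ ⟨b, hb⟩)

theorem s5523_of (hM : MainThm.{u}) {G : Type u} [Group G] [Finite G]
    (S : Sylow 3 G) (Z : Subgroup G) (hZ : Z = (S : Subgroup G) ⊓ Subgroup.centralizer ((S : Subgroup G) : Set G))
    (J : Subgroup G) (hJS : J ≤ S) (hJcomm : IsMulCommutative J) (hJexp : ∀ a ∈ J, a ^ 3 = 1) (hJcard : Nat.card J = 3 ^ 4)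
    (M₀ : Subgroup G) (hM₀ : M₀ = Subgroup.closure {g : G | g ∈ Subgroup.normalizer (J : Set G) ∧ ∃ k : ℕ, orderOf g = 3 ^ k})
    (hJM : J ≤ M₀) [hJn : (J.subgroupOf M₀).Normal] (eM : M₀ ⧸ J.subgroupOf M₀ ≃* alternatingGroup (Fin 6))
    (L₀ : Subgroup G) (hL₀ : L₀ = Subgroup.closure {g : G | g ∈ Subgroup.normalizer (Z : Set G) ∧ ∃ k : ℕ, orderOf g = 3 ^ k})
    (Q : Subgroup G) (hQ : Q = (Cfsg.pCore 3 (Subgroup.normalizer (Z : Set G))).map (Subgroup.normalizer (Z : Set G)).subtype)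
    (hQex : Cfsg.IsExtraspecial 3 Q) (hQcard : Nat.card Q = 3 ^ 5) (hQexp : ∀ a ∈ Q, a ^ 3 = 1)
    (hQL : Q ≤ L₀) [hQn : (Q.subgroupOf L₀).Normal] (eL : L₀ ⧸ Q.subgroupOf L₀ ≃* Matrix.SpecialLinearGroup (Fin 2) (ZMod 5))
    (hiii : Subgroup.centralizer (((Cfsg.pCore 3 (Subgroup.centralizer (Z : Set G))).map (Subgroup.centralizer (Z : Set G)).subtype : Subgroup G) : Set G)
        ≤ (Cfsg.pCore 3 (Subgroup.centralizer (Z : Set G))).map (Subgroup.centralizer (Z : Set G)).subtype) :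
    Nonempty (G ≃* Cfsg.Spor.McL) ∨ Nonempty (G ≃* MulAut Cfsg.Spor.McL) := by
  obtain ⟨⟨π, lam, h⟩, e⟩ := hyp_of S hZ hJS hJcomm hJexp hJcard hM₀ hJM eM hL₀ hQ hQex hQcard hQexp hQL eL
  rw [← pCoreOf_def, e] at hiii
  exact concl_iso (hM h hiii)

theorem s3367_of (hB : BaseThm.{u}) (hM : MainThm.{u}) {G : Type u} [Group G] [Finite G]
    (S : Sylow 3 G) (Z : Subgroup G) (hZ : Z = (S : Subgroup G) ⊓ Subgroup.centralizer ((S : Subgroup G) : Set G))
    (J : Subgroup G) (hJS : J ≤ S) (hJcomm : IsMulCommutative J) (hJexp : ∀ a ∈ J, a ^ 3 = 1) (hJcard : Nat.card J = 3 ^ 4)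
    (M₀ : Subgroup G) (hM₀ : M₀ = Subgroup.closure {g : G | g ∈ Subgroup.normalizer (J : Set G) ∧ ∃ k : ℕ, orderOf g = 3 ^ k})
    (hJM : J ≤ M₀) [hJn : (J.subgroupOf M₀).Normal] (eM : M₀ ⧸ J.subgroupOf M₀ ≃* alternatingGroup (Fin 6))
    (L₀ : Subgroup G) (hL₀ : L₀ = Subgroup.closure {g : G | g ∈ Subgroup.normalizer (Z : Set G) ∧ ∃ k : ℕ, orderOf g = 3 ^ k})
    (Q : Subgroup G) (hQ : Q = (Cfsg.pCore 3 (Subgroup.normalizer (Z : Set G))).map (Subgroup.normalizer (Z : Set G)).subtype)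
    (hQex : Cfsg.IsExtraspecial 3 Q) (hQcard : Nat.card Q = 3 ^ 5) (hQexp : ∀ a ∈ Q, a ^ 3 = 1)
    (hQL : Q ≤ L₀) [hQn : (Q.subgroupOf L₀).Normal] (eL : L₀ ⧸ Q.subgroupOf L₀ ≃* Matrix.SpecialLinearGroup (Fin 2) (ZMod 5))
    (hiii : ∀ x ∈ J, x ≠ 1 →
      Subgroup.centralizer (((Cfsg.pCore 3 (Subgroup.centralizer ({x} : Set G))).map (Subgroup.centralizer ({x} : Set G)).subtype : Subgroup G) : Set G)
        ≤ (Cfsg.pCore 3 (Subgroup.centralizer ({x} : Set G))).map (Subgroup.centralizer ({x} : Set G)).subtype) :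
    Nonempty (G ≃* Cfsg.Spor.McL) ∨ Nonempty (G ≃* MulAut Cfsg.Spor.McL) := by
  obtain ⟨⟨π, lam, h⟩, e⟩ := hyp_of S hZ hJS hJcomm hJexp hJcard hM₀ hJM eM hL₀ hQ hQex hQcard hQexp hQL eL
  obtain ⟨ι, α, hb, hz⟩ := hB h
  have h1 := hiii (ι z0) (hb.memJ _) (mt hb.eq_one.1 (by decide))
  have h2 : centralizer ({ι z0} : Set G) = centralizer (Z : Set G) := by
    rw [hz, zpowers_eq_closure, centralizer_closure]
  rw [← pCoreOf_def, h2, e] at h1
  exact concl_iso (hM h h1)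

/-- A 3-element that normalizes a group of order three centralizes it. -/
theorem cent_of_thr [Finite G] {Z : Subgroup G} (hZ : Nat.card Z = 3) {g : G} (hg : g ∈ normalizer (Z : Set G))
    {k : ℕ} (h : g ^ 3 ^ k = 1) : g ∈ centralizer (Z : Set G) := by
  have : Fact (Nat.Prime 3) := ⟨Nat.prime_three⟩
  have : IsCyclic Z := isCyclic_of_prime_card hZ
  have h1 : Z.normalizerMonoidHom ⟨g, hg⟩ ^ 3 ^ k = 1 := by
    rw [← map_pow, show (⟨g, hg⟩ : normalizer (Z : Set G)) ^ 3 ^ k = 1 from Subtype.ext h, map_one]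
  have h2 : Z.normalizerMonoidHom ⟨g, hg⟩ ^ 2 = 1 := by
    have h3 := pow_card_eq_one' (x := Z.normalizerMonoidHom ⟨g, hg⟩)
    rwa [IsCyclic.card_mulAut, hZ, Nat.totient_prime Nat.prime_three] at h3
  have h3 : (⟨g, hg⟩ : normalizer (Z : Set G)) ∈ Z.normalizerMonoidHom.ker :=
    (pow_eq_one_iff_of_coprime (Nat.Coprime.pow_left k (by decide))).1 ⟨h1, h2⟩
  rwa [normalizerMonoidHom_ker] at h3

/-- If `F*(H)` is `SL(2, 5)`, it contains the 3-elements of `H`. -/
theorem thr_mem_fstar [Finite G] (e : generalizedFittingSubgroup G ≃* Matrix.SpecialLinearGroup (Fin 2) (ZMod 5))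
    {g : G} {k : ℕ} (h : g ^ 3 ^ k = 1) : g ∈ generalizedFittingSubgroup G := by
  let ψ := (generalizedFittingSubgroup G).subtype.comp e.symm.toMonoidHom
  have hr : ψ.range = generalizedFittingSubgroup G := by
    rw [MonoidHom.range_comp, MonoidHom.range_eq_top.2 e.symm.surjective, ← MonoidHom.range_eq_map, range_subtype]
  have hi : Function.Injective ψ := (subtype_injective _).comp e.symm.injective
  have : ψ.range.Normal := hr ▸ fstar_normal
  have h2 : Nat.card (center (Matrix.SpecialLinearGroup (Fin 2) (ZMod 5))) = 2 := by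
    rw [CL.SLn.card_center_SL]; rfl
  have hm : (-1 : Matrix.SpecialLinearGroup (Fin 2) (ZMod 5)) ∈ center _ := mem_center_iff.mpr fun g => by simp
  have hn : (-1 : Matrix.SpecialLinearGroup (Fin 2) (ZMod 5)) ≠ 1 := fun e => by
    simpa [e] using CL.Perm.sl25_orderOf_neg_one
  have hz : ψ (-1) ∈ center G := by
    refine mem_center_iff.2 fun x => mul_inv_eq_iff_eq_mul.1 ?_
    obtain ⟨s, hs⟩ := this.conj_mem _ ⟨-1, rfl⟩ x
    have h3 : s ∈ center _ := mem_center_iff.2 fun t => hi (by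
      obtain ⟨t', ht⟩ := this.conj_mem _ ⟨t, rfl⟩ x⁻¹
      have h4 := congrArg ψ (mem_center_iff.1 hm t')
      rw [map_mul, map_mul, ht] at h4
      rw [map_mul, map_mul, hs]
      calc _ = x * (x⁻¹ * ψ t * x⁻¹⁻¹ * ψ (-1)) * x⁻¹ := by group
        _ = _ := by rw [h4]; group)
    have h5 : s ≠ 1 := fun e => hn (hi (by
      rw [e, map_one, eq_comm, conj_eq_one_iff] at hs
      rw [hs, map_one]))
    obtain ⟨y, -, hy⟩ := (Nat.card_eq_two_iff' (1 : center (Matrix.SpecialLinearGroup (Fin 2) (ZMod 5)))).1 h2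
    have h6 := (hy ⟨s, h3⟩ fun e => h5 (congrArg Subtype.val e)).trans
      (hy ⟨-1, hm⟩ fun e => hn (congrArg Subtype.val e)).symm
    rw [← hs, show s = -1 from congrArg Subtype.val h6]
  obtain ⟨f, hk, hf⟩ := CL.Perm.exists_hom_perm_five ψ hi hz
  rw [hr] at hk hf
  have h7 : f g ∈ alternatingGroup (Fin 5) := by
    have h8 : Equiv.Perm.sign (f g) ^ 3 ^ k = 1 := by rw [← map_pow, ← map_pow, h, map_one, map_one]
    exact (pow_eq_one_iff_of_coprime (Nat.Coprime.pow_left k (by decide : Nat.Coprime 3 2))).1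
      ⟨h8, Int.units_sq _⟩
  obtain ⟨x, hx, e⟩ := hf.ge h7
  have h9 : g * x⁻¹ ∈ f.ker := by rw [MonoidHom.mem_ker, map_mul, map_inv, e, mul_inv_cancel]
  simpa using mul_mem (centralizer_fstar_le (hk.le h9)) hx

theorem s2913_of (hM : MainThm.{u}) {G : Type u} [Group G] [Finite G] (_hO : Cfsg.pPrimeCore 3 G = ⊥) (Z : Subgroup G) (hZ : Nat.card ↥Z = 3) (S : Sylow 3 ↥(Subgroup.centralizer (Z : Set G))) (J : Subgroup G) (hJS : J ≤ ((S : Subgroup ↥(Subgroup.centralizer (Z : Set G))).map (Subgroup.centralizer (Z : Set G)).subtype)) (hJ : Cfsg.IsElementaryAbelian 3 J) (hJcard : Nat.card ↥J = 3 ^ 4) (hQ : Cfsg.IsExtraspecial 3 ↥(Cfsg.generalizedFittingSubgroup ↥(Subgroup.centralizer (Z : Set G)))) (hQcard : Nat.card ↥(Cfsg.generalizedFittingSubgroup ↥(Subgroup.centralizer (Z : Set G))) = 3 ^ 5) [hQn : (Cfsg.generalizedFittingSubgroup ↥(Subgroup.centralizer (Z : Set G))).Normal] (hexp : ∀ x ∈ Cfsg.generalizedFittingSubgroup ↥(Subgroup.centralizer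 (Z : Set G)), x ^ 3 = 1) (hFMQ : Nonempty (↥(Cfsg.generalizedFittingSubgroup (↥(Subgroup.centralizer (Z : Set G)) ⧸ Cfsg.generalizedFittingSubgroup ↥(Subgroup.centralizer (Z : Set G)))) ≃* Matrix.SpecialLinearGroup (Fin 2) (ZMod 5))) (_hJF : ((Cfsg.generalizedFittingSubgroup ↥(Subgroup.normalizer (J : Set G))).map (Subgroup.normalizer (J : Set G)).subtype) = J) [hJn : (J.subgroupOf (Subgroup.normalizer (J : Set G))).Normal] (hA6 : Nonempty (↥(Subgroup.closure {x : ↥(Subgroup.normalizer (J : Set G)) ⧸ J.subgroupOf (Subgroup.normalizer (J : Set G)) | ∃ k : ℕ, orderOf x = 3 ^ k}) ≃* ↥(alternatingGroup (Fin 6)))) : Cfsg.Spor.IsoMcL ↥(Cfsg.generalizedFittingSubgroup G) := by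
  have : Fact (Nat.Prime 3) := ⟨Nat.prime_three⟩
  obtain ⟨eL⟩ := hFMQ
  obtain ⟨eM⟩ := hA6
  obtain ⟨lam, hl, hlk⟩ := exists_sec _ _ eL
  obtain ⟨π, hπ, hπk⟩ := exists_sec _ _ eM
  rw [map_subgroupOf_eq_of_le le_normalizer] at hπk
  have iQ := (generalizedFittingSubgroup (centralizer (Z : Set G))).equivMapOfInjective _
    (centralizer (Z : Set G)).subtype_injective
  have Qex : IsExtraspecial 3 (fstarOf (centralizer (Z : Set G))) := CL.PG.isExtraspecial_congr iQ hQ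
  have hS := isSylowIn_map_subtype S
  set S' := (S : Subgroup (centralizer (Z : Set G))).map (centralizer (Z : Set G)).subtype
  set Q := fstarOf (centralizer (Z : Set G)) with hQd
  have CN : centralizer (Z : Set G) ≤ normalizer (Z : Set G) := centralizer_le_normalizer _
  have nC : normalizer (Z : Set G) ≤ normalizer (centralizer (Z : Set G) : Set G) := le_normalizer_centralizer' le_rfl
  have nQ : normalizer (Z : Set G) ≤ normalizer (Q : Set G) := nC.trans (normalizer_le_normalizer_fstarOf _)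
  have QC : Q ≤ centralizer (Z : Set G) := fstarOf_le _
  have QS : Q ≤ S' := hS.le_of_normalized Qex.1.1 QC (CN.trans nQ)
  have cQ : centralizer (Z : Set G) ⊓ centralizer (Q : Set G) ≤ Q :=
    (inf_centralizer_fstarOf_le _).trans (by rw [hQd, fstarOf_eq]; exact le_sup_right)
  have ZC : Z ≤ centralizer (Z : Set G) := fun z hz =>
    cent_of_thr hZ (le_normalizer hz) (k := 1) (by
      have h1 := pow_card_eq_one' (x := (⟨z, hz⟩ : Z))
      rw [hZ] at h1
      exact congrArg Subtype.val h1)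
  have ZQ : Z ≤ Q := (le_inf ZC (le_centralizer_iff.1 QC)).trans cQ
  have cent : centralizer (Q : Set G) ≤ Q := (le_inf (centralizer_le ZQ) le_rfl).trans cQ
  have ZQ' : Z = Q ⊓ centralizer (Q : Set G) := by
    refine eq_of_le_of_card_ge (le_inf ZQ (le_centralizer_iff.1 QC)) (le_of_eq ?_)
    rw [hZ, ← Qex.2, ← inf_centralizer_subgroupOf, Nat.card_congr (subgroupOfEquivOfLe inf_le_left).toEquiv]
  have ZS : Z = S' ⊓ centralizer (S' : Set G) := by
    refine le_antisymm (le_inf (ZQ.trans QS) (le_centralizer_iff.1 hS.le)) ?_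
    have h1 : S' ⊓ centralizer (S' : Set G) ≤ centralizer (Q : Set G) := inf_le_right.trans (centralizer_le QS)
    exact ZQ' ▸ le_inf (h1.trans cent) h1
  have syl : IsSylowIn 3 S' ⊤ := by
    refine isSylowIn_of_maximal le_top hS.isPGroup fun U hU hSU _ => ?_
    by_contra hne
    have h1 := lt_inf_normalizer_of_isPGroup hU (lt_of_le_of_ne hSU (Ne.symm hne))
    refine h1.ne' (hS.eq_of_le hU.to_inf_left h1.le fun g hg => ?_)
    obtain ⟨k, hk⟩ := hU ⟨g, hg.1⟩
    refine cent_of_thr hZ ?_ (congrArg Subtype.val hk)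
    rw [ZS]
    exact inf_normalizer_le_normalizer_inf ⟨hg.2, le_normalizer_centralizer' le_rfl hg.2⟩
  have ch := Characteristic.comap_quotient_mk (H := generalizedFittingSubgroup (centralizer (Z : Set G)))
    (fstar_characteristic (G := centralizer (Z : Set G) ⧸ generalizedFittingSubgroup (centralizer (Z : Set G))))
  refine concl_fstar (hM (S := S') (Z := Z) (J := J) (Q := Q) (π := π) (lam := lam)
    ⟨syl, ZS, hJS, fun a ha b hb => congrArg Subtype.val (hJ.1.is_comm.comm ⟨a, ha⟩ ⟨b, hb⟩), hJ.2, hJcard,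
      fun j hj => ⟨⟨j, le_normalizer hj⟩, ?_, rfl⟩, map_subtype_le _, fun g hg k hk => ⟨⟨g, hg⟩, ?_, rfl⟩, hπ, hπk,
      map_mono fun a ha => ?_, (map_subtype_le _).trans CN, nC.trans (normalizer_le_normalizer_map_subtype _),
      fun g hg k hk => ⟨⟨g, cent_of_thr hZ hg hk⟩, thr_mem_fstar eL (k := k) ?_, rfl⟩, hl, hlk, Qex,
      (Nat.card_congr iQ.toEquiv).symm.trans hQcard, ?_, nQ⟩ cent)
  · rw [SetLike.mem_coe, mem_comap, QuotientGroup.mk'_apply, (QuotientGroup.eq_one_iff _).2 (mem_subgroupOf.2 hj)]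
    exact one_mem _
  · have h1 : QuotientGroup.mk' (J.subgroupOf (normalizer (J : Set G))) ⟨g, hg⟩ ^ 3 ^ k = 1 := by
      rw [← map_pow, show (⟨g, hg⟩ : normalizer (J : Set G)) ^ 3 ^ k = 1 from Subtype.ext hk, map_one]
    obtain ⟨j, -, hj⟩ := (Nat.dvd_prime_pow Nat.prime_three).1 (orderOf_dvd_of_pow_eq_one h1)
    exact subset_closure ⟨j, hj⟩
  · rw [mem_comap, QuotientGroup.mk'_apply, (QuotientGroup.eq_one_iff _).2 ha]
    exact one_mem _
  · rw [← map_pow, show (⟨g, cent_of_thr hZ hg hk⟩ : centralizer (Z : Set G)) ^ 3 ^ k = 1 from Subtype.ext hk, map_one]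
  · rintro _ ⟨a, ha, rfl⟩
    exact congrArg Subtype.val (hexp a ha)

end CL.McL3
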