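/-
3-local recognition of `PSp₄(3)`, `Aut(PSp₄(3))` and `Sp₆(2)`: the centraliser of `t` is `3`-constrained.
-/
import Cfsg.Agent.Rec.PrK

set_option autoImplicit false
set_option maxRecDepth 100000

namespace CL.Prince

open Subgroup Cfsg CL.TC CL.Amg CL.Rec CL.Grp CL.Perm CL.H43 Equiv
open scoped Pointwise

variable {G : Type*} [Group G] [Finite G]

namespace Rs

variable (Y : Rs G)

theorem kW (L : Y.Loc) (E : Y.Ec) : ∃ W : Subgroup G, W ≤ centralizer {Y.X.v 43} ∧ (Nat.card W).Coprime 3 ∧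
    centralizer {Y.X.v 43} ≤ normalizer (W : Set G) ∧
    centralizer {Y.X.v 43} ≤ W ⊔ centralizer {Y.X.v 43} ⊓ normalizer (Y.X.J : Set G) := by
  have hs : Y.s ∈ centralizer {Y.X.v 43} := mem_cent.2 Y.st
  have xV := Y.X.mem_V (m := 7) (by omega)
  have xK := Y.X.V_cent xV
  have x3 := Y.X.E_cube (a := 7) (by omega)
  have ox := Y.X.E_ord (a := 7) (by omega) (by omega)
  have e5 : Y.X.E 5 = (Y.X.E 7)⁻¹ := Y.X.E_neg (a := 7) (by omega)
  have e8 : Y.X.E 8 = (Y.X.E 4)⁻¹ := Y.X.E_neg (a := 4) (by omega)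
  have y3 := Y.X.E_cube (a := 4) (by omega)
  have yV := Y.X.mem_V (m := 4) (by omega)
  have sx : Y.s * Y.X.E 7 * Y.s⁻¹ = (Y.X.E 7)⁻¹ := (Y.as 7 (by omega)).trans e5
  have sb : Y.s * Y.X.E 3 * Y.s⁻¹ = Y.X.E 1 := Y.as 3 (by omega)
  have dy : Y.d * Y.X.E 4 * Y.d⁻¹ = (Y.X.E 4)⁻¹ := (Y.ad 4 (by omega)).trans e8
  have m2 : ∀ x : G, x ^ 3 = 1 → x⁻¹ * x⁻¹ = x := fun x h => by rw [← mul_one (x⁻¹ * x⁻¹), ← h]; group
  have nV : ∀ n, n ∈ normalizer (Y.X.V : Set G) → n ∈ normalizer (Y.X.J : Set G) := fun n hn =>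
    L.noc 1 (by omega) 3 (by omega) (by decide) n
      (Y.X.V_le ((mem_normalizer_iff''.1 hn _).1 (Y.X.mem_V (by omega))))
      (Y.X.V_le ((mem_normalizer_iff''.1 hn _).1 (Y.X.mem_V (by omega))))
  have c9 : ∀ u, IsConj (Y.X.v 43) u → u * u = 1 ∧ 9 ∣ Nat.card (centralizer ({u} : Set G)) := fun u hu => by
    refine ⟨?_, CL.Char.card_centralizer_eq_of_isConj hu ▸ Y.X.card_V ▸ card_dvd_of_le Y.X.V_cent⟩
    obtain ⟨g, rfl⟩ := isConj_iff.1 hu
    rw [conj_mul, Y.X.t_sq]; group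
  have cj : ∀ g u, IsConj (Y.X.v 43) u → IsConj (Y.X.v 43) (g * u * g⁻¹) := fun g u hu =>
    hu.trans (isConj_iff.2 ⟨g, rfl⟩)
  have ni : ∀ l ∈ [1, 3, 4], ∀ u ∈ centralizer {Y.X.v 43}, IsConj (Y.X.v 43) u → u * Y.X.E l * u⁻¹ ≠ (Y.X.E l)⁻¹ :=
    fun l hl u hu h e => by
      simp only [List.mem_cons, List.not_mem_nil, or_false] at hl
      rcases hl with rfl | rfl | rfl
      · exact L.ia u (c9 u h).1 (mem_cent.1 hu) e (c9 u h).2
      · refine L.ia _ (c9 _ (cj Y.s u h)).1 (mem_cent.1 (mul_mem (mul_mem hs hu) (inv_mem hs))) ?_ (c9 _ (cj Y.s u h)).2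
        rw [← sb, conj_inv, conj_inv, ← e]; group
      · have h1 := E.ie u (c9 u h).1 e (c9 u h).2
        have h2 : Y.d * (u * Y.d) * Y.d⁻¹ = (u * Y.d)⁻¹ := by
          obtain ⟨i, hi⟩ := mem_zpowers_iff.1 h1
          rw [← hi, ← conj_zpow, dy, inv_zpow]
        refine L.td (h.trans (isConj_iff.2 ⟨u * Y.d, ?_⟩))
        have h4 : u = u * Y.d * Y.d := by rw [mul_assoc, Y.d2, mul_one]
        generalize u * Y.d = z at *
        calc _ = z * (z * (Y.d * z * Y.d⁻¹)⁻¹) * Y.d := by rw [h4]; group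
          _ = z ^ 3 * Y.d := by rw [h2, inv_inv, pow_three', mul_assoc z z z]
          _ = _ := by rw [S9R.cube_zp y3 h1, one_mul]
  obtain ⟨N, NK, Nn, NV, Ni⟩ := bt L.syl (S0 := zpowers (Y.X.E 7)) (zpowers_le.2 xV) (by
      have h5 := ((zpowers (Y.X.E 7)).subgroupOf Y.X.V).card_mul_index
      rw [Nat.card_congr (subgroupOfEquivOfLe (zpowers_le.2 xV)).toEquiv, Nat.card_zpowers, ox, Y.X.card_V] at h5
      unfold relIndex; omega) fun y hy g hg e => by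
    obtain ⟨c, hc, e1, h⟩ := S9R.burn L.syl (fun a ha b hb => Y.X.J_comm (Y.X.V_le ha) (Y.X.V_le hb))
      (zpowers_le.2 xV hy) hg e
    obtain ⟨k, hk, h1⟩ := Y.codeT (nV _ h) (mul_mem hg hc)
    have h2 := (mem_normalizer_iff.1 ((mem_normalizer_zpowers_three ox).2 ((d_KT2 k hk).1.imp
      (fun e => by rw [h1 7 (by omega), e]) fun e => by rw [h1 7 (by omega), e, e5])) y).1 hy
    rwa [show g * c * y * (g * c)⁻¹ = g * (c * y * c⁻¹) * g⁻¹ by group, e1, mul_inv_cancel_right] at h2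
  have cN : ∀ u ∈ centralizer {Y.X.v 43}, IsConj (Y.X.v 43) u → u ∈ N := fun u hu h =>
    Ni u hu (c9 u h).1 fun g hg => by
      rintro _ ⟨m, hm, rfl⟩ y0 e
      rcases d_V4 m hm with h1 | ⟨l, hl, h1⟩
      · exact y0 ((Y.X.mem_zpowers (by omega) (by omega)).2 (h1.imp (congrArg _) (Or.imp (congrArg _) (congrArg _))))
      refine ni l hl _ (mul_mem (mul_mem hg hu) (inv_mem hg)) (cj g u h) ?_
      rcases h1 with rfl | rfl
      · exact e
      · rw [Y.X.E_neg (by revert hl; clear * -; decide +revert), ← conj_inv, inv_inj] at e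
        exact e
  have nN : ∀ g ∈ centralizer {Y.X.v 43}, ∀ w ∈ N, g * w * g⁻¹ ∈ N := fun g hg w hw =>
    (mem_normalizer_iff.1 (Nn hg) w).1 hw
  have tN := cN _ Y.X.t_mem (IsConj.refl _)
  have sN : Y.s ∈ N := cN _ hs (by
    obtain ⟨m, h1, h2⟩ := Y.real_σ (k := (18, 13, 2)) (by decide)
    exact isConj_iff.2 ⟨m, mul_inv_eq_iff_eq_mul.2 (Y.lift' (Commute.mul_right h2 Y.σt) (Commute.mul_right Y.σs h2)
      (h1.mul' Y.X.ac_t) (Y.as.mulc h1 _))⟩)
  have xN : Y.X.E 7 ∈ N := by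
    have := mul_mem sN (nN _ xK _ (inv_mem sN))
    rwa [← mul_assoc, ← mul_assoc, sx, m2 _ x3] at this
  have dag : ∀ n ∈ N, ∀ k ∈ KT, Y.X.Ac n k → lin k 4 = 4 := fun n hn k hk h =>
    (d_KT2 k hk).2.1.resolve_right fun e => by
      have := mul_mem hn (nN _ (Y.X.V_cent yV) _ (inv_mem hn))
      rw [← mul_assoc, ← mul_assoc, h 4 (by omega), e, e8, m2 _ y3] at this
      rcases (Y.X.mem_zpowers (by omega) (by omega)).1 (NV _ yV this) with e | e | e <;>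
        exact absurd (Y.X.E_inj (by omega) (by decide) e) (by decide)
  have nx : ∀ n ∈ normalizer (zpowers (Y.X.E 7) : Set G), n ∈ normalizer (Y.X.J : Set G) := fun n hn => by
    rcases (mem_normalizer_zpowers_three ox).1 hn with h | h
    · exact L.c2 7 (by decide) n (mul_inv_eq_iff_eq_mul.1 h)
    · refine (mul_mem_cancel_left Y.as.norm).1 (L.c2 7 (by decide) _ (mul_inv_eq_iff_eq_mul.1 ?_))
      rw [show Y.s * n * Y.X.E 7 * (Y.s * n)⁻¹ = Y.s * (n * Y.X.E 7 * n⁻¹) * Y.s⁻¹ by group, h, ← conj_inv, sx, inv_inv]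
  obtain ⟨W, WN, Wc, Wn, -, -, -, c7, -⟩ := Y.ka Y.st Y.as NK Nn xN tN (fun c hc e => by
    obtain ⟨k, hk, h⟩ := Y.codeT (L.c2 7 (by decide) c e) (NK hc)
    rcases (d_KT2 k hk).2.2.2 ((h.fix (by omega)).1 e) (dag c hc k hk h) with rfl | rfl
    · exact .inl (NV _ (Y.X.mem_V_of (Y.mem_J h) (NK hc)) hc)
    · exact .inr (NV _ (Y.X.mem_V_of (Y.mul_mem_J h Y.X.ac_t (by decide)) (NK (mul_mem hc tN))) (mul_mem hc tN)))
    fun m hm g e e' => by
      simp only [List.mem_cons, List.not_mem_nil, or_false] at hm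
      rcases hm with rfl | rfl
      · exact E.e36 g e e'
      · obtain ⟨k, hk, h⟩ := Y.codeT (L.c2 7 (by decide) g e') (mem_cent.2 e)
        have := Y.X.J_cube (Y.mul_mem_J h h (d_KT2 k hk).2.2.1)
        rw [← pow_two, ← pow_mul] at this
        rw [show 36 = 2 * 3 * 6 from rfl, pow_mul, this, one_pow]
  exact ⟨W, WN.trans NK, Wc, Wn, c7.trans (sup_le_sup_left (inf_le_inf_left _ nx) _)⟩

end Rs

end CL.Prince
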