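import Cfsg.Agent.Spor.TCSound
import Cfsg.Agent.Rec.TCF4CD0
import Cfsg.Agent.Rec.TCF4CD1

/-! coset enumeration certificate generated by tools/tc -/

set_option maxRecDepth 100000
set_option autoImplicit false
set_option linter.all false

namespace CL.TC.F4C

noncomputable def rows : Tr ℕ := (.node (nat_lit 4096) (.node (nat_lit 2048) (.node (nat_lit 1024) (.node (nat_lit 512) (.node (nat_lit 256) (.node (nat_lit 128) (.node (nat_lit 64) (.node (nat_lit 32) (.node (nat_lit 16) rows0 rows1) (.node (nat_lit 16) rows2 rows3)) (.node (nat_lit 32) (.node (nat_lit 16) rows4 rows5) (.node (nat_lit 16) rows6 rows7))) (.node (nat_lit 64) (.node (nat_lit 32) (.node (nat_lit 16) rows8 rows9) (.node (nat_lit 16) rows10 rows11)) (.node (nat_lit 32) (.node (nat_lit 16) rows12 rows13) (.node (nat_lit 16) rows14 rows15)))) (.node (nat_lit 128) (.node (nat_lit 64) (.node (nat_lit 32) (.node (nat_lit 16) rows16 rows17) (.node (nat_lit 16) rows18 rows19)) (.node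 (nat_lit 32) (.node (nat_lit 16) rows20 rows21) (.node (nat_lit 16) rows22 rows23))) (.node (nat_lit 64) (.node (nat_lit 32) (.node (nat_lit 16) rows24 rows25) (.node (nat_lit 16) rows26 rows27)) (.node (nat_lit 32) (.node (nat_lit 16) rows28 rows29) (.node (nat_lit 16) rows30 rows31))))) (.node (nat_lit 256) (.node (nat_lit 128) (.node (nat_lit 64) (.node (nat_lit 32) (.node (nat_lit 16) rows32 rows33) (.node (nat_lit 16) rows34 rows35)) (.node (nat_lit 32) (.node (nat_lit 16) rows36 rows37) (.node (nat_lit 16) rows38 rows39))) (.node (nat_lit 64) (.node (nat_lit 32) (.node (nat_lit 16) rows40 rows41) (.node (nat_lit 16) rows42 rows43)) (.node (nat_lit 32) (.node (nat_lit 16) rows44 rows45) (.node (nat_lit 16) rows46 rows47)))) (.node (nat_lit 128) (.node (nat_lit 64) (.node (nat_lit 32) (.node (nat_lit 16) rows48 rows49) (.node (nat_lit 16) rows50 rows51)) (.node (nat_lit 32) (.node (nat_lit 16) rows52 rows53) (.node (nat_lit 16) rows54 rows55)))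 (.node (nat_lit 64) (.node (nat_lit 32) (.node (nat_lit 16) rows56 rows57) (.node (nat_lit 16) rows58 rows59)) (.node (nat_lit 32) (.node (nat_lit 16) rows60 rows61) (.node (nat_lit 16) rows62 rows63)))))) (.node (nat_lit 512) (.node (nat_lit 256) (.node (nat_lit 128) (.node (nat_lit 64) (.node (nat_lit 32) (.node (nat_lit 16) rows64 rows65) (.node (nat_lit 16) rows66 rows67)) (.node (nat_lit 32) (.node (nat_lit 16) rows68 rows69) (.node (nat_lit 16) rows70 rows71))) (.node (nat_lit 64) (.node (nat_lit 32) (.node (nat_lit 16) rows72 rows73) (.node (nat_lit 16) rows74 rows75)) (.node (nat_lit 32) (.node (nat_lit 16) rows76 rows77) (.node (nat_lit 16) rows78 rows79)))) (.node (nat_lit 128) (.node (nat_lit 64) (.node (nat_lit 32) (.node (nat_lit 16) rows80 rows81) (.node (nat_lit 16) rows82 rows83)) (.node (nat_lit 32) (.node (nat_lit 16) rows84 rows85) (.node (nat_lit 16) rows86 rows87))) (.node (nat_lit 64) (.node (nat_lit 32) (.node (nat_lit 16)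 rows88 rows89) (.node (nat_lit 16) rows90 rows91)) (.node (nat_lit 32) (.node (nat_lit 16) rows92 rows93) (.node (nat_lit 16) rows94 rows95))))) (.node (nat_lit 256) (.node (nat_lit 128) (.node (nat_lit 64) (.node (nat_lit 32) (.node (nat_lit 16) rows96 rows97) (.node (nat_lit 16) rows98 rows99)) (.node (nat_lit 32) (.node (nat_lit 16) rows100 rows101) (.node (nat_lit 16) rows102 rows103))) (.node (nat_lit 64) (.node (nat_lit 32) (.node (nat_lit 16) rows104 rows105) (.node (nat_lit 16) rows106 rows107)) (.node (nat_lit 32) (.node (nat_lit 16) rows108 rows109) (.node (nat_lit 16) rows110 rows111)))) (.node (nat_lit 128) (.node (nat_lit 64) (.node (nat_lit 32) (.node (nat_lit 16) rows112 rows113) (.node (nat_lit 16) rows114 rows115)) (.node (nat_lit 32) (.node (nat_lit 16) rows116 rows117) (.node (nat_lit 16) rows118 rows119))) (.node (nat_lit 64) (.node (nat_lit 32) (.node (nat_lit 16) rows120 rows121) (.node (nat_lit 16) rows122 rows123)) (.node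 (nat_lit 32) (.node (nat_lit 16) rows124 rows125) (.node (nat_lit 16) rows126 rows127))))))) (.node (nat_lit 1024) (.node (nat_lit 512) (.node (nat_lit 256) (.node (nat_lit 128) (.node (nat_lit 64) (.node (nat_lit 32) (.node (nat_lit 16) rows128 rows129) (.node (nat_lit 16) rows130 rows131)) (.node (nat_lit 32) (.node (nat_lit 16) rows132 rows133) (.node (nat_lit 16) rows134 rows135))) (.node (nat_lit 64) (.node (nat_lit 32) (.node (nat_lit 16) rows136 rows137) (.node (nat_lit 16) rows138 rows139)) (.node (nat_lit 32) (.node (nat_lit 16) rows140 rows141) (.node (nat_lit 16) rows142 rows143)))) (.node (nat_lit 128) (.node (nat_lit 64) (.node (nat_lit 32) (.node (nat_lit 16) rows144 rows145) (.node (nat_lit 16) rows146 rows147)) (.node (nat_lit 32) (.node (nat_lit 16) rows148 rows149) (.node (nat_lit 16) rows150 rows151))) (.node (nat_lit 64) (.node (nat_lit 32) (.node (nat_lit 16) rows152 rows153) (.node (nat_lit 16) rows154 rows155)) (.node (nat_lit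 32) (.node (nat_lit 16) rows156 rows157) (.node (nat_lit 16) rows158 rows159))))) (.node (nat_lit 256) (.node (nat_lit 128) (.node (nat_lit 64) (.node (nat_lit 32) (.node (nat_lit 16) rows160 rows161) (.node (nat_lit 16) rows162 rows163)) (.node (nat_lit 32) (.node (nat_lit 16) rows164 rows165) (.node (nat_lit 16) rows166 rows167))) (.node (nat_lit 64) (.node (nat_lit 32) (.node (nat_lit 16) rows168 rows169) (.node (nat_lit 16) rows170 rows171)) (.node (nat_lit 32) (.node (nat_lit 16) rows172 rows173) (.node (nat_lit 16) rows174 rows175)))) (.node (nat_lit 128) (.node (nat_lit 64) (.node (nat_lit 32) (.node (nat_lit 16) rows176 rows177) (.node (nat_lit 16) rows178 rows179)) (.node (nat_lit 32) (.node (nat_lit 16) rows180 rows181) (.node (nat_lit 16) rows182 rows183))) (.node (nat_lit 64) (.node (nat_lit 32) (.node (nat_lit 16) rows184 rows185) (.node (nat_lit 16) rows186 rows187)) (.node (nat_lit 32) (.node (nat_lit 16) rows188 rows189) (.node (nat_lit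 16) rows190 rows191)))))) (.node (nat_lit 512) (.node (nat_lit 256) (.node (nat_lit 128) (.node (nat_lit 64) (.node (nat_lit 32) (.node (nat_lit 16) rows192 rows193) (.node (nat_lit 16) rows194 rows195)) (.node (nat_lit 32) (.node (nat_lit 16) rows196 rows197) (.node (nat_lit 16) rows198 rows199))) (.node (nat_lit 64) (.node (nat_lit 32) (.node (nat_lit 16) rows200 rows201) (.node (nat_lit 16) rows202 rows203)) (.node (nat_lit 32) (.node (nat_lit 16) rows204 rows205) (.node (nat_lit 16) rows206 rows207)))) (.node (nat_lit 128) (.node (nat_lit 64) (.node (nat_lit 32) (.node (nat_lit 16) rows208 rows209) (.node (nat_lit 16) rows210 rows211)) (.node (nat_lit 32) (.node (nat_lit 16) rows212 rows213) (.node (nat_lit 16) rows214 rows215))) (.node (nat_lit 64) (.node (nat_lit 32) (.node (nat_lit 16) rows216 rows217) (.node (nat_lit 16) rows218 rows219)) (.node (nat_lit 32) (.node (nat_lit 16) rows220 rows221) (.node (nat_lit 16) rows222 rows223))))) (.node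 (nat_lit 256) (.node (nat_lit 128) (.node (nat_lit 64) (.node (nat_lit 32) (.node (nat_lit 16) rows224 rows225) (.node (nat_lit 16) rows226 rows227)) (.node (nat_lit 32) (.node (nat_lit 16) rows228 rows229) (.node (nat_lit 16) rows230 rows231))) (.node (nat_lit 64) (.node (nat_lit 32) (.node (nat_lit 16) rows232 rows233) (.node (nat_lit 16) rows234 rows235)) (.node (nat_lit 32) (.node (nat_lit 16) rows236 rows237) (.node (nat_lit 16) rows238 rows239)))) (.node (nat_lit 128) (.node (nat_lit 64) (.node (nat_lit 32) (.node (nat_lit 16) rows240 rows241) (.node (nat_lit 16) rows242 rows243)) (.node (nat_lit 32) (.node (nat_lit 16) rows244 rows245) (.node (nat_lit 16) rows246 rows247))) (.node (nat_lit 64) (.node (nat_lit 32) (.node (nat_lit 16) rows248 rows249) (.node (nat_lit 16) rows250 rows251)) (.node (nat_lit 32) (.node (nat_lit 16) rows252 rows253) (.node (nat_lit 16) rows254 rows255)))))))) (.node (nat_lit 256) (.node (nat_lit 128) (.node (nat_lit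 64) (.node (nat_lit 32) (.node (nat_lit 16) rows256 rows257) (.node (nat_lit 16) rows258 rows259)) (.node (nat_lit 32) (.node (nat_lit 16) rows260 rows261) (.node (nat_lit 16) rows262 rows263))) (.node (nat_lit 64) (.node (nat_lit 32) (.node (nat_lit 16) rows264 rows265) (.node (nat_lit 16) rows266 rows267)) (.node (nat_lit 32) (.node (nat_lit 16) rows268 rows269) (.node (nat_lit 16) rows270 rows271)))) rows272))
noncomputable def recs : Tr ℕ := (.node (nat_lit 512) (.node (nat_lit 256) (.node (nat_lit 128) (.node (nat_lit 64) (.node (nat_lit 32) (.node (nat_lit 16) recs0 recs1) (.node (nat_lit 16) recs2 recs3)) (.node (nat_lit 32) (.node (nat_lit 16) recs4 recs5) (.node (nat_lit 16) recs6 recs7))) (.node (nat_lit 64) (.node (nat_lit 32) (.node (nat_lit 16) recs8 recs9) (.node (nat_lit 16) recs10 recs11)) (.node (nat_lit 32) (.node (nat_lit 16) recs12 recs13) (.node (nat_lit 16) recs14 recs15)))) (.node (nat_lit 128) (.node (nat_lit 64) (.node (nat_lit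 32) (.node (nat_lit 16) recs16 recs17) (.node (nat_lit 16) recs18 recs19)) (.node (nat_lit 32) (.node (nat_lit 16) recs20 recs21) (.node (nat_lit 16) recs22 recs23))) (.node (nat_lit 64) (.node (nat_lit 32) (.node (nat_lit 16) recs24 recs25) (.node (nat_lit 16) recs26 recs27)) (.node (nat_lit 32) (.node (nat_lit 16) recs28 recs29) (.node (nat_lit 16) recs30 recs31))))) (.node (nat_lit 128) (.node (nat_lit 64) (.node (nat_lit 32) (.node (nat_lit 16) recs32 recs33) (.node (nat_lit 16) recs34 recs35)) (.node (nat_lit 32) (.node (nat_lit 16) recs36 recs37) (.node (nat_lit 16) recs38 recs39))) (.node (nat_lit 64) (.node (nat_lit 32) (.node (nat_lit 16) recs40 recs41) (.node (nat_lit 16) recs42 recs43)) (.node (nat_lit 32) (.node (nat_lit 16) recs44 recs45) (.node (nat_lit 16) recs46 recs47)))))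
noncomputable def ci0 : CI := ⟨[], (nat_lit 0), false, (.node (nat_lit 1) (.leaf Rule.defn) (.leaf Rule.copy)), (.node (nat_lit 512) (.node (nat_lit 256) (.node (nat_lit 128) (.node (nat_lit 64) (.node (nat_lit 32) (.node (nat_lit 16) (.node (nat_lit 8) (.node (nat_lit 4) (.node (nat_lit 2) (.node (nat_lit 1) (.leaf (XRule.rot (nat_lit 0) [] 434 0)) (.leaf (XRule.rot (nat_lit 507345618518390704138) [10, 354, 440, 10, 440, 53, 440] 36 0))) (.node (nat_lit 1) (.leaf (XRule.rot (nat_lit 826377295717766035739755835570063817233536233543774459190841) [569, 311, 354, 311, 354, 397, 268, 397, 612, 526, 569, 397, 311, 354, 397, 268, 311, 354, 612, 526] 426 1)) (.leaf (XRule.rot (nat_lit 350638805720640952) [440, 139, 311, 139, 440, 311] 225 4)))) (.node (nat_lit 2) (.node (nat_lit 1) (.leaf (XRule.rot (nat_lit 98443) [139, 96] 434 0)) (.leaf (XRule.rot (nat_lit 451000) [440, 440] 434 0))) (.node (nat_lit 1) (.leaf (XRule.rot (nat_lit 627257) [569, 612] 434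 0)) (.leaf (XRule.rot (nat_lit 274700) [268, 268] 434 0))))) (.node (nat_lit 4) (.node (nat_lit 2) (.node (nat_lit 1) (.leaf (XRule.rot (nat_lit 583268) [612, 569] 434 0)) (.leaf (XRule.rot (nat_lit 142432) [96, 139] 434 0))) (.node (nat_lit 1) (.leaf (XRule.rot (nat_lit 113348481362427981692981) [53, 96, 10, 139, 53, 139, 10, 96] 40 2)) (.leaf (XRule.rot (nat_lit 113844237845758205897996) [268, 139, 440, 96, 268, 139, 440, 96] 44 1)))) (.node (nat_lit 2) (.node (nat_lit 1) (.leaf (XRule.rot (nat_lit 406925) [397, 397] 434 0)) (.leaf (XRule.rot (nat_lit 519620871052002067755104) [96, 268, 139, 440, 96, 268, 139, 440] 44 0))) (.node (nat_lit 1) (.leaf (XRule.rot (nat_lit 318775) [311, 311] 434 0)) (.leaf (XRule.rot (nat_lit 565205023117) [397, 526, 397, 526] 408 1)))))) (.node (nat_lit 8) (.node (nat_lit 4) (.node (nat_lit 2) (.node (nat_lit 1) (.leaf (XRule.rot (nat_lit 983994079227377841072730678567097130952646552134010740278755968563407041809150160684972081248)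 [96, 96, 10, 139, 10, 96, 53, 139, 53, 483, 96, 96, 10, 139, 10, 96, 53, 139, 53, 483, 354, 96, 96, 10, 139, 10, 96, 53, 139, 53, 483] 99 20)) (.leaf (XRule.rot (nat_lit 316509536569166545563701) [53, 268, 139, 268, 10, 268, 96, 268] 42 4))) (.node (nat_lit 1) (.leaf (XRule.rot (nat_lit 61406592202447005964) [268, 10, 354, 268, 10, 268, 53] 34 6)) (.leaf (XRule.rot (nat_lit 10293) [53, 10] 434 0)))) (.node (nat_lit 2) (.node (nat_lit 1) (.leaf (XRule.rot (nat_lit 54282) [10, 53] 434 0)) (.leaf (XRule.rot (nat_lit 507684042061653663754) [10, 440, 53, 440, 10, 354, 440] 36 3))) (.node (nat_lit 1) (.leaf (XRule.rot (nat_lit 74470186456762791837541159981401900354734606) [526, 354, 268, 397, 311, 397, 10, 440, 10, 440, 483, 440, 53, 440, 53] 391 1)) (.leaf (XRule.rot (nat_lit 362850) [354, 354] 434 0))))) (.node (nat_lit 4) (.node (nat_lit 2) (.node (nat_lit 1) (.leaf (XRule.rot (nat_lit 131253916743570062957060753669407866192140) [268, 96, 440, 268,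 483, 268, 440, 139, 268, 139, 440, 483, 440, 96] 102 10)) (.leaf (XRule.rot (nat_lit 230582) [182, 225] 434 0))) (.node (nat_lit 1) (.leaf (XRule.rot (nat_lit 671418) [698, 655] 434 0)) (.leaf (XRule.rot (nat_lit 715407) [655, 698] 434 0)))) (.node (nat_lit 2) (.node (nat_lit 1) (.leaf (XRule.rot (nat_lit 140280966843850831168981365159315959362257576785496956061144686603549946635049301996658343718731421778189253098003920826935779) [483, 10, 311, 397, 268, 354, 10, 96, 10, 139, 53, 96, 53, 53, 483, 10, 311, 397, 268, 354, 10, 96, 10, 139, 53, 96, 53, 53, 483, 10, 311, 397, 268, 354, 10, 96, 10, 139, 53, 96, 53, 53] 96 0)) (.leaf (XRule.rot (nat_lit 1072270859530831373586330704811570056264587521476533402542620499383856080479327106599811690041) [569, 139, 569, 96, 612, 139, 612, 96, 96, 526, 569, 139, 569, 96, 612, 139, 612, 96, 96, 526, 569, 139, 569, 96, 612, 139, 612, 96, 96, 397, 526] 430 1))) (.node (nat_lit 1) (.leaf (XRule.rot (nat_lit 539150)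 [526, 526] 434 0)) (.leaf (XRule.rot (nat_lit 398911080298241550) [526, 311, 354, 526, 311, 354] 406 2))))))) (.node (nat_lit 16) (.node (nat_lit 8) (.node (nat_lit 4) (.node (nat_lit 2) (.node (nat_lit 1) (.leaf (XRule.rot (nat_lit 826377360070728873878588652426491323208053114996560383850041) [569, 397, 268, 397, 354, 311, 354, 311, 612, 526, 569, 354, 311, 268, 397, 354, 311, 397, 612, 526] 427 10)) (.leaf (XRule.rot (nat_lit 332248292367453761798416948750) [526, 311, 354, 397, 268, 526, 311, 354, 397, 268] 404 4))) (.node (nat_lit 1) (.leaf (XRule.rot (nat_lit 108333792101542965) [53, 139, 182, 10, 225, 96] 51 1)) (.leaf (XRule.rot (nat_lit 108570787233501624) [440, 612, 96, 569, 440, 96] 198 3)))) (.node (nat_lit 2) (.node (nat_lit 1) (.leaf (XRule.rot (nat_lit 458108890107793956108) [268, 311, 440, 397, 440, 354, 397] 38 2)) (.leaf (XRule.rot (nat_lit 689434637534507181768473962369627633678821764106) [10, 139, 10, 96, 53, 139, 53, 483, 10,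 96, 10, 139, 53, 96, 53, 483] 92 9))) (.node (nat_lit 1) (.leaf (XRule.rot (nat_lit 186593) [225, 182] 434 0)) (.leaf (XRule.rot (nat_lit 733619194982087349072745623002675040733290506) [10, 440, 10, 440, 483, 440, 53, 440, 53, 397, 311, 397, 268, 354, 526] 390 1))))) (.node (nat_lit 4) (.node (nat_lit 2) (.node (nat_lit 1) (.leaf (XRule.rot (nat_lit 495833076367504953) [569, 397, 268, 569, 397, 440] 186 0)) (.leaf (XRule.rot (nat_lit 288179368333) [397, 268, 397, 268] 24 0))) (.node (nat_lit 1) (.leaf (XRule.rot (nat_lit 359054420870674396428) [268, 397, 354, 440, 397, 440, 311] 39 3)) (.leaf (XRule.rot (nat_lit 494120012637795853332837034933714489747846412) [268, 397, 311, 397, 10, 440, 10, 440, 483, 440, 53, 440, 53, 526, 354] 391 14)))) (.node (nat_lit 2) (.node (nat_lit 1) (.leaf (XRule.rot (nat_lit 826377360007945615249479130264597626720250520878456314934841) [569, 397, 311, 354, 397, 268, 311, 354, 612, 526, 569, 311, 354, 311, 354, 397, 268,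 397, 612, 526] 426 11)) (.leaf (XRule.rot (nat_lit 682854394516993856910136260824236042) [10, 96, 10, 139, 10, 526, 53, 96, 53, 139, 53, 526] 394 1))) (.node (nat_lit 1) (.leaf (XRule.rot (nat_lit 164411326813280510509496) [440, 96, 268, 139, 440, 96, 268, 139] 44 3)) (.leaf (XRule.rot (nat_lit 689534631645078624) [96, 569, 440, 96, 440, 612] 198 5)))))) (.node (nat_lit 8) (.node (nat_lit 4) (.node (nat_lit 2) (.node (nat_lit 1) (.leaf (XRule.rot (nat_lit 408581489897352082872) [440, 397, 440, 311, 268, 397, 354] 39 0)) (.leaf (XRule.rot (nat_lit 157173460759929401) [569, 440, 139, 440, 612, 139] 199 5))) (.node (nat_lit 1) (.leaf (XRule.rot (nat_lit 365367682612365736255709040613076972614115) [483, 268, 440, 139, 268, 139, 440, 483, 440, 96, 268, 96, 440, 268] 102 0)) (.leaf (XRule.rot (nat_lit 458205575524224698808) [440, 354, 397, 268, 311, 440, 397] 38 6)))) (.node (nat_lit 2) (.node (nat_lit 1) (.leaf (XRule.rot (nat_lit 308994517282935025717)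 [53, 268, 10, 354, 268, 10, 268] 34 5)) (.leaf (XRule.rot (nat_lit 309042930609832691722) [10, 354, 268, 10, 268, 53, 268] 34 0))) (.node (nat_lit 1) (.leaf (XRule.rot (nat_lit 164411278210422345312524) [268, 10, 268, 96, 268, 53, 268, 139] 42 7)) (.leaf (XRule.rot (nat_lit 62880447242328625786124) [268, 139, 268, 10, 268, 96, 268, 53] 42 5))))) (.node (nat_lit 4) (.node (nat_lit 2) (.node (nat_lit 1) (.leaf (XRule.rot (nat_lit 657496497705064454107756581698116804467722) [10, 311, 397, 268, 354, 53, 483, 10, 354, 268, 311, 397, 53, 483] 94 1)) (.leaf (XRule.rot (nat_lit 447324730166664675) [483, 311, 397, 483, 311, 397] 72 2))) (.node (nat_lit 1) (.leaf (XRule.rot (nat_lit 495075) [483, 483] 434 0)) (.leaf (XRule.rot (nat_lit 316459961039026315866251) [139, 268, 10, 268, 96, 268, 53, 268] 42 6)))) (.node (nat_lit 2) (.node (nat_lit 1) (.leaf (XRule.rot (nat_lit 253480552893700235) [139, 182, 139, 225, 139, 225] 53 1)) (.leaf (XRule.rot (nat_lit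 205255834431970400) [96, 311, 182, 96, 311, 182] 54 0))) (.node (nat_lit 1) (.leaf (XRule.rot (nat_lit 13156958075238476907685613834130958) [526, 53, 96, 53, 139, 53, 526, 10, 96, 10, 139, 10] 394 6)) (.leaf (XRule.rot (nat_lit 69464730138759513131961562132698208) [96, 53, 139, 53, 526, 10, 96, 10, 139, 10, 526, 53] 394 8)))))))) (.node (nat_lit 32) (.node (nat_lit 16) (.node (nat_lit 8) (.node (nat_lit 4) (.node (nat_lit 2) (.node (nat_lit 1) (.leaf (XRule.rot (nat_lit 565159934306) [354, 526, 354, 526] 392 1)) (.leaf (XRule.rot (nat_lit 519670640426042229448929) [225, 440, 225, 440, 182, 440, 182, 440] 58 4))) (.node (nat_lit 1) (.leaf (XRule.rot (nat_lit 651480921887125116161195608375) [311, 354, 397, 268, 526, 311, 354, 397, 268, 526] 404 0)) (.leaf (XRule.rot (nat_lit 592612912601073975) [311, 354, 526, 311, 354, 526] 406 0)))) (.node (nat_lit 2) (.node (nat_lit 1) (.leaf (XRule.rot (nat_lit 426421662816) [96, 397, 139, 397] 12 0)) (.leaf (XRule.rot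 (nat_lit 496021731019251851) [139, 440, 612, 139, 569, 440] 199 3))) (.node (nat_lit 1) (.leaf (XRule.rot (nat_lit 689061980292700213) [53, 182, 569, 225, 10, 612] 311 1)) (.leaf (XRule.rot (nat_lit 113645790105923835974924) [268, 53, 268, 139, 268, 10, 268, 96] 42 3))))) (.node (nat_lit 4) (.node (nat_lit 2) (.node (nat_lit 1) (.leaf (XRule.rot (nat_lit 641357330830732986) [698, 139, 612, 96, 655, 569] 341 3)) (.leaf (XRule.rot (nat_lit 358957262156273649803) [139, 354, 311, 96, 96, 354, 311] 413 5))) (.node (nat_lit 1) (.leaf (XRule.rot (nat_lit 408629667336408195125) [53, 440, 10, 440, 53, 440, 354] 37 1)) (.leaf (XRule.rot (nat_lit 456821440173274189812583924703168561395224276180787780117296524623342704259256854181627215636930177745275669745016038164920448790467379755227814392070713) [569, 96, 612, 139, 612, 612, 526, 569, 311, 354, 311, 354, 397, 268, 397, 569, 139, 569, 96, 612, 139, 612, 612, 526, 569, 311, 354, 311, 354, 397, 268, 397, 569,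 139, 569, 96, 612, 139, 612, 612, 526, 569, 311, 354, 311, 354, 397, 268, 397, 569, 139] 428 11)))) (.node (nat_lit 2) (.node (nat_lit 1) (.leaf (XRule.rot (nat_lit 108712163155743375) [655, 612, 698, 139, 569, 96] 340 2)) (.leaf (XRule.rot (nat_lit 156984483272823224) [440, 612, 139, 569, 440, 139] 199 2))) (.node (nat_lit 1) (.leaf (XRule.rot (nat_lit 786031716710672523) [139, 698, 139, 698, 139, 698] 367 1)) (.leaf (XRule.rot (nat_lit 640743257701188024) [440, 96, 440, 612, 96, 569] 198 1)))))) (.node (nat_lit 8) (.node (nat_lit 4) (.node (nat_lit 2) (.node (nat_lit 1) (.leaf (XRule.rot (nat_lit 350875385224379488) [96, 655, 139, 311, 655, 311] 370 0)) (.leaf (XRule.rot (nat_lit 447655636996035000) [440, 612, 397, 440, 612, 397] 203 2))) (.node (nat_lit 1) (.leaf (XRule.rot (nat_lit 108759442155693711) [655, 569, 698, 139, 612, 96] 341 5)) (.leaf (XRule.rot (nat_lit 737806537035186487) [311, 96, 655, 139, 311, 655] 370 5)))) (.node (nat_lit 2)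 (.node (nat_lit 1) (.leaf (XRule.rot (nat_lit 108570510568292663) [311, 96, 440, 311, 440, 96] 224 1)) (.leaf (XRule.rot (nat_lit 334215044364) [268, 311, 268, 311] 28 0))) (.node (nat_lit 1) (.leaf (XRule.rot (nat_lit 408630045568723595661) [397, 268, 311, 440, 397, 440, 354] 38 1)) (.leaf (XRule.rot (nat_lit 157268157813326436) [612, 96, 655, 569, 698, 139] 341 1))))) (.node (nat_lit 4) (.node (nat_lit 2) (.node (nat_lit 1) (.leaf (XRule.rot (nat_lit 334079777931) [139, 311, 139, 311] 15 1)) (.leaf (XRule.rot (nat_lit 495501985170162276) [612, 96, 569, 440, 96, 440] 198 4))) (.node (nat_lit 1) (.leaf (XRule.rot (nat_lit 495691101170492004) [612, 440, 569, 440, 268, 440] 204 4)) (.leaf (XRule.rot (nat_lit 350922664224417888) [96, 698, 139, 311, 698, 311] 371 3)))) (.node (nat_lit 2) (.node (nat_lit 1) (.leaf (XRule.rot (nat_lit 640790583007963232) [96, 698, 569, 655, 139, 569] 342 1)) (.leaf (XRule.rot (nat_lit 578769943980730) [698, 698, 526,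 397, 526] 419 2))) (.node (nat_lit 1) (.leaf (XRule.rot (nat_lit 302367131545735479) [311, 612, 440, 311, 569, 268] 194 2)) (.leaf (XRule.rot (nat_lit 11966232121852481819744) [96, 53, 96, 10, 139, 53, 139, 10] 40 1))))))) (.node (nat_lit 16) (.node (nat_lit 8) (.node (nat_lit 4) (.node (nat_lit 2) (.node (nat_lit 1) (.leaf (XRule.rot (nat_lit 496022007864243812) [612, 397, 440, 397, 569, 440] 196 2)) (.leaf (XRule.rot (nat_lit 689204325173050464) [96, 655, 569, 698, 139, 612] 341 0))) (.node (nat_lit 1) (.leaf (XRule.rot (nat_lit 495833122718934413) [397, 569, 440, 612, 397, 440] 196 5)) (.leaf (XRule.rot (nat_lit 105656521731383) [311, 139, 311, 96, 96] 140 2)))) (.node (nat_lit 2) (.node (nat_lit 1) (.leaf (XRule.rot (nat_lit 751585421349276278561117004689658164287359823417) [569, 139, 569, 96, 612, 139, 612, 526, 569, 96, 569, 139, 612, 96, 612, 526] 424 1)) (.leaf (XRule.rot (nat_lit 751585479877787571824534892682306877886792041017) [569, 96,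 569, 139, 612, 96, 612, 526, 569, 139, 569, 96, 612, 139, 612, 526] 424 9))) (.node (nat_lit 1) (.leaf (XRule.rot (nat_lit 812837907287727574937947057441654976902844703883) [139, 569, 96, 612, 139, 612, 526, 569, 96, 569, 139, 612, 96, 612, 526, 569] 424 2)) (.leaf (XRule.rot (nat_lit 613928503366340056292778672757598961771405365) [53, 440, 53, 397, 311, 397, 268, 354, 526, 10, 440, 10, 440, 483, 440] 390 7))))) (.node (nat_lit 4) (.node (nat_lit 2) (.node (nat_lit 1) (.leaf (XRule.rot (nat_lit 565520644751) [655, 526, 698, 526] 400 0)) (.leaf (XRule.rot (nat_lit 496069332854825529) [569, 440, 268, 440, 612, 440] 204 0))) (.node (nat_lit 1) (.leaf (XRule.rot (nat_lit 11554094741247373) [397, 53, 268, 397, 268, 10] 164 1)) (.leaf (XRule.rot (nat_lit 316509730365787477565579) [139, 440, 96, 268, 139, 440, 96, 268] 44 2)))) (.node (nat_lit 2) (.node (nat_lit 1) (.leaf (XRule.rot (nat_lit 157220370573311287) [311, 655, 311, 96, 655, 139] 370 3)) (.leaf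 (XRule.rot (nat_lit 350875154550242400) [96, 655, 311, 96, 655, 311] 372 0))) (.node (nat_lit 1) (.leaf (XRule.rot (nat_lit 495549264170200676) [612, 139, 569, 440, 139, 440] 199 1)) (.leaf (XRule.rot (nat_lit 493769298322548013833098024304799973564754446) [526, 10, 440, 10, 440, 483, 440, 53, 440, 53, 397, 311, 397, 268, 354] 390 0)))))) (.node (nat_lit 8) (.node (nat_lit 4) (.node (nat_lit 2) (.node (nat_lit 1) (.leaf (XRule.rot (nat_lit 689534677815977099) [139, 569, 440, 139, 440, 612] 199 0)) (.leaf (XRule.rot (nat_lit 164163496630649636356106) [10, 96, 53, 96, 10, 139, 53, 139] 40 0))) (.node (nat_lit 1) (.leaf (XRule.rot (nat_lit 599539554232005618815902121583485944868960) [96, 268, 96, 440, 268, 483, 268, 440, 139, 268, 139, 440, 483, 440] 102 9)) (.leaf (XRule.rot (nat_lit 599082076532903772446988391925705544753635) [483, 440, 96, 268, 96, 440, 268, 483, 268, 440, 139, 268, 139, 440] 102 7)))) (.node (nat_lit 2) (.node (nat_lit 1) (.leaf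 (XRule.rot (nat_lit 334034689120) [96, 311, 96, 311] 14 0)) (.leaf (XRule.rot (nat_lit 14654390744181334140288677067868775785703864) [440, 10, 440, 483, 440, 53, 440, 53, 397, 311, 397, 268, 354, 526, 10] 390 2))) (.node (nat_lit 1) (.leaf (XRule.rot (nat_lit 592565679771934050) [354, 311, 526, 354, 311, 526] 407 2)) (.leaf (XRule.rot (nat_lit 149576363319) [311, 139, 311, 139] 15 0))))) (.node (nat_lit 4) (.node (nat_lit 2) (.node (nat_lit 1) (.leaf (XRule.rot (nat_lit 613284689128235084211047063454138929966932451) [483, 440, 53, 440, 53, 397, 311, 397, 268, 354, 526, 10, 440, 10, 440] 390 5)) (.leaf (XRule.rot (nat_lit 507732928455666577719) [311, 268, 397, 354, 440, 397, 440] 39 4))) (.node (nat_lit 1) (.leaf (XRule.rot (nat_lit 496021684848353376) [96, 440, 612, 96, 569, 440] 198 2)) (.leaf (XRule.rot (nat_lit 473088406073) [569, 268, 612, 440] 114 0)))) (.node (nat_lit 2) (.node (nat_lit 1) (.leaf (XRule.rot (nat_lit 11831014782992134498) [354,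 268, 10, 268, 53, 268, 10] 34 1)) (.leaf (XRule.rot (nat_lit 496069194342262071) [311, 569, 268, 311, 612, 440] 194 5))) (.node (nat_lit 1) (.leaf (XRule.rot (nat_lit 288359899748) [612, 440, 569, 268] 114 2)) (.leaf (XRule.rot (nat_lit 640932142982291853) [397, 440, 569, 397, 268, 569] 186 4))))))))) (.node (nat_lit 64) (.node (nat_lit 32) (.node (nat_lit 16) (.node (nat_lit 8) (.node (nat_lit 4) (.node (nat_lit 2) (.node (nat_lit 1) (.leaf (XRule.rot (nat_lit 640790536701226424) [440, 139, 440, 612, 139, 569] 199 4)) (.leaf (XRule.rot (nat_lit 611285831991) [311, 612, 311, 569] 116 1))) (.node (nat_lit 1) (.leaf (XRule.rot (nat_lit 253670038441220708) [612, 182, 311, 569, 311, 225] 349 1)) (.leaf (XRule.rot (nat_lit 786504460494540939) [139, 612, 96, 655, 569, 698] 341 2)))) (.node (nat_lit 2) (.node (nat_lit 1) (.leaf (XRule.rot (nat_lit 316658263632376873890017) [225, 268, 182, 268, 182, 268, 225, 268] 56 6)) (.leaf (XRule.rot (nat_lit 316410385461607266529376)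 [96, 268, 53, 268, 139, 268, 10, 268] 42 2))) (.node (nat_lit 1) (.leaf (XRule.rot (nat_lit 421174747244591125483705028871688506678071300638900998168250) [698, 311, 354, 397, 268, 698, 311, 354, 397, 268, 655, 311, 354, 397, 268, 655, 311, 354, 397, 268] 432 10)) (.leaf (XRule.rot (nat_lit 488587757881736294897900080092733518305938806094923891487375) [655, 268, 397, 354, 311, 698, 268, 397, 354, 311, 698, 268, 397, 354, 311, 655, 268, 397, 354, 311] 433 11))))) (.node (nat_lit 4) (.node (nat_lit 2) (.node (nat_lit 1) (.leaf (XRule.rot (nat_lit 786551739494491275) [139, 569, 96, 655, 612, 698] 340 5)) (.leaf (XRule.rot (nat_lit 157267696149475002) [698, 139, 698, 139, 698, 139] 367 0))) (.node (nat_lit 1) (.leaf (XRule.rot (nat_lit 737570603203750500) [612, 698, 139, 569, 96, 655] 340 3)) (.leaf (XRule.rot (nat_lit 657496441833523891329803281404655537850378) [10, 354, 268, 311, 397, 53, 483, 10, 311, 397, 268, 354, 53, 483] 94 8)))) (.node (nat_lit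 2) (.node (nat_lit 1) (.leaf (XRule.rot (nat_lit 544246495561790775) [311, 397, 483, 311, 397, 483] 72 0)) (.leaf (XRule.rot (nat_lit 242098559459) [483, 182, 483, 225] 66 3))) (.node (nat_lit 1) (.leaf (XRule.rot (nat_lit 507297205191312859189) [53, 440, 10, 354, 440, 10, 440] 36 5)) (.leaf (XRule.rot (nat_lit 738137536116484321) [225, 698, 569, 182, 612, 655] 344 4)))))) (.node (nat_lit 8) (.node (nat_lit 4) (.node (nat_lit 2) (.node (nat_lit 1) (.leaf (XRule.rot (nat_lit 156511185482601654) [182, 53, 225, 96, 10, 139] 50 2)) (.leaf (XRule.rot (nat_lit 72667969342814921233244303299194813164003) [483, 10, 311, 397, 268, 354, 53, 483, 10, 354, 268, 311, 397, 53] 94 0))) (.node (nat_lit 1) (.leaf (XRule.rot (nat_lit 556132306414834852304700066523120579433559962271164570200375) [311, 698, 268, 397, 354, 311, 655, 268, 397, 354, 311, 655, 268, 397, 354, 311, 698, 268, 397, 354] 433 2)) (.leaf (XRule.rot (nat_lit 657411597752) [440, 569, 268, 612] 114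 3)))) (.node (nat_lit 2) (.node (nat_lit 1) (.leaf (XRule.rot (nat_lit 495832753306525964) [268, 440, 397, 268, 397, 440] 240 4)) (.leaf (XRule.rot (nat_lit 518853725366) [182, 483, 225, 483] 66 0))) (.node (nat_lit 1) (.leaf (XRule.rot (nat_lit 565475556026) [698, 526, 655, 526] 400 2)) (.leaf (XRule.rot (nat_lit 657456686391) [311, 569, 311, 612] 116 3))))) (.node (nat_lit 4) (.node (nat_lit 2) (.node (nat_lit 1) (.leaf (XRule.rot (nat_lit 108429042800275087) [655, 139, 311, 655, 311, 96] 370 1)) (.leaf (XRule.rot (nat_lit 447608173312402872) [440, 569, 397, 268, 569, 397] 186 5))) (.node (nat_lit 1) (.leaf (XRule.rot (nat_lit 309430335197630882103) [311, 440, 397, 440, 354, 397, 268] 38 3)) (.leaf (XRule.rot (nat_lit 75837937704808940277480569006281119116659010019) [483, 10, 96, 10, 139, 53, 96, 53, 483, 10, 139, 10, 96, 53, 139, 53] 92 0)))) (.node (nat_lit 2) (.node (nat_lit 1) (.leaf (XRule.rot (nat_lit 288269545955) [483, 268, 483, 268] 70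 1)) (.leaf (XRule.rot (nat_lit 26469279376474360767607756055642304242568152991144809686234546431871287373256505633610864898965991770558839796763698760001675) [139, 10, 96, 53, 139, 53, 354, 268, 397, 311, 53, 483, 10, 10, 139, 10, 96, 53, 139, 53, 354, 268, 397, 311, 53, 483, 10, 10, 139, 10, 96, 53, 139, 53, 354, 268, 397, 311, 53, 483, 10, 10] 97 12))) (.node (nat_lit 1) (.leaf (XRule.rot (nat_lit 682799885489200183226865429024702517) [53, 96, 53, 139, 53, 526, 10, 96, 10, 139, 10, 526] 394 7)) (.leaf (XRule.rot (nat_lit 11831345459237016844) [268, 53, 268, 10, 354, 268, 10] 34 4))))))) (.node (nat_lit 16) (.node (nat_lit 8) (.node (nat_lit 4) (.node (nat_lit 2) (.node (nat_lit 1) (.leaf (XRule.rot (nat_lit 11966232074573481825419) [139, 53, 96, 10, 96, 53, 139, 10] 41 2)) (.leaf (XRule.rot (nat_lit 11916656449875432494219) [139, 53, 139, 10, 96, 53, 96, 10] 40 5))) (.node (nat_lit 1) (.leaf (XRule.rot (nat_lit 103450553698) [354, 139, 354, 96]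 10 1)) (.leaf (XRule.rot (nat_lit 385635564055533661114878801250) [354, 397, 268, 526, 311, 354, 397, 268, 526, 311] 404 1)))) (.node (nat_lit 2) (.node (nat_lit 1) (.leaf (XRule.rot (nat_lit 426827462158) [526, 397, 526, 397] 408 0)) (.leaf (XRule.rot (nat_lit 385427780962345797948032692750) [526, 268, 397, 354, 311, 526, 268, 397, 354, 311] 405 0))) (.node (nat_lit 1) (.leaf (XRule.rot (nat_lit 1863829171927521157888570208391453938801696543541016964217881044971629116423261238121136950916607898933678746916032813710592133723453563714712634518987915) [139, 569, 96, 612, 139, 612, 612, 526, 569, 311, 354, 311, 354, 397, 268, 397, 569, 139, 569, 96, 612, 139, 612, 612, 526, 569, 311, 354, 311, 354, 397, 268, 397, 569, 139, 569, 96, 612, 139, 612, 612, 526, 569, 311, 354, 311, 354, 397, 268, 397, 569] 428 10)) (.leaf (XRule.rot (nat_lit 266140605521208600135096) [440, 225, 440, 182, 440, 182, 440, 225] 58 5))))) (.node (nat_lit 4) (.node (nat_lit 2)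 (.node (nat_lit 1) (.leaf (XRule.rot (nat_lit 472727871756) [268, 440, 268, 440] 30 0)) (.leaf (XRule.rot (nat_lit 61600247171107531192) [440, 10, 354, 440, 10, 440, 53] 36 6))) (.node (nat_lit 1) (.leaf (XRule.rot (nat_lit 288224457144) [440, 268, 440, 268] 30 1)) (.leaf (XRule.rot (nat_lit 57234434359) [311, 10, 311, 53] 8 3)))) (.node (nat_lit 2) (.node (nat_lit 1) (.leaf (XRule.rot (nat_lit 350780965917397260) [268, 612, 311, 440, 569, 311] 195 2)) (.leaf (XRule.rot (nat_lit 786220233074728075) [139, 311, 698, 139, 311, 698] 373 1))) (.node (nat_lit 1) (.leaf (XRule.rot (nat_lit 750024015374) [526, 655, 526, 698] 400 3)) (.leaf (XRule.rot (nat_lit 447655637176169912) [440, 397, 569, 440, 612, 397] 196 4)))))) (.node (nat_lit 8) (.node (nat_lit 4) (.node (nat_lit 2) (.node (nat_lit 1) (.leaf (XRule.rot (nat_lit 350639267430109624) [440, 612, 311, 569, 440, 311] 206 3)) (.leaf (XRule.rot (nat_lit 623413650701233692357670651563902150756625190131552543586916)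 [612, 526, 569, 397, 311, 354, 397, 268, 311, 354, 612, 526, 569, 311, 354, 311, 354, 397, 268, 397] 426 9))) (.node (nat_lit 1) (.leaf (XRule.rot (nat_lit 599253435473504287335974087896653215576203) [139, 268, 139, 440, 225, 440, 96, 268, 96, 440, 268, 182, 268, 440] 60 3)) (.leaf (XRule.rot (nat_lit 189782204441121379716237818927274700975372) [268, 139, 440, 225, 440, 96, 268, 96, 440, 268, 182, 268, 440, 139] 60 4)))) (.node (nat_lit 2) (.node (nat_lit 1) (.leaf (XRule.rot (nat_lit 651532854981456065415247967500) [268, 397, 354, 311, 526, 268, 397, 354, 311, 526] 405 4)) (.leaf (XRule.rot (nat_lit 961005367907425080394568819496440834857758649790235124753934) [526, 569, 397, 311, 354, 397, 268, 311, 354, 612, 526, 569, 311, 354, 311, 354, 397, 268, 397, 612] 426 10))) (.node (nat_lit 1) (.leaf (XRule.rot (nat_lit 1723760794052795347950001987126795060942532905578117569663617821935868016520215285930742800586995914335765285707001162161944677239856258404635939902645817)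 [569, 569, 96, 569, 139, 612, 96, 612, 397, 268, 397, 354, 311, 354, 311, 612, 526, 569, 569, 96, 569, 139, 612, 96, 612, 397, 268, 397, 354, 311, 354, 311, 612, 526, 569, 569, 96, 569, 139, 612, 96, 612, 397, 268, 397, 354, 311, 354, 311, 612, 526] 429 0)) (.leaf (XRule.rot (nat_lit 873670158799538573185508097917374617054532396558) [526, 569, 96, 569, 139, 612, 96, 612, 526, 569, 139, 569, 96, 612, 139, 612] 424 8))))) (.node (nat_lit 4) (.node (nat_lit 2) (.node (nat_lit 1) (.leaf (XRule.rot (nat_lit 491890523107172480462496479500) [268, 526, 311, 354, 397, 268, 526, 311, 354, 397] 404 3)) (.leaf (XRule.rot (nat_lit 611150565601) [225, 612, 182, 569] 253 2))) (.node (nat_lit 1) (.leaf (XRule.rot (nat_lit 611421098252) [268, 612, 440, 569] 114 1)) (.leaf (XRule.rot (nat_lit 495501846161842487) [311, 440, 96, 311, 96, 440] 224 4)))) (.node (nat_lit 2) (.node (nat_lit 1) (.leaf (XRule.rot (nat_lit 447466475050426937) [569, 440, 612, 397, 440, 397]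 196 0)) (.leaf (XRule.rot (nat_lit 288089190711) [311, 268, 311, 268] 28 1))) (.node (nat_lit 1) (.leaf (XRule.rot (nat_lit 447324868589270628) [612, 397, 311, 612, 311, 397] 189 1)) (.leaf (XRule.rot (nat_lit 623545317051918650068108872994644591644006527148977802591500) [268, 655, 311, 354, 397, 268, 698, 311, 354, 397, 268, 698, 311, 354, 397, 268, 655, 311, 354, 397] 432 4)))))))) (.node (nat_lit 32) (.node (nat_lit 16) (.node (nat_lit 8) (.node (nat_lit 4) (.node (nat_lit 2) (.node (nat_lit 1) (.leaf (XRule.rot (nat_lit 1723761733044559107746305224979951257297313707107260336861908603094786131288184402862606576130136624951129088305108688202951567921416115772191594877607481) [569, 311, 354, 311, 354, 397, 268, 397, 569, 139, 569, 96, 612, 139, 612, 612, 526, 569, 311, 354, 311, 354, 397, 268, 397, 569, 139, 569, 96, 612, 139, 612, 612, 526, 569, 311, 354, 311, 354, 397, 268, 397, 569, 139, 569, 96, 612, 139, 612, 612, 526] 428 1)) (.leaf (XRule.rot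 (nat_lit 689771026779877050) [698, 139, 569, 96, 655, 612] 340 4))) (.node (nat_lit 1) (.leaf (XRule.rot (nat_lit 265942351246996036311308) [268, 182, 268, 182, 268, 225, 268, 225] 56 7)) (.leaf (XRule.rot (nat_lit 108523231207896375) [311, 397, 96, 311, 397, 96] 64 1)))) (.node (nat_lit 2) (.node (nat_lit 1) (.leaf (XRule.rot (nat_lit 105887196044384) [96, 311, 139, 311, 96] 140 1)) (.leaf (XRule.rot (nat_lit 785984437665545312) [96, 655, 96, 698, 96, 698] 368 0))) (.node (nat_lit 1) (.leaf (XRule.rot (nat_lit 334395399608) [440, 311, 440, 311] 32 1)) (.leaf (XRule.rot (nat_lit 302083734570851940) [612, 311, 440, 569, 311, 268] 195 1))))) (.node (nat_lit 4) (.node (nat_lit 2) (.node (nat_lit 1) (.leaf (XRule.rot (nat_lit 786031670539730059) [139, 655, 139, 655, 139, 698] 369 1)) (.leaf (XRule.rot (nat_lit 519079169464) [440, 483, 440, 483] 104 1))) (.node (nat_lit 1) (.leaf (XRule.rot (nat_lit 785984345368837732) [612, 655, 139, 612, 96, 698] 343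 4)) (.leaf (XRule.rot (nat_lit 137868971957068019629854865408888596173455637092) [612, 526, 569, 139, 569, 96, 612, 139, 612, 526, 569, 96, 569, 139, 612, 96] 424 15)))) (.node (nat_lit 2) (.node (nat_lit 1) (.leaf (XRule.rot (nat_lit 611375965581) [397, 569, 397, 569] 112 1)) (.leaf (XRule.rot (nat_lit 57640233615) [655, 10, 698, 53] 251 0))) (.node (nat_lit 1) (.leaf (XRule.rot (nat_lit 767469864762378) [10, 655, 10, 10, 698] 260 3)) (.leaf (XRule.rot (nat_lit 11932649712664121) [569, 655, 53, 698, 612, 10] 314 1)))))) (.node (nat_lit 8) (.node (nat_lit 4) (.node (nat_lit 2) (.node (nat_lit 1) (.leaf (XRule.rot (nat_lit 749663304929) [225, 655, 182, 698] 255 1)) (.leaf (XRule.rot (nat_lit 426376574091) [139, 397, 96, 397] 12 2))) (.node (nat_lit 1) (.leaf (XRule.rot (nat_lit 421174747244223315287684691877801392921974320941891462727991) [311, 354, 612, 526, 569, 311, 354, 311, 354, 397, 268, 397, 612, 526, 569, 397, 311, 354, 397, 268] 426 17))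 (.leaf (XRule.rot (nat_lit 350639313600655929) [569, 268, 311, 612, 440, 311] 194 0)))) (.node (nat_lit 2) (.node (nat_lit 1) (.leaf (XRule.rot (nat_lit 426782373347) [483, 397, 483, 397] 100 0)) (.leaf (XRule.rot (nat_lit 350591896088098275) [483, 397, 311, 483, 397, 311] 73 0))) (.node (nat_lit 1) (.leaf (XRule.rot (nat_lit 242188737124) [612, 182, 569, 225] 253 1)) (.leaf (XRule.rot (nat_lit 613284632361987970778257106902454633609224202) [10, 440, 483, 440, 53, 440, 53, 526, 354, 268, 397, 311, 397, 10, 440] 391 8))))) (.node (nat_lit 4) (.node (nat_lit 2) (.node (nat_lit 1) (.leaf (XRule.rot (nat_lit 540725091304867113298586561394404381218103) [311, 53, 483, 10, 397, 311, 268, 354, 53, 483, 10, 354, 268, 397] 95 3)) (.leaf (XRule.rot (nat_lit 333944511541) [53, 311, 10, 311] 8 2))) (.node (nat_lit 1) (.leaf (XRule.rot (nat_lit 350592034690883172) [612, 311, 397, 612, 397, 311] 189 4)) (.leaf (XRule.rot (nat_lit 658010573981617275251520003659666131354040)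 [440, 96, 268, 96, 440, 268, 483, 268, 440, 139, 268, 139, 440, 483] 102 8)))) (.node (nat_lit 2) (.node (nat_lit 1) (.leaf (XRule.rot (nat_lit 436655512499339) [139, 397, 139, 139, 397] 139 4)) (.leaf (XRule.rot (nat_lit 689392979463691704) [440, 311, 569, 268, 311, 612] 194 4))) (.node (nat_lit 1) (.leaf (XRule.rot (nat_lit 108759764720607801) [569, 440, 96, 440, 612, 96] 198 0)) (.leaf (XRule.rot (nat_lit 703853160974) [526, 698, 526, 655] 400 1))))))) (.node (nat_lit 16) (.node (nat_lit 8) (.node (nat_lit 4) (.node (nat_lit 2) (.node (nat_lit 1) (.leaf (XRule.rot (nat_lit 108759442110649018) [698, 612, 655, 139, 612, 96] 343 5)) (.leaf (XRule.rot (nat_lit 447324314628578400) [96, 311, 397, 96, 311, 397] 64 0))) (.node (nat_lit 1) (.leaf (XRule.rot (nat_lit 738090303332477110) [182, 698, 612, 225, 569, 655] 356 2)) (.leaf (XRule.rot (nat_lit 623545316612068268849818254679576156926308517845714935887116) [268, 397, 612, 526, 569, 397, 311, 354,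 397, 268, 311, 354, 612, 526, 569, 311, 354, 311, 354, 397] 426 7)))) (.node (nat_lit 2) (.node (nat_lit 1) (.leaf (XRule.rot (nat_lit 59967975599385188) [612, 10, 440, 569, 268, 53] 169 0)) (.leaf (XRule.rot (nat_lit 689062026463862837) [53, 440, 569, 268, 10, 612] 143 1))) (.node (nat_lit 1) (.leaf (XRule.rot (nat_lit 1071672083332241527275980747039645251878283389214355798827147660650925260894611011946033589817) [569, 139, 569, 96, 612, 139, 612, 96, 96, 526, 569, 139, 569, 96, 612, 139, 612, 96, 96, 397, 526, 569, 139, 569, 96, 612, 139, 612, 96, 96, 526] 430 11)) (.leaf (XRule.rot (nat_lit 309381543084592214026) [10, 268, 53, 268, 10, 354, 268] 34 3))))) (.node (nat_lit 4) (.node (nat_lit 2) (.node (nat_lit 1) (.leaf (XRule.rot (nat_lit 640979468198141196) [268, 311, 612, 440, 311, 569] 194 1)) (.leaf (XRule.rot (nat_lit 689534816328672696) [440, 569, 440, 268, 440, 612] 204 5))) (.node (nat_lit 1) (.leaf (XRule.rot (nat_lit 108428442714037688)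 [440, 311, 440, 96, 311, 96] 224 3)) (.leaf (XRule.rot (nat_lit 519034080653) [397, 483, 397, 483] 100 1)))) (.node (nat_lit 2) (.node (nat_lit 1) (.leaf (XRule.rot (nat_lit 11601604370818359) [311, 569, 53, 612, 311, 10] 155 3)) (.leaf (XRule.rot (nat_lit 785984391494690912) [96, 698, 96, 655, 96, 698] 368 4))) (.node (nat_lit 1) (.leaf (XRule.rot (nat_lit 737570695500414048) [96, 655, 96, 655, 96, 655] 366 0)) (.leaf (XRule.rot (nat_lit 737523462896101687) [311, 10, 311, 698, 53, 655] 333 5)))))) (.node (nat_lit 8) (.node (nat_lit 4) (.node (nat_lit 2) (.node (nat_lit 1) (.leaf (XRule.rot (nat_lit 62682047774353295157344) [96, 10, 139, 53, 139, 10, 96, 53] 40 3)) (.leaf (XRule.rot (nat_lit 350213617917288458) [10, 440, 311, 440, 53, 311] 174 0))) (.node (nat_lit 1) (.leaf (XRule.rot (nat_lit 495738195216359692) [268, 440, 311, 268, 311, 440] 246 3)) (.leaf (XRule.rot (nat_lit 519720216098019278774454) [182, 440, 182, 440, 225, 440, 225, 440] 58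 0)))) (.node (nat_lit 2) (.node (nat_lit 1) (.leaf (XRule.rot (nat_lit 11459767550662201) [569, 53, 225, 612, 182, 10] 312 1)) (.leaf (XRule.rot (nat_lit 350260619891540150) [182, 96, 311, 182, 96, 311] 54 2))) (.node (nat_lit 1) (.leaf (XRule.rot (nat_lit 495549125206925623) [311, 440, 139, 311, 139, 440] 225 5)) (.leaf (XRule.rot (nat_lit 641074025972994488) [440, 612, 397, 440, 397, 569] 196 1))))) (.node (nat_lit 4) (.node (nat_lit 2) (.node (nat_lit 1) (.leaf (XRule.rot (nat_lit 316559112241143594889226) [10, 268, 96, 268, 53, 268, 139, 268] 42 0)) (.leaf (XRule.rot (nat_lit 302178015365182775) [311, 397, 268, 311, 397, 268] 68 1))) (.node (nat_lit 1) (.leaf (XRule.rot (nat_lit 156842230914580662) [182, 96, 311, 182, 311, 139] 376 5)) (.leaf (XRule.rot (nat_lit 640695978971638415) [655, 10, 698, 612, 53, 569] 315 5)))) (.node (nat_lit 2) (.node (nat_lit 1) (.leaf (XRule.rot (nat_lit 350213479764863674) [698, 10, 655, 311, 53, 311] 332 5)) (.leaf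 (XRule.rot (nat_lit 113645838519619830163724) [268, 10, 268, 139, 268, 53, 268, 96] 43 6))) (.node (nat_lit 1) (.leaf (XRule.rot (nat_lit 60393486149063354) [698, 612, 10, 569, 655, 53] 314 4)) (.leaf (XRule.rot (nat_lit 12115055965222104826124) [268, 96, 268, 53, 268, 139, 268, 10] 42 1)))))))))) (.node (nat_lit 128) (.node (nat_lit 64) (.node (nat_lit 32) (.node (nat_lit 16) (.node (nat_lit 8) (.node (nat_lit 4) (.node (nat_lit 2) (.node (nat_lit 1) (.leaf (XRule.rot (nat_lit 59967790735436173) [397, 10, 268, 397, 268, 53] 170 5)) (.leaf (XRule.rot (nat_lit 205539647170340237) [397, 569, 397, 225, 569, 182] 350 2))) (.node (nat_lit 1) (.leaf (XRule.rot (nat_lit 518898814220) [268, 483, 268, 483] 70 0)) (.leaf (XRule.rot (nat_lit 737570741671356512) [96, 698, 96, 698, 96, 655] 368 2)))) (.node (nat_lit 2) (.node (nat_lit 1) (.leaf (XRule.rot (nat_lit 496022007864419725) [397, 569, 440, 397, 569, 440] 202 2)) (.leaf (XRule.rot (nat_lit 108429088971173562)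 [698, 139, 311, 698, 311, 96] 371 2))) (.node (nat_lit 1) (.leaf (XRule.rot (nat_lit 737570649374648889) [569, 698, 139, 612, 96, 655] 341 4)) (.leaf (XRule.rot (nat_lit 62731623399051344488544) [96, 10, 96, 53, 139, 10, 139, 53] 41 0))))) (.node (nat_lit 4) (.node (nat_lit 2) (.node (nat_lit 1) (.leaf (XRule.rot (nat_lit 447324499312128311) [311, 268, 397, 268, 311, 397] 242 4)) (.leaf (XRule.rot (nat_lit 426466751713) [225, 397, 182, 397] 48 2))) (.node (nat_lit 1) (.leaf (XRule.rot (nat_lit 105887195868471) [311, 139, 139, 311, 96] 141 3)) (.leaf (XRule.rot (nat_lit 399194569569833271) [311, 612, 311, 354, 569, 354] 184 2)))) (.node (nat_lit 2) (.node (nat_lit 1) (.leaf (XRule.rot (nat_lit 254000575903491383) [311, 569, 311, 182, 612, 225] 353 5)) (.leaf (XRule.rot (nat_lit 205066856899511435) [139, 225, 139, 225, 139, 182] 53 5))) (.node (nat_lit 1) (.leaf (XRule.rot (nat_lit 62731623351772344494219) [139, 10, 96, 53, 96, 10, 139, 53] 40 7))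 (.leaf (XRule.rot (nat_lit 156511185437468897) [225, 10, 182, 96, 10, 139] 322 2)))))) (.node (nat_lit 8) (.node (nat_lit 4) (.node (nat_lit 2) (.node (nat_lit 1) (.leaf (XRule.rot (nat_lit 108286605443301601) [225, 96, 182, 96, 182, 96] 52 5)) (.leaf (XRule.rot (nat_lit 205019577854384224) [96, 182, 96, 225, 96, 182] 52 2))) (.node (nat_lit 1) (.leaf (XRule.rot (nat_lit 640979191172662583) [311, 225, 612, 182, 311, 569] 349 3)) (.leaf (XRule.rot (nat_lit 350402918465461817) [569, 311, 182, 612, 225, 311] 353 4)))) (.node (nat_lit 2) (.node (nat_lit 1) (.leaf (XRule.rot (nat_lit 519720216050740278780129) [225, 440, 182, 440, 182, 440, 225, 440] 58 6)) (.leaf (XRule.rot (nat_lit 626095159829772) [268, 569, 569, 440, 569] 134 4))) (.node (nat_lit 1) (.leaf (XRule.rot (nat_lit 447324822418372153) [569, 397, 311, 569, 311, 397] 188 0)) (.leaf (XRule.rot (nat_lit 156747626608471265) [225, 139, 182, 139, 225, 139] 53 2))))) (.node (nat_lit 4) (.node (nat_lit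 2) (.node (nat_lit 1) (.leaf (XRule.rot (nat_lit 657321420001) [225, 569, 182, 612] 252 3)) (.leaf (XRule.rot (nat_lit 625956646870585) [569, 311, 569, 311, 569] 132 1))) (.node (nat_lit 1) (.leaf (XRule.rot (nat_lit 689345746634727735) [311, 440, 569, 311, 268, 612] 195 0)) (.leaf (XRule.rot (nat_lit 359005723177438819424) [96, 397, 311, 139, 139, 397, 311] 81 5)))) (.node (nat_lit 2) (.node (nat_lit 1) (.leaf (XRule.rot (nat_lit 689487721967183116) [268, 569, 397, 440, 397, 612] 192 5)) (.leaf (XRule.rot (nat_lit 242233825849) [569, 182, 612, 225] 252 0))) (.node (nat_lit 1) (.leaf (XRule.rot (nat_lit 640648238172701749) [53, 225, 612, 182, 10, 569] 312 2)) (.leaf (XRule.rot (nat_lit 350686361746378125) [397, 483, 311, 397, 483, 311] 72 1))))))) (.node (nat_lit 16) (.node (nat_lit 8) (.node (nat_lit 4) (.node (nat_lit 2) (.node (nat_lit 1) (.leaf (XRule.rot (nat_lit 408484520483589774432) [96, 311, 354, 139, 139, 311, 354] 412 4)) (.leaf (XRule.rot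 (nat_lit 626233356903864) [440, 569, 268, 569, 569] 134 2))) (.node (nat_lit 1) (.leaf (XRule.rot (nat_lit 472772960567) [311, 440, 311, 440] 32 0)) (.leaf (XRule.rot (nat_lit 205255834431794487) [311, 139, 182, 96, 311, 182] 376 3)))) (.node (nat_lit 2) (.node (nat_lit 1) (.leaf (XRule.rot (nat_lit 640979652701380024) [440, 311, 440, 612, 311, 569] 206 1)) (.leaf (XRule.rot (nat_lit 737570326719028363) [139, 311, 655, 311, 96, 655] 370 2))) (.node (nat_lit 1) (.leaf (XRule.rot (nat_lit 641357931007852175) [655, 655, 569, 655, 655, 569] 358 1)) (.leaf (XRule.rot (nat_lit 579093320448397) [397, 526, 698, 698, 526] 419 4))))) (.node (nat_lit 4) (.node (nat_lit 2) (.node (nat_lit 1) (.leaf (XRule.rot (nat_lit 507684467388240552333) [397, 440, 311, 268, 397, 354, 440] 39 6)) (.leaf (XRule.rot (nat_lit 11364747616421003) [139, 225, 10, 182, 96, 10] 322 1))) (.node (nat_lit 1) (.leaf (XRule.rot (nat_lit 242278914746) [698, 182, 655, 225] 254 3)) (.leaf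 (XRule.rot (nat_lit 613928503366340056136776625169301373361512501) [53, 440, 53, 526, 354, 268, 397, 311, 397, 10, 440, 10, 440, 483, 440] 391 4)))) (.node (nat_lit 2) (.node (nat_lit 1) (.leaf (XRule.rot (nat_lit 673802656509869978159534346003476845510579640) [440, 53, 440, 53, 397, 311, 397, 268, 354, 526, 10, 440, 10, 440, 483] 390 6)) (.leaf (XRule.rot (nat_lit 108806674939216527) [655, 96, 655, 96, 655, 96] 366 1))) (.node (nat_lit 1) (.leaf (XRule.rot (nat_lit 689818398212285665) [225, 569, 655, 182, 698, 612] 356 5)) (.leaf (XRule.rot (nat_lit 156984206562569527) [311, 139, 440, 311, 440, 139] 225 2)))))) (.node (nat_lit 8) (.node (nat_lit 4) (.node (nat_lit 2) (.node (nat_lit 1) (.leaf (XRule.rot (nat_lit 215375165830406084986296) [440, 225, 440, 225, 440, 182, 440, 182] 58 3)) (.leaf (XRule.rot (nat_lit 108286605488390326) [182, 96, 225, 96, 182, 96] 52 3))) (.node (nat_lit 1) (.leaf (XRule.rot (nat_lit 358860765994445845944) [440, 397,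 440, 354, 397, 268, 311] 38 4)) (.leaf (XRule.rot (nat_lit 164113872639534502652981) [53, 139, 10, 96, 53, 96, 10, 139] 40 6)))) (.node (nat_lit 2) (.node (nat_lit 1) (.leaf (XRule.rot (nat_lit 74470186456762791837541160126690128959954317) [397, 311, 397, 268, 354, 526, 10, 440, 10, 440, 483, 440, 53, 440, 53] 390 10)) (.leaf (XRule.rot (nat_lit 124628452331536041376611516438162442) [10, 139, 10, 526, 53, 96, 53, 139, 53, 526, 10, 96] 394 3))) (.node (nat_lit 1) (.leaf (XRule.rot (nat_lit 768024321387022) [526, 698, 397, 526, 698] 421 2)) (.leaf (XRule.rot (nat_lit 657546908045) [397, 612, 397, 612] 113 0))))) (.node (nat_lit 4) (.node (nat_lit 2) (.node (nat_lit 1) (.leaf (XRule.rot (nat_lit 961005432197481916602719513275586038367615026728801693918734) [526, 569, 397, 268, 397, 354, 311, 354, 311, 612, 526, 569, 354, 311, 268, 397, 354, 311, 397, 612] 427 11)) (.leaf (XRule.rot (nat_lit 11424290490) [698, 53, 655, 10] 251 2))) (.node (nat_lit 1)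 (.leaf (XRule.rot (nat_lit 640979052344741898) [10, 612, 311, 53, 311, 569] 154 0)) (.leaf (XRule.rot (nat_lit 703312095285) [53, 698, 10, 655] 250 2)))) (.node (nat_lit 2) (.node (nat_lit 1) (.leaf (XRule.rot (nat_lit 59872955439612129) [225, 96, 10, 139, 182, 53] 50 4)) (.leaf (XRule.rot (nat_lit 785984022758349963) [139, 311, 698, 311, 96, 698] 371 1))) (.node (nat_lit 1) (.leaf (XRule.rot (nat_lit 253385948722636896) [96, 10, 139, 182, 53, 225] 50 5)) (.leaf (XRule.rot (nat_lit 103405420855) [311, 96, 311, 96] 14 1)))))))) (.node (nat_lit 32) (.node (nat_lit 16) (.node (nat_lit 8) (.node (nat_lit 4) (.node (nat_lit 2) (.node (nat_lit 1) (.leaf (XRule.rot (nat_lit 253480506722845835) [139, 225, 139, 182, 139, 225] 53 3)) (.leaf (XRule.rot (nat_lit 265942302833300042122508) [268, 225, 268, 182, 268, 182, 268, 225] 56 5))) (.node (nat_lit 1) (.leaf (XRule.rot (nat_lit 641357469434089654) [182, 612, 698, 225, 655, 569] 346 1)) (.leaf (XRule.rot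 (nat_lit 254001083648240185) [569, 698, 182, 655, 612, 225] 360 0)))) (.node (nat_lit 2) (.node (nat_lit 1) (.leaf (XRule.rot (nat_lit 518808636641) [225, 483, 182, 483] 66 2)) (.leaf (XRule.rot (nat_lit 519670640473321229443254) [182, 440, 225, 440, 225, 440, 182, 440] 58 2))) (.node (nat_lit 1) (.leaf (XRule.rot (nat_lit 253953804648245860) [612, 698, 182, 655, 569, 225] 347 1)) (.leaf (XRule.rot (nat_lit 447277035628408076) [268, 139, 397, 96, 268, 397] 222 3))))) (.node (nat_lit 4) (.node (nat_lit 2) (.node (nat_lit 1) (.leaf (XRule.rot (nat_lit 108333838272441354) [10, 139, 182, 53, 225, 96] 50 0)) (.leaf (XRule.rot (nat_lit 611195654326) [182, 612, 225, 569] 252 1))) (.node (nat_lit 1) (.leaf (XRule.rot (nat_lit 689298467634601142) [182, 311, 569, 311, 225, 612] 349 0)) (.leaf (XRule.rot (nat_lit 11916656497154432488544) [96, 53, 139, 10, 139, 53, 96, 10] 41 6)))) (.node (nat_lit 2) (.node (nat_lit 1) (.leaf (XRule.rot (nat_lit 302414502887306809)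 [569, 397, 440, 397, 612, 268] 192 0)) (.leaf (XRule.rot (nat_lit 350355316178868363) [139, 182, 96, 311, 182, 311] 376 4))) (.node (nat_lit 1) (.leaf (XRule.rot (nat_lit 11334112868) [612, 53, 569, 10] 109 2)) (.leaf (XRule.rot (nat_lit 60298328152838326) [182, 612, 225, 10, 569, 53] 310 3)))))) (.node (nat_lit 8) (.node (nat_lit 4) (.node (nat_lit 2) (.node (nat_lit 1) (.leaf (XRule.rot (nat_lit 62682047727074295163019) [139, 10, 139, 53, 96, 10, 96, 53] 41 4)) (.leaf (XRule.rot (nat_lit 75777945980678018769693404555376370892493870219) [139, 53, 483, 10, 96, 10, 139, 53, 96, 53, 483, 10, 139, 10, 96, 53] 92 14))) (.node (nat_lit 1) (.leaf (XRule.rot (nat_lit 737617974545541259) [139, 698, 139, 655, 139, 655] 369 3)) (.leaf (XRule.rot (nat_lit 350544663258958350) [526, 354, 311, 526, 354, 311] 407 0)))) (.node (nat_lit 2) (.node (nat_lit 1) (.leaf (XRule.rot (nat_lit 288134279522) [354, 268, 354, 268] 18 0)) (.leaf (XRule.rot (nat_lit 253670084612119097)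 [569, 182, 311, 612, 311, 225] 348 0))) (.node (nat_lit 1) (.leaf (XRule.rot (nat_lit 786220233074508087) [311, 96, 698, 139, 311, 698] 371 4)) (.leaf (XRule.rot (nat_lit 74470758024201380617408137701164593360983480) [440, 53, 526, 354, 268, 397, 311, 397, 10, 440, 10, 440, 483, 440, 53] 391 3))))) (.node (nat_lit 4) (.node (nat_lit 2) (.node (nat_lit 1) (.leaf (XRule.rot (nat_lit 350402872294563428) [612, 311, 182, 569, 225, 311] 352 3)) (.leaf (XRule.rot (nat_lit 472953315811) [483, 440, 483, 440] 104 0))) (.node (nat_lit 1) (.leaf (XRule.rot (nat_lit 156842276905344225) [225, 311, 139, 225, 311, 139] 55 0)) (.leaf (XRule.rot (nat_lit 496021915702845751) [311, 440, 612, 311, 569, 440] 206 2)))) (.node (nat_lit 2) (.node (nat_lit 1) (.leaf (XRule.rot (nat_lit 447277358869918136) [440, 268, 440, 397, 268, 397] 240 3)) (.leaf (XRule.rot (nat_lit 350260665882303713) [225, 311, 139, 225, 96, 311] 377 3))) (.node (nat_lit 1) (.leaf (XRule.rot (nat_lit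 103495642509) [397, 139, 397, 96] 12 1)) (.leaf (XRule.rot (nat_lit 253480645325630775) [311, 139, 225, 311, 139, 225] 55 2))))))) (.node (nat_lit 16) (.node (nat_lit 8) (.node (nat_lit 4) (.node (nat_lit 2) (.node (nat_lit 1) (.leaf (XRule.rot (nat_lit 737712579211876921) [569, 182, 612, 698, 225, 655] 346 0)) (.leaf (XRule.rot (nat_lit 11601650541848887) [311, 698, 53, 655, 311, 10] 333 3))) (.node (nat_lit 1) (.leaf (XRule.rot (nat_lit 641404702218096865) [225, 612, 655, 182, 698, 569] 345 2)) (.leaf (XRule.rot (nat_lit 640837815971841679) [655, 225, 698, 612, 182, 569] 357 4)))) (.node (nat_lit 2) (.node (nat_lit 1) (.leaf (XRule.rot (nat_lit 156700347653565665) [225, 139, 225, 139, 182, 139] 53 4)) (.leaf (XRule.rot (nat_lit 253953850819100260) [612, 655, 182, 698, 569, 225] 345 1))) (.node (nat_lit 1) (.leaf (XRule.rot (nat_lit 316658263679655873884342) [182, 268, 182, 268, 225, 268, 225, 268] 56 0)) (.leaf (XRule.rot (nat_lit 437071591915022)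 [526, 655, 655, 526, 397] 418 4))))) (.node (nat_lit 4) (.node (nat_lit 2) (.node (nat_lit 1) (.leaf (XRule.rot (nat_lit 738185276915596900) [612, 655, 655, 612, 655, 655] 363 1)) (.leaf (XRule.rot (nat_lit 641073749127562637) [397, 225, 569, 182, 397, 569] 350 4))) (.node (nat_lit 1) (.leaf (XRule.rot (nat_lit 205586926080156983) [311, 569, 311, 225, 612, 182] 349 5)) (.leaf (XRule.rot (nat_lit 108429042575007375) [655, 311, 96, 655, 311, 96] 372 1)))) (.node (nat_lit 2) (.node (nat_lit 1) (.leaf (XRule.rot (nat_lit 599139456605274359138157785176165595754592) [96, 268, 96, 440, 268, 225, 268, 440, 139, 268, 139, 440, 182, 440] 61 6)) (.leaf (XRule.rot (nat_lit 613343218309225145552991440132303734962665525) [53, 526, 354, 268, 397, 311, 397, 10, 440, 10, 440, 483, 440, 53, 440] 391 2))) (.node (nat_lit 1) (.leaf (XRule.rot (nat_lit 189782204822684210384934868778059391184140) [268, 139, 440, 483, 440, 96, 268, 96, 440, 268, 483, 268, 440, 139] 102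 4)) (.leaf (XRule.rot (nat_lit 438607371137547599405222474125) [397, 268, 526, 311, 354, 397, 268, 526, 311, 354] 404 2)))))) (.node (nat_lit 8) (.node (nat_lit 4) (.node (nat_lit 2) (.node (nat_lit 1) (.leaf (XRule.rot (nat_lit 447513661483224375) [311, 483, 397, 311, 483, 397] 73 1)) (.leaf (XRule.rot (nat_lit 599024919674576305122776520930764731682060) [268, 483, 268, 440, 139, 268, 139, 440, 483, 440, 96, 268, 96, 440] 102 13))) (.node (nat_lit 1) (.leaf (XRule.rot (nat_lit 195747615029090200348994494783835305176078485579090936358691113493193952354206201412167722510) [526, 569, 139, 569, 96, 612, 139, 612, 96, 96, 526, 569, 139, 569, 96, 612, 139, 612, 96, 96, 397, 526, 569, 139, 569, 96, 612, 139, 612, 96, 96] 430 10)) (.leaf (XRule.rot (nat_lit 242324003471) [655, 182, 698, 225] 255 0)))) (.node (nat_lit 2) (.node (nat_lit 1) (.leaf (XRule.rot (nat_lit 749708393654) [182, 655, 225, 698] 254 0)) (.leaf (XRule.rot (nat_lit 302178292570928697)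 [569, 397, 440, 569, 397, 268] 186 3))) (.node (nat_lit 1) (.leaf (XRule.rot (nat_lit 689535139479740813) [397, 440, 397, 569, 440, 612] 196 3)) (.leaf (XRule.rot (nat_lit 613284689128071504207995116722074438147170787) [483, 440, 53, 440, 53, 526, 354, 268, 397, 311, 397, 10, 440, 10, 440] 391 6))))) (.node (nat_lit 4) (.node (nat_lit 2) (.node (nat_lit 1) (.leaf (XRule.rot (nat_lit 689434696063018475031891850362276347278253981706) [10, 96, 10, 139, 53, 96, 53, 483, 10, 139, 10, 96, 53, 139, 53, 483] 92 1)) (.leaf (XRule.rot (nat_lit 960939534763535662437915052293819920462328419076014842897934) [526, 569, 311, 354, 311, 354, 397, 268, 397, 612, 526, 569, 397, 311, 354, 397, 268, 311, 354, 612] 426 0))) (.node (nat_lit 1) (.leaf (XRule.rot (nat_lit 689250865438053601) [225, 53, 569, 10, 182, 612] 325 2)) (.leaf (XRule.rot (nat_lit 350355639510556217) [569, 311, 225, 612, 182, 311] 349 4)))) (.node (nat_lit 2) (.node (nat_lit 1) (.leaf (XRule.rot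 (nat_lit 873610225603974271445590793445091891235941574158) [526, 569, 139, 569, 96, 612, 139, 612, 526, 569, 96, 569, 139, 612, 96, 612] 424 0)) (.leaf (XRule.rot (nat_lit 613343218309225145552991588907449826707649589) [53, 397, 311, 397, 268, 354, 526, 10, 440, 10, 440, 483, 440, 53, 440] 390 9))) (.node (nat_lit 1) (.leaf (XRule.rot (nat_lit 786220094156586037) [53, 655, 311, 10, 311, 698] 333 1)) (.leaf (XRule.rot (nat_lit 447324222286781493) [53, 311, 397, 10, 311, 397] 62 3))))))))) (.node (nat_lit 64) (.node (nat_lit 32) (.node (nat_lit 16) (.node (nat_lit 8) (.node (nat_lit 4) (.node (nat_lit 2) (.node (nat_lit 1) (.leaf (XRule.rot (nat_lit 196017882724) [612, 225, 569, 182] 252 2)) (.leaf (XRule.rot (nat_lit 491786809066102780406301777250) [354, 311, 526, 268, 397, 354, 311, 526, 268, 397] 405 2))) (.node (nat_lit 1) (.leaf (XRule.rot (nat_lit 131024787174000053490904935273143827968440) [440, 268, 483, 268, 440, 139, 268, 139, 440, 483,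 440, 96, 268, 96] 102 12)) (.leaf (XRule.rot (nat_lit 108286836207704375) [311, 182, 96, 311, 182, 96] 54 1)))) (.node (nat_lit 2) (.node (nat_lit 1) (.leaf (XRule.rot (nat_lit 156558464482551990) [182, 10, 225, 96, 53, 139] 51 5)) (.leaf (XRule.rot (nat_lit 447230310454015588) [612, 397, 182, 612, 225, 397] 355 4))) (.node (nat_lit 1) (.leaf (XRule.rot (nat_lit 426511840438) [182, 397, 225, 397] 48 0)) (.leaf (XRule.rot (nat_lit 108333930749592887) [311, 225, 311, 139, 225, 96] 377 4))))) (.node (nat_lit 4) (.node (nat_lit 2) (.node (nat_lit 1) (.leaf (XRule.rot (nat_lit 447324499312172300) [268, 311, 397, 268, 311, 397] 68 0)) (.leaf (XRule.rot (nat_lit 447135383312150624) [96, 268, 397, 268, 139, 397] 222 0))) (.node (nat_lit 1) (.leaf (XRule.rot (nat_lit 215375214244102079175096) [440, 182, 440, 225, 440, 225, 440, 182] 58 1)) (.leaf (XRule.rot (nat_lit 786503953155767521) [225, 655, 612, 182, 569, 698] 361 3)))) (.node (nat_lit 2) (.node (nat_lit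 1) (.leaf (XRule.rot (nat_lit 447135429482917175) [311, 139, 397, 311, 139, 397] 65 2)) (.leaf (XRule.rot (nat_lit 350591665233605900) [268, 397, 311, 268, 397, 311] 69 1))) (.node (nat_lit 1) (.leaf (XRule.rot (nat_lit 364910874992315925472344083809110803800160) [96, 440, 268, 483, 268, 440, 139, 268, 139, 440, 483, 440, 96, 268] 102 11)) (.leaf (XRule.rot (nat_lit 11153757581) [397, 53, 397, 10] 6 1)))))) (.node (nat_lit 8) (.node (nat_lit 4) (.node (nat_lit 2) (.node (nat_lit 1) (.leaf (XRule.rot (nat_lit 301752596481454477) [397, 268, 53, 397, 10, 268] 170 2)) (.leaf (XRule.rot (nat_lit 447324222196692021) [53, 397, 311, 10, 311, 397] 167 1))) (.node (nat_lit 1) (.leaf (XRule.rot (nat_lit 242008381837) [397, 182, 397, 225] 48 3)) (.leaf (XRule.rot (nat_lit 447608357995996428) [268, 569, 397, 440, 569, 397] 186 2)))) (.node (nat_lit 2) (.node (nat_lit 1) (.leaf (XRule.rot (nat_lit 11063579959) [311, 53, 311, 10] 8 1)) (.leaf (XRule.rot (nat_lit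 749528038410) [10, 655, 53, 698] 250 0))) (.node (nat_lit 1) (.leaf (XRule.rot (nat_lit 11979836370773690) [698, 569, 53, 612, 655, 10] 319 3)) (.leaf (XRule.rot (nat_lit 689487445166884237) [397, 225, 612, 182, 397, 612] 351 3))))) (.node (nat_lit 4) (.node (nat_lit 2) (.node (nat_lit 1) (.leaf (XRule.rot (nat_lit 12027069199913615) [655, 612, 53, 569, 698, 10] 317 3)) (.leaf (XRule.rot (nat_lit 57595144890) [698, 10, 655, 53] 250 3))) (.node (nat_lit 1) (.leaf (XRule.rot (nat_lit 204972668131444324) [612, 225, 10, 569, 53, 182] 310 4)) (.leaf (XRule.rot (nat_lit 738137351432890421) [53, 698, 569, 10, 612, 655] 318 3)))) (.node (nat_lit 2) (.node (nat_lit 1) (.leaf (XRule.rot (nat_lit 640979237343516983) [311, 182, 612, 225, 311, 569] 353 3)) (.leaf (XRule.rot (nat_lit 350308406546194063) [655, 311, 96, 655, 139, 311] 370 4))) (.node (nat_lit 1) (.leaf (XRule.rot (nat_lit 108712163110610618) [698, 569, 655, 139, 569, 96] 342 2)) (.leaf (XRule.rot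 (nat_lit 613284803888053250976353628159029032015814666) [10, 440, 483, 440, 53, 440, 53, 397, 311, 397, 268, 354, 526, 10, 440] 390 3))))))) (.node (nat_lit 16) (.node (nat_lit 8) (.node (nat_lit 4) (.node (nat_lit 2) (.node (nat_lit 1) (.leaf (XRule.rot (nat_lit 599253826193842892081753135100175989354635) [139, 268, 139, 440, 483, 440, 96, 268, 96, 440, 268, 483, 268, 440] 102 3)) (.leaf (XRule.rot (nat_lit 623875125294744715624980946058714579096130829060658084328716) [268, 397, 354, 311, 354, 311, 612, 526, 569, 354, 311, 268, 397, 354, 311, 397, 612, 526, 569, 397] 427 8))) (.node (nat_lit 1) (.leaf (XRule.rot (nat_lit 553761079275860826542512053283425885262022924) [268, 354, 526, 10, 440, 10, 440, 483, 440, 53, 440, 53, 397, 311, 397] 390 13)) (.leaf (XRule.rot (nat_lit 302225386706974136) [440, 397, 268, 397, 440, 268] 240 5)))) (.node (nat_lit 2) (.node (nat_lit 1) (.leaf (XRule.rot (nat_lit 13102449619317084736733088007071883) [139, 10, 526,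 53, 96, 53, 139, 53, 526, 10, 96, 10] 394 4)) (.leaf (XRule.rot (nat_lit 253480321994119178) [10, 182, 96, 10, 139, 225] 322 3))) (.node (nat_lit 1) (.leaf (XRule.rot (nat_lit 72610756885278636609064802794857797003747) [483, 10, 354, 268, 311, 397, 53, 483, 10, 311, 397, 268, 354, 53] 94 7)) (.leaf (XRule.rot (nat_lit 57324611981) [397, 10, 397, 53] 6 3))))) (.node (nat_lit 4) (.node (nat_lit 2) (.node (nat_lit 1) (.leaf (XRule.rot (nat_lit 253386410296531513) [569, 182, 10, 612, 53, 225] 313 5)) (.leaf (XRule.rot (nat_lit 180445111195041624431997963346655242) [10, 526, 53, 96, 53, 139, 53, 526, 10, 96, 10, 139] 394 5))) (.node (nat_lit 1) (.leaf (XRule.rot (nat_lit 672911864685578) [10, 569, 10, 10, 612] 120 3)) (.leaf (XRule.rot (nat_lit 253338669722686560) [96, 53, 139, 182, 10, 225] 51 2)))) (.node (nat_lit 2) (.node (nat_lit 1) (.leaf (XRule.rot (nat_lit 113348432948731987504181) [53, 139, 10, 139, 53, 96, 10, 96] 41 5)) (.leaf (XRule.rot (nat_lit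 11379201593) [569, 53, 612, 10] 108 1))) (.node (nat_lit 1) (.leaf (XRule.rot (nat_lit 484396672234041) [569, 268, 569, 569, 440] 134 3)) (.leaf (XRule.rot (nat_lit 472818049378) [354, 440, 354, 440] 22 0)))))) (.node (nat_lit 8) (.node (nat_lit 4) (.node (nat_lit 2) (.node (nat_lit 1) (.leaf (XRule.rot (nat_lit 507732928409360545122) [354, 397, 268, 311, 440, 397, 440] 38 0)) (.leaf (XRule.rot (nat_lit 11469379215) [655, 53, 698, 10] 250 1))) (.node (nat_lit 1) (.leaf (XRule.rot (nat_lit 786220140327484426) [10, 655, 311, 53, 311, 698] 332 0)) (.leaf (XRule.rot (nat_lit 60440488123358863) [655, 311, 10, 311, 698, 53] 333 0)))) (.node (nat_lit 2) (.node (nat_lit 1) (.leaf (XRule.rot (nat_lit 350402410720756875) [139, 225, 311, 139, 225, 311] 55 1)) (.leaf (XRule.rot (nat_lit 12025000243394303416) [440, 53, 440, 10, 354, 440, 10] 36 4))) (.node (nat_lit 1) (.leaf (XRule.rot (nat_lit 316608688007678824558817) [225, 268, 225, 268, 182, 268, 182, 268]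 56 4)) (.leaf (XRule.rot (nat_lit 11695562374395148) [268, 397, 268, 53, 397, 10] 170 1))))) (.node (nat_lit 4) (.node (nat_lit 2) (.node (nat_lit 1) (.leaf (XRule.rot (nat_lit 689109628389173559) [311, 10, 311, 569, 53, 612] 155 5)) (.leaf (XRule.rot (nat_lit 333989600266) [10, 311, 53, 311] 8 0))) (.node (nat_lit 1) (.leaf (XRule.rot (nat_lit 108286559317535797) [53, 139, 225, 53, 182, 96] 323 1)) (.leaf (XRule.rot (nat_lit 334350310797) [397, 311, 397, 311] 26 0)))) (.node (nat_lit 2) (.node (nat_lit 1) (.leaf (XRule.rot (nat_lit 156936927247129997) [397, 311, 139, 311, 397, 139] 219 0)) (.leaf (XRule.rot (nat_lit 60346345661808185) [569, 655, 10, 698, 612, 53] 315 0))) (.node (nat_lit 1) (.leaf (XRule.rot (nat_lit 689487583679667597) [397, 311, 612, 311, 397, 612] 189 0)) (.leaf (XRule.rot (nat_lit 350308037494451597) [397, 139, 397, 311, 139, 311] 219 2)))))))) (.node (nat_lit 32) (.node (nat_lit 16) (.node (nat_lit 8) (.node (nat_lit 4) (.node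 (nat_lit 2) (.node (nat_lit 1) (.leaf (XRule.rot (nat_lit 408145955472378177976) [440, 10, 440, 53, 440, 10, 354] 36 2)) (.leaf (XRule.rot (nat_lit 205066625999930421) [53, 225, 96, 10, 139, 182] 50 3))) (.node (nat_lit 1) (.leaf (XRule.rot (nat_lit 301752781165224548) [612, 440, 53, 569, 10, 268] 168 2)) (.leaf (XRule.rot (nat_lit 553409965030002769113258858429273690696201527) [311, 397, 268, 354, 526, 10, 440, 10, 440, 483, 440, 53, 440, 53, 397] 390 11)))) (.node (nat_lit 2) (.node (nat_lit 1) (.leaf (XRule.rot (nat_lit 365425062902985099482957844750271684685240) [440, 139, 268, 139, 440, 483, 440, 96, 268, 96, 440, 268, 483, 268] 102 2)) (.leaf (XRule.rot (nat_lit 309333602317516507533) [397, 354, 440, 397, 440, 311, 268] 39 2))) (.node (nat_lit 1) (.leaf (XRule.rot (nat_lit 641404609785638543) [655, 139, 569, 96, 698, 569] 342 4)) (.leaf (XRule.rot (nat_lit 1028286712633675021099090698742566115365752779387336490584375) [311, 354, 397, 268,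 698, 311, 354, 397, 268, 698, 311, 354, 397, 268, 655, 311, 354, 397, 268, 655] 432 6))))) (.node (nat_lit 4) (.node (nat_lit 2) (.node (nat_lit 1) (.leaf (XRule.rot (nat_lit 350213479674686052) [612, 10, 569, 311, 53, 311] 148 5)) (.leaf (XRule.rot (nat_lit 152981782801805) [397, 139, 397, 139, 139] 139 0))) (.node (nat_lit 1) (.leaf (XRule.rot (nat_lit 738090810671162507) [139, 569, 96, 698, 569, 655] 342 5)) (.leaf (XRule.rot (nat_lit 195837527437) [397, 225, 397, 182] 48 1)))) (.node (nat_lit 2) (.node (nat_lit 1) (.leaf (XRule.rot (nat_lit 196153149071) [655, 225, 698, 182] 254 1)) (.leaf (XRule.rot (nat_lit 364910874665262070613460898222638180524128) [96, 440, 268, 182, 268, 440, 139, 268, 139, 440, 225, 440, 96, 268] 60 11))) (.node (nat_lit 1) (.leaf (XRule.rot (nat_lit 364968031523643185381941617124646596305035) [139, 440, 483, 440, 96, 268, 96, 440, 268, 483, 268, 440, 139, 268] 102 5)) (.leaf (XRule.rot (nat_lit 157267649573349687) [311,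 698, 311, 96, 698, 139] 371 0)))))) (.node (nat_lit 8) (.node (nat_lit 4) (.node (nat_lit 2) (.node (nat_lit 1) (.leaf (XRule.rot (nat_lit 737806444333295626) [10, 698, 311, 53, 311, 655] 336 0)) (.leaf (XRule.rot (nat_lit 399147244443941175) [311, 526, 354, 311, 526, 354] 407 1))) (.node (nat_lit 1) (.leaf (XRule.rot (nat_lit 657782337268804249825551957418149892514060) [268, 440, 139, 268, 139, 440, 483, 440, 96, 268, 96, 440, 268, 483] 102 1)) (.leaf (XRule.rot (nat_lit 253433227677718624) [96, 182, 96, 182, 96, 225] 52 0)))) (.node (nat_lit 2) (.node (nat_lit 1) (.leaf (XRule.rot (nat_lit 11421402674186) [10, 397, 10, 397, 10] 124 1)) (.leaf (XRule.rot (nat_lit 426286396469) [53, 397, 10, 397] 6 2))) (.node (nat_lit 1) (.leaf (XRule.rot (nat_lit 458205622941602078136) [440, 311, 268, 397, 354, 440, 397] 39 5)) (.leaf (XRule.rot (nat_lit 720190864812042) [10, 698, 10, 10, 655] 258 3))))) (.node (nat_lit 4) (.node (nat_lit 2) (.node (nat_lit 1)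 (.leaf (XRule.rot (nat_lit 556396281639215213986840661743408621668731936987684403425591) [311, 268, 397, 354, 311, 397, 612, 526, 569, 397, 268, 397, 354, 311, 354, 311, 612, 526, 569, 354] 427 18)) (.leaf (XRule.rot (nat_lit 438711034462753233310780504375) [311, 526, 268, 397, 354, 311, 526, 268, 397, 354] 405 1))) (.node (nat_lit 1) (.leaf (XRule.rot (nat_lit 164411229796726351123724) [268, 53, 268, 96, 268, 10, 268, 139] 43 2)) (.leaf (XRule.rot (nat_lit 350875754771922575) [655, 655, 311, 655, 655, 311] 384 0)))) (.node (nat_lit 2) (.node (nat_lit 1) (.leaf (XRule.rot (nat_lit 350591526720910475) [139, 397, 311, 139, 397, 311] 65 1)) (.leaf (XRule.rot (nat_lit 196108060346) [698, 225, 655, 182] 255 2))) (.node (nat_lit 1) (.leaf (XRule.rot (nat_lit 960873701870901782800489560864824230053178914034852196574734) [526, 569, 354, 311, 268, 397, 354, 311, 397, 612, 526, 569, 397, 268, 397, 354, 311, 354, 311, 612] 427 1)) (.leaf (XRule.rot (nat_lit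 518988991842) [354, 483, 354, 483] 76 1))))))) (.node (nat_lit 16) (.node (nat_lit 8) (.node (nat_lit 4) (.node (nat_lit 2) (.node (nat_lit 1) (.leaf (XRule.rot (nat_lit 341958864460810) [10, 311, 10, 10, 311] 126 3)) (.leaf (XRule.rot (nat_lit 60015069465206157) [397, 311, 10, 397, 311, 53] 63 0))) (.node (nat_lit 1) (.leaf (XRule.rot (nat_lit 205540154869956196) [612, 655, 225, 698, 569, 182] 344 2)) (.leaf (XRule.rot (nat_lit 689770980744684554) [10, 569, 698, 53, 655, 612] 316 0)))) (.node (nat_lit 2) (.node (nat_lit 1) (.leaf (XRule.rot (nat_lit 350922433550280800) [96, 698, 311, 96, 698, 311] 374 0)) (.leaf (XRule.rot (nat_lit 72610756776367147832815520236948657547747) [483, 10, 354, 268, 397, 311, 53, 483, 10, 397, 311, 268, 354, 53] 95 8))) (.node (nat_lit 1) (.leaf (XRule.rot (nat_lit 60393209123364538) [698, 311, 10, 311, 655, 53] 337 0)) (.leaf (XRule.rot (nat_lit 350450151429956196) [612, 440, 311, 569, 268, 311] 194 3))))) (.node (nat_lit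 4) (.node (nat_lit 2) (.node (nat_lit 1) (.leaf (XRule.rot (nat_lit 11329060481335) [311, 10, 10, 311, 10] 126 4)) (.leaf (XRule.rot (nat_lit 72553767369559876966968589297589530143203) [483, 10, 397, 311, 268, 354, 53, 483, 10, 354, 268, 397, 311, 53] 95 1))) (.node (nat_lit 1) (.leaf (XRule.rot (nat_lit 350591434379113482) [10, 397, 311, 53, 397, 311] 63 4)) (.leaf (XRule.rot (nat_lit 426556929292) [268, 397, 268, 397] 24 1)))) (.node (nat_lit 2) (.node (nat_lit 1) (.leaf (XRule.rot (nat_lit 108429088745905850) [698, 311, 96, 698, 311, 96] 374 1)) (.leaf (XRule.rot (nat_lit 657496441833417532454045225464657579706378) [10, 354, 268, 397, 311, 53, 483, 10, 397, 311, 268, 354, 53, 483] 95 7))) (.node (nat_lit 1) (.leaf (XRule.rot (nat_lit 108333884443295926) [182, 96, 182, 96, 225, 96] 52 1)) (.leaf (XRule.rot (nat_lit 507635911993804120461) [397, 440, 354, 397, 268, 311, 440] 38 5)))))) (.node (nat_lit 8) (.node (nat_lit 4) (.node (nat_lit 2) (.node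 (nat_lit 1) (.leaf (XRule.rot (nat_lit 204972714302342713) [569, 225, 10, 612, 53, 182] 311 5)) (.leaf (XRule.rot (nat_lit 437163888358969) [569, 397, 612, 612, 397] 131 4))) (.node (nat_lit 1) (.leaf (XRule.rot (nat_lit 302367269652631562) [10, 612, 53, 440, 569, 268] 143 3)) (.leaf (XRule.rot (nat_lit 703492450529) [225, 698, 182, 655] 254 2)))) (.node (nat_lit 2) (.node (nat_lit 1) (.leaf (XRule.rot (nat_lit 180499620222835198964019398957348917) [53, 526, 10, 96, 10, 139, 10, 526, 53, 96, 53, 139] 394 11)) (.leaf (XRule.rot (nat_lit 749482949685) [53, 655, 10, 698] 251 1))) (.node (nat_lit 1) (.leaf (XRule.rot (nat_lit 195927705059) [483, 225, 483, 182] 66 1)) (.leaf (XRule.rot (nat_lit 826377231427831822966672412238590188629621048480257698794041) [569, 354, 311, 268, 397, 354, 311, 397, 612, 526, 569, 397, 268, 397, 354, 311, 354, 311, 612, 526] 427 0))))) (.node (nat_lit 4) (.node (nat_lit 2) (.node (nat_lit 1) (.leaf (XRule.rot (nat_lit 108853953984299663)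 [655, 96, 698, 96, 698, 96] 368 1)) (.leaf (XRule.rot (nat_lit 482196580392634731345291283786686643276853) [53, 483, 10, 354, 268, 311, 397, 53, 483, 10, 311, 397, 268, 354] 94 6))) (.node (nat_lit 1) (.leaf (XRule.rot (nat_lit 495454567071670583) [311, 440, 10, 311, 53, 440] 172 4)) (.leaf (XRule.rot (nat_lit 495738379989998989) [397, 311, 397, 440, 311, 440] 244 0)))) (.node (nat_lit 2) (.node (nat_lit 1) (.leaf (XRule.rot (nat_lit 100761696) [96, 96, 96] 2 0)) (.leaf (XRule.rot (nat_lit 302225571571143096) [440, 612, 440, 569, 440, 268] 204 3))) (.node (nat_lit 1) (.leaf (XRule.rot (nat_lit 60345607197877688) [440, 569, 268, 10, 612, 53] 143 0)) (.leaf (XRule.rot (nat_lit 380385986828) [268, 354, 268, 354] 18 1))))))))))) (.node (nat_lit 32) (.node (nat_lit 16) (.node (nat_lit 8) (.node (nat_lit 4) (.node (nat_lit 2) (.node (nat_lit 1) (.leaf (XRule.rot (nat_lit 507345524421693988874) [10, 440, 53, 440, 354, 53, 440] 37 6)) (.leaf (XRule.rot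 (nat_lit 380656519694) [526, 354, 526, 354] 392 0))) (.node (nat_lit 1) (.leaf (XRule.rot (nat_lit 426917639780) [612, 397, 612, 397] 113 1)) (.leaf (XRule.rot (nat_lit 640884771685457078) [182, 311, 612, 311, 225, 569] 348 1)))) (.node (nat_lit 2) (.node (nat_lit 1) (.leaf (XRule.rot (nat_lit 398910572373313589) [53, 354, 311, 53, 311, 354] 163 1)) (.leaf (XRule.rot (nat_lit 350308452717092538) [698, 311, 96, 698, 139, 311] 371 5))) (.node (nat_lit 1) (.leaf (XRule.rot (nat_lit 57504967268) [612, 10, 569, 53] 108 3)) (.leaf (XRule.rot (nat_lit 657186153482) [10, 569, 53, 612] 108 0))))) (.node (nat_lit 4) (.node (nat_lit 2) (.node (nat_lit 1) (.leaf (XRule.rot (nat_lit 68974202535960328577017376556460558) [526, 10, 96, 10, 139, 10, 526, 53, 96, 53, 139, 53] 394 0)) (.leaf (XRule.rot (nat_lit 380566342072) [440, 354, 440, 354] 22 1))) (.node (nat_lit 1) (.leaf (XRule.rot (nat_lit 205066672170828810) [10, 225, 96, 53, 139, 182] 51 4)) (.leaf (XRule.rot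 (nat_lit 738138089671200907) [139, 612, 96, 698, 612, 655] 343 2)))) (.node (nat_lit 2) (.node (nat_lit 1) (.leaf (XRule.rot (nat_lit 11364793832364171) [139, 182, 53, 225, 96, 10] 50 1)) (.leaf (XRule.rot (nat_lit 421174747244161584095796541994249173469606162941049018356109) [397, 612, 526, 569, 397, 311, 354, 397, 268, 311, 354, 612, 526, 569, 311, 354, 311, 354, 397, 268] 426 8))) (.node (nat_lit 1) (.leaf (XRule.rot (nat_lit 689345839021569464) [440, 397, 612, 397, 268, 612] 191 3)) (.leaf (XRule.rot (nat_lit 350733594575518050) [354, 526, 311, 354, 526, 311] 406 1)))))) (.node (nat_lit 8) (.node (nat_lit 4) (.node (nat_lit 2) (.node (nat_lit 1) (.leaf (XRule.rot (nat_lit 1072698558492191249107579498970227438451965835432425125354995472271651280066896490333918604427) [139, 139, 569, 96, 569, 139, 612, 96, 612, 526, 139, 139, 569, 96, 569, 139, 612, 96, 612, 526, 397, 139, 139, 569, 96, 569, 139, 612, 96, 612, 526] 431 20)) (.leaf (XRule.rot (nat_lit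 11375276512610) [354, 53, 53, 354, 10] 123 3))) (.node (nat_lit 1) (.leaf (XRule.rot (nat_lit 60062625536076130) [354, 698, 53, 655, 354, 53] 335 3)) (.leaf (XRule.rot (nat_lit 380250720352) [96, 354, 139, 354] 10 0)))) (.node (nat_lit 2) (.node (nat_lit 1) (.leaf (XRule.rot (nat_lit 579046833928847) [655, 526, 397, 655, 526] 420 2)) (.leaf (XRule.rot (nat_lit 380611430883) [483, 354, 483, 354] 76 0))) (.node (nat_lit 1) (.leaf (XRule.rot (nat_lit 447324268457679882) [10, 311, 397, 53, 311, 397] 62 0)) (.leaf (XRule.rot (nat_lit 641120889659730188) [268, 10, 612, 53, 440, 569] 143 4))))) (.node (nat_lit 4) (.node (nat_lit 2) (.node (nat_lit 1) (.leaf (XRule.rot (nat_lit 75778004509244638537563264533998393298068187619) [483, 10, 139, 10, 96, 53, 139, 53, 483, 10, 96, 10, 139, 53, 96, 53] 92 8)) (.leaf (XRule.rot (nat_lit 689392933292661047) [311, 182, 569, 225, 311, 612] 352 4))) (.node (nat_lit 1) (.leaf (XRule.rot (nat_lit 640790629223906400) [96,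 655, 612, 698, 139, 569] 340 1)) (.leaf (XRule.rot (nat_lit 253339085170727524) [612, 182, 53, 569, 10, 225] 329 3)))) (.node (nat_lit 2) (.node (nat_lit 1) (.leaf (XRule.rot (nat_lit 599082076532903772091630314089764742422753) [225, 440, 96, 268, 96, 440, 268, 182, 268, 440, 139, 268, 139, 440] 60 7)) (.leaf (XRule.rot (nat_lit 689771119257380065) [225, 569, 698, 182, 655, 612] 360 5))) (.node (nat_lit 1) (.leaf (XRule.rot (nat_lit 544152029903510925) [397, 311, 483, 397, 311, 483] 73 2)) (.leaf (XRule.rot (nat_lit 447277266483032375) [311, 268, 397, 311, 268, 397] 69 2))))))) (.node (nat_lit 1) (.leaf (XRule.rot (nat_lit 458011920924931449186) [354, 440, 397, 440, 311, 268, 397] 39 1)) (.leaf (XRule.rot (nat_lit 399005407443737997) [397, 311, 354, 311, 397, 354] 230 1)))))⟩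
noncomputable def ci10 : CI := ⟨[0], (nat_lit 53), true, (.node (nat_lit 64) (.node (nat_lit 32) (.node (nat_lit 16) (.node (nat_lit 8) (.node (nat_lit 4) (.node (nat_lit 2) (.node (nat_lit 1) (.leaf Rule.defn) (.leaf Rule.copy)) (.node (nat_lit 1) (.leaf (Rule.fwd [nat_lit 53] 434 0)) (.leaf (Rule.fwd [nat_lit 569, nat_lit 53, nat_lit 612] 108 0)))) (.node (nat_lit 2) (.node (nat_lit 1) (.leaf (Rule.fwd [nat_lit 655, nat_lit 53, nat_lit 698] 250 0)) (.leaf (Rule.fwd [nat_lit 139, nat_lit 182, nat_lit 53, nat_lit 225, nat_lit 96] 50 0))) (.node (nat_lit 1) (.leaf (Rule.fwd [nat_lit 96, nat_lit 53, nat_lit 96, nat_lit 10, nat_lit 139, nat_lit 53, nat_lit 139] 40 0)) (.leaf (Rule.fwd [nat_lit 612, nat_lit 53, nat_lit 569] 109 3))))) (.node (nat_lit 4) (.node (nat_lit 2) (.node (nat_lit 1) (.leaf (Rule.fwd [nat_lit 698, nat_lit 53, nat_lit 655] 251 3)) (.leaf (Rule.fwd [nat_lit 225, nat_lit 96, nat_lit 53, nat_lit 139, nat_lit 182] 51 4))) (.node (nat_lit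 1) (.leaf (Rule.fwd [nat_lit 397, nat_lit 53, nat_lit 397] 6 0)) (.leaf (Rule.fwd [nat_lit 354, nat_lit 397, nat_lit 10, nat_lit 397, nat_lit 354] 160 0)))) (.node (nat_lit 2) (.node (nat_lit 1) (.leaf (Rule.fwd [nat_lit 354, nat_lit 10, nat_lit 225, nat_lit 225] 264 3)) (.leaf (Rule.fwd [nat_lit 354, nat_lit 268, nat_lit 311, nat_lit 397, nat_lit 53, nat_lit 483, nat_lit 10, nat_lit 311, nat_lit 397, nat_lit 268, nat_lit 354, nat_lit 53, nat_lit 483] 94 8))) (.node (nat_lit 1) (.leaf (Rule.fwd [nat_lit 354, nat_lit 10, nat_lit 354] 4 0)) (.leaf (Rule.fwd [nat_lit 139, nat_lit 53, nat_lit 96, nat_lit 10, nat_lit 96, nat_lit 53, nat_lit 139] 41 3)))))) (.node (nat_lit 8) (.node (nat_lit 4) (.node (nat_lit 2) (.node (nat_lit 1) (.leaf (Rule.fwd [nat_lit 311, nat_lit 53, nat_lit 311] 8 0)) (.leaf (Rule.fwd [nat_lit 569, nat_lit 53, nat_lit 268, nat_lit 612, nat_lit 440] 142 0))) (.node (nat_lit 1) (.leaf (Rule.fwd [nat_lit 354, nat_lit 440, nat_lit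 10, nat_lit 440, nat_lit 53, nat_lit 440] 36 0)) (.leaf (Rule.fwd [nat_lit 440, nat_lit 53, nat_lit 440, nat_lit 10, nat_lit 354, nat_lit 440] 36 3)))) (.node (nat_lit 2) (.node (nat_lit 1) (.leaf (Rule.fwd [nat_lit 268, nat_lit 96, nat_lit 268, nat_lit 53, nat_lit 268, nat_lit 139, nat_lit 268] 42 0)) (.leaf (Rule.fwd [nat_lit 311, nat_lit 53, nat_lit 440, nat_lit 311, nat_lit 440] 172 0))) (.node (nat_lit 1) (.leaf (Rule.fwd [nat_lit 354, nat_lit 311, nat_lit 10, nat_lit 311, nat_lit 354] 162 0)) (.leaf (Rule.fwd [nat_lit 354, nat_lit 569, nat_lit 10, nat_lit 612, nat_lit 354] 150 3))))) (.node (nat_lit 4) (.node (nat_lit 2) (.node (nat_lit 1) (.leaf (Rule.fwd [nat_lit 225, nat_lit 569, nat_lit 182, nat_lit 53, nat_lit 612] 328 0)) (.leaf (Rule.fwd [nat_lit 397, nat_lit 53, nat_lit 268, nat_lit 397, nat_lit 268] 164 0))) (.node (nat_lit 1) (.leaf (Rule.fwd [nat_lit 354, nat_lit 10, nat_lit 440, nat_lit 354, nat_lit 440] 158 0)) (.leaf (Rule.fwd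 [nat_lit 268, nat_lit 139, nat_lit 268, nat_lit 53, nat_lit 268, nat_lit 96, nat_lit 268] 43 5)))) (.node (nat_lit 2) (.node (nat_lit 1) (.leaf (Rule.fwd [nat_lit 354, nat_lit 612, nat_lit 10, nat_lit 569, nat_lit 354] 144 3)) (.leaf (Rule.fwd [nat_lit 440, nat_lit 483, nat_lit 440, nat_lit 53, nat_lit 440, nat_lit 53, nat_lit 397, nat_lit 311, nat_lit 397, nat_lit 268, nat_lit 354, nat_lit 526, nat_lit 10, nat_lit 440] 390 3))) (.node (nat_lit 1) (.leaf (Rule.fwd [nat_lit 10, nat_lit 10] 0 0)) (.leaf (Rule.fwd [nat_lit 268, nat_lit 354, nat_lit 268, nat_lit 10, nat_lit 354] 156 2))))))) (.node (nat_lit 16) (.node (nat_lit 8) (.node (nat_lit 4) (.node (nat_lit 2) (.node (nat_lit 1) (.leaf (Rule.fwd [nat_lit 440, nat_lit 10, nat_lit 440, nat_lit 483, nat_lit 440, nat_lit 53, nat_lit 440, nat_lit 53, nat_lit 397, nat_lit 311, nat_lit 397, nat_lit 268, nat_lit 354, nat_lit 526] 390 1)) (.leaf (Rule.fwd [nat_lit 612, nat_lit 53, nat_lit 440, nat_lit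 569, nat_lit 268] 143 3))) (.node (nat_lit 1) (.leaf (Rule.fwd [nat_lit 569, nat_lit 655, nat_lit 53, nat_lit 698, nat_lit 612] 314 0)) (.leaf (Rule.fwd [nat_lit 698, nat_lit 612, nat_lit 53, nat_lit 569, nat_lit 655] 315 4)))) (.node (nat_lit 2) (.node (nat_lit 1) (.leaf (Rule.fwd [nat_lit 569, nat_lit 698, nat_lit 53, nat_lit 655, nat_lit 612] 316 0)) (.leaf (Rule.fwd [nat_lit 655, nat_lit 612, nat_lit 53, nat_lit 569, nat_lit 698] 317 4))) (.node (nat_lit 1) (.leaf (Rule.fwd [nat_lit 612, nat_lit 655, nat_lit 53, nat_lit 698, nat_lit 569] 318 0)) (.leaf (Rule.fwd [nat_lit 698, nat_lit 569, nat_lit 53, nat_lit 612, nat_lit 655] 319 4))))) (.node (nat_lit 4) (.node (nat_lit 2) (.node (nat_lit 1) (.leaf (Rule.fwd [nat_lit 612, nat_lit 698, nat_lit 53, nat_lit 655, nat_lit 569] 320 0)) (.leaf (Rule.fwd [nat_lit 655, nat_lit 569, nat_lit 53, nat_lit 612, nat_lit 698] 321 4))) (.node (nat_lit 1) (.leaf (Rule.fwd [nat_lit 311, nat_lit 698, nat_lit 53,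 nat_lit 655, nat_lit 311] 333 4)) (.leaf (Rule.fwd [nat_lit 311, nat_lit 655, nat_lit 53, nat_lit 698, nat_lit 311] 337 4)))) (.node (nat_lit 2) (.node (nat_lit 1) (.leaf (Rule.fwd [nat_lit 182, nat_lit 96, nat_lit 10, nat_lit 139, nat_lit 225] 322 3)) (.leaf (Rule.fwd [nat_lit 397, nat_lit 311, nat_lit 53, nat_lit 397, nat_lit 311] 63 4))) (.node (nat_lit 1) (.leaf (Rule.fwd [nat_lit 397, nat_lit 354, nat_lit 10, nat_lit 354, nat_lit 397] 160 3)) (.leaf (Rule.fwd [nat_lit 354, nat_lit 698, nat_lit 10, nat_lit 655, nat_lit 354] 334 3)))))) (.node (nat_lit 8) (.node (nat_lit 4) (.node (nat_lit 2) (.node (nat_lit 1) (.leaf (Rule.fwd [nat_lit 311, nat_lit 354, nat_lit 10, nat_lit 354, nat_lit 311] 162 3)) (.leaf (Rule.fwd [nat_lit 139, nat_lit 53, nat_lit 139, nat_lit 10, nat_lit 96, nat_lit 53, nat_lit 96] 40 4))) (.node (nat_lit 1) (.leaf (Rule.fwd [nat_lit 96, nat_lit 53, nat_lit 139, nat_lit 10, nat_lit 139, nat_lit 53, nat_lit 96] 41 7)) (.leaf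 (Rule.fwd [nat_lit 268, nat_lit 397, nat_lit 268, nat_lit 53, nat_lit 397] 170 0)))) (.node (nat_lit 2) (.node (nat_lit 1) (.leaf (Rule.fwd [nat_lit 440, nat_lit 311, nat_lit 440, nat_lit 53, nat_lit 311] 174 0)) (.leaf (Rule.fwd [nat_lit 311, nat_lit 10, nat_lit 311, nat_lit 10] 126 1))) (.node (nat_lit 1) (.leaf (Rule.fwd [nat_lit 10, nat_lit 612, nat_lit 10, nat_lit 569] 120 0)) (.leaf (Rule.fwd [nat_lit 139, nat_lit 10, nat_lit 96, nat_lit 53, nat_lit 139, nat_lit 53, nat_lit 483, nat_lit 354, nat_lit 96, nat_lit 96, nat_lit 10, nat_lit 139, nat_lit 10, nat_lit 96, nat_lit 53, nat_lit 139, nat_lit 53, nat_lit 483, nat_lit 96, nat_lit 96, nat_lit 10, nat_lit 139, nat_lit 10, nat_lit 96, nat_lit 53, nat_lit 139, nat_lit 53, nat_lit 483, nat_lit 96, nat_lit 96] 99 8))))) (.node (nat_lit 4) (.node (nat_lit 2) (.node (nat_lit 1) (.leaf (Rule.fwd [nat_lit 268, nat_lit 53, nat_lit 268, nat_lit 10, nat_lit 354, nat_lit 268] 34 3)) (.leaf (Rule.fwd [nat_lit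 311, nat_lit 10, nat_lit 10, nat_lit 311] 126 3))) (.node (nat_lit 1) (.leaf (Rule.fwd [nat_lit 10, nat_lit 354, nat_lit 53, nat_lit 354] 122 0)) (.leaf (Rule.fwd [nat_lit 569, nat_lit 354, nat_lit 10, nat_lit 354, nat_lit 612] 144 0)))) (.node (nat_lit 2) (.node (nat_lit 1) (.leaf (Rule.fwd [nat_lit 655, nat_lit 354, nat_lit 10, nat_lit 354, nat_lit 698] 334 0)) (.leaf (Rule.fwd [nat_lit 569, nat_lit 397, nat_lit 53, nat_lit 397, nat_lit 612] 146 0))) (.node (nat_lit 1) (.leaf (Rule.fwd [nat_lit 612, nat_lit 397, nat_lit 53, nat_lit 397, nat_lit 569] 152 0)) (.leaf (Rule.fwd [nat_lit 354, nat_lit 10, nat_lit 268, nat_lit 354, nat_lit 268] 156 0)))))))) (.node (nat_lit 32) (.node (nat_lit 16) (.node (nat_lit 8) (.node (nat_lit 4) (.node (nat_lit 2) (.node (nat_lit 1) (.leaf (Rule.fwd [nat_lit 311, nat_lit 397, nat_lit 53, nat_lit 311, nat_lit 397] 62 0)) (.leaf (Rule.fwd [nat_lit 612, nat_lit 53, nat_lit 182, nat_lit 569, nat_lit 225] 311 3))) (.node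 (nat_lit 1) (.leaf (Rule.fwd [nat_lit 397, nat_lit 10, nat_lit 10, nat_lit 397] 124 3)) (.leaf (Rule.fwd [nat_lit 354, nat_lit 268, nat_lit 10, nat_lit 268, nat_lit 53, nat_lit 268] 34 0)))) (.node (nat_lit 2) (.node (nat_lit 1) (.leaf (Rule.fwd [nat_lit 182, nat_lit 182, nat_lit 10, nat_lit 182, nat_lit 182] 326 0)) (.leaf (Rule.fwd [nat_lit 311, nat_lit 612, nat_lit 53, nat_lit 569, nat_lit 311] 149 4))) (.node (nat_lit 1) (.leaf (Rule.fwd [nat_lit 139, nat_lit 225, nat_lit 10, nat_lit 182, nat_lit 96] 322 0)) (.leaf (Rule.fwd [nat_lit 397, nat_lit 569, nat_lit 53, nat_lit 612, nat_lit 397] 153 4))))) (.node (nat_lit 4) (.node (nat_lit 2) (.node (nat_lit 1) (.leaf (Rule.fwd [nat_lit 354, nat_lit 655, nat_lit 10, nat_lit 698, nat_lit 354] 338 3)) (.leaf (Rule.fwd [nat_lit 569, nat_lit 53, nat_lit 182, nat_lit 612, nat_lit 225] 310 0))) (.node (nat_lit 1) (.leaf (Rule.fwd [nat_lit 569, nat_lit 311, nat_lit 53, nat_lit 311, nat_lit 612] 148 0)) (.leaf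 (Rule.fwd [nat_lit 655, nat_lit 311, nat_lit 53, nat_lit 311, nat_lit 698] 332 0)))) (.node (nat_lit 2) (.node (nat_lit 1) (.leaf (Rule.fwd [nat_lit 698, nat_lit 311, nat_lit 53, nat_lit 311, nat_lit 655] 336 0)) (.leaf (Rule.fwd [nat_lit 612, nat_lit 311, nat_lit 53, nat_lit 311, nat_lit 569] 154 0))) (.node (nat_lit 1) (.leaf (Rule.fwd [nat_lit 10, nat_lit 397, nat_lit 10, nat_lit 397] 124 0)) (.leaf (Rule.fwd [nat_lit 311, nat_lit 397, nat_lit 268, nat_lit 354, nat_lit 53, nat_lit 483, nat_lit 10, nat_lit 354, nat_lit 268, nat_lit 311, nat_lit 397, nat_lit 53, nat_lit 483] 94 1)))))) (.node (nat_lit 8) (.node (nat_lit 4) (.node (nat_lit 2) (.node (nat_lit 1) (.leaf (Rule.fwd [nat_lit 96, nat_lit 10, nat_lit 139, nat_lit 10, nat_lit 526, nat_lit 53, nat_lit 96, nat_lit 53, nat_lit 139, nat_lit 53, nat_lit 526] 394 1)) (.leaf (Rule.fwd [nat_lit 397, nat_lit 10, nat_lit 397, nat_lit 10] 124 1))) (.node (nat_lit 1) (.leaf (Rule.fwd [nat_lit 268,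 nat_lit 612, nat_lit 440, nat_lit 53, nat_lit 569] 168 0)) (.leaf (Rule.fwd [nat_lit 354, nat_lit 53, nat_lit 354, nat_lit 10] 122 1)))) (.node (nat_lit 2) (.node (nat_lit 1) (.leaf (Rule.fwd [nat_lit 440, nat_lit 569, nat_lit 268, nat_lit 53, nat_lit 612] 169 5)) (.leaf (Rule.fwd [nat_lit 569, nat_lit 10, nat_lit 612, nat_lit 10] 118 1))) (.node (nat_lit 1) (.leaf (Rule.fwd [nat_lit 655, nat_lit 10, nat_lit 698, nat_lit 10] 258 1)) (.leaf (Rule.fwd [nat_lit 225, nat_lit 612, nat_lit 182, nat_lit 53, nat_lit 569] 329 5))))) (.node (nat_lit 4) (.node (nat_lit 2) (.node (nat_lit 1) (.leaf (Rule.fwd [nat_lit 182, nat_lit 569, nat_lit 225, nat_lit 53, nat_lit 612] 324 0)) (.leaf (Rule.fwd [nat_lit 182, nat_lit 612, nat_lit 225, nat_lit 53, nat_lit 569] 325 5))) (.node (nat_lit 1) (.leaf (Rule.fwd [nat_lit 10, nat_lit 569, nat_lit 10, nat_lit 612] 118 0)) (.leaf (Rule.fwd [nat_lit 311, nat_lit 397, nat_lit 10, nat_lit 311, nat_lit 397, nat_lit 10] 78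 1)))) (.node (nat_lit 2) (.node (nat_lit 1) (.leaf (Rule.fwd [nat_lit 612, nat_lit 53, nat_lit 225, nat_lit 569, nat_lit 182] 313 3)) (.leaf (Rule.fwd [nat_lit 569, nat_lit 53, nat_lit 225, nat_lit 612, nat_lit 182] 312 0))) (.node (nat_lit 1) (.leaf (Rule.fwd [nat_lit 10, nat_lit 311, nat_lit 10, nat_lit 311] 126 0)) (.leaf (Rule.fwd [nat_lit 397, nat_lit 612, nat_lit 53, nat_lit 569, nat_lit 397] 147 4))))))) (.node (nat_lit 16) (.node (nat_lit 8) (.node (nat_lit 4) (.node (nat_lit 2) (.node (nat_lit 1) (.leaf (Rule.fwd [nat_lit 311, nat_lit 397, nat_lit 53, nat_lit 397, nat_lit 311] 167 4)) (.leaf (Rule.fwd [nat_lit 225, nat_lit 225, nat_lit 10, nat_lit 225, nat_lit 225] 330 0))) (.node (nat_lit 1) (.leaf (Rule.fwd [nat_lit 225, nat_lit 225, nat_lit 10, nat_lit 354] 264 0)) (.leaf (Rule.fwd [nat_lit 311, nat_lit 569, nat_lit 53, nat_lit 612, nat_lit 311] 155 4)))) (.node (nat_lit 2) (.node (nat_lit 1) (.leaf (Rule.fwd [nat_lit 10, nat_lit 655,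 nat_lit 10, nat_lit 698] 258 0)) (.leaf (Rule.fwd [nat_lit 612, nat_lit 10, nat_lit 569, nat_lit 10] 120 1))) (.node (nat_lit 1) (.leaf (Rule.fwd [nat_lit 96, nat_lit 53, nat_lit 139, nat_lit 53, nat_lit 483, nat_lit 10, nat_lit 96, nat_lit 10, nat_lit 139, nat_lit 53, nat_lit 96, nat_lit 53, nat_lit 483, nat_lit 10, nat_lit 139] 92 11)) (.leaf (Rule.fwd [nat_lit 139, nat_lit 10, nat_lit 526, nat_lit 53, nat_lit 96, nat_lit 53, nat_lit 139, nat_lit 53, nat_lit 526, nat_lit 10, nat_lit 96] 394 3))))) (.node (nat_lit 4) (.node (nat_lit 2) (.node (nat_lit 1) (.leaf (Rule.fwd [nat_lit 397, nat_lit 311, nat_lit 53, nat_lit 311, nat_lit 397] 166 0)) (.leaf (Rule.fwd [nat_lit 440, nat_lit 354, nat_lit 440, nat_lit 10, nat_lit 354] 158 2))) (.node (nat_lit 1) (.leaf (Rule.fwd [nat_lit 698, nat_lit 10, nat_lit 655, nat_lit 10] 260 1)) (.leaf (Rule.fwd [nat_lit 139, nat_lit 53, nat_lit 96, nat_lit 53, nat_lit 483, nat_lit 10, nat_lit 139, nat_lit 10, nat_lit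 96, nat_lit 53, nat_lit 139, nat_lit 53, nat_lit 483, nat_lit 10, nat_lit 96] 92 3)))) (.node (nat_lit 2) (.node (nat_lit 1) (.leaf (Rule.fwd [nat_lit 698, nat_lit 10, nat_lit 10, nat_lit 655] 258 3)) (.leaf (Rule.fwd [nat_lit 655, nat_lit 10, nat_lit 10, nat_lit 698] 260 3))) (.node (nat_lit 1) (.leaf (Rule.fwd [nat_lit 612, nat_lit 10, nat_lit 10, nat_lit 569] 118 3)) (.leaf (Rule.fwd [nat_lit 397, nat_lit 311, nat_lit 268, nat_lit 354, nat_lit 53, nat_lit 483, nat_lit 10, nat_lit 354, nat_lit 268, nat_lit 397, nat_lit 311, nat_lit 53, nat_lit 483] 95 0)))))) (.node (nat_lit 8) (.node (nat_lit 4) (.node (nat_lit 2) (.node (nat_lit 1) (.leaf (Rule.fwd [nat_lit 311, nat_lit 397, nat_lit 10, nat_lit 10, nat_lit 311, nat_lit 397] 78 4)) (.leaf (Rule.fwd [nat_lit 354, nat_lit 53, nat_lit 53, nat_lit 354] 123 4))) (.node (nat_lit 1) (.leaf (Rule.fwd [nat_lit 526, nat_lit 53, nat_lit 96, nat_lit 53, nat_lit 139, nat_lit 53, nat_lit 526, nat_lit 10, nat_lit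 96, nat_lit 10, nat_lit 139] 394 5)) (.leaf (Rule.fwd [nat_lit 10, nat_lit 698, nat_lit 10, nat_lit 655] 260 0)))) (.node (nat_lit 2) (.node (nat_lit 1) (.leaf (Rule.fwd [nat_lit 139, nat_lit 10, nat_lit 96, nat_lit 53, nat_lit 139, nat_lit 53, nat_lit 483, nat_lit 10, nat_lit 96, nat_lit 10, nat_lit 139, nat_lit 53, nat_lit 96, nat_lit 53, nat_lit 483] 92 9)) (.leaf (Rule.fwd [nat_lit 96, nat_lit 10, nat_lit 139, nat_lit 53, nat_lit 96, nat_lit 53, nat_lit 483, nat_lit 10, nat_lit 139, nat_lit 10, nat_lit 96, nat_lit 53, nat_lit 139, nat_lit 53, nat_lit 483] 92 1))) (.node (nat_lit 1) (.leaf (Rule.fwd [nat_lit 354, nat_lit 10, nat_lit 182, nat_lit 182] 262 3)) (.leaf (Rule.fwd [nat_lit 354, nat_lit 268, nat_lit 397, nat_lit 311, nat_lit 53, nat_lit 483, nat_lit 10, nat_lit 397, nat_lit 311, nat_lit 268, nat_lit 354, nat_lit 53, nat_lit 483] 95 7))))) (.node (nat_lit 4) (.node (nat_lit 2) (.node (nat_lit 1) (.leaf (Rule.fwd [nat_lit 440, nat_lit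 10, nat_lit 440, nat_lit 483, nat_lit 440, nat_lit 53, nat_lit 440, nat_lit 53, nat_lit 526, nat_lit 354, nat_lit 268, nat_lit 397, nat_lit 311, nat_lit 397] 391 10)) (.leaf (Rule.fwd [nat_lit 182, nat_lit 182, nat_lit 10, nat_lit 354] 262 0))) (.node (nat_lit 1) (.leaf (Rule.fwd [nat_lit 569, nat_lit 10, nat_lit 10, nat_lit 612] 120 3)) (.leaf (Rule.fwd [nat_lit 440, nat_lit 483, nat_lit 440, nat_lit 53, nat_lit 440, nat_lit 53, nat_lit 526, nat_lit 354, nat_lit 268, nat_lit 397, nat_lit 311, nat_lit 397, nat_lit 10, nat_lit 440] 391 8)))) (.leaf (Rule.fwd [nat_lit 612, nat_lit 354, nat_lit 10, nat_lit 354, nat_lit 569] 150 0))))))), (.node (nat_lit 64) (.node (nat_lit 32) (.node (nat_lit 16) (.node (nat_lit 8) (.node (nat_lit 4) (.node (nat_lit 2) (.node (nat_lit 1) (.leaf XRule.defn) (.leaf XRule.ax)) (.node (nat_lit 1) (.leaf (XRule.rot (nat_lit 309091344351997603084) [268, 139, 268, 53, 268, 96, 268] 43 5)) (.leaf (XRule.rot (nat_lit 53) [53]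 434 0)))) (.node (nat_lit 2) (.node (nat_lit 1) (.leaf (XRule.rot (nat_lit 247539376947382) [182, 96, 10, 139, 225] 322 3)) (.leaf (XRule.rot (nat_lit 200260422041825) [225, 96, 53, 139, 182] 51 4))) (.node (nat_lit 1) (.leaf (XRule.rot (nat_lit 105794763937931) [139, 182, 53, 225, 96] 50 0)) (.leaf (XRule.rot (nat_lit 110740242701319459979) [139, 53, 139, 10, 96, 53, 96] 40 4))))) (.node (nat_lit 4) (.node (nat_lit 2) (.node (nat_lit 1) (.leaf (XRule.rot (nat_lit 160315914678368785504) [96, 53, 96, 10, 139, 53, 139] 40 0)) (.leaf (XRule.rot (nat_lit 596694628) [612, 53, 569] 109 3))) (.node (nat_lit 1) (.leaf (XRule.rot (nat_lit 641783353) [569, 53, 612] 108 0)) (.leaf (XRule.rot (nat_lit 686872250) [698, 53, 655] 251 3)))) (.node (nat_lit 2) (.node (nat_lit 1) (.leaf (XRule.rot (nat_lit 731960975) [655, 53, 698] 250 0)) (.leaf (XRule.rot (nat_lit 436840105915703) [311, 397, 53, 311, 397] 62 0))) (.node (nat_lit 1) (.leaf (XRule.rot (nat_lit 326161719)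 [311, 53, 311] 8 0)) (.leaf (XRule.rot (nat_lit 200722311337572) [612, 53, 225, 569, 182] 313 3)))))) (.node (nat_lit 8) (.node (nat_lit 4) (.node (nat_lit 2) (.node (nat_lit 1) (.leaf (XRule.rot (nat_lit 389838086443362) [354, 612, 10, 569, 354] 144 3)) (.leaf (XRule.rot (nat_lit 309139758047991791884) [268, 96, 268, 53, 268, 139, 268] 42 0))) (.node (nat_lit 1) (.leaf (XRule.rot (nat_lit 301799736923664738) [354, 268, 10, 268, 53, 268] 34 0)) (.leaf (XRule.rot (nat_lit 302130413168547084) [268, 53, 268, 10, 354, 268] 34 3)))) (.node (nat_lit 2) (.node (nat_lit 1) (.leaf (XRule.rot (nat_lit 295095672821133) [397, 53, 268, 397, 268] 164 0)) (.leaf (XRule.rot (nat_lit 484119511356727) [311, 53, 440, 311, 440] 172 0))) (.node (nat_lit 1) (.leaf (XRule.rot (nat_lit 160315867399368791179) [139, 53, 96, 10, 96, 53, 139] 41 3)) (.leaf (XRule.rot (nat_lit 389653402629474) [354, 397, 10, 397, 354] 160 0))))) (.node (nat_lit 4) (.node (nat_lit 2) (.node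 (nat_lit 1) (.leaf (XRule.rot (nat_lit 720560231647930) [698, 354, 10, 354, 655] 338 0)) (.leaf (XRule.rot (nat_lit 642086368978050675126761016996733923682) [354, 268, 311, 397, 53, 483, 10, 311, 397, 268, 354, 53, 483] 94 8))) (.node (nat_lit 1) (.leaf (XRule.rot (nat_lit 371206498) [354, 10, 354] 4 0)) (.leaf (XRule.rot (nat_lit 389561060744546) [354, 311, 10, 311, 354] 162 0)))) (.node (nat_lit 2) (.node (nat_lit 1) (.leaf (XRule.rot (nat_lit 295280536770148) [612, 53, 440, 569, 268] 143 3)) (.leaf (XRule.rot (nat_lit 10250) [10, 10] 0 0))) (.node (nat_lit 1) (.leaf (XRule.rot (nat_lit 484165682211170) [354, 10, 440, 354, 440] 158 0)) (.leaf (XRule.rot (nat_lit 241827850594) [354, 10, 225, 225] 264 3))))))) (.node (nat_lit 16) (.node (nat_lit 8) (.node (nat_lit 4) (.node (nat_lit 2) (.node (nat_lit 1) (.leaf (XRule.rot (nat_lit 598910941296927002906595339999051789077944) [440, 483, 440, 53, 440, 53, 397, 311, 397, 268, 354, 526, 10, 440] 390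 3)) (.leaf (XRule.rot (nat_lit 389238135032076) [268, 354, 268, 10, 354] 156 2))) (.node (nat_lit 1) (.leaf (XRule.rot (nat_lit 484442527290937) [569, 53, 268, 612, 440] 142 0)) (.leaf (XRule.rot (nat_lit 447324221881070903) [311, 397, 10, 10, 311, 397] 78 4)))) (.node (nat_lit 2) (.node (nat_lit 1) (.leaf (XRule.rot (nat_lit 416339341) [397, 53, 397] 6 0)) (.leaf (XRule.rot (nat_lit 380115322081) [225, 225, 10, 354] 264 0))) (.node (nat_lit 1) (.leaf (XRule.rot (nat_lit 295049501878626) [354, 10, 268, 354, 268] 156 0)) (.leaf (XRule.rot (nat_lit 193751977292953283807079763777362548134827104) [96, 53, 139, 53, 483, 10, 96, 10, 139, 53, 96, 53, 483, 10, 139] 92 11))))) (.node (nat_lit 4) (.node (nat_lit 2) (.node (nat_lit 1) (.leaf (XRule.rot (nat_lit 342328231692599) [311, 354, 10, 354, 311] 162 3)) (.leaf (XRule.rot (nat_lit 248001266243172) [612, 53, 182, 569, 225] 311 3))) (.node (nat_lit 1) (.leaf (XRule.rot (nat_lit 389930428328290) [354, 698,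 10, 655, 354] 334 3)) (.leaf (XRule.rot (nat_lit 110740289980319454304) [96, 53, 139, 10, 139, 53, 96] 41 7)))) (.node (nat_lit 2) (.node (nat_lit 1) (.leaf (XRule.rot (nat_lit 105748547994763) [139, 225, 10, 182, 96] 322 0)) (.leaf (XRule.rot (nat_lit 200306547939510) [182, 182, 10, 182, 182] 326 0))) (.node (nat_lit 1) (.leaf (XRule.rot (nat_lit 195611863394) [354, 10, 182, 182] 262 3)) (.leaf (XRule.rot (nat_lit 342374447635853) [397, 311, 53, 397, 311] 63 4)))))) (.node (nat_lit 8) (.node (nat_lit 4) (.node (nat_lit 2) (.node (nat_lit 1) (.leaf (XRule.rot (nat_lit 437117131526541) [397, 612, 53, 569, 397] 147 4)) (.leaf (XRule.rot (nat_lit 248047437141561) [569, 53, 182, 612, 225] 310 0))) (.node (nat_lit 1) (.leaf (XRule.rot (nat_lit 495785197325833656) [440, 53, 440, 10, 354, 440] 36 3)) (.leaf (XRule.rot (nat_lit 625679486521612) [268, 612, 440, 53, 569] 168 0)))) (.node (nat_lit 2) (.node (nat_lit 1) (.leaf (XRule.rot (nat_lit 11108668770)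 [354, 53, 354, 10] 122 1)) (.leaf (XRule.rot (nat_lit 495454705584365922) [354, 440, 10, 440, 53, 440] 36 0))) (.node (nat_lit 1) (.leaf (XRule.rot (nat_lit 342005486247352) [440, 311, 440, 53, 311] 174 0)) (.leaf (XRule.rot (nat_lit 389238315387320) [440, 354, 440, 10, 354] 158 2))))) (.node (nat_lit 4) (.node (nat_lit 2) (.node (nat_lit 1) (.leaf (XRule.rot (nat_lit 672958261028022) [182, 569, 225, 53, 612] 324 0)) (.leaf (XRule.rot (nat_lit 672958215939297) [225, 569, 182, 53, 612] 328 0))) (.node (nat_lit 1) (.leaf (XRule.rot (nat_lit 626371644243556) [612, 655, 53, 698, 569] 318 0)) (.leaf (XRule.rot (nat_lit 200768482235961) [569, 53, 225, 612, 182] 312 0)))) (.node (nat_lit 2) (.node (nat_lit 1) (.leaf (XRule.rot (nat_lit 625679215988961) [225, 612, 182, 53, 569] 329 5)) (.leaf (XRule.rot (nat_lit 342697644277047) [311, 655, 53, 698, 311] 337 4))) (.node (nat_lit 1) (.leaf (XRule.rot (nat_lit 426286000525) [397, 10, 10, 397] 124 3)) (.leaf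 (XRule.rot (nat_lit 673327447684665) [569, 397, 53, 397, 612] 146 0)))))))) (.node (nat_lit 32) (.node (nat_lit 16) (.node (nat_lit 8) (.node (nat_lit 4) (.node (nat_lit 2) (.node (nat_lit 1) (.leaf (XRule.rot (nat_lit 626048447690340) [612, 397, 53, 397, 569] 152 0)) (.leaf (XRule.rot (nat_lit 11424246458) [698, 10, 655, 10] 260 1))) (.node (nat_lit 1) (.leaf (XRule.rot (nat_lit 11469335183) [655, 10, 698, 10] 258 1)) (.leaf (XRule.rot (nat_lit 720791131493050) [698, 612, 53, 569, 655] 315 4)))) (.node (nat_lit 2) (.node (nat_lit 1) (.leaf (XRule.rot (nat_lit 768070131487375) [655, 612, 53, 569, 698] 317 4)) (.leaf (XRule.rot (nat_lit 720837302347450) [698, 569, 53, 612, 655] 319 4))) (.node (nat_lit 1) (.leaf (XRule.rot (nat_lit 768116302341775) [655, 569, 53, 612, 698] 321 4)) (.leaf (XRule.rot (nat_lit 333944203575) [311, 10, 10, 311] 126 3))))) (.node (nat_lit 4) (.node (nat_lit 2) (.node (nat_lit 1) (.leaf (XRule.rot (nat_lit 673235105799737)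 [569, 311, 53, 311, 612] 148 0)) (.leaf (XRule.rot (nat_lit 437163302380941) [397, 569, 53, 612, 397] 153 4))) (.node (nat_lit 1) (.leaf (XRule.rot (nat_lit 610969594468) [612, 10, 10, 569] 118 3)) (.leaf (XRule.rot (nat_lit 11379157561) [569, 10, 612, 10] 118 1)))) (.node (nat_lit 2) (.node (nat_lit 1) (.leaf (XRule.rot (nat_lit 342559131537719) [311, 612, 53, 569, 311] 149 4)) (.leaf (XRule.rot (nat_lit 342605302392119) [311, 569, 53, 612, 311] 155 4))) (.node (nat_lit 1) (.leaf (XRule.rot (nat_lit 625956105805412) [612, 311, 53, 311, 569] 154 0)) (.leaf (XRule.rot (nat_lit 436886231681421) [397, 354, 10, 354, 397] 160 3)))))) (.node (nat_lit 8) (.node (nat_lit 4) (.node (nat_lit 2) (.node (nat_lit 1) (.leaf (XRule.rot (nat_lit 767839231642255) [655, 354, 10, 354, 698] 334 0)) (.leaf (XRule.rot (nat_lit 673650644237881) [569, 655, 53, 698, 612] 314 0))) (.node (nat_lit 1) (.leaf (XRule.rot (nat_lit 767793105788559) [655, 311, 53, 311, 698] 332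 0)) (.leaf (XRule.rot (nat_lit 720514105794234) [698, 311, 53, 311, 655] 336 0)))) (.node (nat_lit 2) (.node (nat_lit 1) (.leaf (XRule.rot (nat_lit 672958306117048) [440, 569, 268, 53, 612] 169 5)) (.leaf (XRule.rot (nat_lit 333944511498) [10, 311, 10, 311] 126 0))) (.node (nat_lit 1) (.leaf (XRule.rot (nat_lit 11063535927) [311, 10, 311, 10] 126 1)) (.leaf (XRule.rot (nat_lit 436563305968908) [268, 397, 268, 53, 397] 170 0))))) (.node (nat_lit 4) (.node (nat_lit 2) (.node (nat_lit 1) (.leaf (XRule.rot (nat_lit 716424995099694676828853147463549844466104) [440, 10, 440, 483, 440, 53, 440, 53, 397, 311, 397, 268, 354, 526] 390 1)) (.leaf (XRule.rot (nat_lit 342651473422647) [311, 698, 53, 655, 311] 333 4))) (.node (nat_lit 1) (.leaf (XRule.rot (nat_lit 380160542730) [10, 354, 53, 354] 122 0)) (.leaf (XRule.rot (nat_lit 673281231653433) [569, 354, 10, 354, 612] 144 0)))) (.node (nat_lit 2) (.node (nat_lit 1) (.leaf (XRule.rot (nat_lit 247631718876385)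 [225, 225, 10, 225, 225] 330 0)) (.leaf (XRule.rot (nat_lit 642086423540102005964606036814567191863) [311, 397, 268, 354, 53, 483, 10, 354, 268, 311, 397, 53, 483] 94 1))) (.node (nat_lit 1) (.leaf (XRule.rot (nat_lit 749482289807) [655, 10, 10, 698] 260 3)) (.leaf (XRule.rot (nat_lit 11153713549) [397, 10, 397, 10] 124 1))))))) (.node (nat_lit 8) (.node (nat_lit 4) (.node (nat_lit 2) (.node (nat_lit 1) (.leaf (XRule.rot (nat_lit 749482949642) [10, 655, 10, 698] 258 0)) (.leaf (XRule.rot (nat_lit 703312095242) [10, 698, 10, 655] 260 0))) (.node (nat_lit 1) (.leaf (XRule.rot (nat_lit 598910773791003877713141705959428353134008) [440, 483, 440, 53, 440, 53, 526, 354, 268, 397, 311, 397, 10, 440] 391 8)) (.leaf (XRule.rot (nat_lit 426286396426) [10, 397, 10, 397] 124 0)))) (.node (nat_lit 2) (.node (nat_lit 1) (.leaf (XRule.rot (nat_lit 642086368977946809037153540492829667682) [354, 268, 397, 311, 53, 483, 10, 397, 311, 268, 354, 53, 483] 95 7)) (.leaf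 (XRule.rot (nat_lit 389976599182690) [354, 655, 10, 698, 354] 338 3))) (.node (nat_lit 1) (.leaf (XRule.rot (nat_lit 447324222286781450) [10, 311, 397, 10, 311, 397] 78 0)) (.leaf (XRule.rot (nat_lit 11695839129253175) [311, 397, 10, 311, 397, 10] 78 1))))) (.node (nat_lit 4) (.node (nat_lit 2) (.node (nat_lit 1) (.leaf (XRule.rot (nat_lit 666849994645501813388804942211168) [96, 10, 139, 10, 526, 53, 96, 53, 139, 53, 526] 394 1)) (.leaf (XRule.rot (nat_lit 121707472980015665406847184021643) [139, 10, 526, 53, 96, 53, 139, 53, 526, 10, 96] 394 3))) (.node (nat_lit 1) (.leaf (XRule.rot (nat_lit 625679261077686) [182, 612, 225, 53, 569] 325 5)) (.leaf (XRule.rot (nat_lit 642086314628613229715420211739416124813) [397, 311, 268, 354, 53, 483, 10, 354, 268, 397, 311, 53, 483] 95 0)))) (.node (nat_lit 2) (.node (nat_lit 1) (.leaf (XRule.rot (nat_lit 389884257297762) [354, 569, 10, 612, 354] 150 3)) (.leaf (XRule.rot (nat_lit 176215928901407836359373011080718)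 [526, 53, 96, 53, 139, 53, 526, 10, 96, 10, 139] 394 5))) (.node (nat_lit 1) (.leaf (XRule.rot (nat_lit 657141064714) [10, 569, 10, 612] 118 0)) (.leaf (XRule.rot (nat_lit 540782304252771825991086415279581495830968) [440, 10, 440, 483, 440, 53, 440, 53, 526, 354, 268, 397, 311, 397] 391 10))))))))⟩
noncomputable def ci53 : CI := ⟨[1], (nat_lit 10), false, (.node (nat_lit 64) (.node (nat_lit 32) (.node (nat_lit 16) (.node (nat_lit 8) (.node (nat_lit 4) (.node (nat_lit 2) (.node (nat_lit 1) (.leaf Rule.defn) (.leaf Rule.copy)) (.node (nat_lit 1) (.leaf (Rule.fwd [nat_lit 10] 434 0)) (.leaf (Rule.fwd [nat_lit 612, nat_lit 10, nat_lit 569] 108 2)))) (.node (nat_lit 2) (.node (nat_lit 1) (.leaf (Rule.fwd [nat_lit 698, nat_lit 10, nat_lit 655] 250 2)) (.leaf (Rule.fwd [nat_lit 53, nat_lit 53] 1 0))) (.node (nat_lit 1) (.leaf (Rule.fwd [nat_lit 311, nat_lit 10, nat_lit 311] 8 2)) (.leaf (Rule.fwd [nat_lit 569, nat_lit 10, nat_lit 612] 109 1))))) (.node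 (nat_lit 4) (.node (nat_lit 2) (.node (nat_lit 1) (.leaf (Rule.fwd [nat_lit 655, nat_lit 10, nat_lit 698] 251 1)) (.leaf (Rule.fwd [nat_lit 268, nat_lit 10, nat_lit 354, nat_lit 268, nat_lit 10, nat_lit 268] 34 5))) (.node (nat_lit 1) (.leaf (Rule.fwd [nat_lit 354, nat_lit 53, nat_lit 354] 5 1)) (.leaf (Rule.fwd [nat_lit 139, nat_lit 53, nat_lit 526, nat_lit 10, nat_lit 96, nat_lit 10, nat_lit 139, nat_lit 10, nat_lit 526, nat_lit 53, nat_lit 96] 394 9)))) (.node (nat_lit 2) (.node (nat_lit 1) (.leaf (Rule.fwd [nat_lit 96, nat_lit 10, nat_lit 96, nat_lit 53, nat_lit 139, nat_lit 10, nat_lit 139] 41 1)) (.leaf (Rule.fwd [nat_lit 139, nat_lit 10, nat_lit 96, nat_lit 53, nat_lit 96, nat_lit 10, nat_lit 139] 40 6))) (.node (nat_lit 1) (.leaf (Rule.fwd [nat_lit 139, nat_lit 182, nat_lit 10, nat_lit 225, nat_lit 96] 51 1)) (.leaf (Rule.fwd [nat_lit 225, nat_lit 96, nat_lit 10, nat_lit 139, nat_lit 182] 50 3)))))) (.node (nat_lit 8) (.node (nat_lit 4)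 (.node (nat_lit 2) (.node (nat_lit 1) (.leaf (Rule.fwd [nat_lit 182, nat_lit 96, nat_lit 53, nat_lit 139, nat_lit 225] 323 4)) (.leaf (Rule.fwd [nat_lit 397, nat_lit 10, nat_lit 397] 6 2))) (.node (nat_lit 1) (.leaf (Rule.fwd [nat_lit 354, nat_lit 53, nat_lit 225, nat_lit 225] 263 1)) (.leaf (Rule.fwd [nat_lit 569, nat_lit 10, nat_lit 268, nat_lit 612, nat_lit 440] 168 4)))) (.node (nat_lit 2) (.node (nat_lit 1) (.leaf (Rule.fwd [nat_lit 354, nat_lit 612, nat_lit 53, nat_lit 569, nat_lit 354] 145 4)) (.leaf (Rule.fwd [nat_lit 440, nat_lit 354, nat_lit 53, nat_lit 440, nat_lit 10, nat_lit 440] 37 4))) (.node (nat_lit 1) (.leaf (Rule.fwd [nat_lit 268, nat_lit 139, nat_lit 268, nat_lit 10, nat_lit 268, nat_lit 96, nat_lit 268] 42 4)) (.leaf (Rule.fwd [nat_lit 569, nat_lit 53, nat_lit 612, nat_lit 53] 119 1))))) (.node (nat_lit 4) (.node (nat_lit 2) (.node (nat_lit 1) (.leaf (Rule.fwd [nat_lit 354, nat_lit 53, nat_lit 268, nat_lit 354, nat_lit 268]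 157 3)) (.leaf (Rule.fwd [nat_lit 440, nat_lit 10, nat_lit 354, nat_lit 440, nat_lit 10, nat_lit 440] 36 5))) (.node (nat_lit 1) (.leaf (Rule.fwd [nat_lit 440, nat_lit 53, nat_lit 397, nat_lit 311, nat_lit 397, nat_lit 268, nat_lit 354, nat_lit 526, nat_lit 10, nat_lit 440, nat_lit 10, nat_lit 440, nat_lit 483, nat_lit 440] 390 7)) (.leaf (Rule.fwd [nat_lit 311, nat_lit 397, nat_lit 10, nat_lit 311, nat_lit 397] 62 3)))) (.node (nat_lit 2) (.node (nat_lit 1) (.leaf (Rule.fwd [nat_lit 354, nat_lit 53, nat_lit 440, nat_lit 354, nat_lit 440] 159 3)) (.leaf (Rule.fwd [nat_lit 397, nat_lit 10, nat_lit 268, nat_lit 397, nat_lit 268] 170 4))) (.node (nat_lit 1) (.leaf (Rule.fwd [nat_lit 268, nat_lit 354, nat_lit 268, nat_lit 53, nat_lit 354] 157 1)) (.leaf (Rule.fwd [nat_lit 526, nat_lit 354, nat_lit 268, nat_lit 397, nat_lit 311, nat_lit 397, nat_lit 10, nat_lit 440, nat_lit 10, nat_lit 440, nat_lit 483, nat_lit 440, nat_lit 53, nat_lit 440] 391 2)))))))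 (.node (nat_lit 16) (.node (nat_lit 8) (.node (nat_lit 4) (.node (nat_lit 2) (.node (nat_lit 1) (.leaf (Rule.fwd [nat_lit 311, nat_lit 53, nat_lit 311, nat_lit 53] 127 1)) (.leaf (Rule.fwd [nat_lit 612, nat_lit 10, nat_lit 440, nat_lit 569, nat_lit 268] 169 1))) (.node (nat_lit 1) (.leaf (Rule.fwd [nat_lit 397, nat_lit 612, nat_lit 10, nat_lit 569, nat_lit 397] 146 3)) (.leaf (Rule.fwd [nat_lit 397, nat_lit 569, nat_lit 10, nat_lit 612, nat_lit 397] 152 3)))) (.node (nat_lit 2) (.node (nat_lit 1) (.leaf (Rule.fwd [nat_lit 612, nat_lit 10, nat_lit 225, nat_lit 569, nat_lit 182] 328 4)) (.leaf (Rule.fwd [nat_lit 354, nat_lit 311, nat_lit 53, nat_lit 311, nat_lit 354] 163 1))) (.node (nat_lit 1) (.leaf (Rule.fwd [nat_lit 139, nat_lit 225, nat_lit 53, nat_lit 182, nat_lit 96] 323 1)) (.leaf (Rule.fwd [nat_lit 268, nat_lit 397, nat_lit 268, nat_lit 10, nat_lit 397] 164 2))))) (.node (nat_lit 4) (.node (nat_lit 2) (.node (nat_lit 1) (.leaf (Rule.fwd [nat_lit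 53, nat_lit 397, nat_lit 53, nat_lit 397] 125 2)) (.leaf (Rule.fwd [nat_lit 96, nat_lit 10, nat_lit 139, nat_lit 53, nat_lit 139, nat_lit 10, nat_lit 96] 40 2))) (.node (nat_lit 1) (.leaf (Rule.fwd [nat_lit 139, nat_lit 10, nat_lit 139, nat_lit 53, nat_lit 96, nat_lit 10, nat_lit 96] 41 5)) (.leaf (Rule.fwd [nat_lit 225, nat_lit 225, nat_lit 53, nat_lit 354] 263 4)))) (.node (nat_lit 2) (.node (nat_lit 1) (.leaf (Rule.fwd [nat_lit 397, nat_lit 311, nat_lit 10, nat_lit 397, nat_lit 311] 63 1)) (.leaf (Rule.fwd [nat_lit 311, nat_lit 612, nat_lit 10, nat_lit 569, nat_lit 311] 148 3))) (.node (nat_lit 1) (.leaf (Rule.fwd [nat_lit 311, nat_lit 10, nat_lit 440, nat_lit 311, nat_lit 440] 174 4)) (.leaf (Rule.fwd [nat_lit 440, nat_lit 311, nat_lit 440, nat_lit 10, nat_lit 311] 172 2)))))) (.node (nat_lit 8) (.node (nat_lit 4) (.node (nat_lit 2) (.node (nat_lit 1) (.leaf (Rule.fwd [nat_lit 440, nat_lit 10, nat_lit 440, nat_lit 53, nat_lit 440, nat_lit 354]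 37 1)) (.leaf (Rule.fwd [nat_lit 225, nat_lit 612, nat_lit 182, nat_lit 10, nat_lit 569] 312 2))) (.node (nat_lit 1) (.leaf (Rule.fwd [nat_lit 354, nat_lit 698, nat_lit 53, nat_lit 655, nat_lit 354] 335 4)) (.leaf (Rule.fwd [nat_lit 182, nat_lit 612, nat_lit 225, nat_lit 10, nat_lit 569] 310 2)))) (.node (nat_lit 2) (.node (nat_lit 1) (.leaf (Rule.fwd [nat_lit 354, nat_lit 397, nat_lit 53, nat_lit 397, nat_lit 354] 161 1)) (.leaf (Rule.fwd [nat_lit 397, nat_lit 53, nat_lit 397, nat_lit 53] 125 1))) (.node (nat_lit 1) (.leaf (Rule.fwd [nat_lit 569, nat_lit 10, nat_lit 225, nat_lit 612, nat_lit 182] 329 1)) (.leaf (Rule.fwd [nat_lit 268, nat_lit 10, nat_lit 268, nat_lit 53, nat_lit 268, nat_lit 354] 35 1))))) (.node (nat_lit 4) (.node (nat_lit 2) (.node (nat_lit 1) (.leaf (Rule.fwd [nat_lit 440, nat_lit 569, nat_lit 268, nat_lit 10, nat_lit 612] 143 1)) (.leaf (Rule.fwd [nat_lit 311, nat_lit 354, nat_lit 53, nat_lit 354, nat_lit 311] 163 4))) (.node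 (nat_lit 1) (.leaf (Rule.fwd [nat_lit 483, nat_lit 10, nat_lit 354, nat_lit 268, nat_lit 311, nat_lit 397, nat_lit 53, nat_lit 483, nat_lit 10, nat_lit 311, nat_lit 397, nat_lit 268, nat_lit 354] 94 6)) (.leaf (Rule.fwd [nat_lit 53, nat_lit 311, nat_lit 53, nat_lit 311] 127 2)))) (.node (nat_lit 2) (.node (nat_lit 1) (.leaf (Rule.fwd [nat_lit 698, nat_lit 53, nat_lit 655, nat_lit 53] 261 1)) (.leaf (Rule.fwd [nat_lit 526, nat_lit 10, nat_lit 96, nat_lit 10, nat_lit 139, nat_lit 10, nat_lit 526, nat_lit 53, nat_lit 96, nat_lit 53, nat_lit 139] 394 11))) (.node (nat_lit 1) (.leaf (Rule.fwd [nat_lit 354, nat_lit 10, nat_lit 10, nat_lit 354] 122 3)) (.leaf (Rule.fwd [nat_lit 569, nat_lit 397, nat_lit 10, nat_lit 397, nat_lit 612] 147 1)))))))) (.node (nat_lit 32) (.node (nat_lit 16) (.node (nat_lit 8) (.node (nat_lit 4) (.node (nat_lit 2) (.node (nat_lit 1) (.leaf (Rule.fwd [nat_lit 569, nat_lit 655, nat_lit 10, nat_lit 698, nat_lit 612] 315 1)) (.leaf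 (Rule.fwd [nat_lit 612, nat_lit 655, nat_lit 10, nat_lit 698, nat_lit 569] 319 1))) (.node (nat_lit 1) (.leaf (Rule.fwd [nat_lit 311, nat_lit 655, nat_lit 10, nat_lit 698, nat_lit 311] 336 3)) (.leaf (Rule.fwd [nat_lit 268, nat_lit 96, nat_lit 268, nat_lit 10, nat_lit 268, nat_lit 139, nat_lit 268] 43 1)))) (.node (nat_lit 2) (.node (nat_lit 1) (.leaf (Rule.fwd [nat_lit 225, nat_lit 225, nat_lit 53, nat_lit 225, nat_lit 225] 327 1)) (.leaf (Rule.fwd [nat_lit 96, nat_lit 53, nat_lit 139, nat_lit 53, nat_lit 526, nat_lit 10, nat_lit 96, nat_lit 10, nat_lit 139, nat_lit 10, nat_lit 526] 394 7))) (.node (nat_lit 1) (.leaf (Rule.fwd [nat_lit 612, nat_lit 397, nat_lit 10, nat_lit 397, nat_lit 569] 153 1)) (.leaf (Rule.fwd [nat_lit 612, nat_lit 53, nat_lit 569, nat_lit 53] 121 1))))) (.node (nat_lit 4) (.node (nat_lit 2) (.node (nat_lit 1) (.leaf (Rule.fwd [nat_lit 569, nat_lit 311, nat_lit 10, nat_lit 311, nat_lit 612] 149 1)) (.leaf (Rule.fwd [nat_lit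 612, nat_lit 311, nat_lit 10, nat_lit 311, nat_lit 569] 155 1))) (.node (nat_lit 1) (.leaf (Rule.fwd [nat_lit 311, nat_lit 698, nat_lit 10, nat_lit 655, nat_lit 311] 332 3)) (.leaf (Rule.fwd [nat_lit 354, nat_lit 655, nat_lit 53, nat_lit 698, nat_lit 354] 339 4)))) (.node (nat_lit 2) (.node (nat_lit 1) (.leaf (Rule.fwd [nat_lit 225, nat_lit 569, nat_lit 182, nat_lit 10, nat_lit 612] 313 1)) (.leaf (Rule.fwd [nat_lit 182, nat_lit 569, nat_lit 225, nat_lit 10, nat_lit 612] 311 1))) (.node (nat_lit 1) (.leaf (Rule.fwd [nat_lit 569, nat_lit 10, nat_lit 182, nat_lit 612, nat_lit 225] 325 1)) (.leaf (Rule.fwd [nat_lit 53, nat_lit 569, nat_lit 53, nat_lit 612] 119 2)))))) (.node (nat_lit 8) (.node (nat_lit 4) (.node (nat_lit 2) (.node (nat_lit 1) (.leaf (Rule.fwd [nat_lit 354, nat_lit 569, nat_lit 53, nat_lit 612, nat_lit 354] 151 4)) (.leaf (Rule.fwd [nat_lit 655, nat_lit 311, nat_lit 10, nat_lit 311, nat_lit 698] 333 1))) (.node (nat_lit 1) (.leaf (Rule.fwd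 [nat_lit 698, nat_lit 311, nat_lit 10, nat_lit 311, nat_lit 655] 337 1)) (.leaf (Rule.fwd [nat_lit 397, nat_lit 311, nat_lit 53, nat_lit 397, nat_lit 311, nat_lit 53] 79 1)))) (.node (nat_lit 2) (.node (nat_lit 1) (.leaf (Rule.fwd [nat_lit 53, nat_lit 397, nat_lit 311, nat_lit 53, nat_lit 397, nat_lit 311] 79 2)) (.leaf (Rule.fwd [nat_lit 698, nat_lit 612, nat_lit 10, nat_lit 569, nat_lit 655] 314 3))) (.node (nat_lit 1) (.leaf (Rule.fwd [nat_lit 655, nat_lit 612, nat_lit 10, nat_lit 569, nat_lit 698] 316 3)) (.leaf (Rule.fwd [nat_lit 569, nat_lit 698, nat_lit 10, nat_lit 655, nat_lit 612] 317 1))))) (.node (nat_lit 4) (.node (nat_lit 2) (.node (nat_lit 1) (.leaf (Rule.fwd [nat_lit 698, nat_lit 569, nat_lit 10, nat_lit 612, nat_lit 655] 318 3)) (.leaf (Rule.fwd [nat_lit 655, nat_lit 569, nat_lit 10, nat_lit 612, nat_lit 698] 320 3))) (.node (nat_lit 1) (.leaf (Rule.fwd [nat_lit 612, nat_lit 698, nat_lit 10, nat_lit 655, nat_lit 569] 321 1)) (.leaf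 (Rule.fwd [nat_lit 612, nat_lit 53, nat_lit 53, nat_lit 569] 119 4)))) (.node (nat_lit 2) (.node (nat_lit 1) (.leaf (Rule.fwd [nat_lit 569, nat_lit 53, nat_lit 53, nat_lit 612] 121 4)) (.leaf (Rule.fwd [nat_lit 397, nat_lit 53, nat_lit 53, nat_lit 397] 125 4))) (.node (nat_lit 1) (.leaf (Rule.fwd [nat_lit 698, nat_lit 53, nat_lit 53, nat_lit 655] 259 4)) (.leaf (Rule.fwd [nat_lit 655, nat_lit 53, nat_lit 53, nat_lit 698] 261 4))))))) (.node (nat_lit 16) (.node (nat_lit 8) (.node (nat_lit 4) (.node (nat_lit 2) (.node (nat_lit 1) (.leaf (Rule.fwd [nat_lit 397, nat_lit 311, nat_lit 53, nat_lit 53, nat_lit 397, nat_lit 311] 79 5)) (.leaf (Rule.fwd [nat_lit 440, nat_lit 53, nat_lit 526, nat_lit 354, nat_lit 268, nat_lit 397, nat_lit 311, nat_lit 397, nat_lit 10, nat_lit 440, nat_lit 10, nat_lit 440, nat_lit 483, nat_lit 440] 391 4))) (.node (nat_lit 1) (.leaf (Rule.fwd [nat_lit 268, nat_lit 612, nat_lit 440, nat_lit 10, nat_lit 569] 142 2)) (.leaf (Rule.fwd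 [nat_lit 397, nat_lit 311, nat_lit 10, nat_lit 311, nat_lit 397] 167 1)))) (.node (nat_lit 2) (.node (nat_lit 1) (.leaf (Rule.fwd [nat_lit 53, nat_lit 354, nat_lit 10, nat_lit 354] 123 2)) (.leaf (Rule.fwd [nat_lit 612, nat_lit 10, nat_lit 182, nat_lit 569, nat_lit 225] 324 4))) (.node (nat_lit 1) (.leaf (Rule.fwd [nat_lit 612, nat_lit 354, nat_lit 53, nat_lit 354, nat_lit 569] 151 1)) (.leaf (Rule.fwd [nat_lit 354, nat_lit 10, nat_lit 354, nat_lit 53] 123 1))))) (.node (nat_lit 4) (.node (nat_lit 2) (.node (nat_lit 1) (.leaf (Rule.fwd [nat_lit 53, nat_lit 655, nat_lit 53, nat_lit 698] 259 2)) (.leaf (Rule.fwd [nat_lit 96, nat_lit 53, nat_lit 483, nat_lit 10, nat_lit 139, nat_lit 10, nat_lit 96, nat_lit 53, nat_lit 139, nat_lit 53, nat_lit 483, nat_lit 10, nat_lit 96, nat_lit 10, nat_lit 139] 92 5))) (.node (nat_lit 1) (.leaf (Rule.fwd [nat_lit 440, nat_lit 354, nat_lit 440, nat_lit 53, nat_lit 354] 159 1)) (.leaf (Rule.fwd [nat_lit 311, nat_lit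 53, nat_lit 53, nat_lit 311] 127 4)))) (.node (nat_lit 2) (.node (nat_lit 1) (.leaf (Rule.fwd [nat_lit 182, nat_lit 182, nat_lit 53, nat_lit 354] 265 4)) (.leaf (Rule.fwd [nat_lit 311, nat_lit 569, nat_lit 10, nat_lit 612, nat_lit 311] 154 3))) (.node (nat_lit 1) (.leaf (Rule.fwd [nat_lit 182, nat_lit 182, nat_lit 53, nat_lit 182, nat_lit 182] 331 1)) (.leaf (Rule.fwd [nat_lit 483, nat_lit 10, nat_lit 139, nat_lit 10, nat_lit 96, nat_lit 53, nat_lit 139, nat_lit 53, nat_lit 483, nat_lit 10, nat_lit 96, nat_lit 10, nat_lit 139, nat_lit 53, nat_lit 96] 92 7)))))) (.node (nat_lit 8) (.node (nat_lit 4) (.node (nat_lit 2) (.node (nat_lit 1) (.leaf (Rule.fwd [nat_lit 397, nat_lit 311, nat_lit 397, nat_lit 268, nat_lit 354, nat_lit 526, nat_lit 10, nat_lit 440, nat_lit 10, nat_lit 440, nat_lit 483, nat_lit 440, nat_lit 53, nat_lit 440] 390 9)) (.leaf (Rule.fwd [nat_lit 311, nat_lit 397, nat_lit 10, nat_lit 397, nat_lit 311] 166 3))) (.node (nat_lit 1)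 (.leaf (Rule.fwd [nat_lit 483, nat_lit 10, nat_lit 311, nat_lit 397, nat_lit 268, nat_lit 354, nat_lit 53, nat_lit 483, nat_lit 10, nat_lit 354, nat_lit 268, nat_lit 311, nat_lit 397] 94 13)) (.leaf (Rule.fwd [nat_lit 139, nat_lit 53, nat_lit 483, nat_lit 10, nat_lit 96, nat_lit 10, nat_lit 139, nat_lit 53, nat_lit 96, nat_lit 53, nat_lit 483, nat_lit 10, nat_lit 139, nat_lit 10, nat_lit 96] 92 13)))) (.node (nat_lit 2) (.node (nat_lit 1) (.leaf (Rule.fwd [nat_lit 483, nat_lit 10, nat_lit 96, nat_lit 10, nat_lit 139, nat_lit 53, nat_lit 96, nat_lit 53, nat_lit 483, nat_lit 10, nat_lit 139, nat_lit 10, nat_lit 96, nat_lit 53, nat_lit 139] 92 15)) (.leaf (Rule.fwd [nat_lit 569, nat_lit 354, nat_lit 53, nat_lit 354, nat_lit 612] 145 1))) (.node (nat_lit 1) (.leaf (Rule.fwd [nat_lit 655, nat_lit 354, nat_lit 53, nat_lit 354, nat_lit 698] 335 1)) (.leaf (Rule.fwd [nat_lit 655, nat_lit 53, nat_lit 698, nat_lit 53] 259 1))))) (.node (nat_lit 4) (.node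 (nat_lit 2) (.node (nat_lit 1) (.leaf (Rule.fwd [nat_lit 483, nat_lit 10, nat_lit 397, nat_lit 311, nat_lit 268, nat_lit 354, nat_lit 53, nat_lit 483, nat_lit 10, nat_lit 354, nat_lit 268, nat_lit 397, nat_lit 311] 95 2)) (.leaf (Rule.fwd [nat_lit 483, nat_lit 10, nat_lit 354, nat_lit 268, nat_lit 397, nat_lit 311, nat_lit 53, nat_lit 483, nat_lit 10, nat_lit 397, nat_lit 311, nat_lit 268, nat_lit 354] 95 9))) (.node (nat_lit 1) (.leaf (Rule.fwd [nat_lit 354, nat_lit 53, nat_lit 182, nat_lit 182] 265 1)) (.leaf (Rule.fwd [nat_lit 268, nat_lit 354, nat_lit 53, nat_lit 268, nat_lit 10, nat_lit 268] 35 4)))) (.node (nat_lit 1) (.leaf (Rule.fwd [nat_lit 53, nat_lit 612, nat_lit 53, nat_lit 569] 121 2)) (.leaf (Rule.fwd [nat_lit 397, nat_lit 354, nat_lit 53, nat_lit 354, nat_lit 397] 161 4)))))))), (.node (nat_lit 64) (.node (nat_lit 32) (.node (nat_lit 16) (.node (nat_lit 8) (.node (nat_lit 4) (.node (nat_lit 2) (.node (nat_lit 1) (.leaf XRule.defn)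 (.leaf XRule.defn)) (.node (nat_lit 1) (.leaf (XRule.rot (nat_lit 54325) [53, 53] 1 0)) (.leaf (XRule.rot (nat_lit 309091344305826704652) [268, 139, 268, 10, 268, 96, 268] 42 4)))) (.node (nat_lit 2) (.node (nat_lit 1) (.leaf (XRule.rot (nat_lit 436517135070476) [268, 397, 268, 10, 397] 164 2)) (.leaf (XRule.rot (nat_lit 10) [10] 434 0))) (.node (nat_lit 1) (.leaf (XRule.rot (nat_lit 200260376953057) [225, 96, 10, 139, 182] 50 3)) (.leaf (XRule.rot (nat_lit 247539422036150) [182, 96, 53, 139, 225] 323 4))))) (.node (nat_lit 4) (.node (nat_lit 2) (.node (nat_lit 1) (.leaf (XRule.rot (nat_lit 596650596) [612, 10, 569] 108 2)) (.leaf (XRule.rot (nat_lit 641739321) [569, 10, 612] 109 1))) (.node (nat_lit 1) (.leaf (XRule.rot (nat_lit 686828218) [698, 10, 655] 250 2)) (.leaf (XRule.rot (nat_lit 731916943) [655, 10, 698] 251 1)))) (.node (nat_lit 2) (.node (nat_lit 1) (.leaf (XRule.rot (nat_lit 105794718849163) [139, 182, 10, 225, 96] 51 1)) (.leaf (XRule.rot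 (nat_lit 326117687) [311, 10, 311] 8 2))) (.node (nat_lit 1) (.leaf (XRule.rot (nat_lit 160267453749545412747) [139, 10, 96, 53, 96, 10, 139] 40 6)) (.leaf (XRule.rot (nat_lit 371250530) [354, 53, 354] 5 1)))))) (.node (nat_lit 8) (.node (nat_lit 4) (.node (nat_lit 2) (.node (nat_lit 1) (.leaf (XRule.rot (nat_lit 528107555575966979008886523659952335331) [483, 10, 311, 397, 268, 354, 53, 483, 10, 354, 268, 311, 397] 94 13)) (.leaf (XRule.rot (nat_lit 484165682255202) [354, 53, 440, 354, 440] 159 3))) (.node (nat_lit 1) (.leaf (XRule.rot (nat_lit 295049501922658) [354, 53, 268, 354, 268] 157 3)) (.leaf (XRule.rot (nat_lit 495407426944641464) [440, 10, 354, 440, 10, 440] 36 5)))) (.node (nat_lit 2) (.node (nat_lit 1) (.leaf (XRule.rot (nat_lit 398863293327878412) [268, 10, 268, 53, 268, 354] 35 1)) (.leaf (XRule.rot (nat_lit 295095672777101) [397, 10, 268, 397, 268] 170 4))) (.node (nat_lit 1) (.leaf (XRule.rot (nat_lit 389284305930508) [268, 354,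 268, 53, 354] 157 1)) (.leaf (XRule.rot (nat_lit 160267501028545407072) [96, 10, 96, 53, 139, 10, 139] 41 1))))) (.node (nat_lit 4) (.node (nat_lit 2) (.node (nat_lit 1) (.leaf (XRule.rot (nat_lit 121760704350939448654076995228811) [139, 53, 526, 10, 96, 10, 139, 10, 526, 53, 96] 394 9)) (.leaf (XRule.rot (nat_lit 309139758001820893452) [268, 96, 268, 10, 268, 139, 268] 43 1))) (.node (nat_lit 1) (.leaf (XRule.rot (nat_lit 598967986630102681204093203254202866174478) [526, 354, 268, 397, 311, 397, 10, 440, 10, 440, 483, 440, 53, 440] 391 2)) (.leaf (XRule.rot (nat_lit 110691876330496075872) [96, 10, 139, 53, 139, 10, 96] 40 2)))) (.node (nat_lit 2) (.node (nat_lit 1) (.leaf (XRule.rot (nat_lit 599539554068691461223416672614842736104888) [440, 53, 397, 311, 397, 268, 354, 526, 10, 440, 10, 440, 483, 440] 390 7)) (.leaf (XRule.rot (nat_lit 416295309) [397, 10, 397] 6 2))) (.node (nat_lit 1) (.leaf (XRule.rot (nat_lit 301752458284116236) [268, 10, 354,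 268, 10, 268] 34 5)) (.leaf (XRule.rot (nat_lit 470895098039682354829386019322936175075) [483, 10, 354, 268, 311, 397, 53, 483, 10, 311, 397, 268, 354] 94 6))))))) (.node (nat_lit 16) (.node (nat_lit 8) (.node (nat_lit 4) (.node (nat_lit 2) (.node (nat_lit 1) (.leaf (XRule.rot (nat_lit 389653447718242) [354, 397, 53, 397, 354] 161 1)) (.leaf (XRule.rot (nat_lit 241827894626) [354, 53, 225, 225] 263 1))) (.node (nat_lit 1) (.leaf (XRule.rot (nat_lit 380160410849) [225, 225, 53, 354] 263 4)) (.leaf (XRule.rot (nat_lit 625633315623180) [268, 612, 440, 10, 569] 142 2)))) (.node (nat_lit 2) (.node (nat_lit 1) (.leaf (XRule.rot (nat_lit 380115102050) [354, 10, 10, 354] 122 3)) (.leaf (XRule.rot (nat_lit 436840060826935) [311, 397, 10, 311, 397] 62 3))) (.node (nat_lit 1) (.leaf (XRule.rot (nat_lit 673235060710969) [569, 311, 10, 311, 612] 149 1)) (.leaf (XRule.rot (nat_lit 625956060716644) [612, 311, 10, 311, 569] 155 1))))) (.node (nat_lit 4) (.node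 (nat_lit 2) (.node (nat_lit 1) (.leaf (XRule.rot (nat_lit 110691829051496081547) [139, 10, 139, 53, 96, 10, 96] 41 5)) (.leaf (XRule.rot (nat_lit 437163257292173) [397, 569, 10, 612, 397] 152 3))) (.node (nat_lit 1) (.leaf (XRule.rot (nat_lit 342559086448951) [311, 612, 10, 569, 311] 148 3)) (.leaf (XRule.rot (nat_lit 342697599188279) [311, 655, 10, 698, 311] 336 3)))) (.node (nat_lit 2) (.node (nat_lit 1) (.leaf (XRule.rot (nat_lit 195611907426) [354, 53, 182, 182] 265 1)) (.leaf (XRule.rot (nat_lit 389561105833314) [354, 311, 53, 311, 354] 163 1))) (.node (nat_lit 1) (.leaf (XRule.rot (nat_lit 437117086437773) [397, 612, 10, 569, 397] 146 3)) (.leaf (XRule.rot (nat_lit 625633090179254) [182, 612, 225, 10, 569] 310 2)))))) (.node (nat_lit 8) (.node (nat_lit 4) (.node (nat_lit 2) (.node (nat_lit 1) (.leaf (XRule.rot (nat_lit 200722311293540) [612, 10, 225, 569, 182] 328 4)) (.leaf (XRule.rot (nat_lit 200768482191929) [569, 10, 225, 612, 182] 329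 1))) (.node (nat_lit 1) (.leaf (XRule.rot (nat_lit 672912135218616) [440, 569, 268, 10, 612] 143 1)) (.leaf (XRule.rot (nat_lit 626048402601572) [612, 397, 10, 397, 569] 153 1)))) (.node (nat_lit 2) (.node (nat_lit 1) (.leaf (XRule.rot (nat_lit 426331133325) [397, 53, 53, 397] 125 4)) (.leaf (XRule.rot (nat_lit 333989336375) [311, 53, 53, 311] 127 4))) (.node (nat_lit 1) (.leaf (XRule.rot (nat_lit 341959315348920) [440, 311, 440, 10, 311] 172 2)) (.leaf (XRule.rot (nat_lit 389284486285752) [440, 354, 440, 53, 354] 159 1))))) (.node (nat_lit 4) (.node (nat_lit 2) (.node (nat_lit 1) (.leaf (XRule.rot (nat_lit 672912090129590) [182, 569, 225, 10, 612] 311 1)) (.leaf (XRule.rot (nat_lit 672912045040865) [225, 569, 182, 10, 612] 313 1))) (.node (nat_lit 1) (.leaf (XRule.rot (nat_lit 626371599154788) [612, 655, 10, 698, 569] 319 1)) (.leaf (XRule.rot (nat_lit 767793060699791) [655, 311, 10, 311, 698] 333 1)))) (.node (nat_lit 2) (.node (nat_lit 1) (.leaf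 (XRule.rot (nat_lit 720514060705466) [698, 311, 10, 311, 655] 337 1)) (.leaf (XRule.rot (nat_lit 57234478391) [311, 53, 311, 53] 127 1))) (.node (nat_lit 1) (.leaf (XRule.rot (nat_lit 342374402547085) [397, 311, 10, 397, 311] 63 1)) (.leaf (XRule.rot (nat_lit 599539554068691461071070923016895872423352) [440, 53, 526, 354, 268, 397, 311, 397, 10, 440, 10, 440, 483, 440] 391 4)))))))) (.node (nat_lit 32) (.node (nat_lit 16) (.node (nat_lit 8) (.node (nat_lit 4) (.node (nat_lit 2) (.node (nat_lit 1) (.leaf (XRule.rot (nat_lit 248001266199140) [612, 10, 182, 569, 225] 324 4)) (.leaf (XRule.rot (nat_lit 720837257258682) [698, 569, 10, 612, 655] 318 3))) (.node (nat_lit 1) (.leaf (XRule.rot (nat_lit 768116257253007) [655, 569, 10, 612, 698] 320 3)) (.leaf (XRule.rot (nat_lit 389838131532130) [354, 612, 53, 569, 354] 145 4)))) (.node (nat_lit 2) (.node (nat_lit 1) (.leaf (XRule.rot (nat_lit 342605257303351) [311, 569, 10, 612, 311] 154 3)) (.leaf (XRule.rot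 (nat_lit 247631763965153) [225, 225, 53, 225, 225] 327 1))) (.node (nat_lit 1) (.leaf (XRule.rot (nat_lit 200306593028278) [182, 182, 53, 182, 182] 331 1)) (.leaf (XRule.rot (nat_lit 342328276781367) [311, 354, 53, 354, 311] 163 4))))) (.node (nat_lit 4) (.node (nat_lit 2) (.node (nat_lit 1) (.leaf (XRule.rot (nat_lit 60015069510294925) [397, 311, 53, 397, 311, 53] 79 1)) (.leaf (XRule.rot (nat_lit 193809991393066581391412625457876888373438947) [483, 10, 96, 10, 139, 53, 96, 53, 483, 10, 139, 10, 96, 53, 139] 92 15))) (.node (nat_lit 1) (.leaf (XRule.rot (nat_lit 105748593083531) [139, 225, 53, 182, 96] 323 1)) (.leaf (XRule.rot (nat_lit 484442527246905) [569, 10, 268, 612, 440] 168 4)))) (.node (nat_lit 2) (.node (nat_lit 1) (.leaf (XRule.rot (nat_lit 399052409508211128) [440, 10, 440, 53, 440, 354] 37 1)) (.leaf (XRule.rot (nat_lit 673281276742201) [569, 354, 53, 354, 612] 145 1))) (.node (nat_lit 1) (.leaf (XRule.rot (nat_lit 611014727268) [612,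 53, 53, 569] 119 4)) (.leaf (XRule.rot (nat_lit 657185625657) [569, 53, 53, 612] 121 4)))))) (.node (nat_lit 8) (.node (nat_lit 4) (.node (nat_lit 2) (.node (nat_lit 1) (.leaf (XRule.rot (nat_lit 350591434108493197) [397, 311, 53, 53, 397, 311] 79 5)) (.leaf (XRule.rot (nat_lit 342651428333879) [311, 698, 10, 655, 311] 332 3))) (.node (nat_lit 1) (.leaf (XRule.rot (nat_lit 484119511312695) [311, 10, 440, 311, 440] 174 4)) (.leaf (XRule.rot (nat_lit 57279523170) [354, 10, 354, 53] 123 1)))) (.node (nat_lit 2) (.node (nat_lit 1) (.leaf (XRule.rot (nat_lit 380115454005) [53, 354, 10, 354] 123 2)) (.leaf (XRule.rot (nat_lit 389884302386530) [354, 569, 53, 612, 354] 151 4))) (.node (nat_lit 1) (.leaf (XRule.rot (nat_lit 389976644271458) [354, 655, 53, 698, 354] 339 4)) (.leaf (XRule.rot (nat_lit 389930473417058) [354, 698, 53, 655, 354] 335 4))))) (.node (nat_lit 4) (.node (nat_lit 2) (.node (nat_lit 1) (.leaf (XRule.rot (nat_lit 495407426629372344)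 [440, 354, 53, 440, 10, 440] 37 4)) (.leaf (XRule.rot (nat_lit 470894989128193578580103461413796719075) [483, 10, 354, 268, 397, 311, 53, 483, 10, 397, 311, 268, 354] 95 9))) (.node (nat_lit 1) (.leaf (XRule.rot (nat_lit 703356524218) [698, 53, 53, 655] 259 4)) (.leaf (XRule.rot (nat_lit 749527422607) [655, 53, 53, 698] 261 4)))) (.node (nat_lit 2) (.node (nat_lit 1) (.leaf (XRule.rot (nat_lit 295280536726116) [612, 10, 440, 569, 268] 169 1)) (.leaf (XRule.rot (nat_lit 598967986630102681204093348542431471394189) [397, 311, 397, 268, 354, 526, 10, 440, 10, 440, 483, 440, 53, 440] 390 9))) (.node (nat_lit 1) (.leaf (XRule.rot (nat_lit 426331485237) [53, 397, 53, 397] 125 2)) (.leaf (XRule.rot (nat_lit 333989600309) [53, 311, 53, 311] 127 2))))))) (.node (nat_lit 4) (.node (nat_lit 2) (.node (nat_lit 1) (.leaf (XRule.rot (nat_lit 57505011300) [612, 53, 569, 53] 121 1)) (.leaf (XRule.rot (nat_lit 611015299125) [53, 612, 53, 569] 121 2))) (.node (nat_lit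 1) (.leaf (XRule.rot (nat_lit 57324656013) [397, 53, 397, 53] 125 1)) (.leaf (XRule.rot (nat_lit 248047437097529) [569, 10, 182, 612, 225] 325 1)))) (.leaf (XRule.rot (nat_lit 666796763173047053932485770531936) [96, 53, 139, 53, 526, 10, 96, 10, 139, 10, 526] 394 7)))))⟩
noncomputable def ci96 : CI := ⟨[2], (nat_lit 139), true, (.node (nat_lit 64) (.node (nat_lit 32) (.node (nat_lit 16) (.node (nat_lit 8) (.node (nat_lit 4) (.node (nat_lit 2) (.node (nat_lit 1) (.leaf Rule.defn) (.leaf Rule.copy)) (.node (nat_lit 1) (.leaf (Rule.fwd [nat_lit 440, nat_lit 612, nat_lit 96, nat_lit 569, nat_lit 440] 198 2)) (.leaf (Rule.fwd [nat_lit 569, nat_lit 440, nat_lit 96, nat_lit 440, nat_lit 612] 198 5)))) (.node (nat_lit 2) (.node (nat_lit 1) (.leaf (Rule.fwd [nat_lit 139] 434 0)) (.leaf (Rule.fwd [nat_lit 311, nat_lit 96, nat_lit 311] 14 0))) (.node (nat_lit 1) (.leaf (Rule.fwd [nat_lit 96, nat_lit 96] 2 0)) (.leaf (Rule.fwd [nat_lit 354, nat_lit 397, nat_lit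 139, nat_lit 397, nat_lit 354] 212 0))))) (.node (nat_lit 4) (.node (nat_lit 2) (.node (nat_lit 1) (.leaf (Rule.fwd [nat_lit 698, nat_lit 96, nat_lit 698, nat_lit 96, nat_lit 655] 368 2)) (.leaf (Rule.fwd [nat_lit 268, nat_lit 53, nat_lit 268, nat_lit 139, nat_lit 268, nat_lit 10, nat_lit 268] 42 2))) (.node (nat_lit 1) (.leaf (Rule.fwd [nat_lit 268, nat_lit 10, nat_lit 268, nat_lit 139, nat_lit 268, nat_lit 53, nat_lit 268] 43 7)) (.leaf (Rule.fwd [nat_lit 397, nat_lit 139, nat_lit 268, nat_lit 397, nat_lit 268] 216 0)))) (.node (nat_lit 2) (.node (nat_lit 1) (.leaf (Rule.fwd [nat_lit 53, nat_lit 96, nat_lit 10, nat_lit 139, nat_lit 53, nat_lit 139, nat_lit 10] 40 1)) (.leaf (Rule.fwd [nat_lit 10, nat_lit 96, nat_lit 53, nat_lit 139, nat_lit 10, nat_lit 139, nat_lit 53] 41 0))) (.node (nat_lit 1) (.leaf (Rule.fwd [nat_lit 53, nat_lit 139, nat_lit 10, nat_lit 139, nat_lit 53, nat_lit 96, nat_lit 10] 41 6)) (.leaf (Rule.fwd [nat_lit 182, nat_lit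 96, nat_lit 225, nat_lit 96, nat_lit 182] 52 2)))))) (.node (nat_lit 8) (.node (nat_lit 4) (.node (nat_lit 2) (.node (nat_lit 1) (.leaf (Rule.fwd [nat_lit 53, nat_lit 139, nat_lit 182, nat_lit 10, nat_lit 225] 51 2)) (.leaf (Rule.fwd [nat_lit 354, nat_lit 139, nat_lit 225, nat_lit 225] 279 3))) (.node (nat_lit 1) (.leaf (Rule.fwd [nat_lit 655, nat_lit 612, nat_lit 698, nat_lit 139, nat_lit 569] 340 1)) (.leaf (Rule.fwd [nat_lit 354, nat_lit 139, nat_lit 440, nat_lit 354, nat_lit 440] 210 0)))) (.node (nat_lit 2) (.node (nat_lit 1) (.leaf (Rule.fwd [nat_lit 354, nat_lit 139, nat_lit 354] 10 0)) (.leaf (Rule.fwd [nat_lit 96, nat_lit 311, nat_lit 139, nat_lit 311] 140 0))) (.node (nat_lit 1) (.leaf (Rule.fwd [nat_lit 354, nat_lit 96, nat_lit 96, nat_lit 354] 136 3)) (.leaf (Rule.fwd [nat_lit 655, nat_lit 569, nat_lit 698, nat_lit 139, nat_lit 612] 341 0))))) (.node (nat_lit 4) (.node (nat_lit 2) (.node (nat_lit 1) (.leaf (Rule.fwd [nat_lit 354, nat_lit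 311, nat_lit 96, nat_lit 311, nat_lit 354] 214 0)) (.leaf (Rule.fwd [nat_lit 397, nat_lit 139, nat_lit 397] 12 0))) (.node (nat_lit 1) (.leaf (Rule.fwd [nat_lit 10, nat_lit 139, nat_lit 53, nat_lit 139, nat_lit 10, nat_lit 96, nat_lit 53] 40 3)) (.leaf (Rule.fwd [nat_lit 397, nat_lit 96, nat_lit 96, nat_lit 397] 138 3)))) (.node (nat_lit 2) (.node (nat_lit 1) (.leaf (Rule.fwd [nat_lit 311, nat_lit 182, nat_lit 96, nat_lit 311, nat_lit 182] 54 0)) (.leaf (Rule.fwd [nat_lit 655, nat_lit 139, nat_lit 311, nat_lit 655, nat_lit 311] 370 0))) (.node (nat_lit 1) (.leaf (Rule.fwd [nat_lit 440, nat_lit 268, nat_lit 483, nat_lit 268, nat_lit 440, nat_lit 139, nat_lit 268, nat_lit 139, nat_lit 440, nat_lit 483, nat_lit 440, nat_lit 96, nat_lit 268] 102 11)) (.leaf (Rule.fwd [nat_lit 354, nat_lit 139, nat_lit 268, nat_lit 354, nat_lit 268] 208 0))))))) (.node (nat_lit 16) (.node (nat_lit 8) (.node (nat_lit 4) (.node (nat_lit 2) (.node (nat_lit 1) (.leaf (Rule.fwd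 [nat_lit 311, nat_lit 397, nat_lit 96, nat_lit 311, nat_lit 397] 64 0)) (.leaf (Rule.fwd [nat_lit 655, nat_lit 96, nat_lit 655, nat_lit 96, nat_lit 655] 366 0))) (.node (nat_lit 1) (.leaf (Rule.fwd [nat_lit 96, nat_lit 311, nat_lit 397, nat_lit 139, nat_lit 311, nat_lit 397] 80 0)) (.leaf (Rule.fwd [nat_lit 397, nat_lit 311, nat_lit 139, nat_lit 139, nat_lit 397, nat_lit 311] 81 5)))) (.node (nat_lit 2) (.node (nat_lit 1) (.leaf (Rule.fwd [nat_lit 397, nat_lit 139, nat_lit 698, nat_lit 698] 281 3)) (.leaf (Rule.fwd [nat_lit 10, nat_lit 139, nat_lit 225, nat_lit 10, nat_lit 182] 322 5))) (.node (nat_lit 1) (.leaf (Rule.fwd [nat_lit 397, nat_lit 139, nat_lit 655, nat_lit 655] 280 0)) (.leaf (Rule.fwd [nat_lit 10, nat_lit 139, nat_lit 182, nat_lit 53, nat_lit 225] 50 5))))) (.node (nat_lit 4) (.node (nat_lit 2) (.node (nat_lit 1) (.leaf (Rule.fwd [nat_lit 311, nat_lit 182, nat_lit 311, nat_lit 139, nat_lit 182] 376 0)) (.leaf (Rule.fwd [nat_lit 440,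 nat_lit 311, nat_lit 440, nat_lit 96, nat_lit 311] 224 2))) (.node (nat_lit 1) (.leaf (Rule.fwd [nat_lit 698, nat_lit 96, nat_lit 655, nat_lit 96, nat_lit 698] 368 4)) (.leaf (Rule.fwd [nat_lit 698, nat_lit 612, nat_lit 655, nat_lit 139, nat_lit 612] 343 0)))) (.node (nat_lit 2) (.node (nat_lit 1) (.leaf (Rule.fwd [nat_lit 698, nat_lit 139, nat_lit 311, nat_lit 698, nat_lit 311] 371 3)) (.leaf (Rule.fwd [nat_lit 311, nat_lit 139, nat_lit 311, nat_lit 96] 140 1))) (.node (nat_lit 1) (.leaf (Rule.fwd [nat_lit 311, nat_lit 354, nat_lit 96, nat_lit 354, nat_lit 311] 214 3)) (.leaf (Rule.fwd [nat_lit 397, nat_lit 311, nat_lit 96, nat_lit 311, nat_lit 397] 218 0)))))) (.node (nat_lit 8) (.node (nat_lit 4) (.node (nat_lit 2) (.node (nat_lit 1) (.leaf (Rule.fwd [nat_lit 311, nat_lit 354, nat_lit 139, nat_lit 139, nat_lit 311, nat_lit 354] 412 4)) (.leaf (Rule.fwd [nat_lit 225, nat_lit 96, nat_lit 182, nat_lit 96, nat_lit 182] 52 4))) (.node (nat_lit 1)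 (.leaf (Rule.fwd [nat_lit 268, nat_lit 397, nat_lit 268, nat_lit 139, nat_lit 397] 222 0)) (.leaf (Rule.fwd [nat_lit 354, nat_lit 96, nat_lit 354, nat_lit 96] 136 1)))) (.node (nat_lit 2) (.node (nat_lit 1) (.leaf (Rule.fwd [nat_lit 268, nat_lit 96, nat_lit 440, nat_lit 268, nat_lit 483, nat_lit 268, nat_lit 440, nat_lit 139, nat_lit 268, nat_lit 139, nat_lit 440, nat_lit 483, nat_lit 440] 102 9)) (.leaf (Rule.fwd [nat_lit 440, nat_lit 354, nat_lit 440, nat_lit 139, nat_lit 354] 226 0))) (.node (nat_lit 1) (.leaf (Rule.fwd [nat_lit 268, nat_lit 354, nat_lit 268, nat_lit 139, nat_lit 354] 220 0)) (.leaf (Rule.fwd [nat_lit 182, nat_lit 96, nat_lit 182, nat_lit 96, nat_lit 225] 52 0))))) (.node (nat_lit 4) (.node (nat_lit 2) (.node (nat_lit 1) (.leaf (Rule.fwd [nat_lit 311, nat_lit 225, nat_lit 311, nat_lit 139, nat_lit 225] 377 5)) (.leaf (Rule.fwd [nat_lit 96, nat_lit 397, nat_lit 96, nat_lit 397] 138 0))) (.node (nat_lit 1) (.leaf (Rule.fwd [nat_lit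 311, nat_lit 96, nat_lit 440, nat_lit 311, nat_lit 440] 224 0)) (.leaf (Rule.fwd [nat_lit 397, nat_lit 354, nat_lit 139, nat_lit 354, nat_lit 397] 213 4)))) (.node (nat_lit 2) (.node (nat_lit 1) (.leaf (Rule.fwd [nat_lit 354, nat_lit 311, nat_lit 96, nat_lit 354, nat_lit 311] 399 1)) (.leaf (Rule.fwd [nat_lit 268, nat_lit 139, nat_lit 440, nat_lit 96, nat_lit 268, nat_lit 139, nat_lit 440] 44 0))) (.node (nat_lit 1) (.leaf (Rule.fwd [nat_lit 698, nat_lit 698, nat_lit 139, nat_lit 397] 277 4)) (.leaf (Rule.fwd [nat_lit 698, nat_lit 569, nat_lit 655, nat_lit 139, nat_lit 569] 342 1)))))))) (.node (nat_lit 16) (.node (nat_lit 8) (.node (nat_lit 4) (.node (nat_lit 2) (.node (nat_lit 1) (.leaf (Rule.fwd [nat_lit 440, nat_lit 268, nat_lit 182, nat_lit 268, nat_lit 440, nat_lit 139, nat_lit 268, nat_lit 139, nat_lit 440, nat_lit 225, nat_lit 440, nat_lit 96, nat_lit 268] 60 11)) (.leaf (Rule.fwd [nat_lit 655, nat_lit 96, nat_lit 698, nat_lit 96, nat_lit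 698] 368 0))) (.node (nat_lit 1) (.leaf (Rule.fwd [nat_lit 397, nat_lit 96, nat_lit 397, nat_lit 96] 138 1)) (.leaf (Rule.fwd [nat_lit 698, nat_lit 311, nat_lit 96, nat_lit 698, nat_lit 311] 374 0)))) (.node (nat_lit 2) (.node (nat_lit 1) (.leaf (Rule.fwd [nat_lit 354, nat_lit 311, nat_lit 139, nat_lit 354, nat_lit 311, nat_lit 96] 413 1)) (.leaf (Rule.fwd [nat_lit 311, nat_lit 139, nat_lit 139, nat_lit 311] 141 4))) (.node (nat_lit 1) (.leaf (Rule.fwd [nat_lit 10, nat_lit 139, nat_lit 10, nat_lit 526, nat_lit 53, nat_lit 96, nat_lit 53, nat_lit 139, nat_lit 53, nat_lit 526, nat_lit 10] 394 2)) (.leaf (Rule.fwd [nat_lit 53, nat_lit 483, nat_lit 10, nat_lit 139, nat_lit 10, nat_lit 96, nat_lit 53, nat_lit 139, nat_lit 53, nat_lit 483, nat_lit 10, nat_lit 96, nat_lit 10, nat_lit 139, nat_lit 53] 92 6))))) (.node (nat_lit 4) (.node (nat_lit 2) (.node (nat_lit 1) (.leaf (Rule.fwd [nat_lit 225, nat_lit 225, nat_lit 139, nat_lit 354] 275 4)) (.leaf (Rule.fwd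 [nat_lit 311, nat_lit 397, nat_lit 139, nat_lit 311, nat_lit 397, nat_lit 96] 80 1))) (.node (nat_lit 1) (.leaf (Rule.fwd [nat_lit 354, nat_lit 139, nat_lit 182, nat_lit 182] 278 0)) (.leaf (Rule.fwd [nat_lit 311, nat_lit 397, nat_lit 96, nat_lit 397, nat_lit 311] 218 3)))) (.node (nat_lit 2) (.node (nat_lit 1) (.leaf (Rule.fwd [nat_lit 655, nat_lit 311, nat_lit 96, nat_lit 655, nat_lit 311] 372 0)) (.leaf (Rule.fwd [nat_lit 53, nat_lit 139, nat_lit 225, nat_lit 53, nat_lit 182] 323 2))) (.node (nat_lit 1) (.leaf (Rule.fwd [nat_lit 440, nat_lit 268, nat_lit 225, nat_lit 268, nat_lit 440, nat_lit 139, nat_lit 268, nat_lit 139, nat_lit 440, nat_lit 182, nat_lit 440, nat_lit 96, nat_lit 268] 61 4)) (.leaf (Rule.fwd [nat_lit 655, nat_lit 655, nat_lit 139, nat_lit 397] 276 0)))))) (.node (nat_lit 8) (.node (nat_lit 4) (.node (nat_lit 2) (.node (nat_lit 1) (.leaf (Rule.fwd [nat_lit 53, nat_lit 139, nat_lit 53, nat_lit 526, nat_lit 10, nat_lit 96, nat_lit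 10, nat_lit 139, nat_lit 10, nat_lit 526, nat_lit 53] 394 8)) (.leaf (Rule.fwd [nat_lit 96, nat_lit 354, nat_lit 96, nat_lit 354] 136 0))) (.node (nat_lit 1) (.leaf (Rule.fwd [nat_lit 225, nat_lit 96, nat_lit 225, nat_lit 96, nat_lit 225] 364 0)) (.leaf (Rule.fwd [nat_lit 268, nat_lit 96, nat_lit 440, nat_lit 268, nat_lit 182, nat_lit 268, nat_lit 440, nat_lit 139, nat_lit 268, nat_lit 139, nat_lit 440, nat_lit 225, nat_lit 440] 60 9)))) (.node (nat_lit 2) (.node (nat_lit 1) (.leaf (Rule.fwd [nat_lit 311, nat_lit 225, nat_lit 96, nat_lit 311, nat_lit 225] 378 0)) (.leaf (Rule.fwd [nat_lit 612, nat_lit 526, nat_lit 569, nat_lit 139, nat_lit 569, nat_lit 96, nat_lit 612, nat_lit 139, nat_lit 612, nat_lit 526, nat_lit 569, nat_lit 96, nat_lit 569, nat_lit 139, nat_lit 612] 424 14))) (.node (nat_lit 1) (.leaf (Rule.fwd [nat_lit 10, nat_lit 139, nat_lit 53, nat_lit 96, nat_lit 53, nat_lit 483, nat_lit 10, nat_lit 139, nat_lit 10, nat_lit 96, nat_lit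 53, nat_lit 139, nat_lit 53, nat_lit 483, nat_lit 10] 92 2)) (.leaf (Rule.fwd [nat_lit 53, nat_lit 139, nat_lit 53, nat_lit 483, nat_lit 10, nat_lit 96, nat_lit 10, nat_lit 139, nat_lit 53, nat_lit 96, nat_lit 53, nat_lit 483, nat_lit 10, nat_lit 139, nat_lit 10] 92 12))))) (.node (nat_lit 2) (.node (nat_lit 1) (.leaf (Rule.fwd [nat_lit 612, nat_lit 139, nat_lit 612, nat_lit 526, nat_lit 569, nat_lit 96, nat_lit 569, nat_lit 139, nat_lit 612, nat_lit 96, nat_lit 612, nat_lit 526, nat_lit 569, nat_lit 139, nat_lit 569] 424 4)) (.leaf (Rule.fwd [nat_lit 96, nat_lit 354, nat_lit 311, nat_lit 139, nat_lit 354, nat_lit 311] 413 2))) (.node (nat_lit 1) (.leaf (Rule.fwd [nat_lit 182, nat_lit 182, nat_lit 139, nat_lit 354] 274 0)) (.leaf (Rule.fwd [nat_lit 53, nat_lit 139, nat_lit 53, nat_lit 483, nat_lit 96, nat_lit 96, nat_lit 10, nat_lit 139, nat_lit 10, nat_lit 96, nat_lit 53, nat_lit 139, nat_lit 53, nat_lit 483, nat_lit 354, nat_lit 96, nat_lit 96,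 nat_lit 10, nat_lit 139, nat_lit 10, nat_lit 96, nat_lit 53, nat_lit 139, nat_lit 53, nat_lit 483, nat_lit 96, nat_lit 96, nat_lit 10, nat_lit 139, nat_lit 10] 99 15))))))), (.node (nat_lit 64) (.node (nat_lit 32) (.node (nat_lit 16) (.node (nat_lit 8) (.node (nat_lit 4) (.node (nat_lit 2) (.node (nat_lit 1) (.leaf XRule.defn) (.leaf XRule.ax)) (.node (nat_lit 1) (.leaf (XRule.rot (nat_lit 673373663715897) [569, 440, 96, 440, 612] 198 5)) (.leaf (XRule.rot (nat_lit 139) [139] 434 0)))) (.node (nat_lit 2) (.node (nat_lit 1) (.leaf (XRule.rot (nat_lit 389561150922082) [354, 311, 96, 311, 354] 214 0)) (.leaf (XRule.rot (nat_lit 326205751) [311, 96, 311] 14 0))) (.node (nat_lit 1) (.leaf (XRule.rot (nat_lit 200445150812471) [311, 182, 96, 311, 182] 54 0)) (.leaf (XRule.rot (nat_lit 625772098851471) [655, 612, 698, 139, 569] 340 1))))) (.node (nat_lit 4) (.node (nat_lit 2) (.node (nat_lit 1) (.leaf (XRule.rot (nat_lit 673051098801807) [655, 569, 698,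 139, 612] 341 0)) (.leaf (XRule.rot (nat_lit 426376266125) [397, 96, 96, 397] 138 3))) (.node (nat_lit 1) (.leaf (XRule.rot (nat_lit 484396176609720) [440, 612, 96, 569, 440] 198 2)) (.leaf (XRule.rot (nat_lit 98400) [96, 96] 2 0)))) (.node (nat_lit 2) (.node (nat_lit 1) (.leaf (XRule.rot (nat_lit 295049502010722) [354, 139, 268, 354, 268] 208 0)) (.leaf (XRule.rot (nat_lit 200214431498422) [182, 96, 225, 96, 182] 52 2))) (.node (nat_lit 1) (.leaf (XRule.rot (nat_lit 356358276359683520969086019344834769336) [440, 268, 483, 268, 440, 139, 268, 139, 440, 483, 440, 96, 268] 102 11)) (.leaf (XRule.rot (nat_lit 389653537895778) [354, 397, 139, 397, 354] 212 0)))))) (.node (nat_lit 8) (.node (nat_lit 4) (.node (nat_lit 2) (.node (nat_lit 1) (.leaf (XRule.rot (nat_lit 416427405) [397, 139, 397] 12 0)) (.leaf (XRule.rot (nat_lit 11685773556496564277) [53, 96, 10, 139, 53, 139, 10] 40 1))) (.node (nat_lit 1) (.leaf (XRule.rot (nat_lit 61261350975636078602)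 [10, 96, 53, 139, 10, 139, 53] 41 0)) (.leaf (XRule.rot (nat_lit 11637359860502375477) [53, 139, 10, 139, 53, 96, 10] 41 6)))) (.node (nat_lit 2) (.node (nat_lit 1) (.leaf (XRule.rot (nat_lit 61212937279641889802) [10, 139, 53, 139, 10, 96, 53] 40 3)) (.leaf (XRule.rot (nat_lit 308994517052350846220) [268, 53, 268, 139, 268, 10, 268] 42 2))) (.node (nat_lit 1) (.leaf (XRule.rot (nat_lit 200214386409697) [225, 96, 182, 96, 182] 52 4)) (.leaf (XRule.rot (nat_lit 342328321826146) [354, 311, 96, 354, 311] 399 1))))) (.node (nat_lit 4) (.node (nat_lit 2) (.node (nat_lit 1) (.leaf (XRule.rot (nat_lit 720283882324623) [655, 96, 655, 96, 655] 366 0)) (.leaf (XRule.rot (nat_lit 767562882319034) [698, 96, 655, 96, 698] 368 4))) (.node (nat_lit 1) (.leaf (XRule.rot (nat_lit 309042930748345035020) [268, 10, 268, 139, 268, 53, 268] 43 7)) (.leaf (XRule.rot (nat_lit 295095672909197) [397, 139, 268, 397, 268] 216 0)))) (.node (nat_lit 2) (.node (nat_lit 1) (.leaf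 (XRule.rot (nat_lit 720283927413434) [698, 96, 698, 96, 655] 368 2)) (.leaf (XRule.rot (nat_lit 342051657145784) [440, 311, 440, 96, 311] 224 2))) (.node (nat_lit 1) (.leaf (XRule.rot (nat_lit 507442256886720769292) [268, 139, 440, 96, 268, 139, 440] 44 0)) (.leaf (XRule.rot (nat_lit 436840151004471) [311, 397, 96, 311, 397] 64 0))))))) (.node (nat_lit 16) (.node (nat_lit 8) (.node (nat_lit 4) (.node (nat_lit 2) (.node (nat_lit 1) (.leaf (XRule.rot (nat_lit 380205367650) [354, 96, 96, 354] 136 3)) (.leaf (XRule.rot (nat_lit 793260205133045887520621940521470833658572388) [612, 139, 612, 526, 569, 96, 569, 139, 612, 96, 612, 526, 569, 139, 569] 424 4))) (.node (nat_lit 1) (.leaf (XRule.rot (nat_lit 625772053718714) [698, 569, 655, 139, 569] 342 1)) (.leaf (XRule.rot (nat_lit 447324360799476832) [96, 311, 397, 139, 311, 397] 80 0)))) (.node (nat_lit 2) (.node (nat_lit 1) (.leaf (XRule.rot (nat_lit 436840150916493) [397, 311, 96, 311, 397] 218 0)) (.leaf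 (XRule.rot (nat_lit 484119511400759) [311, 96, 440, 311, 440] 224 0))) (.node (nat_lit 1) (.leaf (XRule.rot (nat_lit 103450509666) [354, 96, 354, 96] 136 1)) (.leaf (XRule.rot (nat_lit 436655647765772) [268, 397, 268, 139, 397] 222 0))))) (.node (nat_lit 4) (.node (nat_lit 2) (.node (nat_lit 1) (.leaf (XRule.rot (nat_lit 350591526540467597) [397, 311, 139, 139, 397, 311] 81 5)) (.leaf (XRule.rot (nat_lit 334079777888) [96, 311, 139, 311] 140 0))) (.node (nat_lit 1) (.leaf (XRule.rot (nat_lit 371338594) [354, 139, 354] 10 0)) (.leaf (XRule.rot (nat_lit 103495598477) [397, 96, 397, 96] 138 1)))) (.node (nat_lit 2) (.node (nat_lit 1) (.leaf (XRule.rot (nat_lit 241827982690) [354, 139, 225, 225] 279 3)) (.leaf (XRule.rot (nat_lit 103405464887) [311, 139, 311, 96] 140 1))) (.node (nat_lit 1) (.leaf (XRule.rot (nat_lit 247401044651061) [53, 139, 182, 10, 225] 51 2)) (.leaf (XRule.rot (nat_lit 247447215549450) [10, 139, 182, 53, 225] 50 5)))))) (.node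 (nat_lit 8) (.node (nat_lit 4) (.node (nat_lit 2) (.node (nat_lit 1) (.leaf (XRule.rot (nat_lit 200168260643893) [53, 139, 225, 53, 182] 323 2)) (.leaf (XRule.rot (nat_lit 200260692662583) [311, 182, 311, 139, 182] 376 0))) (.node (nat_lit 1) (.leaf (XRule.rot (nat_lit 484165682343266) [354, 139, 440, 354, 440] 210 0)) (.leaf (XRule.rot (nat_lit 750203841933) [397, 139, 698, 698] 281 3)))) (.node (nat_lit 2) (.node (nat_lit 1) (.leaf (XRule.rot (nat_lit 673051053757114) [698, 612, 655, 139, 612] 343 0)) (.leaf (XRule.rot (nat_lit 703987854733) [397, 139, 655, 655] 280 0))) (.node (nat_lit 1) (.leaf (XRule.rot (nat_lit 342697914281658) [698, 139, 311, 698, 311] 371 3)) (.leaf (XRule.rot (nat_lit 342651743383183) [655, 139, 311, 655, 311] 370 0))))) (.node (nat_lit 4) (.node (nat_lit 2) (.node (nat_lit 1) (.leaf (XRule.rot (nat_lit 108523231252985143) [311, 397, 139, 311, 397, 96] 80 1)) (.leaf (XRule.rot (nat_lit 334079601975) [311, 139, 139, 311]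 141 4))) (.node (nat_lit 1) (.leaf (XRule.rot (nat_lit 426376574048) [96, 397, 96, 397] 138 0)) (.leaf (XRule.rot (nat_lit 767562927407759) [655, 96, 698, 96, 698] 368 0)))) (.node (nat_lit 2) (.node (nat_lit 1) (.leaf (XRule.rot (nat_lit 585487845929692987124904415608872993036) [268, 96, 440, 268, 483, 268, 440, 139, 268, 139, 440, 483, 440] 102 9)) (.leaf (XRule.rot (nat_lit 342328321870135) [311, 354, 96, 354, 311] 214 3))) (.node (nat_lit 1) (.leaf (XRule.rot (nat_lit 426421971642) [698, 698, 139, 397] 277 4)) (.leaf (XRule.rot (nat_lit 342651518115471) [655, 311, 96, 655, 311] 372 0)))))))) (.node (nat_lit 8) (.node (nat_lit 4) (.node (nat_lit 2) (.node (nat_lit 1) (.leaf (XRule.rot (nat_lit 342697689013946) [698, 311, 96, 698, 311] 374 0)) (.leaf (XRule.rot (nat_lit 247539692700983) [311, 225, 311, 139, 225] 377 5))) (.node (nat_lit 1) (.leaf (XRule.rot (nat_lit 247724150850871) [311, 225, 96, 311, 225] 378 0)) (.leaf (XRule.rot (nat_lit 342374492812599)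 [311, 397, 96, 397, 311] 218 3)))) (.node (nat_lit 2) (.node (nat_lit 1) (.leaf (XRule.rot (nat_lit 247493386404022) [182, 96, 182, 96, 225] 52 0)) (.leaf (XRule.rot (nat_lit 74060428883049087891295784203162364655668277) [53, 483, 10, 139, 10, 96, 53, 139, 53, 483, 10, 96, 10, 139, 53] 92 6))) (.node (nat_lit 1) (.leaf (XRule.rot (nat_lit 389376647727372) [268, 354, 268, 139, 354] 220 0)) (.leaf (XRule.rot (nat_lit 200122089745418) [10, 139, 225, 10, 182] 322 5))))) (.node (nat_lit 4) (.node (nat_lit 2) (.node (nat_lit 1) (.leaf (XRule.rot (nat_lit 195611995490) [354, 139, 182, 182] 278 0)) (.leaf (XRule.rot (nat_lit 380250588385) [225, 225, 139, 354] 275 4))) (.node (nat_lit 1) (.leaf (XRule.rot (nat_lit 20831502491079178246368719039490704066728384354892301204777445212606732118349866209520650) [10, 139, 53, 96, 53, 139, 139, 483, 10, 96, 10, 139, 53, 96, 53, 139, 139, 354, 483, 10, 96, 10, 139, 53, 96, 53, 139, 139, 483, 10] 98 12)) (.leaf (XRule.rot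 (nat_lit 247493431492833) [225, 96, 225, 96, 225] 364 0)))) (.node (nat_lit 2) (.node (nat_lit 1) (.leaf (XRule.rot (nat_lit 398910664534755639) [311, 354, 139, 139, 311, 354] 412 4)) (.leaf (XRule.rot (nat_lit 380250544310) [182, 182, 139, 354] 274 0))) (.node (nat_lit 1) (.leaf (XRule.rot (nat_lit 108428719423806818) [354, 311, 139, 354, 311, 96] 413 1)) (.leaf (XRule.rot (nat_lit 67836650526132337042931213020213) [53, 139, 53, 526, 10, 96, 10, 139, 10, 526, 53] 394 8)))))))⟩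
noncomputable def ci139 : CI := ⟨[3], (nat_lit 96), false, (.node (nat_lit 64) (.node (nat_lit 32) (.node (nat_lit 16) (.node (nat_lit 8) (.node (nat_lit 4) (.node (nat_lit 2) (.node (nat_lit 1) (.leaf Rule.defn) (.leaf Rule.copy)) (.node (nat_lit 1) (.leaf (Rule.fwd [nat_lit 96] 434 0)) (.leaf (Rule.fwd [nat_lit 139, nat_lit 139] 3 0)))) (.node (nat_lit 2) (.node (nat_lit 1) (.leaf (Rule.fwd [nat_lit 440, nat_lit 612, nat_lit 139, nat_lit 569, nat_lit 440] 199 3)) (.leaf (Rule.fwd [nat_lit 182, nat_lit 53, nat_lit 225, nat_lit 96, nat_lit 10] 50 1))) (.node (nat_lit 1) (.leaf (Rule.fwd [nat_lit 182, nat_lit 10, nat_lit 225, nat_lit 96, nat_lit 53] 51 0)) (.leaf (Rule.fwd [nat_lit 569, nat_lit 440, nat_lit 139, nat_lit 440, nat_lit 612] 199 0))))) (.node (nat_lit 4) (.node (nat_lit 2) (.node (nat_lit 1) (.leaf (Rule.fwd [nat_lit 268, nat_lit 53, nat_lit 268, nat_lit 96, nat_lit 268, nat_lit 10, nat_lit 268] 43 3)) (.leaf (Rule.fwd [nat_lit 268,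 nat_lit 10, nat_lit 268, nat_lit 96, nat_lit 268, nat_lit 53, nat_lit 268] 42 6))) (.node (nat_lit 1) (.leaf (Rule.fwd [nat_lit 440, nat_lit 96, nat_lit 268, nat_lit 139, nat_lit 440, nat_lit 96, nat_lit 268] 44 2)) (.leaf (Rule.fwd [nat_lit 397, nat_lit 96, nat_lit 268, nat_lit 397, nat_lit 268] 222 4)))) (.node (nat_lit 2) (.node (nat_lit 1) (.leaf (Rule.fwd [nat_lit 311, nat_lit 139, nat_lit 311] 15 1)) (.leaf (Rule.fwd [nat_lit 53, nat_lit 139, nat_lit 10, nat_lit 96, nat_lit 53, nat_lit 96, nat_lit 10] 40 5))) (.node (nat_lit 1) (.leaf (Rule.fwd [nat_lit 354, nat_lit 96, nat_lit 225, nat_lit 225] 275 1)) (.leaf (Rule.fwd [nat_lit 311, nat_lit 139, nat_lit 440, nat_lit 311, nat_lit 440] 225 3)))))) (.node (nat_lit 8) (.node (nat_lit 4) (.node (nat_lit 2) (.node (nat_lit 1) (.leaf (Rule.fwd [nat_lit 139, nat_lit 354, nat_lit 139, nat_lit 354] 137 2)) (.leaf (Rule.fwd [nat_lit 53, nat_lit 96, nat_lit 10, nat_lit 96, nat_lit 53, nat_lit 139, nat_lit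 10] 41 2))) (.node (nat_lit 1) (.leaf (Rule.fwd [nat_lit 397, nat_lit 96, nat_lit 655, nat_lit 655] 276 3)) (.leaf (Rule.fwd [nat_lit 10, nat_lit 96, nat_lit 53, nat_lit 96, nat_lit 10, nat_lit 139, nat_lit 53] 40 7)))) (.node (nat_lit 2) (.node (nat_lit 1) (.leaf (Rule.fwd [nat_lit 397, nat_lit 354, nat_lit 96, nat_lit 354, nat_lit 397] 212 3)) (.leaf (Rule.fwd [nat_lit 354, nat_lit 311, nat_lit 96, nat_lit 96, nat_lit 354, nat_lit 311] 413 5))) (.node (nat_lit 1) (.leaf (Rule.fwd [nat_lit 397, nat_lit 139, nat_lit 139, nat_lit 397] 139 4)) (.leaf (Rule.fwd [nat_lit 569, nat_lit 96, nat_lit 655, nat_lit 612, nat_lit 698] 340 5))))) (.node (nat_lit 4) (.node (nat_lit 2) (.node (nat_lit 1) (.leaf (Rule.fwd [nat_lit 10, nat_lit 139, nat_lit 53, nat_lit 96, nat_lit 10, nat_lit 96, nat_lit 53] 41 4)) (.leaf (Rule.fwd [nat_lit 268, nat_lit 397, nat_lit 268, nat_lit 96, nat_lit 397] 216 2))) (.node (nat_lit 1) (.leaf (Rule.fwd [nat_lit 354, nat_lit 96,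 nat_lit 440, nat_lit 354, nat_lit 440] 226 4)) (.leaf (Rule.fwd [nat_lit 354, nat_lit 96, nat_lit 354] 10 2)))) (.node (nat_lit 2) (.node (nat_lit 1) (.leaf (Rule.fwd [nat_lit 397, nat_lit 96, nat_lit 397] 12 2)) (.leaf (Rule.fwd [nat_lit 354, nat_lit 96, nat_lit 268, nat_lit 354, nat_lit 268] 220 4))) (.node (nat_lit 1) (.leaf (Rule.fwd [nat_lit 225, nat_lit 311, nat_lit 139, nat_lit 225, nat_lit 311] 55 1)) (.leaf (Rule.fwd [nat_lit 311, nat_lit 655, nat_lit 311, nat_lit 96, nat_lit 655] 370 2))))))) (.node (nat_lit 16) (.node (nat_lit 8) (.node (nat_lit 4) (.node (nat_lit 2) (.node (nat_lit 1) (.leaf (Rule.fwd [nat_lit 397, nat_lit 96, nat_lit 698, nat_lit 698] 277 1)) (.leaf (Rule.fwd [nat_lit 225, nat_lit 139, nat_lit 225, nat_lit 139, nat_lit 182] 53 5))) (.node (nat_lit 1) (.leaf (Rule.fwd [nat_lit 655, nat_lit 139, nat_lit 698, nat_lit 139, nat_lit 655] 369 5)) (.leaf (Rule.fwd [nat_lit 182, nat_lit 139, nat_lit 225, nat_lit 139, nat_lit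 225] 53 1)))) (.node (nat_lit 2) (.node (nat_lit 1) (.leaf (Rule.fwd [nat_lit 698, nat_lit 139, nat_lit 698, nat_lit 139, nat_lit 698] 367 1)) (.leaf (Rule.fwd [nat_lit 311, nat_lit 397, nat_lit 139, nat_lit 397, nat_lit 311] 219 4))) (.node (nat_lit 1) (.leaf (Rule.fwd [nat_lit 440, nat_lit 311, nat_lit 440, nat_lit 139, nat_lit 311] 225 1)) (.leaf (Rule.fwd [nat_lit 311, nat_lit 698, nat_lit 311, nat_lit 96, nat_lit 698] 371 1))))) (.node (nat_lit 4) (.node (nat_lit 2) (.node (nat_lit 1) (.leaf (Rule.fwd [nat_lit 225, nat_lit 10, nat_lit 182, nat_lit 96, nat_lit 10] 322 1)) (.leaf (Rule.fwd [nat_lit 311, nat_lit 96, nat_lit 96, nat_lit 311] 140 3))) (.node (nat_lit 1) (.leaf (Rule.fwd [nat_lit 225, nat_lit 139, nat_lit 182, nat_lit 139, nat_lit 225] 53 3)) (.leaf (Rule.fwd [nat_lit 225, nat_lit 225, nat_lit 96, nat_lit 354] 279 1)))) (.node (nat_lit 2) (.node (nat_lit 1) (.leaf (Rule.fwd [nat_lit 268, nat_lit 139, nat_lit 440, nat_lit 483, nat_lit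 440, nat_lit 96, nat_lit 268, nat_lit 96, nat_lit 440, nat_lit 268, nat_lit 483, nat_lit 268, nat_lit 440] 102 3)) (.leaf (Rule.fwd [nat_lit 569, nat_lit 96, nat_lit 698, nat_lit 569, nat_lit 655] 342 5))) (.node (nat_lit 1) (.leaf (Rule.fwd [nat_lit 139, nat_lit 397, nat_lit 311, nat_lit 96, nat_lit 397, nat_lit 311] 81 2)) (.leaf (Rule.fwd [nat_lit 311, nat_lit 397, nat_lit 96, nat_lit 96, nat_lit 311, nat_lit 397] 80 4)))))) (.node (nat_lit 8) (.node (nat_lit 4) (.node (nat_lit 2) (.node (nat_lit 1) (.leaf (Rule.fwd [nat_lit 612, nat_lit 96, nat_lit 698, nat_lit 612, nat_lit 655] 343 2)) (.leaf (Rule.fwd [nat_lit 440, nat_lit 483, nat_lit 440, nat_lit 96, nat_lit 268, nat_lit 96, nat_lit 440, nat_lit 268, nat_lit 483, nat_lit 268, nat_lit 440, nat_lit 139, nat_lit 268] 102 5))) (.node (nat_lit 1) (.leaf (Rule.fwd [nat_lit 397, nat_lit 139, nat_lit 397, nat_lit 139] 139 1)) (.leaf (Rule.fwd [nat_lit 268, nat_lit 354, nat_lit 268, nat_lit 96, nat_lit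 354] 208 2)))) (.node (nat_lit 2) (.node (nat_lit 1) (.leaf (Rule.fwd [nat_lit 311, nat_lit 96, nat_lit 311, nat_lit 139] 141 1)) (.leaf (Rule.fwd [nat_lit 354, nat_lit 311, nat_lit 139, nat_lit 311, nat_lit 354] 215 1))) (.node (nat_lit 1) (.leaf (Rule.fwd [nat_lit 397, nat_lit 311, nat_lit 139, nat_lit 311, nat_lit 397] 219 1)) (.leaf (Rule.fwd [nat_lit 698, nat_lit 139, nat_lit 655, nat_lit 139, nat_lit 655] 369 3))))) (.node (nat_lit 4) (.node (nat_lit 2) (.node (nat_lit 1) (.leaf (Rule.fwd [nat_lit 225, nat_lit 53, nat_lit 182, nat_lit 96, nat_lit 53] 323 0)) (.leaf (Rule.fwd [nat_lit 354, nat_lit 397, nat_lit 96, nat_lit 397, nat_lit 354] 213 1))) (.node (nat_lit 1) (.leaf (Rule.fwd [nat_lit 182, nat_lit 139, nat_lit 182, nat_lit 139, nat_lit 182] 365 1)) (.leaf (Rule.fwd [nat_lit 698, nat_lit 698, nat_lit 96, nat_lit 397] 281 1)))) (.node (nat_lit 2) (.node (nat_lit 1) (.leaf (Rule.fwd [nat_lit 397, nat_lit 311, nat_lit 139, nat_lit 397,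 nat_lit 311] 65 1)) (.leaf (Rule.fwd [nat_lit 612, nat_lit 96, nat_lit 655, nat_lit 569, nat_lit 698] 341 2))) (.node (nat_lit 1) (.leaf (Rule.fwd [nat_lit 139, nat_lit 311, nat_lit 96, nat_lit 311] 141 2)) (.leaf (Rule.fwd [nat_lit 655, nat_lit 139, nat_lit 655, nat_lit 139, nat_lit 698] 369 1)))))))) (.node (nat_lit 16) (.node (nat_lit 8) (.node (nat_lit 4) (.node (nat_lit 2) (.node (nat_lit 1) (.leaf (Rule.fwd [nat_lit 182, nat_lit 96, nat_lit 311, nat_lit 182, nat_lit 311] 376 4)) (.leaf (Rule.fwd [nat_lit 182, nat_lit 182, nat_lit 96, nat_lit 354] 278 2))) (.node (nat_lit 1) (.leaf (Rule.fwd [nat_lit 139, nat_lit 311, nat_lit 354, nat_lit 96, nat_lit 311, nat_lit 354] 412 0)) (.leaf (Rule.fwd [nat_lit 397, nat_lit 311, nat_lit 96, nat_lit 397, nat_lit 311, nat_lit 139] 81 1)))) (.node (nat_lit 2) (.node (nat_lit 1) (.leaf (Rule.fwd [nat_lit 440, nat_lit 354, nat_lit 440, nat_lit 96, nat_lit 354] 210 2)) (.leaf (Rule.fwd [nat_lit 139, nat_lit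 397, nat_lit 139, nat_lit 397] 139 2))) (.node (nat_lit 1) (.leaf (Rule.fwd [nat_lit 182, nat_lit 311, nat_lit 139, nat_lit 182, nat_lit 311] 379 1)) (.leaf (Rule.fwd [nat_lit 10, nat_lit 526, nat_lit 53, nat_lit 96, nat_lit 53, nat_lit 139, nat_lit 53, nat_lit 526, nat_lit 10, nat_lit 96, nat_lit 10] 394 4))))) (.node (nat_lit 4) (.node (nat_lit 2) (.node (nat_lit 1) (.leaf (Rule.fwd [nat_lit 354, nat_lit 139, nat_lit 139, nat_lit 354] 137 4)) (.leaf (Rule.fwd [nat_lit 354, nat_lit 139, nat_lit 354, nat_lit 139] 137 1))) (.node (nat_lit 1) (.leaf (Rule.fwd [nat_lit 311, nat_lit 698, nat_lit 139, nat_lit 311, nat_lit 698] 373 1)) (.leaf (Rule.fwd [nat_lit 311, nat_lit 655, nat_lit 139, nat_lit 311, nat_lit 655] 375 1)))) (.node (nat_lit 2) (.node (nat_lit 1) (.leaf (Rule.fwd [nat_lit 311, nat_lit 354, nat_lit 96, nat_lit 311, nat_lit 354, nat_lit 139] 412 1)) (.leaf (Rule.fwd [nat_lit 311, nat_lit 354, nat_lit 139, nat_lit 354, nat_lit 311] 215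 4))) (.node (nat_lit 1) (.leaf (Rule.fwd [nat_lit 53, nat_lit 483, nat_lit 10, nat_lit 96, nat_lit 10, nat_lit 139, nat_lit 53, nat_lit 96, nat_lit 53, nat_lit 483, nat_lit 10, nat_lit 139, nat_lit 10, nat_lit 96, nat_lit 53] 92 14)) (.leaf (Rule.fwd [nat_lit 612, nat_lit 96, nat_lit 612, nat_lit 526, nat_lit 569, nat_lit 139, nat_lit 569, nat_lit 96, nat_lit 612, nat_lit 139, nat_lit 612, nat_lit 526, nat_lit 569, nat_lit 96, nat_lit 569] 424 12)))))) (.node (nat_lit 8) (.node (nat_lit 4) (.node (nat_lit 2) (.node (nat_lit 1) (.leaf (Rule.fwd [nat_lit 225, nat_lit 96, nat_lit 311, nat_lit 225, nat_lit 311] 377 1)) (.leaf (Rule.fwd [nat_lit 139, nat_lit 569, nat_lit 96, nat_lit 569, nat_lit 139, nat_lit 612, nat_lit 96, nat_lit 612, nat_lit 526, nat_lit 139, nat_lit 139, nat_lit 569, nat_lit 96, nat_lit 569, nat_lit 139, nat_lit 612, nat_lit 96, nat_lit 612, nat_lit 526, nat_lit 397, nat_lit 139, nat_lit 139, nat_lit 569, nat_lit 96, nat_lit 569,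 nat_lit 139, nat_lit 612, nat_lit 96, nat_lit 612, nat_lit 526] 431 20))) (.node (nat_lit 1) (.leaf (Rule.fwd [nat_lit 354, nat_lit 96, nat_lit 182, nat_lit 182] 274 3)) (.leaf (Rule.fwd [nat_lit 53, nat_lit 526, nat_lit 10, nat_lit 96, nat_lit 10, nat_lit 139, nat_lit 10, nat_lit 526, nat_lit 53, nat_lit 96, nat_lit 53] 394 10)))) (.node (nat_lit 2) (.node (nat_lit 1) (.leaf (Rule.fwd [nat_lit 655, nat_lit 655, nat_lit 96, nat_lit 397] 280 2)) (.leaf (Rule.fwd [nat_lit 10, nat_lit 96, nat_lit 53, nat_lit 139, nat_lit 53, nat_lit 483, nat_lit 96, nat_lit 96, nat_lit 10, nat_lit 139, nat_lit 10, nat_lit 96, nat_lit 53, nat_lit 139, nat_lit 53, nat_lit 483, nat_lit 96, nat_lit 96, nat_lit 10, nat_lit 139, nat_lit 10, nat_lit 96, nat_lit 53, nat_lit 139, nat_lit 53, nat_lit 483, nat_lit 354, nat_lit 96, nat_lit 96, nat_lit 10] 99 27))) (.node (nat_lit 1) (.leaf (Rule.fwd [nat_lit 10, nat_lit 96, nat_lit 53, nat_lit 139, nat_lit 53, nat_lit 483, nat_lit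 10, nat_lit 96, nat_lit 10, nat_lit 139, nat_lit 53, nat_lit 96, nat_lit 53, nat_lit 483, nat_lit 10] 92 10)) (.leaf (Rule.fwd [nat_lit 53, nat_lit 96, nat_lit 53, nat_lit 483, nat_lit 10, nat_lit 139, nat_lit 10, nat_lit 96, nat_lit 53, nat_lit 139, nat_lit 53, nat_lit 483, nat_lit 10, nat_lit 96, nat_lit 10] 92 4))))) (.node (nat_lit 4) (.node (nat_lit 2) (.node (nat_lit 1) (.leaf (Rule.fwd [nat_lit 268, nat_lit 139, nat_lit 440, nat_lit 225, nat_lit 440, nat_lit 96, nat_lit 268, nat_lit 96, nat_lit 440, nat_lit 268, nat_lit 182, nat_lit 268, nat_lit 440] 60 3)) (.leaf (Rule.fwd [nat_lit 440, nat_lit 225, nat_lit 440, nat_lit 96, nat_lit 268, nat_lit 96, nat_lit 440, nat_lit 268, nat_lit 182, nat_lit 268, nat_lit 440, nat_lit 139, nat_lit 268] 60 5))) (.node (nat_lit 1) (.leaf (Rule.fwd [nat_lit 311, nat_lit 354, nat_lit 139, nat_lit 311, nat_lit 354] 398 0)) (.leaf (Rule.fwd [nat_lit 569, nat_lit 96, nat_lit 612, nat_lit 139, nat_lit 612, nat_lit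 526, nat_lit 569, nat_lit 96, nat_lit 569, nat_lit 139, nat_lit 612, nat_lit 96, nat_lit 612, nat_lit 526, nat_lit 569] 424 2)))) (.leaf (Rule.fwd [nat_lit 612, nat_lit 526, nat_lit 569, nat_lit 96, nat_lit 569, nat_lit 139, nat_lit 612, nat_lit 96, nat_lit 612, nat_lit 526, nat_lit 569, nat_lit 139, nat_lit 569, nat_lit 96, nat_lit 612] 424 6)))))), (.node (nat_lit 64) (.node (nat_lit 32) (.node (nat_lit 16) (.node (nat_lit 8) (.node (nat_lit 4) (.node (nat_lit 2) (.node (nat_lit 1) (.leaf XRule.defn) (.leaf XRule.defn)) (.node (nat_lit 1) (.leaf (XRule.rot (nat_lit 142475) [139, 139] 3 0)) (.leaf (XRule.rot (nat_lit 326249783) [311, 139, 311] 15 1)))) (.node (nat_lit 2) (.node (nat_lit 1) (.leaf (XRule.rot (nat_lit 673373708804665) [569, 440, 139, 440, 612] 199 0)) (.leaf (XRule.rot (nat_lit 96) [96] 434 0))) (.node (nat_lit 1) (.leaf (XRule.rot (nat_lit 484396221698488) [440, 612, 139, 569, 440] 199 3)) (.leaf (XRule.rot (nat_lit 436886321858957)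 [397, 354, 96, 354, 397] 212 3))))) (.node (nat_lit 4) (.node (nat_lit 2) (.node (nat_lit 1) (.leaf (XRule.rot (nat_lit 720283522186551) [311, 655, 311, 96, 655] 370 2)) (.leaf (XRule.rot (nat_lit 750203797901) [397, 96, 698, 698] 277 1))) (.node (nat_lit 1) (.leaf (XRule.rot (nat_lit 334034469175) [311, 96, 96, 311] 140 3)) (.leaf (XRule.rot (nat_lit 356414093284807798224552360473287691704) [440, 483, 440, 96, 268, 96, 440, 268, 483, 268, 440, 139, 268] 102 5)))) (.node (nat_lit 2) (.node (nat_lit 1) (.leaf (XRule.rot (nat_lit 295095672865165) [397, 96, 268, 397, 268] 222 4)) (.leaf (XRule.rot (nat_lit 295049501966690) [354, 96, 268, 354, 268] 220 4))) (.node (nat_lit 1) (.leaf (XRule.rot (nat_lit 436840196005261) [397, 311, 139, 311, 397] 219 1)) (.leaf (XRule.rot (nat_lit 309091533560339333560) [440, 96, 268, 139, 440, 96, 268] 44 2)))))) (.node (nat_lit 8) (.node (nat_lit 4) (.node (nat_lit 2) (.node (nat_lit 1) (.leaf (XRule.rot (nat_lit 156842461543849357)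 [397, 311, 96, 397, 311, 139] 81 1)) (.leaf (XRule.rot (nat_lit 149666540941) [397, 139, 397, 139] 139 1))) (.node (nat_lit 1) (.leaf (XRule.rot (nat_lit 200260602440929) [225, 139, 225, 139, 182] 53 5)) (.leaf (XRule.rot (nat_lit 11637359814331477045) [53, 139, 10, 96, 53, 96, 10] 40 5)))) (.node (nat_lit 2) (.node (nat_lit 1) (.leaf (XRule.rot (nat_lit 61261350929465180170) [10, 96, 53, 96, 10, 139, 53] 40 7)) (.leaf (XRule.rot (nat_lit 416383373) [397, 96, 397] 12 2))) (.node (nat_lit 1) (.leaf (XRule.rot (nat_lit 308994517006179947788) [268, 53, 268, 96, 268, 10, 268] 43 3)) (.leaf (XRule.rot (nat_lit 11098431476918) [182, 53, 225, 96, 10] 50 1))))) (.node (nat_lit 4) (.node (nat_lit 2) (.node (nat_lit 1) (.leaf (XRule.rot (nat_lit 58377431427254) [182, 10, 225, 96, 53] 51 0)) (.leaf (XRule.rot (nat_lit 309042930702174136588) [268, 10, 268, 96, 268, 53, 268] 42 6))) (.node (nat_lit 1) (.leaf (XRule.rot (nat_lit 389330476828940) [268, 354, 268,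 96, 354] 208 2)) (.leaf (XRule.rot (nat_lit 720791807296057) [569, 96, 698, 569, 655] 342 5)))) (.node (nat_lit 2) (.node (nat_lit 1) (.leaf (XRule.rot (nat_lit 447324314313045303) [311, 397, 96, 96, 311, 397] 80 4)) (.leaf (XRule.rot (nat_lit 436609476867340) [268, 397, 268, 96, 397] 216 2))) (.node (nat_lit 1) (.leaf (XRule.rot (nat_lit 342189854219489) [225, 311, 139, 225, 311] 55 1)) (.leaf (XRule.rot (nat_lit 720330098355855) [655, 139, 698, 139, 655] 369 5))))))) (.node (nat_lit 16) (.node (nat_lit 8) (.node (nat_lit 4) (.node (nat_lit 2) (.node (nat_lit 1) (.leaf (XRule.rot (nat_lit 11685773510325665845) [53, 96, 10, 96, 53, 139, 10] 41 2)) (.leaf (XRule.rot (nat_lit 768116933100089) [569, 96, 655, 612, 698] 340 5))) (.node (nat_lit 1) (.leaf (XRule.rot (nat_lit 585208433079594030601537195211575405836) [268, 139, 440, 225, 440, 96, 268, 96, 440, 268, 182, 268, 440] 60 3)) (.leaf (XRule.rot (nat_lit 247539602435254) [182, 139, 225, 139, 225]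 53 1)))) (.node (nat_lit 2) (.node (nat_lit 1) (.leaf (XRule.rot (nat_lit 703987810701) [397, 96, 655, 655] 276 3)) (.leaf (XRule.rot (nat_lit 342374537813389) [397, 311, 139, 397, 311] 65 1))) (.node (nat_lit 1) (.leaf (XRule.rot (nat_lit 720837978194532) [612, 96, 698, 612, 655] 343 2)) (.leaf (XRule.rot (nat_lit 484119511444791) [311, 139, 440, 311, 440] 225 3))))) (.node (nat_lit 4) (.node (nat_lit 2) (.node (nat_lit 1) (.leaf (XRule.rot (nat_lit 389561196054839) [311, 354, 139, 311, 354] 398 0)) (.leaf (XRule.rot (nat_lit 61212937233470991370) [10, 139, 53, 96, 10, 96, 53] 41 4))) (.node (nat_lit 1) (.leaf (XRule.rot (nat_lit 768070762201700) [612, 96, 655, 569, 698] 341 2)) (.leaf (XRule.rot (nat_lit 241827938658) [354, 96, 225, 225] 275 1)))) (.node (nat_lit 2) (.node (nat_lit 1) (.leaf (XRule.rot (nat_lit 342143863455926) [182, 96, 311, 182, 311] 376 4)) (.leaf (XRule.rot (nat_lit 342190034354401) [225, 96, 311, 225, 311] 377 1))) (.node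 (nat_lit 1) (.leaf (XRule.rot (nat_lit 398910618589256843) [139, 311, 354, 96, 311, 354] 412 0)) (.leaf (XRule.rot (nat_lit 247539557346529) [225, 139, 182, 139, 225] 53 3)))))) (.node (nat_lit 8) (.node (nat_lit 4) (.node (nat_lit 2) (.node (nat_lit 1) (.leaf (XRule.rot (nat_lit 371294562) [354, 96, 354] 10 2)) (.leaf (XRule.rot (nat_lit 389330657184184) [440, 354, 440, 96, 354] 210 2))) (.node (nat_lit 1) (.leaf (XRule.rot (nat_lit 200260557352118) [182, 139, 182, 139, 182] 365 1)) (.leaf (XRule.rot (nat_lit 720330053267130) [698, 139, 655, 139, 655] 369 3)))) (.node (nat_lit 2) (.node (nat_lit 1) (.leaf (XRule.rot (nat_lit 380205499617) [225, 225, 96, 354] 279 1)) (.leaf (XRule.rot (nat_lit 380250720395) [139, 354, 139, 354] 137 2))) (.node (nat_lit 1) (.leaf (XRule.rot (nat_lit 426421662859) [139, 397, 139, 397] 139 2)) (.leaf (XRule.rot (nat_lit 767609053261455) [655, 139, 655, 139, 698] 369 1))))) (.node (nat_lit 4) (.node (nat_lit 2) (.node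 (nat_lit 1) (.leaf (XRule.rot (nat_lit 195611951458) [354, 96, 182, 182] 274 3)) (.leaf (XRule.rot (nat_lit 149576319287) [311, 96, 311, 139] 141 1))) (.node (nat_lit 1) (.leaf (XRule.rot (nat_lit 156889648202090807) [311, 354, 96, 311, 354, 139] 412 1)) (.leaf (XRule.rot (nat_lit 58377386382561) [225, 53, 182, 96, 53] 323 0)))) (.node (nat_lit 2) (.node (nat_lit 1) (.leaf (XRule.rot (nat_lit 767609098350266) [698, 139, 698, 139, 698] 367 1)) (.leaf (XRule.rot (nat_lit 585208814642424699298587045996265614604) [268, 139, 440, 483, 440, 96, 268, 96, 440, 268, 483, 268, 440] 102 3))) (.node (nat_lit 1) (.leaf (XRule.rot (nat_lit 767793196362039) [311, 698, 139, 311, 698] 373 1)) (.leaf (XRule.rot (nat_lit 484165682299234) [354, 96, 440, 354, 440] 226 4)))))))) (.node (nat_lit 16) (.node (nat_lit 8) (.node (nat_lit 4) (.node (nat_lit 2) (.node (nat_lit 1) (.leaf (XRule.rot (nat_lit 342143683321014) [182, 311, 139, 182, 311] 379 1)) (.leaf (XRule.rot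 (nat_lit 767562522224951) [311, 698, 311, 96, 698] 371 1))) (.node (nat_lit 1) (.leaf (XRule.rot (nat_lit 720514196323639) [311, 655, 139, 311, 655] 375 1)) (.leaf (XRule.rot (nat_lit 334034689163) [139, 311, 96, 311] 141 2)))) (.node (nat_lit 2) (.node (nat_lit 1) (.leaf (XRule.rot (nat_lit 350591480550012043) [139, 397, 311, 96, 397, 311] 81 2)) (.leaf (XRule.rot (nat_lit 11098386344161) [225, 10, 182, 96, 10] 322 1))) (.node (nat_lit 1) (.leaf (XRule.rot (nat_lit 342374537901367) [311, 397, 139, 397, 311] 219 4)) (.leaf (XRule.rot (nat_lit 389653492807010) [354, 397, 96, 397, 354] 213 1))))) (.node (nat_lit 4) (.node (nat_lit 2) (.node (nat_lit 1) (.leaf (XRule.rot (nat_lit 149621452130) [354, 139, 354, 139] 137 1)) (.leaf (XRule.rot (nat_lit 853134928784577838072895272920010453255993956) [612, 526, 569, 96, 569, 139, 612, 96, 612, 526, 569, 139, 569, 96, 612] 424 6))) (.node (nat_lit 1) (.leaf (XRule.rot (nat_lit 426421398925) [397, 139, 139,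 397] 139 4)) (.leaf (XRule.rot (nat_lit 389561196010850) [354, 311, 139, 311, 354] 215 1)))) (.node (nat_lit 2) (.node (nat_lit 1) (.leaf (XRule.rot (nat_lit 426376882874) [698, 698, 96, 397] 281 1)) (.leaf (XRule.rot (nat_lit 380250500450) [354, 139, 139, 354] 137 4))) (.node (nat_lit 1) (.leaf (XRule.rot (nat_lit 380205455542) [182, 182, 96, 354] 278 2)) (.leaf (XRule.rot (nat_lit 342097828044216) [440, 311, 440, 139, 311] 225 1)))))) (.node (nat_lit 2) (.node (nat_lit 1) (.leaf (XRule.rot (nat_lit 67304388749938872584651516950581) [53, 526, 10, 96, 10, 139, 10, 526, 53, 96, 53] 394 10)) (.leaf (XRule.rot (nat_lit 20079608690191183472355087324998860476032904671422070654468013128302140822782578382700554) [10, 96, 53, 139, 53, 483, 354, 96, 96, 10, 139, 10, 96, 53, 139, 53, 483, 96, 96, 10, 139, 10, 96, 53, 139, 53, 483, 96, 96, 10] 99 7))) (.node (nat_lit 1) (.leaf (XRule.rot (nat_lit 356414093284495895363091786146213190072) [440, 182, 440, 96,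 268, 96, 440, 268, 225, 268, 440, 139, 268] 61 10)) (.leaf (XRule.rot (nat_lit 12795360956364340563215906256906) [10, 526, 53, 96, 53, 139, 53, 526, 10, 96, 10] 394 4))))))⟩
noncomputable def ci182 : CI := ⟨[4], (nat_lit 225), true, (.node (nat_lit 64) (.node (nat_lit 32) (.node (nat_lit 16) (.node (nat_lit 8) (.node (nat_lit 4) (.node (nat_lit 2) (.node (nat_lit 1) (.leaf Rule.defn) (.leaf Rule.copy)) (.node (nat_lit 1) (.leaf (Rule.fwd [nat_lit 612, nat_lit 225, nat_lit 569] 252 1)) (.leaf (Rule.fwd [nat_lit 225] 434 0)))) (.node (nat_lit 2) (.node (nat_lit 1) (.leaf (Rule.fwd [nat_lit 655, nat_lit 225, nat_lit 698] 254 0)) (.leaf (Rule.fwd [nat_lit 139, nat_lit 182, nat_lit 139, nat_lit 182, nat_lit 139] 365 0))) (.node (nat_lit 1) (.leaf (Rule.fwd [nat_lit 354, nat_lit 182] 46 1)) (.leaf (Rule.fwd [nat_lit 96, nat_lit 311, nat_lit 182, nat_lit 311, nat_lit 139] 376 5))))) (.node (nat_lit 4) (.node (nat_lit 2) (.node (nat_lit 1) (.leaf (Rule.fwd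 [nat_lit 655, nat_lit 182, nat_lit 698, nat_lit 354] 290 0)) (.leaf (Rule.fwd [nat_lit 96, nat_lit 311, nat_lit 182, nat_lit 96, nat_lit 311] 54 2))) (.node (nat_lit 1) (.leaf (Rule.fwd [nat_lit 96, nat_lit 182, nat_lit 96, nat_lit 225, nat_lit 96] 52 1)) (.leaf (Rule.fwd [nat_lit 354, nat_lit 397, nat_lit 182, nat_lit 397] 298 0)))) (.node (nat_lit 2) (.node (nat_lit 1) (.leaf (Rule.fwd [nat_lit 96, nat_lit 10, nat_lit 139, nat_lit 225, nat_lit 10] 322 4)) (.leaf (Rule.fwd [nat_lit 182, nat_lit 53, nat_lit 354, nat_lit 53] 265 3))) (.node (nat_lit 1) (.leaf (Rule.fwd [nat_lit 96, nat_lit 225, nat_lit 96, nat_lit 182, nat_lit 96] 52 3)) (.leaf (Rule.fwd [nat_lit 569, nat_lit 225, nat_lit 612] 253 0)))))) (.node (nat_lit 8) (.node (nat_lit 4) (.node (nat_lit 2) (.node (nat_lit 1) (.leaf (Rule.fwd [nat_lit 698, nat_lit 225, nat_lit 655] 255 3)) (.leaf (Rule.fwd [nat_lit 311, nat_lit 139, nat_lit 182, nat_lit 96, nat_lit 311] 376 2))) (.node (nat_lit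 1) (.leaf (Rule.fwd [nat_lit 397, nat_lit 225, nat_lit 397] 48 0)) (.leaf (Rule.fwd [nat_lit 440, nat_lit 225, nat_lit 440, nat_lit 225, nat_lit 440, nat_lit 182, nat_lit 440] 58 2)))) (.node (nat_lit 2) (.node (nat_lit 1) (.leaf (Rule.fwd [nat_lit 483, nat_lit 225, nat_lit 483] 66 0)) (.leaf (Rule.fwd [nat_lit 139, nat_lit 225, nat_lit 139, nat_lit 225, nat_lit 139] 53 0))) (.node (nat_lit 1) (.leaf (Rule.fwd [nat_lit 182, nat_lit 311, nat_lit 354, nat_lit 311] 286 0)) (.leaf (Rule.fwd [nat_lit 53, nat_lit 225, nat_lit 96, nat_lit 10, nat_lit 139] 50 2))))) (.node (nat_lit 4) (.node (nat_lit 2) (.node (nat_lit 1) (.leaf (Rule.fwd [nat_lit 96, nat_lit 53, nat_lit 139, nat_lit 225, nat_lit 53] 323 3)) (.leaf (Rule.fwd [nat_lit 10, nat_lit 225, nat_lit 96, nat_lit 53, nat_lit 139] 51 5))) (.node (nat_lit 1) (.leaf (Rule.fwd [nat_lit 569, nat_lit 225, nat_lit 53, nat_lit 612, nat_lit 10] 324 1)) (.leaf (Rule.fwd [nat_lit 182, nat_lit 397, nat_lit 354,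 nat_lit 397] 288 0)))) (.node (nat_lit 2) (.node (nat_lit 1) (.leaf (Rule.fwd [nat_lit 182, nat_lit 96, nat_lit 354, nat_lit 139] 278 3)) (.leaf (Rule.fwd [nat_lit 698, nat_lit 354, nat_lit 182, nat_lit 655] 290 2))) (.node (nat_lit 1) (.leaf (Rule.fwd [nat_lit 440, nat_lit 182, nat_lit 440, nat_lit 225, nat_lit 440, nat_lit 225, nat_lit 440] 58 0)) (.leaf (Rule.fwd [nat_lit 182, nat_lit 139, nat_lit 354, nat_lit 96] 274 1))))))) (.node (nat_lit 16) (.node (nat_lit 8) (.node (nat_lit 4) (.node (nat_lit 2) (.node (nat_lit 1) (.leaf (Rule.fwd [nat_lit 182, nat_lit 354] 46 0)) (.leaf (Rule.fwd [nat_lit 397, nat_lit 182, nat_lit 354, nat_lit 397] 298 3))) (.node (nat_lit 1) (.leaf (Rule.fwd [nat_lit 354, nat_lit 698, nat_lit 182, nat_lit 655] 292 2)) (.leaf (Rule.fwd [nat_lit 397, nat_lit 182, nat_lit 397, nat_lit 354] 300 0)))) (.node (nat_lit 2) (.node (nat_lit 1) (.leaf (Rule.fwd [nat_lit 10, nat_lit 569, nat_lit 53, nat_lit 225, nat_lit 612] 312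 5)) (.leaf (Rule.fwd [nat_lit 655, nat_lit 354, nat_lit 698, nat_lit 182] 282 1))) (.node (nat_lit 1) (.leaf (Rule.fwd [nat_lit 182, nat_lit 10, nat_lit 354, nat_lit 10] 262 1)) (.leaf (Rule.fwd [nat_lit 311, nat_lit 612, nat_lit 311, nat_lit 225, nat_lit 569] 348 1))))) (.node (nat_lit 4) (.node (nat_lit 2) (.node (nat_lit 1) (.leaf (Rule.fwd [nat_lit 311, nat_lit 139, nat_lit 182, nat_lit 311, nat_lit 139] 379 0)) (.leaf (Rule.fwd [nat_lit 182, nat_lit 483, nat_lit 354, nat_lit 483] 86 0))) (.node (nat_lit 1) (.leaf (Rule.fwd [nat_lit 397, nat_lit 354, nat_lit 182, nat_lit 397] 300 2)) (.leaf (Rule.fwd [nat_lit 612, nat_lit 225, nat_lit 53, nat_lit 569, nat_lit 10] 325 4)))) (.node (nat_lit 2) (.node (nat_lit 1) (.leaf (Rule.fwd [nat_lit 569, nat_lit 225, nat_lit 10, nat_lit 612, nat_lit 53] 311 0)) (.leaf (Rule.fwd [nat_lit 612, nat_lit 225, nat_lit 10, nat_lit 569, nat_lit 53] 310 3))) (.node (nat_lit 1) (.leaf (Rule.fwd [nat_lit 268, nat_lit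 182, nat_lit 268, nat_lit 225, nat_lit 268, nat_lit 225, nat_lit 268] 56 0)) (.leaf (Rule.fwd [nat_lit 311, nat_lit 569, nat_lit 311, nat_lit 225, nat_lit 612] 349 0)))))) (.node (nat_lit 8) (.node (nat_lit 4) (.node (nat_lit 2) (.node (nat_lit 1) (.leaf (Rule.fwd [nat_lit 182, nat_lit 10, nat_lit 182, nat_lit 182, nat_lit 10] 326 1)) (.leaf (Rule.fwd [nat_lit 311, nat_lit 182, nat_lit 182, nat_lit 311, nat_lit 182] 380 1))) (.node (nat_lit 1) (.leaf (Rule.fwd [nat_lit 569, nat_lit 225, nat_lit 397, nat_lit 569, nat_lit 397] 354 5)) (.leaf (Rule.fwd [nat_lit 182, nat_lit 53, nat_lit 182, nat_lit 182, nat_lit 53] 331 0)))) (.node (nat_lit 2) (.node (nat_lit 1) (.leaf (Rule.fwd [nat_lit 612, nat_lit 655, nat_lit 225, nat_lit 698, nat_lit 569] 344 1)) (.leaf (Rule.fwd [nat_lit 612, nat_lit 225, nat_lit 311, nat_lit 569, nat_lit 311] 353 2))) (.node (nat_lit 1) (.leaf (Rule.fwd [nat_lit 397, nat_lit 354, nat_lit 397, nat_lit 182] 288 1)) (.leaf (Rule.fwd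 [nat_lit 569, nat_lit 655, nat_lit 225, nat_lit 698, nat_lit 612] 357 0))))) (.node (nat_lit 4) (.node (nat_lit 2) (.node (nat_lit 1) (.leaf (Rule.fwd [nat_lit 96, nat_lit 354, nat_lit 139, nat_lit 182] 278 4)) (.leaf (Rule.fwd [nat_lit 53, nat_lit 569, nat_lit 10, nat_lit 225, nat_lit 612] 329 2))) (.node (nat_lit 1) (.leaf (Rule.fwd [nat_lit 182, nat_lit 698, nat_lit 354, nat_lit 655] 284 0)) (.leaf (Rule.fwd [nat_lit 569, nat_lit 225, nat_lit 311, nat_lit 612, nat_lit 311] 352 5)))) (.node (nat_lit 2) (.node (nat_lit 1) (.leaf (Rule.fwd [nat_lit 698, nat_lit 569, nat_lit 225, nat_lit 612, nat_lit 655] 345 5)) (.leaf (Rule.fwd [nat_lit 10, nat_lit 182, nat_lit 182, nat_lit 10, nat_lit 182] 326 2))) (.node (nat_lit 1) (.leaf (Rule.fwd [nat_lit 569, nat_lit 698, nat_lit 225, nat_lit 655, nat_lit 612] 361 0)) (.leaf (Rule.fwd [nat_lit 53, nat_lit 182, nat_lit 182, nat_lit 53, nat_lit 182] 331 2)))))))) (.node (nat_lit 32) (.node (nat_lit 16) (.node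 (nat_lit 8) (.node (nat_lit 4) (.node (nat_lit 2) (.node (nat_lit 1) (.leaf (Rule.fwd [nat_lit 569, nat_lit 225, nat_lit 569, nat_lit 569] 266 2)) (.leaf (Rule.fwd [nat_lit 655, nat_lit 354, nat_lit 182, nat_lit 698] 294 0))) (.node (nat_lit 1) (.leaf (Rule.fwd [nat_lit 655, nat_lit 569, nat_lit 225, nat_lit 612, nat_lit 698] 347 5)) (.leaf (Rule.fwd [nat_lit 139, nat_lit 354, nat_lit 96, nat_lit 182] 274 2)))) (.node (nat_lit 2) (.node (nat_lit 1) (.leaf (Rule.fwd [nat_lit 268, nat_lit 225, nat_lit 268, nat_lit 225, nat_lit 268, nat_lit 182, nat_lit 268] 56 2)) (.leaf (Rule.fwd [nat_lit 698, nat_lit 612, nat_lit 225, nat_lit 569, nat_lit 655] 356 2))) (.node (nat_lit 1) (.leaf (Rule.fwd [nat_lit 655, nat_lit 612, nat_lit 225, nat_lit 569, nat_lit 698] 360 2)) (.leaf (Rule.fwd [nat_lit 612, nat_lit 225, nat_lit 612, nat_lit 612] 267 0))))) (.node (nat_lit 4) (.node (nat_lit 2) (.node (nat_lit 1) (.leaf (Rule.fwd [nat_lit 483, nat_lit 354, nat_lit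 483, nat_lit 182] 86 1)) (.leaf (Rule.fwd [nat_lit 655, nat_lit 182, nat_lit 354, nat_lit 698] 292 0))) (.node (nat_lit 1) (.leaf (Rule.fwd [nat_lit 698, nat_lit 182, nat_lit 354, nat_lit 655] 296 0)) (.leaf (Rule.fwd [nat_lit 53, nat_lit 612, nat_lit 10, nat_lit 225, nat_lit 569] 328 3)))) (.node (nat_lit 2) (.node (nat_lit 1) (.leaf (Rule.fwd [nat_lit 698, nat_lit 354, nat_lit 655, nat_lit 182] 284 1)) (.leaf (Rule.fwd [nat_lit 612, nat_lit 698, nat_lit 225, nat_lit 655, nat_lit 569] 346 1))) (.node (nat_lit 1) (.leaf (Rule.fwd [nat_lit 10, nat_lit 612, nat_lit 53, nat_lit 225, nat_lit 569] 313 4)) (.leaf (Rule.fwd [nat_lit 698, nat_lit 182, nat_lit 655, nat_lit 354] 294 3)))))) (.node (nat_lit 8) (.node (nat_lit 4) (.node (nat_lit 2) (.node (nat_lit 1) (.leaf (Rule.fwd [nat_lit 612, nat_lit 225, nat_lit 397, nat_lit 612, nat_lit 397] 355 2)) (.leaf (Rule.fwd [nat_lit 397, nat_lit 569, nat_lit 397, nat_lit 225, nat_lit 569] 350 1))) (.node (nat_lit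 1) (.leaf (Rule.fwd [nat_lit 483, nat_lit 354, nat_lit 182, nat_lit 483] 88 2)) (.leaf (Rule.fwd [nat_lit 397, nat_lit 612, nat_lit 397, nat_lit 225, nat_lit 612] 351 0)))) (.node (nat_lit 2) (.node (nat_lit 1) (.leaf (Rule.fwd [nat_lit 440, nat_lit 96, nat_lit 268, nat_lit 96, nat_lit 440, nat_lit 268, nat_lit 225, nat_lit 268, nat_lit 440, nat_lit 139, nat_lit 268, nat_lit 139, nat_lit 440] 61 8)) (.leaf (Rule.fwd [nat_lit 311, nat_lit 354, nat_lit 311, nat_lit 182] 286 1))) (.node (nat_lit 1) (.leaf (Rule.fwd [nat_lit 182, nat_lit 655, nat_lit 354, nat_lit 698] 282 0)) (.leaf (Rule.fwd [nat_lit 182, nat_lit 268, nat_lit 354, nat_lit 268] 82 0))))) (.node (nat_lit 4) (.node (nat_lit 2) (.node (nat_lit 1) (.leaf (Rule.fwd [nat_lit 483, nat_lit 182, nat_lit 483, nat_lit 354] 88 0)) (.leaf (Rule.fwd [nat_lit 354, nat_lit 483, nat_lit 182, nat_lit 483] 90 2))) (.node (nat_lit 1) (.leaf (Rule.fwd [nat_lit 268, nat_lit 440, nat_lit 139, nat_lit 268,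 nat_lit 139, nat_lit 440, nat_lit 225, nat_lit 440, nat_lit 96, nat_lit 268, nat_lit 96, nat_lit 440, nat_lit 268] 60 0)) (.leaf (Rule.fwd [nat_lit 268, nat_lit 354, nat_lit 268, nat_lit 182] 82 1)))) (.node (nat_lit 2) (.node (nat_lit 1) (.leaf (Rule.fwd [nat_lit 182, nat_lit 311, nat_lit 397, nat_lit 354, nat_lit 311, nat_lit 397] 84 0)) (.leaf (Rule.fwd [nat_lit 354, nat_lit 655, nat_lit 182, nat_lit 698] 296 2))) (.node (nat_lit 1) (.leaf (Rule.fwd [nat_lit 311, nat_lit 397, nat_lit 354, nat_lit 311, nat_lit 397, nat_lit 182] 84 1)) (.leaf (Rule.fwd [nat_lit 182, nat_lit 311, nat_lit 182, nat_lit 182, nat_lit 311] 380 0))))))) (.node (nat_lit 4) (.node (nat_lit 2) (.node (nat_lit 1) (.leaf (Rule.fwd [nat_lit 311, nat_lit 225, nat_lit 225, nat_lit 311, nat_lit 182] 382 1)) (.leaf (Rule.fwd [nat_lit 182, nat_lit 311, nat_lit 225, nat_lit 225, nat_lit 311] 382 0))) (.node (nat_lit 1) (.leaf (Rule.fwd [nat_lit 569, nat_lit 569, nat_lit 225, nat_lit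 569] 268 4)) (.leaf (Rule.fwd [nat_lit 612, nat_lit 612, nat_lit 225, nat_lit 612] 269 3)))) (.node (nat_lit 1) (.leaf (Rule.fwd [nat_lit 10, nat_lit 354, nat_lit 10, nat_lit 182] 262 2)) (.leaf (Rule.fwd [nat_lit 53, nat_lit 354, nat_lit 53, nat_lit 182] 265 2)))))), (.node (nat_lit 64) (.node (nat_lit 32) (.node (nat_lit 16) (.node (nat_lit 8) (.node (nat_lit 4) (.node (nat_lit 2) (.node (nat_lit 1) (.leaf XRule.defn) (.leaf XRule.ax)) (.node (nat_lit 1) (.leaf (XRule.rot (nat_lit 186722) [354, 182] 46 1)) (.leaf (XRule.rot (nat_lit 506693091) [483, 225, 483] 66 0)))) (.node (nat_lit 2) (.node (nat_lit 1) (.leaf (XRule.rot (nat_lit 153073854153867) [139, 225, 139, 225, 139] 53 0)) (.leaf (XRule.rot (nat_lit 596870756) [612, 225, 569] 252 1))) (.node (nat_lit 1) (.leaf (XRule.rot (nat_lit 641959481) [569, 225, 612] 253 0)) (.leaf (XRule.rot (nat_lit 687048378) [698, 225, 655] 255 3))))) (.node (nat_lit 4) (.node (nat_lit 2) (.node (nat_lit 1) (.leaf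 (XRule.rot (nat_lit 732137103) [655, 225, 698] 254 0)) (.leaf (XRule.rot (nat_lit 153027683211403) [139, 182, 139, 182, 139] 365 0))) (.node (nat_lit 1) (.leaf (XRule.rot (nat_lit 153166241127520) [96, 311, 182, 311, 139] 376 5)) (.leaf (XRule.rot (nat_lit 342051386612832) [96, 311, 182, 96, 311] 54 2)))) (.node (nat_lit 2) (.node (nat_lit 1) (.leaf (XRule.rot (nat_lit 105794809026656) [96, 182, 96, 225, 96] 52 1)) (.leaf (XRule.rot (nat_lit 152842954572853) [53, 225, 96, 10, 139] 50 2))) (.node (nat_lit 1) (.leaf (XRule.rot (nat_lit 334305221814) [182, 311, 354, 311] 286 0)) (.leaf (XRule.rot (nat_lit 149621407926) [182, 96, 354, 139] 278 3)))))) (.node (nat_lit 8) (.node (nat_lit 4) (.node (nat_lit 2) (.node (nat_lit 1) (.leaf (XRule.rot (nat_lit 426466751842) [354, 397, 182, 397] 298 0)) (.leaf (XRule.rot (nat_lit 309188171928669750540) [268, 225, 268, 225, 268, 182, 268] 56 2))) (.node (nat_lit 1) (.leaf (XRule.rot (nat_lit 105748638172256)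 [96, 225, 96, 182, 96] 52 3)) (.leaf (XRule.rot (nat_lit 380836698767) [655, 182, 698, 354] 290 0)))) (.node (nat_lit 2) (.node (nat_lit 1) (.leaf (XRule.rot (nat_lit 225) [225] 434 0)) (.leaf (XRule.rot (nat_lit 507490859837227763128) [440, 225, 440, 225, 440, 182, 440] 58 2))) (.node (nat_lit 1) (.leaf (XRule.rot (nat_lit 195702393100) [268, 354, 268, 182] 82 1)) (.leaf (XRule.rot (nat_lit 342051386436919) [311, 139, 182, 96, 311] 376 2))))) (.node (nat_lit 4) (.node (nat_lit 2) (.node (nat_lit 1) (.leaf (XRule.rot (nat_lit 380521077133) [397, 182, 397, 354] 300 0)) (.leaf (XRule.rot (nat_lit 416515469) [397, 225, 397] 48 0))) (.node (nat_lit 1) (.leaf (XRule.rot (nat_lit 11236853950560) [96, 10, 139, 225, 10] 322 4)) (.leaf (XRule.rot (nat_lit 57279567030) [182, 53, 354, 53] 265 3)))) (.node (nat_lit 2) (.node (nat_lit 1) (.leaf (XRule.rot (nat_lit 58515853988960) [96, 53, 139, 225, 53] 323 3)) (.leaf (XRule.rot (nat_lit 703492450658) [354, 698,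 182, 655] 292 2))) (.node (nat_lit 1) (.leaf (XRule.rot (nat_lit 152889125471242) [10, 225, 96, 53, 139] 51 5)) (.leaf (XRule.rot (nat_lit 288134279350) [182, 268, 354, 268] 82 0))))))) (.node (nat_lit 16) (.node (nat_lit 8) (.node (nat_lit 4) (.node (nat_lit 2) (.node (nat_lit 1) (.leaf (XRule.rot (nat_lit 11108624566) [182, 10, 354, 10] 262 1)) (.leaf (XRule.rot (nat_lit 625863764316170) [10, 612, 53, 225, 569] 313 4))) (.node (nat_lit 1) (.leaf (XRule.rot (nat_lit 11190728140982) [182, 10, 182, 182, 10] 326 1)) (.leaf (XRule.rot (nat_lit 103450553526) [182, 139, 354, 96] 274 1)))) (.node (nat_lit 2) (.node (nat_lit 1) (.leaf (XRule.rot (nat_lit 625864034849079) [311, 612, 311, 225, 569] 348 1)) (.leaf (XRule.rot (nat_lit 703492098746) [698, 354, 182, 655] 290 2))) (.node (nat_lit 1) (.leaf (XRule.rot (nat_lit 309236585624663939340) [268, 182, 268, 225, 268, 225, 268] 56 0)) (.leaf (XRule.rot (nat_lit 437163662739044) [612, 225, 397, 612, 397]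 355 2))))) (.node (nat_lit 4) (.node (nat_lit 2) (.node (nat_lit 1) (.leaf (XRule.rot (nat_lit 720837482702522) [698, 569, 225, 612, 655] 345 5)) (.leaf (XRule.rot (nat_lit 518988991670) [182, 483, 354, 483] 86 0))) (.node (nat_lit 1) (.leaf (XRule.rot (nat_lit 153166240951607) [311, 139, 182, 311, 139] 379 0)) (.leaf (XRule.rot (nat_lit 58931256985145) [569, 225, 10, 612, 53] 311 0)))) (.node (nat_lit 2) (.node (nat_lit 1) (.leaf (XRule.rot (nat_lit 11652302079545) [569, 225, 53, 612, 10] 324 1)) (.leaf (XRule.rot (nat_lit 507539273533221951928) [440, 182, 440, 225, 440, 225, 440] 58 0))) (.node (nat_lit 1) (.leaf (XRule.rot (nat_lit 768116482696847) [655, 569, 225, 612, 698] 347 5)) (.leaf (XRule.rot (nat_lit 585041090364163839982808353301380301240) [440, 96, 268, 96, 440, 268, 225, 268, 440, 139, 268, 139, 440] 61 8)))))) (.node (nat_lit 8) (.node (nat_lit 4) (.node (nat_lit 2) (.node (nat_lit 1) (.leaf (XRule.rot (nat_lit 200168215599157) [53,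 182, 182, 53, 182] 331 2)) (.leaf (XRule.rot (nat_lit 673143034799415) [311, 569, 311, 225, 612] 349 0))) (.node (nat_lit 1) (.leaf (XRule.rot (nat_lit 518808504803) [483, 354, 182, 483] 88 2)) (.leaf (XRule.rot (nat_lit 200122044700682) [10, 182, 182, 10, 182] 326 2)))) (.node (nat_lit 2) (.node (nat_lit 1) (.leaf (XRule.rot (nat_lit 342559401674340) [612, 225, 311, 569, 311] 353 2)) (.leaf (XRule.rot (nat_lit 626325653744228) [612, 698, 225, 655, 569] 346 1))) (.node (nat_lit 1) (.leaf (XRule.rot (nat_lit 703672805558) [182, 698, 354, 655] 284 0)) (.leaf (XRule.rot (nat_lit 673142764266506) [10, 569, 53, 225, 612] 312 5))))) (.node (nat_lit 4) (.node (nat_lit 2) (.node (nat_lit 1) (.leaf (XRule.rot (nat_lit 673142719177781) [53, 569, 10, 225, 612] 329 2)) (.leaf (XRule.rot (nat_lit 673604653738553) [569, 698, 225, 655, 612] 361 0))) (.node (nat_lit 1) (.leaf (XRule.rot (nat_lit 58469728179382) [182, 53, 182, 182, 53] 331 0)) (.leaf (XRule.rot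 (nat_lit 342605572572729) [569, 225, 311, 612, 311] 352 5)))) (.node (nat_lit 2) (.node (nat_lit 1) (.leaf (XRule.rot (nat_lit 720791311848122) [698, 612, 225, 569, 655] 356 2)) (.leaf (XRule.rot (nat_lit 768070311842447) [655, 612, 225, 569, 698] 360 2))) (.node (nat_lit 1) (.leaf (XRule.rot (nat_lit 195747481911) [311, 354, 311, 182] 286 1)) (.leaf (XRule.rot (nat_lit 626371824598628) [612, 655, 225, 698, 569] 344 1)))))))) (.node (nat_lit 16) (.node (nat_lit 8) (.node (nat_lit 4) (.node (nat_lit 2) (.node (nat_lit 1) (.leaf (XRule.rot (nat_lit 673650824592953) [569, 655, 225, 698, 612] 357 0)) (.leaf (XRule.rot (nat_lit 426646886797) [397, 182, 354, 397] 298 3))) (.node (nat_lit 1) (.leaf (XRule.rot (nat_lit 11606131181156) [612, 225, 53, 569, 10] 325 4)) (.leaf (XRule.rot (nat_lit 437117491840569) [569, 225, 397, 569, 397] 354 5)))) (.node (nat_lit 2) (.node (nat_lit 1) (.leaf (XRule.rot (nat_lit 195837659533) [397, 354, 397, 182] 288 1)) (.leaf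 (XRule.rot (nat_lit 625864124982669) [397, 569, 397, 225, 569] 350 1))) (.node (nat_lit 1) (.leaf (XRule.rot (nat_lit 673143125021069) [397, 612, 397, 225, 612] 351 0)) (.leaf (XRule.rot (nat_lit 356804377551138414014762111785141461260) [268, 440, 139, 268, 139, 440, 225, 440, 96, 268, 96, 440, 268] 60 0))))) (.node (nat_lit 4) (.node (nat_lit 2) (.node (nat_lit 1) (.leaf (XRule.rot (nat_lit 380611254755) [483, 182, 483, 354] 88 0)) (.leaf (XRule.rot (nat_lit 426647106742) [182, 397, 354, 397] 288 0))) (.node (nat_lit 1) (.leaf (XRule.rot (nat_lit 362678) [182, 354] 46 0)) (.leaf (XRule.rot (nat_lit 342143728409782) [182, 311, 182, 182, 311] 380 0)))) (.node (nat_lit 2) (.node (nat_lit 1) (.leaf (XRule.rot (nat_lit 195522037899) [139, 354, 96, 182] 274 2)) (.leaf (XRule.rot (nat_lit 58885086086756) [612, 225, 10, 569, 53] 310 3))) (.node (nat_lit 1) (.leaf (XRule.rot (nat_lit 195927837155) [483, 354, 483, 182] 86 1)) (.leaf (XRule.rot (nat_lit 196153281167)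 [655, 354, 698, 182] 282 1)))))) (.node (nat_lit 2) (.node (nat_lit 1) (.leaf (XRule.rot (nat_lit 196108192442) [698, 354, 655, 182] 284 1)) (.leaf (XRule.rot (nat_lit 749843659958) [182, 655, 354, 698] 282 0))) (.leaf (XRule.rot (nat_lit 625863719227445) [53, 612, 10, 225, 569] 328 3)))))⟩
noncomputable def ci225 : CI := ⟨[5], (nat_lit 182), false, (.node (nat_lit 64) (.node (nat_lit 32) (.node (nat_lit 16) (.node (nat_lit 8) (.node (nat_lit 4) (.node (nat_lit 2) (.node (nat_lit 1) (.leaf Rule.defn) (.leaf Rule.copy)) (.node (nat_lit 1) (.leaf (Rule.fwd [nat_lit 182] 434 0)) (.leaf (Rule.fwd [nat_lit 569, nat_lit 182, nat_lit 612] 252 3)))) (.node (nat_lit 2) (.node (nat_lit 1) (.leaf (Rule.fwd [nat_lit 698, nat_lit 182, nat_lit 655] 254 2)) (.leaf (Rule.fwd [nat_lit 483, nat_lit 182, nat_lit 483] 66 2))) (.node (nat_lit 1) (.leaf (Rule.fwd [nat_lit 311, nat_lit 139, nat_lit 225, nat_lit 311, nat_lit 139] 55 0)) (.leaf (Rule.fwd [nat_lit 139, nat_lit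 225, nat_lit 139, nat_lit 182, nat_lit 139] 53 4))))) (.node (nat_lit 4) (.node (nat_lit 2) (.node (nat_lit 1) (.leaf (Rule.fwd [nat_lit 354, nat_lit 225] 47 1)) (.leaf (Rule.fwd [nat_lit 96, nat_lit 53, nat_lit 139, nat_lit 182, nat_lit 10] 51 3))) (.node (nat_lit 1) (.leaf (Rule.fwd [nat_lit 225, nat_lit 53, nat_lit 354, nat_lit 53] 263 3)) (.leaf (Rule.fwd [nat_lit 612, nat_lit 182, nat_lit 569] 253 2)))) (.node (nat_lit 2) (.node (nat_lit 1) (.leaf (Rule.fwd [nat_lit 655, nat_lit 182, nat_lit 698] 255 1)) (.leaf (Rule.fwd [nat_lit 397, nat_lit 182, nat_lit 397] 48 2))) (.node (nat_lit 1) (.leaf (Rule.fwd [nat_lit 225, nat_lit 311, nat_lit 354, nat_lit 311] 287 2)) (.leaf (Rule.fwd [nat_lit 53, nat_lit 182, nat_lit 96, nat_lit 53, nat_lit 139] 323 5)))))) (.node (nat_lit 8) (.node (nat_lit 4) (.node (nat_lit 2) (.node (nat_lit 1) (.leaf (Rule.fwd [nat_lit 569, nat_lit 182, nat_lit 53, nat_lit 612, nat_lit 10] 328 1)) (.leaf (Rule.fwd [nat_lit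 225, nat_lit 397, nat_lit 354, nat_lit 397] 289 2))) (.node (nat_lit 1) (.leaf (Rule.fwd [nat_lit 96, nat_lit 182, nat_lit 96, nat_lit 182, nat_lit 96] 52 5)) (.leaf (Rule.fwd [nat_lit 225, nat_lit 96, nat_lit 354, nat_lit 139] 279 0)))) (.node (nat_lit 2) (.node (nat_lit 1) (.leaf (Rule.fwd [nat_lit 96, nat_lit 311, nat_lit 225, nat_lit 96, nat_lit 311] 378 2)) (.leaf (Rule.fwd [nat_lit 440, nat_lit 182, nat_lit 440, nat_lit 182, nat_lit 440, nat_lit 225, nat_lit 440] 58 6))) (.node (nat_lit 1) (.leaf (Rule.fwd [nat_lit 139, nat_lit 182, nat_lit 139, nat_lit 225, nat_lit 139] 53 2)) (.leaf (Rule.fwd [nat_lit 225, nat_lit 397, nat_lit 311, nat_lit 354, nat_lit 397, nat_lit 311] 85 2))))) (.node (nat_lit 4) (.node (nat_lit 2) (.node (nat_lit 1) (.leaf (Rule.fwd [nat_lit 483, nat_lit 354, nat_lit 483, nat_lit 225] 87 1)) (.leaf (Rule.fwd [nat_lit 225, nat_lit 139, nat_lit 354, nat_lit 96] 275 3))) (.node (nat_lit 1) (.leaf (Rule.fwd [nat_lit 225,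 nat_lit 354] 47 2)) (.leaf (Rule.fwd [nat_lit 397, nat_lit 225, nat_lit 397, nat_lit 354] 299 1)))) (.node (nat_lit 2) (.node (nat_lit 1) (.leaf (Rule.fwd [nat_lit 397, nat_lit 354, nat_lit 225, nat_lit 397] 299 4)) (.leaf (Rule.fwd [nat_lit 311, nat_lit 139, nat_lit 225, nat_lit 96, nat_lit 311] 377 3))) (.node (nat_lit 1) (.leaf (Rule.fwd [nat_lit 96, nat_lit 311, nat_lit 225, nat_lit 311, nat_lit 139] 377 0)) (.leaf (Rule.fwd [nat_lit 10, nat_lit 182, nat_lit 96, nat_lit 10, nat_lit 139] 322 2))))))) (.node (nat_lit 16) (.node (nat_lit 8) (.node (nat_lit 4) (.node (nat_lit 2) (.node (nat_lit 1) (.leaf (Rule.fwd [nat_lit 440, nat_lit 225, nat_lit 440, nat_lit 182, nat_lit 440, nat_lit 182, nat_lit 440] 58 4)) (.leaf (Rule.fwd [nat_lit 10, nat_lit 569, nat_lit 53, nat_lit 182, nat_lit 612] 310 5))) (.node (nat_lit 1) (.leaf (Rule.fwd [nat_lit 655, nat_lit 354, nat_lit 698, nat_lit 225] 283 1)) (.leaf (Rule.fwd [nat_lit 96, nat_lit 10, nat_lit 139,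 nat_lit 182, nat_lit 53] 50 4)))) (.node (nat_lit 2) (.node (nat_lit 1) (.leaf (Rule.fwd [nat_lit 225, nat_lit 10, nat_lit 354, nat_lit 10] 264 1)) (.leaf (Rule.fwd [nat_lit 569, nat_lit 182, nat_lit 311, nat_lit 612, nat_lit 311] 348 5))) (.node (nat_lit 1) (.leaf (Rule.fwd [nat_lit 311, nat_lit 612, nat_lit 311, nat_lit 182, nat_lit 569] 352 1)) (.leaf (Rule.fwd [nat_lit 225, nat_lit 483, nat_lit 354, nat_lit 483] 87 2))))) (.node (nat_lit 4) (.node (nat_lit 2) (.node (nat_lit 1) (.leaf (Rule.fwd [nat_lit 397, nat_lit 225, nat_lit 354, nat_lit 397] 301 3)) (.leaf (Rule.fwd [nat_lit 612, nat_lit 182, nat_lit 53, nat_lit 569, nat_lit 10] 329 4))) (.node (nat_lit 1) (.leaf (Rule.fwd [nat_lit 268, nat_lit 225, nat_lit 268, nat_lit 182, nat_lit 268, nat_lit 182, nat_lit 268] 56 4)) (.leaf (Rule.fwd [nat_lit 311, nat_lit 569, nat_lit 311, nat_lit 182, nat_lit 612] 353 0)))) (.node (nat_lit 2) (.node (nat_lit 1) (.leaf (Rule.fwd [nat_lit 311, nat_lit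 225, nat_lit 225, nat_lit 311, nat_lit 225] 381 1)) (.leaf (Rule.fwd [nat_lit 569, nat_lit 182, nat_lit 397, nat_lit 569, nat_lit 397] 350 5))) (.node (nat_lit 1) (.leaf (Rule.fwd [nat_lit 612, nat_lit 655, nat_lit 182, nat_lit 698, nat_lit 569] 345 2)) (.leaf (Rule.fwd [nat_lit 612, nat_lit 182, nat_lit 311, nat_lit 569, nat_lit 311] 349 2)))))) (.node (nat_lit 8) (.node (nat_lit 4) (.node (nat_lit 2) (.node (nat_lit 1) (.leaf (Rule.fwd [nat_lit 397, nat_lit 354, nat_lit 397, nat_lit 225] 289 1)) (.leaf (Rule.fwd [nat_lit 569, nat_lit 655, nat_lit 182, nat_lit 698, nat_lit 612] 356 5))) (.node (nat_lit 1) (.leaf (Rule.fwd [nat_lit 96, nat_lit 354, nat_lit 139, nat_lit 225] 279 4)) (.leaf (Rule.fwd [nat_lit 53, nat_lit 569, nat_lit 10, nat_lit 182, nat_lit 612] 325 2)))) (.node (nat_lit 2) (.node (nat_lit 1) (.leaf (Rule.fwd [nat_lit 225, nat_lit 698, nat_lit 354, nat_lit 655] 285 2)) (.leaf (Rule.fwd [nat_lit 225, nat_lit 655, nat_lit 354, nat_lit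 698] 283 2))) (.node (nat_lit 1) (.leaf (Rule.fwd [nat_lit 698, nat_lit 569, nat_lit 182, nat_lit 612, nat_lit 655] 344 4)) (.leaf (Rule.fwd [nat_lit 96, nat_lit 225, nat_lit 96, nat_lit 225, nat_lit 96] 364 1))))) (.node (nat_lit 4) (.node (nat_lit 2) (.node (nat_lit 1) (.leaf (Rule.fwd [nat_lit 10, nat_lit 225, nat_lit 225, nat_lit 10, nat_lit 225] 330 2)) (.leaf (Rule.fwd [nat_lit 612, nat_lit 182, nat_lit 10, nat_lit 569, nat_lit 53] 312 3))) (.node (nat_lit 1) (.leaf (Rule.fwd [nat_lit 569, nat_lit 182, nat_lit 10, nat_lit 612, nat_lit 53] 313 0)) (.leaf (Rule.fwd [nat_lit 569, nat_lit 698, nat_lit 182, nat_lit 655, nat_lit 612] 360 5)))) (.node (nat_lit 2) (.node (nat_lit 1) (.leaf (Rule.fwd [nat_lit 53, nat_lit 225, nat_lit 225, nat_lit 53, nat_lit 225] 327 2)) (.leaf (Rule.fwd [nat_lit 569, nat_lit 182, nat_lit 569, nat_lit 569] 268 2))) (.node (nat_lit 1) (.leaf (Rule.fwd [nat_lit 354, nat_lit 655, nat_lit 225, nat_lit 698] 291 1)) (.leaf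 (Rule.fwd [nat_lit 655, nat_lit 569, nat_lit 182, nat_lit 612, nat_lit 698] 346 4)))))))) (.node (nat_lit 32) (.node (nat_lit 16) (.node (nat_lit 8) (.node (nat_lit 4) (.node (nat_lit 2) (.node (nat_lit 1) (.leaf (Rule.fwd [nat_lit 139, nat_lit 354, nat_lit 96, nat_lit 225] 275 2)) (.leaf (Rule.fwd [nat_lit 268, nat_lit 182, nat_lit 268, nat_lit 182, nat_lit 268, nat_lit 225, nat_lit 268] 56 6))) (.node (nat_lit 1) (.leaf (Rule.fwd [nat_lit 698, nat_lit 612, nat_lit 182, nat_lit 569, nat_lit 655] 357 3)) (.leaf (Rule.fwd [nat_lit 655, nat_lit 612, nat_lit 182, nat_lit 569, nat_lit 698] 361 3)))) (.node (nat_lit 2) (.node (nat_lit 1) (.leaf (Rule.fwd [nat_lit 612, nat_lit 182, nat_lit 612, nat_lit 612] 269 0)) (.leaf (Rule.fwd [nat_lit 698, nat_lit 225, nat_lit 354, nat_lit 655] 291 3))) (.node (nat_lit 1) (.leaf (Rule.fwd [nat_lit 655, nat_lit 225, nat_lit 354, nat_lit 698] 295 1)) (.leaf (Rule.fwd [nat_lit 53, nat_lit 612, nat_lit 10, nat_lit 182,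 nat_lit 569] 324 3))))) (.node (nat_lit 4) (.node (nat_lit 2) (.node (nat_lit 1) (.leaf (Rule.fwd [nat_lit 698, nat_lit 354, nat_lit 655, nat_lit 225] 285 1)) (.leaf (Rule.fwd [nat_lit 612, nat_lit 698, nat_lit 182, nat_lit 655, nat_lit 569] 347 2))) (.node (nat_lit 1) (.leaf (Rule.fwd [nat_lit 10, nat_lit 612, nat_lit 53, nat_lit 182, nat_lit 569] 311 4)) (.leaf (Rule.fwd [nat_lit 354, nat_lit 698, nat_lit 225, nat_lit 655] 295 4)))) (.node (nat_lit 2) (.node (nat_lit 1) (.leaf (Rule.fwd [nat_lit 612, nat_lit 182, nat_lit 397, nat_lit 612, nat_lit 397] 351 2)) (.leaf (Rule.fwd [nat_lit 397, nat_lit 569, nat_lit 397, nat_lit 182, nat_lit 569] 354 1))) (.node (nat_lit 1) (.leaf (Rule.fwd [nat_lit 397, nat_lit 612, nat_lit 397, nat_lit 182, nat_lit 612] 355 0)) (.leaf (Rule.fwd [nat_lit 225, nat_lit 10, nat_lit 225, nat_lit 225, nat_lit 10] 330 1)))))) (.node (nat_lit 8) (.node (nat_lit 4) (.node (nat_lit 2) (.node (nat_lit 1) (.leaf (Rule.fwd [nat_lit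 440, nat_lit 96, nat_lit 268, nat_lit 96, nat_lit 440, nat_lit 268, nat_lit 182, nat_lit 268, nat_lit 440, nat_lit 139, nat_lit 268, nat_lit 139, nat_lit 440] 60 7)) (.leaf (Rule.fwd [nat_lit 225, nat_lit 53, nat_lit 225, nat_lit 225, nat_lit 53] 327 0))) (.node (nat_lit 1) (.leaf (Rule.fwd [nat_lit 311, nat_lit 354, nat_lit 311, nat_lit 225] 287 1)) (.leaf (Rule.fwd [nat_lit 225, nat_lit 268, nat_lit 354, nat_lit 268] 83 2)))) (.node (nat_lit 2) (.node (nat_lit 1) (.leaf (Rule.fwd [nat_lit 354, nat_lit 397, nat_lit 225, nat_lit 397] 301 1)) (.leaf (Rule.fwd [nat_lit 354, nat_lit 483, nat_lit 225, nat_lit 483] 89 1))) (.node (nat_lit 1) (.leaf (Rule.fwd [nat_lit 483, nat_lit 225, nat_lit 354, nat_lit 483] 89 3)) (.leaf (Rule.fwd [nat_lit 268, nat_lit 440, nat_lit 139, nat_lit 268, nat_lit 139, nat_lit 440, nat_lit 182, nat_lit 440, nat_lit 96, nat_lit 268, nat_lit 96, nat_lit 440, nat_lit 268] 61 1))))) (.node (nat_lit 4) (.node (nat_lit 2) (.node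 (nat_lit 1) (.leaf (Rule.fwd [nat_lit 268, nat_lit 354, nat_lit 268, nat_lit 225] 83 1)) (.leaf (Rule.fwd [nat_lit 397, nat_lit 311, nat_lit 354, nat_lit 397, nat_lit 311, nat_lit 225] 85 1))) (.node (nat_lit 1) (.leaf (Rule.fwd [nat_lit 225, nat_lit 311, nat_lit 182, nat_lit 182, nat_lit 311] 382 3)) (.leaf (Rule.fwd [nat_lit 655, nat_lit 225, nat_lit 698, nat_lit 354] 297 3)))) (.node (nat_lit 2) (.node (nat_lit 1) (.leaf (Rule.fwd [nat_lit 698, nat_lit 225, nat_lit 655, nat_lit 354] 293 3)) (.leaf (Rule.fwd [nat_lit 225, nat_lit 311, nat_lit 225, nat_lit 225, nat_lit 311] 381 2))) (.node (nat_lit 1) (.leaf (Rule.fwd [nat_lit 569, nat_lit 569, nat_lit 182, nat_lit 569] 266 4)) (.leaf (Rule.fwd [nat_lit 483, nat_lit 225, nat_lit 483, nat_lit 354] 91 3))))))) (.node (nat_lit 2) (.node (nat_lit 1) (.leaf (Rule.fwd [nat_lit 612, nat_lit 612, nat_lit 182, nat_lit 612] 267 3)) (.leaf (Rule.fwd [nat_lit 10, nat_lit 354, nat_lit 10, nat_lit 225] 264 2)))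 (.node (nat_lit 1) (.leaf (Rule.fwd [nat_lit 53, nat_lit 354, nat_lit 53, nat_lit 225] 263 2)) (.leaf (Rule.fwd [nat_lit 311, nat_lit 182, nat_lit 182, nat_lit 311, nat_lit 225] 382 4)))))), (.node (nat_lit 64) (.node (nat_lit 32) (.node (nat_lit 16) (.node (nat_lit 8) (.node (nat_lit 4) (.node (nat_lit 2) (.node (nat_lit 1) (.leaf XRule.defn) (.leaf XRule.defn)) (.node (nat_lit 1) (.leaf (XRule.rot (nat_lit 506649059) [483, 182, 483] 66 2)) (.leaf (XRule.rot (nat_lit 687004346) [698, 182, 655] 254 2)))) (.node (nat_lit 2) (.node (nat_lit 1) (.leaf (XRule.rot (nat_lit 153027683255435) [139, 225, 139, 182, 139] 53 4)) (.leaf (XRule.rot (nat_lit 641915449) [569, 182, 612] 252 3))) (.node (nat_lit 1) (.leaf (XRule.rot (nat_lit 596826724) [612, 182, 569] 253 2)) (.leaf (XRule.rot (nat_lit 732093071) [655, 182, 698] 255 1))))) (.node (nat_lit 4) (.node (nat_lit 2) (.node (nat_lit 1) (.leaf (XRule.rot (nat_lit 153166286040375) [311, 139, 225, 311, 139]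 55 0)) (.leaf (XRule.rot (nat_lit 105748638128224) [96, 182, 96, 182, 96] 52 5))) (.node (nat_lit 1) (.leaf (XRule.rot (nat_lit 334305221857) [225, 311, 354, 311] 287 2)) (.leaf (XRule.rot (nat_lit 149621407969) [225, 96, 354, 139] 279 0)))) (.node (nat_lit 2) (.node (nat_lit 1) (.leaf (XRule.rot (nat_lit 342605572528697) [569, 182, 311, 612, 311] 348 5)) (.leaf (XRule.rot (nat_lit 153166286216288) [96, 311, 225, 311, 139] 377 0))) (.node (nat_lit 1) (.leaf (XRule.rot (nat_lit 230754) [354, 225] 47 1)) (.leaf (XRule.rot (nat_lit 182) [182] 434 0)))))) (.node (nat_lit 8) (.node (nat_lit 4) (.node (nat_lit 2) (.node (nat_lit 1) (.leaf (XRule.rot (nat_lit 507490859791056864696) [440, 225, 440, 182, 440, 182, 440] 58 4)) (.leaf (XRule.rot (nat_lit 309188171882498852108) [268, 225, 268, 182, 268, 182, 268] 56 4))) (.node (nat_lit 1) (.leaf (XRule.rot (nat_lit 241873291532) [268, 354, 268, 225] 83 1)) (.leaf (XRule.rot (nat_lit 416471437) [397, 182, 397]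 48 2)))) (.node (nat_lit 2) (.node (nat_lit 1) (.leaf (XRule.rot (nat_lit 11190683096160) [96, 53, 139, 182, 10] 51 3)) (.leaf (XRule.rot (nat_lit 57279567073) [225, 53, 354, 53] 263 3))) (.node (nat_lit 1) (.leaf (XRule.rot (nat_lit 153073854109835) [139, 182, 139, 225, 139] 53 2)) (.leaf (XRule.rot (nat_lit 58469683046496) [96, 10, 139, 182, 53] 50 4))))) (.node (nat_lit 4) (.node (nat_lit 2) (.node (nat_lit 1) (.leaf (XRule.rot (nat_lit 342559401630308) [612, 182, 311, 569, 311] 349 2)) (.leaf (XRule.rot (nat_lit 342051431701600) [96, 311, 225, 96, 311] 378 2))) (.node (nat_lit 1) (.leaf (XRule.rot (nat_lit 105794809070688) [96, 225, 96, 225, 96] 364 1)) (.leaf (XRule.rot (nat_lit 152889125427253) [53, 182, 96, 53, 139] 323 5)))) (.node (nat_lit 2) (.node (nat_lit 1) (.leaf (XRule.rot (nat_lit 152842954528778) [10, 182, 96, 10, 139] 322 2)) (.leaf (XRule.rot (nat_lit 288134279393) [225, 268, 354, 268] 83 2))) (.node (nat_lit 1) (.leaf (XRule.rot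 (nat_lit 11108624609) [225, 10, 354, 10] 264 1)) (.leaf (XRule.rot (nat_lit 58931256941113) [569, 182, 10, 612, 53] 313 0))))))) (.node (nat_lit 16) (.node (nat_lit 8) (.node (nat_lit 4) (.node (nat_lit 2) (.node (nat_lit 1) (.leaf (XRule.rot (nat_lit 673096593368074) [10, 569, 53, 182, 612] 310 5)) (.leaf (XRule.rot (nat_lit 103450553569) [225, 139, 354, 96] 275 3))) (.node (nat_lit 1) (.leaf (XRule.rot (nat_lit 625817863950647) [311, 612, 311, 182, 569] 352 1)) (.leaf (XRule.rot (nat_lit 342051431525687) [311, 139, 225, 96, 311] 377 3)))) (.node (nat_lit 2) (.node (nat_lit 1) (.leaf (XRule.rot (nat_lit 437163662695012) [612, 182, 397, 612, 397] 351 2)) (.leaf (XRule.rot (nat_lit 720837437613754) [698, 569, 182, 612, 655] 344 4))) (.node (nat_lit 1) (.leaf (XRule.rot (nat_lit 518988991713) [225, 483, 354, 483] 87 2)) (.leaf (XRule.rot (nat_lit 426511796621) [397, 354, 225, 397] 299 4))))) (.node (nat_lit 4) (.node (nat_lit 2) (.node (nat_lit 1)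 (.leaf (XRule.rot (nat_lit 11652302035513) [569, 182, 53, 612, 10] 328 1)) (.leaf (XRule.rot (nat_lit 380521121165) [397, 225, 397, 354] 299 1))) (.node (nat_lit 1) (.leaf (XRule.rot (nat_lit 768116437608079) [655, 569, 182, 612, 698] 346 4)) (.leaf (XRule.rot (nat_lit 585041090364163839933232728603285881272) [440, 96, 268, 96, 440, 268, 182, 268, 440, 139, 268, 139, 440] 60 7)))) (.node (nat_lit 2) (.node (nat_lit 1) (.leaf (XRule.rot (nat_lit 247447260726325) [53, 225, 225, 53, 225] 327 2)) (.leaf (XRule.rot (nat_lit 58515944166625) [225, 53, 225, 225, 53] 327 0))) (.node (nat_lit 1) (.leaf (XRule.rot (nat_lit 673096863900983) [311, 569, 311, 182, 612] 353 0)) (.leaf (XRule.rot (nat_lit 626325608655460) [612, 698, 182, 655, 569] 347 2)))))) (.node (nat_lit 8) (.node (nat_lit 4) (.node (nat_lit 2) (.node (nat_lit 1) (.leaf (XRule.rot (nat_lit 242324179599) [655, 354, 698, 225] 283 1)) (.leaf (XRule.rot (nat_lit 673096548279349) [53, 569, 10, 182,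 612] 325 2))) (.node (nat_lit 1) (.leaf (XRule.rot (nat_lit 673604608649785) [569, 698, 182, 655, 612] 360 5)) (.leaf (XRule.rot (nat_lit 673096954122637) [397, 612, 397, 182, 612] 355 0)))) (.node (nat_lit 2) (.node (nat_lit 1) (.leaf (XRule.rot (nat_lit 720791266759354) [698, 612, 182, 569, 655] 357 3)) (.leaf (XRule.rot (nat_lit 768070266753679) [655, 612, 182, 569, 698] 361 3))) (.node (nat_lit 1) (.leaf (XRule.rot (nat_lit 626371779509860) [612, 655, 182, 698, 569] 345 2)) (.leaf (XRule.rot (nat_lit 241918380343) [311, 354, 311, 225] 287 1))))) (.node (nat_lit 4) (.node (nat_lit 2) (.node (nat_lit 1) (.leaf (XRule.rot (nat_lit 673650779504185) [569, 655, 182, 698, 612] 356 5)) (.leaf (XRule.rot (nat_lit 507539273487051053496) [440, 182, 440, 182, 440, 225, 440] 58 6))) (.node (nat_lit 1) (.leaf (XRule.rot (nat_lit 309236585578493040908) [268, 182, 268, 182, 268, 225, 268] 56 6)) (.leaf (XRule.rot (nat_lit 11606131137124) [612, 182, 53, 569,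 10] 329 4)))) (.node (nat_lit 2) (.node (nat_lit 1) (.leaf (XRule.rot (nat_lit 242008557965) [397, 354, 397, 225] 289 1)) (.leaf (XRule.rot (nat_lit 437117491796537) [569, 182, 397, 569, 397] 350 5))) (.node (nat_lit 1) (.leaf (XRule.rot (nat_lit 518853725538) [354, 483, 225, 483] 89 1)) (.leaf (XRule.rot (nat_lit 426647106785) [225, 397, 354, 397] 289 2)))))))) (.node (nat_lit 16) (.node (nat_lit 8) (.node (nat_lit 4) (.node (nat_lit 2) (.node (nat_lit 1) (.leaf (XRule.rot (nat_lit 247401089827850) [10, 225, 225, 10, 225] 330 2)) (.leaf (XRule.rot (nat_lit 625817954084237) [397, 569, 397, 182, 569] 354 1))) (.node (nat_lit 1) (.leaf (XRule.rot (nat_lit 749708393826) [354, 655, 225, 698] 291 1)) (.leaf (XRule.rot (nat_lit 703672321722) [698, 225, 354, 655] 291 3)))) (.node (nat_lit 2) (.node (nat_lit 1) (.leaf (XRule.rot (nat_lit 625817593417738) [10, 612, 53, 182, 569] 311 4)) (.leaf (XRule.rot (nat_lit 426511840610) [354, 397, 225, 397] 301 1)))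 (.node (nat_lit 1) (.leaf (XRule.rot (nat_lit 241692936331) [139, 354, 96, 225] 275 2)) (.leaf (XRule.rot (nat_lit 242098735587) [483, 354, 483, 225] 87 1))))) (.node (nat_lit 4) (.node (nat_lit 2) (.node (nat_lit 1) (.leaf (XRule.rot (nat_lit 242279090874) [698, 354, 655, 225] 285 1)) (.leaf (XRule.rot (nat_lit 11236944128225) [225, 10, 225, 225, 10] 330 1))) (.node (nat_lit 1) (.leaf (XRule.rot (nat_lit 518988727779) [483, 225, 354, 483] 89 3)) (.leaf (XRule.rot (nat_lit 58885086042724) [612, 182, 10, 569, 53] 312 3)))) (.node (nat_lit 2) (.node (nat_lit 1) (.leaf (XRule.rot (nat_lit 703537539426) [354, 698, 225, 655] 295 4)) (.leaf (XRule.rot (nat_lit 342143728409825) [225, 311, 182, 182, 311] 382 3))) (.node (nat_lit 1) (.leaf (XRule.rot (nat_lit 749843660001) [225, 655, 354, 698] 283 2)) (.leaf (XRule.rot (nat_lit 703672805601) [225, 698, 354, 655] 285 2)))))) (.leaf (XRule.rot (nat_lit 362721) [225, 354] 47 2))))⟩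
noncomputable def ci268 : CI := ⟨[6], (nat_lit 268), true, (.node (nat_lit 64) (.node (nat_lit 32) (.node (nat_lit 16) (.node (nat_lit 8) (.node (nat_lit 4) (.node (nat_lit 2) (.node (nat_lit 1) (.leaf Rule.defn) (.leaf Rule.copy)) (.node (nat_lit 1) (.leaf (Rule.fwd [nat_lit 612, nat_lit 440, nat_lit 569] 114 1)) (.leaf (Rule.fwd [nat_lit 612, nat_lit 440, nat_lit 612, nat_lit 612] 135 0)))) (.node (nat_lit 2) (.node (nat_lit 1) (.leaf (Rule.fwd [nat_lit 483, nat_lit 268, nat_lit 483] 70 0)) (.leaf (Rule.fwd [nat_lit 526, nat_lit 311, nat_lit 354, nat_lit 397, nat_lit 268, nat_lit 526, nat_lit 311, nat_lit 354, nat_lit 397] 404 3))) (.node (nat_lit 1) (.leaf (Rule.fwd [nat_lit 397, nat_lit 354, nat_lit 311, nat_lit 526, nat_lit 268, nat_lit 397, nat_lit 354, nat_lit 311, nat_lit 526] 405 4)) (.leaf (Rule.fwd [nat_lit 268] 434 0))))) (.node (nat_lit 4) (.node (nat_lit 2) (.node (nat_lit 1) (.leaf (Rule.fwd [nat_lit 139, nat_lit 440, nat_lit 483,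 nat_lit 440, nat_lit 96, nat_lit 268, nat_lit 96, nat_lit 440, nat_lit 268, nat_lit 483, nat_lit 268, nat_lit 440, nat_lit 139] 102 4)) (.leaf (Rule.fwd [nat_lit 354, nat_lit 53, nat_lit 483, nat_lit 10, nat_lit 354, nat_lit 268, nat_lit 311, nat_lit 397, nat_lit 53, nat_lit 483, nat_lit 10, nat_lit 311, nat_lit 397] 94 4))) (.node (nat_lit 1) (.leaf (Rule.fwd [nat_lit 440, nat_lit 268, nat_lit 440] 30 0)) (.leaf (Rule.fwd [nat_lit 397, nat_lit 268, nat_lit 10, nat_lit 397, nat_lit 53] 164 3)))) (.node (nat_lit 2) (.node (nat_lit 1) (.leaf (Rule.fwd [nat_lit 397, nat_lit 268, nat_lit 96, nat_lit 397, nat_lit 139] 216 3)) (.leaf (Rule.fwd [nat_lit 53, nat_lit 268, nat_lit 10, nat_lit 354, nat_lit 268, nat_lit 10] 34 4))) (.node (nat_lit 1) (.leaf (Rule.fwd [nat_lit 354, nat_lit 268, nat_lit 53, nat_lit 354, nat_lit 53] 157 0)) (.leaf (Rule.fwd [nat_lit 397, nat_lit 268, nat_lit 397] 24 1)))))) (.node (nat_lit 8) (.node (nat_lit 4) (.node (nat_lit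 2) (.node (nat_lit 1) (.leaf (Rule.fwd [nat_lit 569, nat_lit 397, nat_lit 440, nat_lit 397, nat_lit 612] 192 5)) (.leaf (Rule.fwd [nat_lit 96, nat_lit 268, nat_lit 53, nat_lit 268, nat_lit 139, nat_lit 268, nat_lit 10] 42 1))) (.node (nat_lit 1) (.leaf (Rule.fwd [nat_lit 612, nat_lit 440, nat_lit 53, nat_lit 569, nat_lit 10] 168 1)) (.leaf (Rule.fwd [nat_lit 612, nat_lit 440, nat_lit 10, nat_lit 569, nat_lit 53] 142 3)))) (.node (nat_lit 2) (.node (nat_lit 1) (.leaf (Rule.fwd [nat_lit 311, nat_lit 268, nat_lit 311] 28 0)) (.leaf (Rule.fwd [nat_lit 397, nat_lit 268, nat_lit 53, nat_lit 397, nat_lit 10] 170 1))) (.node (nat_lit 1) (.leaf (Rule.fwd [nat_lit 139, nat_lit 440, nat_lit 96, nat_lit 268, nat_lit 139, nat_lit 440, nat_lit 96] 44 1)) (.leaf (Rule.fwd [nat_lit 655, nat_lit 311, nat_lit 354, nat_lit 397, nat_lit 268, nat_lit 698, nat_lit 311, nat_lit 354, nat_lit 397, nat_lit 268, nat_lit 698, nat_lit 311, nat_lit 354, nat_lit 397, nat_lit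 268, nat_lit 655, nat_lit 311, nat_lit 354, nat_lit 397] 432 4))))) (.node (nat_lit 4) (.node (nat_lit 2) (.node (nat_lit 1) (.leaf (Rule.fwd [nat_lit 10, nat_lit 354, nat_lit 268, nat_lit 10, nat_lit 268, nat_lit 53] 34 6)) (.leaf (Rule.fwd [nat_lit 569, nat_lit 569, nat_lit 440, nat_lit 612, nat_lit 612] 176 5))) (.node (nat_lit 1) (.leaf (Rule.fwd [nat_lit 354, nat_lit 268, nat_lit 569, nat_lit 354, nat_lit 612] 178 3)) (.leaf (Rule.fwd [nat_lit 440, nat_lit 612, nat_lit 440, nat_lit 569, nat_lit 440] 204 2)))) (.node (nat_lit 2) (.node (nat_lit 1) (.leaf (Rule.fwd [nat_lit 397, nat_lit 440, nat_lit 268, nat_lit 440, nat_lit 397] 240 1)) (.leaf (Rule.fwd [nat_lit 139, nat_lit 268, nat_lit 10, nat_lit 268, nat_lit 96, nat_lit 268, nat_lit 53] 42 5))) (.node (nat_lit 1) (.leaf (Rule.fwd [nat_lit 440, nat_lit 311, nat_lit 268, nat_lit 311, nat_lit 440] 246 3)) (.leaf (Rule.fwd [nat_lit 440, nat_lit 397, nat_lit 268, nat_lit 397, nat_lit 440] 240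 4))))))) (.node (nat_lit 16) (.node (nat_lit 8) (.node (nat_lit 4) (.node (nat_lit 2) (.node (nat_lit 1) (.leaf (Rule.fwd [nat_lit 311, nat_lit 440, nat_lit 397, nat_lit 440, nat_lit 354, nat_lit 397] 38 2)) (.leaf (Rule.fwd [nat_lit 311, nat_lit 440, nat_lit 268, nat_lit 440, nat_lit 311] 246 0))) (.node (nat_lit 1) (.leaf (Rule.fwd [nat_lit 612, nat_lit 440, nat_lit 397, nat_lit 612, nat_lit 397] 191 5)) (.leaf (Rule.fwd [nat_lit 10, nat_lit 268, nat_lit 139, nat_lit 268, nat_lit 53, nat_lit 268, nat_lit 96] 43 6)))) (.node (nat_lit 2) (.node (nat_lit 1) (.leaf (Rule.fwd [nat_lit 10, nat_lit 268, nat_lit 96, nat_lit 268, nat_lit 53, nat_lit 268, nat_lit 139] 42 7)) (.leaf (Rule.fwd [nat_lit 354, nat_lit 268, nat_lit 139, nat_lit 354, nat_lit 96] 220 1))) (.node (nat_lit 1) (.leaf (Rule.fwd [nat_lit 354, nat_lit 268, nat_lit 96, nat_lit 354, nat_lit 139] 208 3)) (.leaf (Rule.fwd [nat_lit 10, nat_lit 268, nat_lit 53, nat_lit 268, nat_lit 10, nat_lit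 354] 34 2))))) (.node (nat_lit 4) (.node (nat_lit 2) (.node (nat_lit 1) (.leaf (Rule.fwd [nat_lit 311, nat_lit 612, nat_lit 440, nat_lit 311, nat_lit 569] 194 1)) (.leaf (Rule.fwd [nat_lit 612, nat_lit 440, nat_lit 354, nat_lit 569, nat_lit 354] 182 2))) (.node (nat_lit 1) (.leaf (Rule.fwd [nat_lit 354, nat_lit 268, nat_lit 354] 18 1)) (.leaf (Rule.fwd [nat_lit 354, nat_lit 268, nat_lit 225, nat_lit 225] 83 0)))) (.node (nat_lit 2) (.node (nat_lit 1) (.leaf (Rule.fwd [nat_lit 397, nat_lit 268, nat_lit 139, nat_lit 397, nat_lit 96] 222 1)) (.leaf (Rule.fwd [nat_lit 354, nat_lit 268, nat_lit 10, nat_lit 354, nat_lit 10] 156 3))) (.node (nat_lit 1) (.leaf (Rule.fwd [nat_lit 96, nat_lit 440, nat_lit 268, nat_lit 483, nat_lit 268, nat_lit 440, nat_lit 139, nat_lit 268, nat_lit 139, nat_lit 440, nat_lit 483, nat_lit 440, nat_lit 96] 102 10)) (.leaf (Rule.fwd [nat_lit 53, nat_lit 268, nat_lit 139, nat_lit 268, nat_lit 10, nat_lit 268, nat_lit 96] 42 3))))))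 (.node (nat_lit 8) (.node (nat_lit 4) (.node (nat_lit 2) (.node (nat_lit 1) (.leaf (Rule.fwd [nat_lit 53, nat_lit 268, nat_lit 96, nat_lit 268, nat_lit 10, nat_lit 268, nat_lit 139] 43 2)) (.leaf (Rule.fwd [nat_lit 397, nat_lit 311, nat_lit 268, nat_lit 397, nat_lit 311] 69 1))) (.node (nat_lit 1) (.leaf (Rule.fwd [nat_lit 397, nat_lit 354, nat_lit 440, nat_lit 397, nat_lit 440, nat_lit 311] 39 3)) (.leaf (Rule.fwd [nat_lit 354, nat_lit 268, nat_lit 440, nat_lit 354, nat_lit 440] 236 5)))) (.node (nat_lit 2) (.node (nat_lit 1) (.leaf (Rule.fwd [nat_lit 569, nat_lit 397, nat_lit 440, nat_lit 569, nat_lit 397] 186 2)) (.leaf (Rule.fwd [nat_lit 397, nat_lit 569, nat_lit 397, nat_lit 440, nat_lit 569] 190 4))) (.node (nat_lit 1) (.leaf (Rule.fwd [nat_lit 397, nat_lit 612, nat_lit 440, nat_lit 397, nat_lit 612] 187 3)) (.leaf (Rule.fwd [nat_lit 225, nat_lit 268, nat_lit 182, nat_lit 268, nat_lit 182, nat_lit 268, nat_lit 225] 56 5))))) (.node (nat_lit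 4) (.node (nat_lit 2) (.node (nat_lit 1) (.leaf (Rule.fwd [nat_lit 96, nat_lit 354, nat_lit 139, nat_lit 268, nat_lit 354] 208 5)) (.leaf (Rule.fwd [nat_lit 139, nat_lit 354, nat_lit 96, nat_lit 268, nat_lit 354] 220 3))) (.node (nat_lit 1) (.leaf (Rule.fwd [nat_lit 354, nat_lit 268, nat_lit 311, nat_lit 354, nat_lit 311] 234 5)) (.leaf (Rule.fwd [nat_lit 139, nat_lit 440, nat_lit 225, nat_lit 440, nat_lit 96, nat_lit 268, nat_lit 96, nat_lit 440, nat_lit 268, nat_lit 182, nat_lit 268, nat_lit 440, nat_lit 139] 60 4)))) (.node (nat_lit 2) (.node (nat_lit 1) (.leaf (Rule.fwd [nat_lit 96, nat_lit 440, nat_lit 268, nat_lit 225, nat_lit 268, nat_lit 440, nat_lit 139, nat_lit 268, nat_lit 139, nat_lit 440, nat_lit 182, nat_lit 440, nat_lit 96] 61 5)) (.leaf (Rule.fwd [nat_lit 182, nat_lit 268, nat_lit 225, nat_lit 268, nat_lit 225, nat_lit 268, nat_lit 182] 56 1))) (.node (nat_lit 1) (.leaf (Rule.fwd [nat_lit 440, nat_lit 139, nat_lit 268, nat_lit 139,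 nat_lit 440, nat_lit 225, nat_lit 440, nat_lit 96, nat_lit 268, nat_lit 96, nat_lit 440, nat_lit 268, nat_lit 182] 60 1)) (.leaf (Rule.fwd [nat_lit 311, nat_lit 397, nat_lit 268, nat_lit 311, nat_lit 397] 68 0)))))))) (.node (nat_lit 32) (.node (nat_lit 16) (.node (nat_lit 8) (.node (nat_lit 4) (.node (nat_lit 2) (.node (nat_lit 1) (.leaf (Rule.fwd [nat_lit 612, nat_lit 311, nat_lit 440, nat_lit 569, nat_lit 311] 195 2)) (.leaf (Rule.fwd [nat_lit 569, nat_lit 569, nat_lit 440, nat_lit 569] 134 4))) (.node (nat_lit 1) (.leaf (Rule.fwd [nat_lit 10, nat_lit 612, nat_lit 53, nat_lit 440, nat_lit 569] 143 4)) (.leaf (Rule.fwd [nat_lit 397, nat_lit 612, nat_lit 526, nat_lit 569, nat_lit 397, nat_lit 311, nat_lit 354, nat_lit 397, nat_lit 268, nat_lit 311, nat_lit 354, nat_lit 612, nat_lit 526, nat_lit 569, nat_lit 311, nat_lit 354, nat_lit 311, nat_lit 354, nat_lit 397] 426 7)))) (.node (nat_lit 2) (.node (nat_lit 1) (.leaf (Rule.fwd [nat_lit 53, nat_lit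 268, nat_lit 354, nat_lit 53, nat_lit 268, nat_lit 10] 35 5)) (.leaf (Rule.fwd [nat_lit 182, nat_lit 268, nat_lit 182, nat_lit 268, nat_lit 225, nat_lit 268, nat_lit 225] 56 7))) (.node (nat_lit 1) (.leaf (Rule.fwd [nat_lit 311, nat_lit 354, nat_lit 311, nat_lit 268, nat_lit 354] 234 1)) (.leaf (Rule.fwd [nat_lit 53, nat_lit 354, nat_lit 53, nat_lit 268, nat_lit 354] 157 4))))) (.node (nat_lit 4) (.node (nat_lit 2) (.node (nat_lit 1) (.leaf (Rule.fwd [nat_lit 440, nat_lit 354, nat_lit 440, nat_lit 268, nat_lit 354] 236 1)) (.leaf (Rule.fwd [nat_lit 698, nat_lit 311, nat_lit 354, nat_lit 397, nat_lit 268, nat_lit 655, nat_lit 311, nat_lit 354, nat_lit 397, nat_lit 268, nat_lit 655, nat_lit 311, nat_lit 354, nat_lit 397, nat_lit 268, nat_lit 698, nat_lit 311, nat_lit 354, nat_lit 397] 432 14))) (.node (nat_lit 1) (.leaf (Rule.fwd [nat_lit 397, nat_lit 354, nat_lit 311, nat_lit 698, nat_lit 268, nat_lit 397, nat_lit 354, nat_lit 311, nat_lit 655, nat_lit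 268, nat_lit 397, nat_lit 354, nat_lit 311, nat_lit 655, nat_lit 268, nat_lit 397, nat_lit 354, nat_lit 311, nat_lit 698] 433 5)) (.leaf (Rule.fwd [nat_lit 311, nat_lit 354, nat_lit 612, nat_lit 526, nat_lit 569, nat_lit 311, nat_lit 354, nat_lit 311, nat_lit 354, nat_lit 397, nat_lit 268, nat_lit 397, nat_lit 612, nat_lit 526, nat_lit 569, nat_lit 397, nat_lit 311, nat_lit 354, nat_lit 397] 426 16)))) (.node (nat_lit 2) (.node (nat_lit 1) (.leaf (Rule.fwd [nat_lit 397, nat_lit 354, nat_lit 311, nat_lit 354, nat_lit 311, nat_lit 612, nat_lit 526, nat_lit 569, nat_lit 354, nat_lit 311, nat_lit 268, nat_lit 397, nat_lit 354, nat_lit 311, nat_lit 397, nat_lit 612, nat_lit 526, nat_lit 569, nat_lit 397] 427 8)) (.leaf (Rule.fwd [nat_lit 569, nat_lit 354, nat_lit 612, nat_lit 268, nat_lit 354] 178 5))) (.node (nat_lit 1) (.leaf (Rule.fwd [nat_lit 655, nat_lit 311, nat_lit 354, nat_lit 397, nat_lit 268, nat_lit 655, nat_lit 311, nat_lit 354, nat_lit 397,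 nat_lit 268, nat_lit 698, nat_lit 311, nat_lit 354, nat_lit 397, nat_lit 268, nat_lit 698, nat_lit 311, nat_lit 354, nat_lit 397] 432 19)) (.leaf (Rule.fwd [nat_lit 698, nat_lit 311, nat_lit 354, nat_lit 397, nat_lit 268, nat_lit 698, nat_lit 311, nat_lit 354, nat_lit 397, nat_lit 268, nat_lit 655, nat_lit 311, nat_lit 354, nat_lit 397, nat_lit 268, nat_lit 655, nat_lit 311, nat_lit 354, nat_lit 397] 432 9)))))) (.node (nat_lit 8) (.node (nat_lit 4) (.node (nat_lit 2) (.node (nat_lit 1) (.leaf (Rule.fwd [nat_lit 139, nat_lit 397, nat_lit 96, nat_lit 268, nat_lit 397] 222 3)) (.leaf (Rule.fwd [nat_lit 53, nat_lit 397, nat_lit 10, nat_lit 268, nat_lit 397] 170 3))) (.node (nat_lit 1) (.leaf (Rule.fwd [nat_lit 397, nat_lit 354, nat_lit 311, nat_lit 655, nat_lit 268, nat_lit 397, nat_lit 354, nat_lit 311, nat_lit 655, nat_lit 268, nat_lit 397, nat_lit 354, nat_lit 311, nat_lit 698, nat_lit 268, nat_lit 397, nat_lit 354, nat_lit 311, nat_lit 698] 433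 0)) (.leaf (Rule.fwd [nat_lit 139, nat_lit 268, nat_lit 53, nat_lit 268, nat_lit 96, nat_lit 268, nat_lit 10] 43 4)))) (.node (nat_lit 2) (.node (nat_lit 1) (.leaf (Rule.fwd [nat_lit 53, nat_lit 612, nat_lit 10, nat_lit 440, nat_lit 569] 169 2)) (.leaf (Rule.fwd [nat_lit 397, nat_lit 354, nat_lit 397, nat_lit 268, nat_lit 354] 228 4))) (.node (nat_lit 1) (.leaf (Rule.fwd [nat_lit 311, nat_lit 397, nat_lit 311, nat_lit 268, nat_lit 397] 242 1)) (.leaf (Rule.fwd [nat_lit 10, nat_lit 354, nat_lit 10, nat_lit 268, nat_lit 354] 156 5))))) (.node (nat_lit 4) (.node (nat_lit 2) (.node (nat_lit 1) (.leaf (Rule.fwd [nat_lit 96, nat_lit 268, nat_lit 10, nat_lit 268, nat_lit 139, nat_lit 268, nat_lit 53] 43 0)) (.leaf (Rule.fwd [nat_lit 10, nat_lit 397, nat_lit 53, nat_lit 268, nat_lit 397] 164 5))) (.node (nat_lit 1) (.leaf (Rule.fwd [nat_lit 96, nat_lit 440, nat_lit 268, nat_lit 182, nat_lit 268, nat_lit 440, nat_lit 139, nat_lit 268, nat_lit 139, nat_lit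 440, nat_lit 225, nat_lit 440, nat_lit 96] 60 10)) (.leaf (Rule.fwd [nat_lit 96, nat_lit 397, nat_lit 139, nat_lit 268, nat_lit 397] 216 5)))) (.node (nat_lit 2) (.node (nat_lit 1) (.leaf (Rule.fwd [nat_lit 354, nat_lit 526, nat_lit 10, nat_lit 440, nat_lit 10, nat_lit 440, nat_lit 483, nat_lit 440, nat_lit 53, nat_lit 440, nat_lit 53, nat_lit 397, nat_lit 311, nat_lit 397] 390 13)) (.leaf (Rule.fwd [nat_lit 397, nat_lit 311, nat_lit 397, nat_lit 10, nat_lit 440, nat_lit 10, nat_lit 440, nat_lit 483, nat_lit 440, nat_lit 53, nat_lit 440, nat_lit 53, nat_lit 526, nat_lit 354] 391 14))) (.node (nat_lit 1) (.leaf (Rule.fwd [nat_lit 225, nat_lit 225, nat_lit 268, nat_lit 354] 83 3)) (.leaf (Rule.fwd [nat_lit 440, nat_lit 139, nat_lit 268, nat_lit 139, nat_lit 440, nat_lit 483, nat_lit 440, nat_lit 96, nat_lit 268, nat_lit 96, nat_lit 440, nat_lit 268, nat_lit 483] 102 1))))))) (.node (nat_lit 8) (.node (nat_lit 4) (.node (nat_lit 2) (.node (nat_lit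 1) (.leaf (Rule.fwd [nat_lit 225, nat_lit 268, nat_lit 225, nat_lit 268, nat_lit 182, nat_lit 268, nat_lit 182] 56 3)) (.leaf (Rule.fwd [nat_lit 397, nat_lit 354, nat_lit 311, nat_lit 655, nat_lit 268, nat_lit 397, nat_lit 354, nat_lit 311, nat_lit 698, nat_lit 268, nat_lit 397, nat_lit 354, nat_lit 311, nat_lit 698, nat_lit 268, nat_lit 397, nat_lit 354, nat_lit 311, nat_lit 655] 433 15))) (.node (nat_lit 1) (.leaf (Rule.fwd [nat_lit 354, nat_lit 268, nat_lit 182, nat_lit 182] 82 2)) (.leaf (Rule.fwd [nat_lit 354, nat_lit 268, nat_lit 397, nat_lit 354, nat_lit 397] 228 2)))) (.node (nat_lit 2) (.node (nat_lit 1) (.leaf (Rule.fwd [nat_lit 354, nat_lit 612, nat_lit 354, nat_lit 440, nat_lit 569] 183 3)) (.leaf (Rule.fwd [nat_lit 311, nat_lit 397, nat_lit 53, nat_lit 483, nat_lit 10, nat_lit 311, nat_lit 397, nat_lit 268, nat_lit 354, nat_lit 53, nat_lit 483, nat_lit 10, nat_lit 354] 94 10))) (.node (nat_lit 1) (.leaf (Rule.fwd [nat_lit 354, nat_lit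 53, nat_lit 483, nat_lit 10, nat_lit 354, nat_lit 268, nat_lit 397, nat_lit 311, nat_lit 53, nat_lit 483, nat_lit 10, nat_lit 397, nat_lit 311] 95 11)) (.leaf (Rule.fwd [nat_lit 354, nat_lit 53, nat_lit 268, nat_lit 10, nat_lit 268, nat_lit 53] 35 3))))) (.node (nat_lit 4) (.node (nat_lit 2) (.node (nat_lit 1) (.leaf (Rule.fwd [nat_lit 182, nat_lit 182, nat_lit 268, nat_lit 354] 82 4)) (.leaf (Rule.fwd [nat_lit 397, nat_lit 311, nat_lit 53, nat_lit 483, nat_lit 10, nat_lit 397, nat_lit 311, nat_lit 268, nat_lit 354, nat_lit 53, nat_lit 483, nat_lit 10, nat_lit 354] 95 5))) (.node (nat_lit 1) (.leaf (Rule.fwd [nat_lit 397, nat_lit 354, nat_lit 311, nat_lit 397, nat_lit 612, nat_lit 526, nat_lit 569, nat_lit 397, nat_lit 268, nat_lit 397, nat_lit 354, nat_lit 311, nat_lit 354, nat_lit 311, nat_lit 612, nat_lit 526, nat_lit 569, nat_lit 354, nat_lit 311] 427 17)) (.leaf (Rule.fwd [nat_lit 397, nat_lit 268, nat_lit 311, nat_lit 397, nat_lit 311] 242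 5)))) (.node (nat_lit 2) (.node (nat_lit 1) (.leaf (Rule.fwd [nat_lit 10, nat_lit 268, nat_lit 53, nat_lit 268, nat_lit 354, nat_lit 53] 35 0)) (.leaf (Rule.fwd [nat_lit 397, nat_lit 354, nat_lit 311, nat_lit 698, nat_lit 268, nat_lit 397, nat_lit 354, nat_lit 311, nat_lit 698, nat_lit 268, nat_lit 397, nat_lit 354, nat_lit 311, nat_lit 655, nat_lit 268, nat_lit 397, nat_lit 354, nat_lit 311, nat_lit 655] 433 10))) (.node (nat_lit 1) (.leaf (Rule.fwd [nat_lit 182, nat_lit 268, nat_lit 440, nat_lit 139, nat_lit 268, nat_lit 139, nat_lit 440, nat_lit 225, nat_lit 440, nat_lit 96, nat_lit 268, nat_lit 96, nat_lit 440] 60 13)) (.leaf (Rule.fwd [nat_lit 311, nat_lit 354, nat_lit 311, nat_lit 354, nat_lit 397, nat_lit 268, nat_lit 311, nat_lit 354, nat_lit 311, nat_lit 354, nat_lit 397] 402 3)))))))), (.node (nat_lit 64) (.node (nat_lit 32) (.node (nat_lit 16) (.node (nat_lit 8) (.node (nat_lit 4) (.node (nat_lit 2) (.node (nat_lit 1) (.leaf XRule.defn)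 (.leaf XRule.ax)) (.node (nat_lit 1) (.leaf (XRule.rot (nat_lit 506737123) [483, 268, 483] 70 0)) (.leaf (XRule.rot (nat_lit 597090916) [612, 440, 569] 114 1)))) (.node (nat_lit 2) (.node (nat_lit 1) (.leaf (XRule.rot (nat_lit 480361838971848125451656718) [526, 311, 354, 397, 268, 526, 311, 354, 397] 404 3)) (.leaf (XRule.rot (nat_lit 636262553692828188882078093) [397, 354, 311, 526, 268, 397, 354, 311, 526] 405 4))) (.node (nat_lit 1) (.leaf (XRule.rot (nat_lit 528107228681858267770236055268873000290) [354, 53, 483, 10, 354, 268, 311, 397, 53, 483, 10, 311, 397] 94 4)) (.leaf (XRule.rot (nat_lit 461648312) [440, 268, 440] 30 0))))) (.node (nat_lit 4) (.node (nat_lit 2) (.node (nat_lit 1) (.leaf (XRule.rot (nat_lit 657772175972) [612, 440, 612, 612] 135 0)) (.leaf (XRule.rot (nat_lit 185334184397152549204037957791073624203) [139, 440, 483, 440, 96, 268, 96, 440, 268, 483, 268, 440, 139] 102 4))) (.node (nat_lit 1) (.leaf (XRule.rot (nat_lit 268)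 [268] 434 0)) (.leaf (XRule.rot (nat_lit 128177653069892639606504642255281119328) [96, 440, 268, 483, 268, 440, 139, 268, 139, 440, 483, 440, 96] 102 10)))) (.node (nat_lit 2) (.node (nat_lit 1) (.leaf (XRule.rot (nat_lit 326381879) [311, 268, 311] 28 0)) (.leaf (XRule.rot (nat_lit 484211673150904) [440, 397, 268, 397, 440] 240 4))) (.node (nat_lit 1) (.leaf (XRule.rot (nat_lit 153258492703117) [397, 268, 96, 397, 139] 216 3)) (.leaf (XRule.rot (nat_lit 416559501) [397, 268, 397] 24 1)))))) (.node (nat_lit 8) (.node (nat_lit 4) (.node (nat_lit 2) (.node (nat_lit 1) (.leaf (XRule.rot (nat_lit 371470690) [354, 268, 354] 18 1)) (.leaf (XRule.rot (nat_lit 608930973253972918798650639335523590748348161958705992077) [397, 612, 526, 569, 397, 311, 354, 397, 268, 311, 354, 612, 526, 569, 311, 354, 311, 354, 397] 426 7))) (.node (nat_lit 1) (.leaf (XRule.rot (nat_lit 11421447631245) [397, 268, 53, 397, 10] 170 1)) (.leaf (XRule.rot (nat_lit 436840331359543)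 [311, 397, 268, 311, 397] 68 0)))) (.node (nat_lit 2) (.node (nat_lit 1) (.leaf (XRule.rot (nat_lit 350639082881517965) [397, 354, 440, 397, 440, 311] 39 3)) (.leaf (XRule.rot (nat_lit 437117537105465) [569, 397, 440, 569, 397] 186 2))) (.node (nat_lit 1) (.leaf (XRule.rot (nat_lit 110982216900316246069) [53, 268, 139, 268, 10, 268, 96] 42 3)) (.leaf (XRule.rot (nat_lit 160557841598365577269) [53, 268, 96, 268, 10, 268, 139] 43 2))))) (.node (nat_lit 4) (.node (nat_lit 2) (.node (nat_lit 1) (.leaf (XRule.rot (nat_lit 105933366899042) [354, 268, 139, 354, 96] 220 1)) (.leaf (XRule.rot (nat_lit 153212321804642) [354, 268, 96, 354, 139] 208 3))) (.node (nat_lit 1) (.leaf (XRule.rot (nat_lit 111176013521248247947) [139, 440, 96, 268, 139, 440, 96] 44 1)) (.leaf (XRule.rot (nat_lit 484119331265976) [440, 311, 268, 311, 440] 246 3)))) (.node (nat_lit 2) (.node (nat_lit 1) (.leaf (XRule.rot (nat_lit 342559537028708) [612, 311, 440, 569, 311] 195 2)) (.leaf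 (XRule.rot (nat_lit 540782303980332838420421927034595591076194) [354, 526, 10, 440, 10, 440, 483, 440, 53, 440, 53, 397, 311, 397] 390 13))) (.node (nat_lit 1) (.leaf (XRule.rot (nat_lit 447371962995892535) [311, 440, 397, 440, 354, 397] 38 2)) (.leaf (XRule.rot (nat_lit 673327853483577) [569, 397, 440, 397, 612] 192 5))))))) (.node (nat_lit 16) (.node (nat_lit 8) (.node (nat_lit 4) (.node (nat_lit 2) (.node (nat_lit 1) (.leaf (XRule.rot (nat_lit 673327853703565) [397, 612, 440, 397, 612] 187 3)) (.leaf (XRule.rot (nat_lit 342420844110135) [311, 440, 268, 440, 311] 246 0))) (.node (nat_lit 1) (.leaf (XRule.rot (nat_lit 484396537319864) [440, 612, 440, 569, 440] 204 2)) (.leaf (XRule.rot (nat_lit 105979537797517) [397, 268, 139, 397, 96] 222 1)))) (.node (nat_lit 2) (.node (nat_lit 1) (.leaf (XRule.rot (nat_lit 59967375197702154) [10, 354, 268, 10, 268, 53] 34 6)) (.leaf (XRule.rot (nat_lit 58700402536845) [397, 268, 10, 397, 53] 164 3))) (.node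 (nat_lit 1) (.leaf (XRule.rot (nat_lit 11375231644002) [354, 268, 10, 354, 10] 156 3)) (.leaf (XRule.rot (nat_lit 625956511912247) [311, 612, 440, 311, 569] 194 1))))) (.node (nat_lit 4) (.node (nat_lit 2) (.node (nat_lit 1) (.leaf (XRule.rot (nat_lit 436793980105867) [139, 397, 96, 268, 397] 222 3)) (.leaf (XRule.rot (nat_lit 110982264179316240394) [10, 268, 139, 268, 53, 268, 96] 43 6))) (.node (nat_lit 1) (.leaf (XRule.rot (nat_lit 436794205549879) [311, 397, 311, 268, 397] 242 1)) (.leaf (XRule.rot (nat_lit 436978844098957) [397, 440, 268, 440, 397] 240 1)))) (.node (nat_lit 2) (.node (nat_lit 1) (.leaf (XRule.rot (nat_lit 437163662959204) [612, 440, 397, 612, 397] 191 5)) (.leaf (XRule.rot (nat_lit 611421054521) [569, 569, 440, 569] 134 4))) (.node (nat_lit 1) (.leaf (XRule.rot (nat_lit 11554048300036149) [53, 268, 10, 354, 268, 10] 34 4)) (.leaf (XRule.rot (nat_lit 626094979474829) [397, 569, 397, 440, 569] 190 4)))))) (.node (nat_lit 8) (.node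 (nat_lit 4) (.node (nat_lit 2) (.node (nat_lit 1) (.leaf (XRule.rot (nat_lit 58654276727138) [354, 268, 53, 354, 53] 157 0)) (.leaf (XRule.rot (nat_lit 160557888877365571594) [10, 268, 96, 268, 53, 268, 139] 42 7))) (.node (nat_lit 1) (.leaf (XRule.rot (nat_lit 11831109341037211744) [96, 268, 53, 268, 139, 268, 10] 42 1)) (.leaf (XRule.rot (nat_lit 11831062062037217419) [139, 268, 53, 268, 96, 268, 10] 43 4)))) (.node (nat_lit 2) (.node (nat_lit 1) (.leaf (XRule.rot (nat_lit 11553725464457269) [53, 268, 354, 53, 268, 10] 35 5)) (.leaf (XRule.rot (nat_lit 61406734039086542944) [96, 268, 10, 268, 139, 268, 53] 43 0))) (.node (nat_lit 1) (.leaf (XRule.rot (nat_lit 241828114786) [354, 268, 225, 225] 83 0)) (.leaf (XRule.rot (nat_lit 210133702691595235510) [182, 268, 225, 268, 225, 268, 182] 56 1))))) (.node (nat_lit 4) (.node (nat_lit 2) (.node (nat_lit 1) (.leaf (XRule.rot (nat_lit 398579849957224458) [10, 268, 53, 268, 10, 354] 34 2)) (.leaf (XRule.rot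 (nat_lit 470560303591285564990703037765177980215) [311, 397, 53, 483, 10, 311, 397, 268, 354, 53, 483, 10, 354] 94 10))) (.node (nat_lit 1) (.leaf (XRule.rot (nat_lit 609253052045649136352520455135463456148565262754548910477) [397, 354, 311, 354, 311, 612, 526, 569, 354, 311, 268, 397, 354, 311, 397, 612, 526, 569, 397] 427 8)) (.leaf (XRule.rot (nat_lit 626094618808330) [10, 612, 53, 440, 569] 143 4)))) (.node (nat_lit 2) (.node (nat_lit 1) (.leaf (XRule.rot (nat_lit 342374718124429) [397, 268, 311, 397, 311] 242 5)) (.leaf (XRule.rot (nat_lit 210133655412595241185) [225, 268, 225, 268, 182, 268, 182] 56 3))) (.node (nat_lit 1) (.leaf (XRule.rot (nat_lit 61406686760086548619) [139, 268, 10, 268, 96, 268, 53] 42 5)) (.leaf (XRule.rot (nat_lit 342328547225954) [354, 268, 311, 354, 311] 234 5)))))))) (.node (nat_lit 16) (.node (nat_lit 8) (.node (nat_lit 4) (.node (nat_lit 2) (.node (nat_lit 1) (.leaf (XRule.rot (nat_lit 259709327389644566710) [182,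 268, 182, 268, 225, 268, 225] 56 7)) (.leaf (XRule.rot (nat_lit 259709280110644572385) [225, 268, 182, 268, 182, 268, 225] 56 5))) (.node (nat_lit 1) (.leaf (XRule.rot (nat_lit 342374673079693) [397, 311, 268, 397, 311] 69 1)) (.leaf (XRule.rot (nat_lit 389838446977636) [612, 440, 354, 569, 354] 182 2)))) (.node (nat_lit 2) (.node (nat_lit 1) (.leaf (XRule.rot (nat_lit 436794025194592) [96, 397, 139, 268, 397] 216 5)) (.leaf (XRule.rot (nat_lit 608930973744885957493493791660363095899765736979149676218) [698, 311, 354, 397, 268, 655, 311, 354, 397, 268, 655, 311, 354, 397, 268, 698, 311, 354, 397] 432 14))) (.node (nat_lit 1) (.leaf (XRule.rot (nat_lit 58885086306916) [612, 440, 10, 569, 53] 142 3)) (.leaf (XRule.rot (nat_lit 673281817719138) [354, 268, 569, 354, 612] 178 3))))) (.node (nat_lit 4) (.node (nat_lit 2) (.node (nat_lit 1) (.leaf (XRule.rot (nat_lit 128177326016037780723319055782657843296) [96, 440, 268, 182, 268, 440, 139, 268, 139,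 440, 225, 440, 96] 60 10)) (.leaf (XRule.rot (nat_lit 1004250532863159587999852997703389285732884965909673118093) [397, 354, 311, 655, 268, 397, 354, 311, 698, 268, 397, 354, 311, 698, 268, 397, 354, 311, 655] 433 15))) (.node (nat_lit 1) (.leaf (XRule.rot (nat_lit 484165682475362) [354, 268, 440, 354, 440] 236 5)) (.leaf (XRule.rot (nat_lit 477136734052834692866837550525517442709039557460247284109) [397, 354, 311, 397, 612, 526, 569, 397, 268, 397, 354, 311, 354, 311, 612, 526, 569, 354, 311] 427 17)))) (.node (nat_lit 2) (.node (nat_lit 1) (.leaf (XRule.rot (nat_lit 389515340777912) [440, 354, 440, 268, 354] 236 1)) (.leaf (XRule.rot (nat_lit 584985273119703118378823301129333649590) [182, 268, 440, 139, 268, 139, 440, 225, 440, 96, 268, 96, 440] 60 13))) (.node (nat_lit 1) (.leaf (XRule.rot (nat_lit 1070147841120392750380694809469384881117814840891094174093) [397, 354, 311, 698, 268, 397, 354, 311, 655, 268, 397, 354, 311, 655, 268, 397, 354,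 311, 698] 433 5)) (.leaf (XRule.rot (nat_lit 389515521133113) [569, 354, 612, 268, 354] 178 5)))))) (.node (nat_lit 8) (.node (nat_lit 4) (.node (nat_lit 2) (.node (nat_lit 1) (.leaf (XRule.rot (nat_lit 608930973683514306707137571283832609027350124168923635343) [655, 311, 354, 397, 268, 698, 311, 354, 397, 268, 698, 311, 354, 397, 268, 655, 311, 354, 397] 432 4)) (.leaf (XRule.rot (nat_lit 608930973744885957493493846169338905713630001337387507343) [655, 311, 354, 397, 268, 655, 311, 354, 397, 268, 698, 311, 354, 397, 268, 698, 311, 354, 397] 432 19))) (.node (nat_lit 1) (.leaf (XRule.rot (nat_lit 242267937007806972475929176095812890040) [440, 139, 268, 139, 440, 225, 440, 96, 268, 96, 440, 268, 182] 60 1)) (.leaf (XRule.rot (nat_lit 389514889889802) [10, 354, 10, 268, 354] 156 5)))) (.node (nat_lit 2) (.node (nat_lit 1) (.leaf (XRule.rot (nat_lit 436793935016970) [10, 397, 53, 268, 397] 164 5)) (.leaf (XRule.rot (nat_lit 185334184024532597379138495046166700171)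 [139, 440, 225, 440, 96, 268, 96, 440, 268, 182, 268, 440, 139] 60 4))) (.node (nat_lit 1) (.leaf (XRule.rot (nat_lit 389515205511479) [311, 354, 311, 268, 354] 234 1)) (.leaf (XRule.rot (nat_lit 389514934978613) [53, 354, 53, 268, 354] 157 4))))) (.node (nat_lit 4) (.node (nat_lit 2) (.node (nat_lit 1) (.leaf (XRule.rot (nat_lit 11606131401316) [612, 440, 53, 569, 10] 168 1)) (.leaf (XRule.rot (nat_lit 626094934430050) [354, 612, 354, 440, 569] 183 3))) (.node (nat_lit 1) (.leaf (XRule.rot (nat_lit 608930973683514306707137516774856799213485859810685804218) [698, 311, 354, 397, 268, 698, 311, 354, 397, 268, 655, 311, 354, 397, 268, 655, 311, 354, 397] 432 9)) (.leaf (XRule.rot (nat_lit 436793889928245) [53, 397, 10, 268, 397] 170 3)))) (.node (nat_lit 2) (.node (nat_lit 1) (.leaf (XRule.rot (nat_lit 380385854689) [225, 225, 268, 354] 83 3)) (.leaf (XRule.rot (nat_lit 626094573719605) [53, 612, 10, 440, 569] 169 2))) (.node (nat_lit 1) (.leaf (XRule.rot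 (nat_lit 389514980067467) [139, 354, 96, 268, 354] 220 3)) (.leaf (XRule.rot (nat_lit 389515295689101) [397, 354, 397, 268, 354] 228 4))))))))⟩
noncomputable def ci311 : CI := ⟨[7], (nat_lit 311), true, (.node (nat_lit 128) (.node (nat_lit 64) (.node (nat_lit 32) (.node (nat_lit 16) (.node (nat_lit 8) (.node (nat_lit 4) (.node (nat_lit 2) (.node (nat_lit 1) (.leaf Rule.defn) (.leaf Rule.copy)) (.node (nat_lit 1) (.leaf (Rule.fwd [nat_lit 612, nat_lit 311, nat_lit 569] 116 1)) (.leaf (Rule.fwd [nat_lit 569, nat_lit 311, nat_lit 612] 116 3)))) (.node (nat_lit 2) (.node (nat_lit 1) (.leaf (Rule.fwd [nat_lit 354, nat_lit 526, nat_lit 311, nat_lit 354, nat_lit 526] 406 0)) (.leaf (Rule.fwd [nat_lit 397, nat_lit 483, nat_lit 311, nat_lit 397, nat_lit 483] 72 0))) (.node (nat_lit 1) (.leaf (Rule.fwd [nat_lit 483, nat_lit 397, nat_lit 311, nat_lit 483, nat_lit 397] 73 1)) (.leaf (Rule.fwd [nat_lit 655, nat_lit 311, nat_lit 96, nat_lit 655, nat_lit 139]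 370 3))))) (.node (nat_lit 4) (.node (nat_lit 2) (.node (nat_lit 1) (.leaf (Rule.fwd [nat_lit 311] 434 0)) (.leaf (Rule.fwd [nat_lit 96, nat_lit 397, nat_lit 311, nat_lit 139, nat_lit 139, nat_lit 397] 81 6))) (.node (nat_lit 1) (.leaf (Rule.fwd [nat_lit 53, nat_lit 311, nat_lit 10] 8 1)) (.leaf (Rule.fwd [nat_lit 10, nat_lit 311, nat_lit 53] 8 3)))) (.node (nat_lit 2) (.node (nat_lit 1) (.leaf (Rule.fwd [nat_lit 139, nat_lit 311, nat_lit 139] 15 0)) (.leaf (Rule.fwd [nat_lit 96, nat_lit 311, nat_lit 96] 14 1))) (.node (nat_lit 1) (.leaf (Rule.fwd [nat_lit 268, nat_lit 311, nat_lit 268] 28 1)) (.leaf (Rule.fwd [nat_lit 440, nat_lit 311, nat_lit 440] 32 0)))))) (.node (nat_lit 8) (.node (nat_lit 4) (.node (nat_lit 2) (.node (nat_lit 1) (.leaf (Rule.fwd [nat_lit 397, nat_lit 311, nat_lit 397] 26 1)) (.leaf (Rule.fwd [nat_lit 182, nat_lit 96, nat_lit 311, nat_lit 182, nat_lit 96] 54 1))) (.node (nat_lit 1) (.leaf (Rule.fwd [nat_lit 526, nat_lit 354,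 nat_lit 311, nat_lit 526, nat_lit 354] 407 1)) (.leaf (Rule.fwd [nat_lit 182, nat_lit 311, nat_lit 139, nat_lit 182, nat_lit 96] 376 1)))) (.node (nat_lit 2) (.node (nat_lit 1) (.leaf (Rule.fwd [nat_lit 354, nat_lit 311, nat_lit 225, nat_lit 225] 287 0)) (.leaf (Rule.fwd [nat_lit 96, nat_lit 311, nat_lit 139, nat_lit 139] 141 0))) (.node (nat_lit 1) (.leaf (Rule.fwd [nat_lit 139, nat_lit 182, nat_lit 96, nat_lit 311, nat_lit 182] 376 3)) (.leaf (Rule.fwd [nat_lit 96, nat_lit 655, nat_lit 139, nat_lit 311, nat_lit 655] 370 5))))) (.node (nat_lit 4) (.node (nat_lit 2) (.node (nat_lit 1) (.leaf (Rule.fwd [nat_lit 397, nat_lit 311, nat_lit 698, nat_lit 698] 303 0)) (.leaf (Rule.fwd [nat_lit 354, nat_lit 569, nat_lit 354, nat_lit 311, nat_lit 612] 184 4))) (.node (nat_lit 1) (.leaf (Rule.fwd [nat_lit 397, nat_lit 268, nat_lit 311, nat_lit 397, nat_lit 268] 68 1)) (.leaf (Rule.fwd [nat_lit 440, nat_lit 397, nat_lit 311, nat_lit 397, nat_lit 440] 244 4))))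 (.node (nat_lit 2) (.node (nat_lit 1) (.leaf (Rule.fwd [nat_lit 354, nat_lit 397, nat_lit 311, nat_lit 397, nat_lit 354] 388 0)) (.leaf (Rule.fwd [nat_lit 354, nat_lit 311, nat_lit 354] 20 1))) (.node (nat_lit 1) (.leaf (Rule.fwd [nat_lit 440, nat_lit 397, nat_lit 440, nat_lit 354, nat_lit 397, nat_lit 268] 38 3)) (.leaf (Rule.fwd [nat_lit 139, nat_lit 139, nat_lit 311, nat_lit 96] 141 3))))))) (.node (nat_lit 16) (.node (nat_lit 8) (.node (nat_lit 4) (.node (nat_lit 2) (.node (nat_lit 1) (.leaf (Rule.fwd [nat_lit 354, nat_lit 139, nat_lit 139, nat_lit 311, nat_lit 354, nat_lit 96] 412 5)) (.leaf (Rule.fwd [nat_lit 612, nat_lit 311, nat_lit 225, nat_lit 569, nat_lit 182] 348 2))) (.node (nat_lit 1) (.leaf (Rule.fwd [nat_lit 10, nat_lit 311, nat_lit 698, nat_lit 53, nat_lit 655] 333 5)) (.leaf (Rule.fwd [nat_lit 440, nat_lit 96, nat_lit 311, nat_lit 96, nat_lit 440] 224 4)))) (.node (nat_lit 2) (.node (nat_lit 1) (.leaf (Rule.fwd [nat_lit 96, nat_lit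 655, nat_lit 311, nat_lit 96, nat_lit 655] 372 2)) (.leaf (Rule.fwd [nat_lit 96, nat_lit 698, nat_lit 311, nat_lit 96, nat_lit 698] 374 2))) (.node (nat_lit 1) (.leaf (Rule.fwd [nat_lit 96, nat_lit 311, nat_lit 354, nat_lit 96, nat_lit 354] 214 2)) (.leaf (Rule.fwd [nat_lit 354, nat_lit 139, nat_lit 354, nat_lit 311, nat_lit 139] 215 3))))) (.node (nat_lit 4) (.node (nat_lit 2) (.node (nat_lit 1) (.leaf (Rule.fwd [nat_lit 569, nat_lit 311, nat_lit 225, nat_lit 612, nat_lit 182] 349 5)) (.leaf (Rule.fwd [nat_lit 569, nat_lit 440, nat_lit 311, nat_lit 440, nat_lit 612] 206 5))) (.node (nat_lit 1) (.leaf (Rule.fwd [nat_lit 53, nat_lit 397, nat_lit 311, nat_lit 10, nat_lit 397] 63 2)) (.leaf (Rule.fwd [nat_lit 10, nat_lit 397, nat_lit 311, nat_lit 53, nat_lit 397] 63 5)))) (.node (nat_lit 2) (.node (nat_lit 1) (.leaf (Rule.fwd [nat_lit 53, nat_lit 440, nat_lit 311, nat_lit 440, nat_lit 10] 172 1)) (.leaf (Rule.fwd [nat_lit 10, nat_lit 440, nat_lit 311,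 nat_lit 440, nat_lit 53] 174 5))) (.node (nat_lit 1) (.leaf (Rule.fwd [nat_lit 53, nat_lit 311, nat_lit 612, nat_lit 10, nat_lit 569] 148 2)) (.leaf (Rule.fwd [nat_lit 10, nat_lit 311, nat_lit 612, nat_lit 53, nat_lit 569] 149 5)))))) (.node (nat_lit 8) (.node (nat_lit 4) (.node (nat_lit 2) (.node (nat_lit 1) (.leaf (Rule.fwd [nat_lit 225, nat_lit 612, nat_lit 182, nat_lit 311, nat_lit 569] 349 3)) (.leaf (Rule.fwd [nat_lit 612, nat_lit 53, nat_lit 569, nat_lit 311, nat_lit 10] 149 3))) (.node (nat_lit 1) (.leaf (Rule.fwd [nat_lit 53, nat_lit 311, nat_lit 53, nat_lit 53] 127 0)) (.leaf (Rule.fwd [nat_lit 397, nat_lit 53, nat_lit 311, nat_lit 397, nat_lit 10] 62 1)))) (.node (nat_lit 2) (.node (nat_lit 1) (.leaf (Rule.fwd [nat_lit 53, nat_lit 397, nat_lit 311, nat_lit 53, nat_lit 53, nat_lit 397] 79 6)) (.leaf (Rule.fwd [nat_lit 139, nat_lit 311, nat_lit 96, nat_lit 96] 140 2))) (.node (nat_lit 1) (.leaf (Rule.fwd [nat_lit 139, nat_lit 354, nat_lit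 311, nat_lit 96, nat_lit 96, nat_lit 354] 413 6)) (.leaf (Rule.fwd [nat_lit 225, nat_lit 569, nat_lit 182, nat_lit 311, nat_lit 612] 348 4))))) (.node (nat_lit 4) (.node (nat_lit 2) (.node (nat_lit 1) (.leaf (Rule.fwd [nat_lit 96, nat_lit 354, nat_lit 311, nat_lit 96, nat_lit 354] 399 2)) (.leaf (Rule.fwd [nat_lit 440, nat_lit 612, nat_lit 311, nat_lit 569, nat_lit 440] 206 2))) (.node (nat_lit 1) (.leaf (Rule.fwd [nat_lit 53, nat_lit 311, nat_lit 698, nat_lit 10, nat_lit 655] 332 2)) (.leaf (Rule.fwd [nat_lit 268, nat_lit 397, nat_lit 354, nat_lit 440, nat_lit 397, nat_lit 440] 39 4)))) (.node (nat_lit 2) (.node (nat_lit 1) (.leaf (Rule.fwd [nat_lit 354, nat_lit 96, nat_lit 354, nat_lit 311, nat_lit 96] 214 4)) (.leaf (Rule.fwd [nat_lit 10, nat_lit 311, nat_lit 10, nat_lit 10] 126 2))) (.node (nat_lit 1) (.leaf (Rule.fwd [nat_lit 354, nat_lit 397, nat_lit 311, nat_lit 354, nat_lit 397] 75 1)) (.leaf (Rule.fwd [nat_lit 225, nat_lit 311, nat_lit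 139, nat_lit 225, nat_lit 96] 377 4)))))))) (.node (nat_lit 32) (.node (nat_lit 16) (.node (nat_lit 8) (.node (nat_lit 4) (.node (nat_lit 2) (.node (nat_lit 1) (.leaf (Rule.fwd [nat_lit 225, nat_lit 225, nat_lit 311, nat_lit 354] 287 3)) (.leaf (Rule.fwd [nat_lit 569, nat_lit 268, nat_lit 311, nat_lit 612, nat_lit 440] 194 5))) (.node (nat_lit 1) (.leaf (Rule.fwd [nat_lit 397, nat_lit 569, nat_lit 397, nat_lit 311, nat_lit 569] 188 4)) (.leaf (Rule.fwd [nat_lit 612, nat_lit 440, nat_lit 311, nat_lit 569, nat_lit 268] 194 2)))) (.node (nat_lit 2) (.node (nat_lit 1) (.leaf (Rule.fwd [nat_lit 96, nat_lit 440, nat_lit 311, nat_lit 440, nat_lit 96] 224 1)) (.leaf (Rule.fwd [nat_lit 96, nat_lit 96, nat_lit 311, nat_lit 139] 140 4))) (.node (nat_lit 1) (.leaf (Rule.fwd [nat_lit 354, nat_lit 139, nat_lit 311, nat_lit 354, nat_lit 139] 398 1)) (.leaf (Rule.fwd [nat_lit 655, nat_lit 10, nat_lit 698, nat_lit 311, nat_lit 53] 336 4))))) (.node (nat_lit 4) (.node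 (nat_lit 2) (.node (nat_lit 1) (.leaf (Rule.fwd [nat_lit 397, nat_lit 96, nat_lit 311, nat_lit 397, nat_lit 96] 64 1)) (.leaf (Rule.fwd [nat_lit 397, nat_lit 10, nat_lit 311, nat_lit 397, nat_lit 53] 62 4))) (.node (nat_lit 1) (.leaf (Rule.fwd [nat_lit 354, nat_lit 311, nat_lit 268, nat_lit 354, nat_lit 268] 234 2)) (.leaf (Rule.fwd [nat_lit 268, nat_lit 397, nat_lit 311, nat_lit 268, nat_lit 397] 69 2)))) (.node (nat_lit 2) (.node (nat_lit 1) (.leaf (Rule.fwd [nat_lit 10, nat_lit 10, nat_lit 311, nat_lit 10] 126 4)) (.leaf (Rule.fwd [nat_lit 139, nat_lit 225, nat_lit 311, nat_lit 139, nat_lit 225] 55 2))) (.node (nat_lit 1) (.leaf (Rule.fwd [nat_lit 526, nat_lit 268, nat_lit 397, nat_lit 354, nat_lit 311, nat_lit 526, nat_lit 268, nat_lit 397, nat_lit 354] 405 1)) (.leaf (Rule.fwd [nat_lit 53, nat_lit 311, nat_lit 354, nat_lit 53, nat_lit 354] 163 5)))))) (.node (nat_lit 8) (.node (nat_lit 4) (.node (nat_lit 2) (.node (nat_lit 1) (.leaf (Rule.fwd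 [nat_lit 397, nat_lit 96, nat_lit 96, nat_lit 311, nat_lit 397, nat_lit 139] 80 5)) (.leaf (Rule.fwd [nat_lit 440, nat_lit 569, nat_lit 311, nat_lit 268, nat_lit 612] 195 0))) (.node (nat_lit 1) (.leaf (Rule.fwd [nat_lit 655, nat_lit 139, nat_lit 311, nat_lit 655, nat_lit 139] 375 0)) (.leaf (Rule.fwd [nat_lit 569, nat_lit 311, nat_lit 182, nat_lit 612, nat_lit 225] 353 5)))) (.node (nat_lit 2) (.node (nat_lit 1) (.leaf (Rule.fwd [nat_lit 569, nat_lit 311, nat_lit 397, nat_lit 569, nat_lit 397] 188 2)) (.leaf (Rule.fwd [nat_lit 354, nat_lit 569, nat_lit 311, nat_lit 354, nat_lit 612] 396 4))) (.node (nat_lit 1) (.leaf (Rule.fwd [nat_lit 698, nat_lit 311, nat_lit 96, nat_lit 698, nat_lit 139] 371 0)) (.leaf (Rule.fwd [nat_lit 440, nat_lit 354, nat_lit 440, nat_lit 311, nat_lit 354] 238 1))))) (.node (nat_lit 4) (.node (nat_lit 2) (.node (nat_lit 1) (.leaf (Rule.fwd [nat_lit 397, nat_lit 311, nat_lit 655, nat_lit 655] 302 2)) (.leaf (Rule.fwd [nat_lit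 96, nat_lit 698, nat_lit 139, nat_lit 311, nat_lit 698] 371 4))) (.node (nat_lit 1) (.leaf (Rule.fwd [nat_lit 569, nat_lit 311, nat_lit 569, nat_lit 569] 132 2)) (.leaf (Rule.fwd [nat_lit 268, nat_lit 612, nat_lit 311, nat_lit 440, nat_lit 569] 195 3)))) (.node (nat_lit 2) (.node (nat_lit 1) (.leaf (Rule.fwd [nat_lit 354, nat_lit 612, nat_lit 311, nat_lit 354, nat_lit 569] 396 1)) (.leaf (Rule.fwd [nat_lit 569, nat_lit 354, nat_lit 311, nat_lit 612, nat_lit 354] 397 5))) (.node (nat_lit 1) (.leaf (Rule.fwd [nat_lit 440, nat_lit 10, nat_lit 311, nat_lit 53, nat_lit 440] 172 4)) (.leaf (Rule.fwd [nat_lit 440, nat_lit 53, nat_lit 311, nat_lit 10, nat_lit 440] 174 2))))))) (.node (nat_lit 16) (.node (nat_lit 8) (.node (nat_lit 4) (.node (nat_lit 2) (.node (nat_lit 1) (.leaf (Rule.fwd [nat_lit 182, nat_lit 612, nat_lit 225, nat_lit 311, nat_lit 569] 353 3)) (.leaf (Rule.fwd [nat_lit 139, nat_lit 397, nat_lit 311, nat_lit 139, nat_lit 397] 65 2))) (.node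 (nat_lit 1) (.leaf (Rule.fwd [nat_lit 397, nat_lit 182, nat_lit 182, nat_lit 311, nat_lit 397, nat_lit 354] 84 5)) (.leaf (Rule.fwd [nat_lit 182, nat_lit 569, nat_lit 225, nat_lit 311, nat_lit 612] 352 4)))) (.node (nat_lit 2) (.node (nat_lit 1) (.leaf (Rule.fwd [nat_lit 397, nat_lit 612, nat_lit 397, nat_lit 311, nat_lit 612] 189 3)) (.leaf (Rule.fwd [nat_lit 612, nat_lit 311, nat_lit 182, nat_lit 569, nat_lit 225] 352 2))) (.node (nat_lit 1) (.leaf (Rule.fwd [nat_lit 10, nat_lit 311, nat_lit 569, nat_lit 53, nat_lit 612] 155 5)) (.leaf (Rule.fwd [nat_lit 268, nat_lit 354, nat_lit 268, nat_lit 311, nat_lit 354] 234 4))))) (.node (nat_lit 4) (.node (nat_lit 2) (.node (nat_lit 1) (.leaf (Rule.fwd [nat_lit 53, nat_lit 311, nat_lit 569, nat_lit 10, nat_lit 612] 154 2)) (.leaf (Rule.fwd [nat_lit 139, nat_lit 440, nat_lit 311, nat_lit 440, nat_lit 139] 225 2))) (.node (nat_lit 1) (.leaf (Rule.fwd [nat_lit 612, nat_lit 311, nat_lit 397, nat_lit 612, nat_lit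 397] 189 5)) (.leaf (Rule.fwd [nat_lit 225, nat_lit 96, nat_lit 311, nat_lit 225, nat_lit 96] 378 1)))) (.node (nat_lit 2) (.node (nat_lit 1) (.leaf (Rule.fwd [nat_lit 268, nat_lit 311, nat_lit 440, nat_lit 268, nat_lit 440] 246 5)) (.leaf (Rule.fwd [nat_lit 569, nat_lit 53, nat_lit 612, nat_lit 311, nat_lit 10] 155 3))) (.node (nat_lit 1) (.leaf (Rule.fwd [nat_lit 354, nat_lit 311, nat_lit 440, nat_lit 354, nat_lit 440] 238 5)) (.leaf (Rule.fwd [nat_lit 655, nat_lit 655, nat_lit 311, nat_lit 655, nat_lit 655] 384 2)))))) (.node (nat_lit 8) (.node (nat_lit 4) (.node (nat_lit 2) (.node (nat_lit 1) (.leaf (Rule.fwd [nat_lit 612, nat_lit 10, nat_lit 569, nat_lit 311, nat_lit 53] 148 4)) (.leaf (Rule.fwd [nat_lit 397, nat_lit 354, nat_lit 397, nat_lit 311, nat_lit 354] 230 4))) (.node (nat_lit 1) (.leaf (Rule.fwd [nat_lit 397, nat_lit 440, nat_lit 311, nat_lit 440, nat_lit 397] 244 1)) (.leaf (Rule.fwd [nat_lit 139, nat_lit 311, nat_lit 354, nat_lit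 139, nat_lit 354] 215 5)))) (.node (nat_lit 2) (.node (nat_lit 1) (.leaf (Rule.fwd [nat_lit 354, nat_lit 397, nat_lit 311, nat_lit 225, nat_lit 225, nat_lit 397] 85 6)) (.leaf (Rule.fwd [nat_lit 569, nat_lit 10, nat_lit 612, nat_lit 311, nat_lit 53] 154 4))) (.node (nat_lit 1) (.leaf (Rule.fwd [nat_lit 397, nat_lit 354, nat_lit 311, nat_lit 397, nat_lit 354] 74 0)) (.leaf (Rule.fwd [nat_lit 440, nat_lit 139, nat_lit 311, nat_lit 139, nat_lit 440] 225 5))))) (.node (nat_lit 4) (.node (nat_lit 2) (.node (nat_lit 1) (.leaf (Rule.fwd [nat_lit 139, nat_lit 225, nat_lit 96, nat_lit 311, nat_lit 225] 377 2)) (.leaf (Rule.fwd [nat_lit 354, nat_lit 53, nat_lit 354, nat_lit 311, nat_lit 53] 163 3))) (.node (nat_lit 1) (.leaf (Rule.fwd [nat_lit 182, nat_lit 182, nat_lit 311, nat_lit 354] 286 4)) (.leaf (Rule.fwd [nat_lit 96, nat_lit 311, nat_lit 397, nat_lit 96, nat_lit 397] 218 2)))) (.node (nat_lit 2) (.node (nat_lit 1) (.leaf (Rule.fwd [nat_lit 268, nat_lit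 397, nat_lit 268, nat_lit 311, nat_lit 397] 242 4)) (.leaf (Rule.fwd [nat_lit 397, nat_lit 139, nat_lit 397, nat_lit 311, nat_lit 139] 219 3))) (.node (nat_lit 1) (.leaf (Rule.fwd [nat_lit 612, nat_lit 311, nat_lit 354, nat_lit 569, nat_lit 354] 184 2)) (.leaf (Rule.fwd [nat_lit 397, nat_lit 10, nat_lit 10, nat_lit 311, nat_lit 397, nat_lit 10] 78 5))))))))) (.node (nat_lit 32) (.node (nat_lit 16) (.node (nat_lit 8) (.node (nat_lit 4) (.node (nat_lit 2) (.node (nat_lit 1) (.leaf (Rule.fwd [nat_lit 53, nat_lit 311, nat_lit 655, nat_lit 10, nat_lit 698] 336 2)) (.leaf (Rule.fwd [nat_lit 440, nat_lit 268, nat_lit 440, nat_lit 311, nat_lit 268] 246 1))) (.node (nat_lit 1) (.leaf (Rule.fwd [nat_lit 139, nat_lit 182, nat_lit 311, nat_lit 139, nat_lit 182] 379 2)) (.leaf (Rule.fwd [nat_lit 655, nat_lit 655, nat_lit 311, nat_lit 397] 302 4)))) (.node (nat_lit 2) (.node (nat_lit 1) (.leaf (Rule.fwd [nat_lit 354, nat_lit 655, nat_lit 655, nat_lit 311, nat_lit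 354, nat_lit 397] 416 5)) (.leaf (Rule.fwd [nat_lit 397, nat_lit 53, nat_lit 397, nat_lit 311, nat_lit 10] 167 3))) (.node (nat_lit 1) (.leaf (Rule.fwd [nat_lit 354, nat_lit 10, nat_lit 354, nat_lit 311, nat_lit 10] 162 4)) (.leaf (Rule.fwd [nat_lit 698, nat_lit 698, nat_lit 311, nat_lit 397] 303 3))))) (.node (nat_lit 4) (.node (nat_lit 2) (.node (nat_lit 1) (.leaf (Rule.fwd [nat_lit 96, nat_lit 96, nat_lit 354, nat_lit 311, nat_lit 139, nat_lit 354] 413 3)) (.leaf (Rule.fwd [nat_lit 698, nat_lit 139, nat_lit 311, nat_lit 698, nat_lit 139] 373 0))) (.node (nat_lit 1) (.leaf (Rule.fwd [nat_lit 397, nat_lit 311, nat_lit 268, nat_lit 397, nat_lit 268] 242 2)) (.leaf (Rule.fwd [nat_lit 225, nat_lit 225, nat_lit 397, nat_lit 311, nat_lit 354, nat_lit 397] 85 3)))) (.node (nat_lit 2) (.node (nat_lit 1) (.leaf (Rule.fwd [nat_lit 698, nat_lit 698, nat_lit 311, nat_lit 698, nat_lit 698] 385 0)) (.leaf (Rule.fwd [nat_lit 397, nat_lit 354, nat_lit 311, nat_lit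 698, nat_lit 698, nat_lit 354] 417 6))) (.node (nat_lit 1) (.leaf (Rule.fwd [nat_lit 354, nat_lit 397, nat_lit 268, nat_lit 655, nat_lit 311, nat_lit 354, nat_lit 397, nat_lit 268, nat_lit 698, nat_lit 311, nat_lit 354, nat_lit 397, nat_lit 268, nat_lit 698, nat_lit 311, nat_lit 354, nat_lit 397, nat_lit 268, nat_lit 655] 432 1)) (.leaf (Rule.fwd [nat_lit 655, nat_lit 53, nat_lit 698, nat_lit 311, nat_lit 10] 337 3)))))) (.node (nat_lit 8) (.node (nat_lit 4) (.node (nat_lit 2) (.node (nat_lit 1) (.leaf (Rule.fwd [nat_lit 10, nat_lit 311, nat_lit 655, nat_lit 53, nat_lit 698] 337 5)) (.leaf (Rule.fwd [nat_lit 698, nat_lit 10, nat_lit 655, nat_lit 311, nat_lit 53] 332 4))) (.node (nat_lit 1) (.leaf (Rule.fwd [nat_lit 698, nat_lit 53, nat_lit 655, nat_lit 311, nat_lit 10] 333 3)) (.leaf (Rule.fwd [nat_lit 354, nat_lit 569, nat_lit 569, nat_lit 311, nat_lit 354, nat_lit 569] 410 5)))) (.node (nat_lit 2) (.node (nat_lit 1) (.leaf (Rule.fwd [nat_lit 10,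 nat_lit 311, nat_lit 354, nat_lit 10, nat_lit 354] 162 2)) (.leaf (Rule.fwd [nat_lit 612, nat_lit 311, nat_lit 612, nat_lit 612] 133 0))) (.node (nat_lit 1) (.leaf (Rule.fwd [nat_lit 612, nat_lit 354, nat_lit 311, nat_lit 612, nat_lit 612, nat_lit 354] 411 6)) (.leaf (Rule.fwd [nat_lit 354, nat_lit 612, nat_lit 354, nat_lit 311, nat_lit 569] 185 3))))) (.node (nat_lit 4) (.node (nat_lit 2) (.node (nat_lit 1) (.leaf (Rule.fwd [nat_lit 354, nat_lit 397, nat_lit 268, nat_lit 526, nat_lit 311, nat_lit 354, nat_lit 397, nat_lit 268, nat_lit 526] 404 0)) (.leaf (Rule.fwd [nat_lit 569, nat_lit 311, nat_lit 354, nat_lit 612, nat_lit 354] 185 5))) (.node (nat_lit 1) (.leaf (Rule.fwd [nat_lit 655, nat_lit 268, nat_lit 397, nat_lit 354, nat_lit 311, nat_lit 698, nat_lit 268, nat_lit 397, nat_lit 354, nat_lit 311, nat_lit 698, nat_lit 268, nat_lit 397, nat_lit 354, nat_lit 311, nat_lit 655, nat_lit 268, nat_lit 397, nat_lit 354] 433 12)) (.leaf (Rule.fwd [nat_lit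 397, nat_lit 268, nat_lit 354, nat_lit 53, nat_lit 483, nat_lit 10, nat_lit 354, nat_lit 268, nat_lit 311, nat_lit 397, nat_lit 53, nat_lit 483, nat_lit 10] 94 2)))) (.node (nat_lit 2) (.node (nat_lit 1) (.leaf (Rule.fwd [nat_lit 354, nat_lit 311, nat_lit 182, nat_lit 182] 286 2)) (.leaf (Rule.fwd [nat_lit 655, nat_lit 268, nat_lit 397, nat_lit 354, nat_lit 311, nat_lit 655, nat_lit 268, nat_lit 397, nat_lit 354, nat_lit 311, nat_lit 698, nat_lit 268, nat_lit 397, nat_lit 354, nat_lit 311, nat_lit 698, nat_lit 268, nat_lit 397, nat_lit 354] 433 17))) (.node (nat_lit 1) (.leaf (Rule.fwd [nat_lit 225, nat_lit 225, nat_lit 311, nat_lit 225, nat_lit 225] 381 0)) (.leaf (Rule.fwd [nat_lit 612, nat_lit 354, nat_lit 311, nat_lit 569, nat_lit 354] 397 2))))))) (.node (nat_lit 2) (.node (nat_lit 1) (.leaf (Rule.fwd [nat_lit 698, nat_lit 698, nat_lit 354, nat_lit 311, nat_lit 397, nat_lit 354] 417 3)) (.leaf (Rule.fwd [nat_lit 354, nat_lit 311, nat_lit 397,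 nat_lit 354, nat_lit 397] 230 2))) (.node (nat_lit 1) (.leaf (Rule.fwd [nat_lit 612, nat_lit 612, nat_lit 311, nat_lit 612] 133 3)) (.leaf (Rule.fwd [nat_lit 53, nat_lit 53, nat_lit 311, nat_lit 53] 127 3)))))), (.node (nat_lit 64) (.node (nat_lit 32) (.node (nat_lit 16) (.node (nat_lit 8) (.node (nat_lit 4) (.node (nat_lit 2) (.node (nat_lit 1) (.leaf XRule.defn) (.leaf XRule.ax)) (.node (nat_lit 1) (.leaf (XRule.rot (nat_lit 531490718322061) [397, 483, 311, 397, 483] 72 0)) (.leaf (XRule.rot (nat_lit 437025060042211) [483, 397, 311, 483, 397] 73 1)))) (.node (nat_lit 2) (.node (nat_lit 1) (.leaf (XRule.rot (nat_lit 578723547461986) [354, 526, 311, 354, 526] 406 0)) (.leaf (XRule.rot (nat_lit 55893002) [10, 311, 53] 8 3))) (.node (nat_lit 1) (.leaf (XRule.rot (nat_lit 10804277) [53, 311, 10] 8 1)) (.leaf (XRule.rot (nat_lit 281337100) [268, 311, 268] 28 1))))) (.node (nat_lit 4) (.node (nat_lit 2) (.node (nat_lit 1) (.leaf (XRule.rot (nat_lit 105748863484086)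 [182, 96, 311, 182, 96] 54 1)) (.leaf (XRule.rot (nat_lit 146070667) [139, 311, 139] 15 0))) (.node (nat_lit 1) (.leaf (XRule.rot (nat_lit 461692344) [440, 311, 440] 32 0)) (.leaf (XRule.rot (nat_lit 311) [311] 434 0)))) (.node (nat_lit 2) (.node (nat_lit 1) (.leaf (XRule.rot (nat_lit 596958820) [612, 311, 569] 116 1)) (.leaf (XRule.rot (nat_lit 153535518137999) [655, 311, 96, 655, 139] 370 3))) (.node (nat_lit 1) (.leaf (XRule.rot (nat_lit 100981856) [96, 311, 96] 14 1)) (.leaf (XRule.rot (nat_lit 642047545) [569, 311, 612] 116 3)))))) (.node (nat_lit 8) (.node (nat_lit 4) (.node (nat_lit 2) (.node (nat_lit 1) (.leaf (XRule.rot (nat_lit 416603533) [397, 311, 397] 26 1)) (.leaf (XRule.rot (nat_lit 200445150812299) [139, 182, 96, 311, 182] 376 3))) (.node (nat_lit 1) (.leaf (XRule.rot (nat_lit 371514722) [354, 311, 354] 20 1)) (.leaf (XRule.rot (nat_lit 720514196323424) [96, 655, 139, 311, 655] 370 5)))) (.node (nat_lit 2) (.node (nat_lit 1) (.leaf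 (XRule.rot (nat_lit 11421717943693) [397, 53, 311, 397, 10] 62 1)) (.leaf (XRule.rot (nat_lit 153166466395533) [397, 139, 397, 311, 139] 219 3))) (.node (nat_lit 1) (.leaf (XRule.rot (nat_lit 483934692584888) [440, 139, 311, 139, 440] 225 5)) (.leaf (XRule.rot (nat_lit 436609612045408) [96, 311, 397, 96, 397] 218 2))))) (.node (nat_lit 4) (.node (nat_lit 2) (.node (nat_lit 1) (.leaf (XRule.rot (nat_lit 436794205549836) [268, 397, 311, 268, 397] 69 2)) (.leaf (XRule.rot (nat_lit 389561331321100) [268, 354, 268, 311, 354] 234 4))) (.node (nat_lit 1) (.leaf (XRule.rot (nat_lit 389792230902286) [526, 354, 311, 526, 354] 407 1)) (.leaf (XRule.rot (nat_lit 103180197003) [139, 311, 96, 96] 140 2)))) (.node (nat_lit 2) (.node (nat_lit 1) (.leaf (XRule.rot (nat_lit 295003511599544) [440, 268, 440, 311, 268] 246 1)) (.leaf (XRule.rot (nat_lit 302178061716436408) [440, 397, 440, 354, 397, 268] 38 3))) (.node (nat_lit 1) (.leaf (XRule.rot (nat_lit 484396402053560)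 [440, 612, 311, 569, 440] 206 2)) (.leaf (XRule.rot (nat_lit 105794854247649) [225, 311, 139, 225, 96] 377 4))))))) (.node (nat_lit 16) (.node (nat_lit 8) (.node (nat_lit 4) (.node (nat_lit 2) (.node (nat_lit 1) (.leaf (XRule.rot (nat_lit 483888521642424) [440, 96, 311, 96, 440] 224 4)) (.leaf (XRule.rot (nat_lit 149396184160) [96, 311, 139, 139] 141 0))) (.node (nat_lit 1) (.leaf (XRule.rot (nat_lit 750204018061) [397, 311, 698, 698] 303 0)) (.leaf (XRule.rot (nat_lit 484211718239672) [440, 397, 311, 397, 440] 244 4)))) (.node (nat_lit 2) (.node (nat_lit 1) (.leaf (XRule.rot (nat_lit 295095718130061) [397, 268, 311, 397, 268] 68 1)) (.leaf (XRule.rot (nat_lit 673235421685090) [354, 569, 354, 311, 612] 184 4))) (.node (nat_lit 1) (.leaf (XRule.rot (nat_lit 247539692700811) [139, 225, 311, 139, 225] 55 2)) (.leaf (XRule.rot (nat_lit 105979717976461) [397, 96, 311, 397, 96] 64 1))))) (.node (nat_lit 4) (.node (nat_lit 2) (.node (nat_lit 1) (.leaf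 (XRule.rot (nat_lit 105748683349174) [182, 311, 139, 182, 96] 376 1)) (.leaf (XRule.rot (nat_lit 241828158818) [354, 311, 225, 225] 287 0))) (.node (nat_lit 1) (.leaf (XRule.rot (nat_lit 200722311601764) [612, 311, 225, 569, 182] 348 2)) (.leaf (XRule.rot (nat_lit 200768482500153) [569, 311, 225, 612, 182] 349 5)))) (.node (nat_lit 2) (.node (nat_lit 1) (.leaf (XRule.rot (nat_lit 720191585836085) [53, 311, 698, 10, 655] 332 2)) (.leaf (XRule.rot (nat_lit 720237756734474) [10, 311, 698, 53, 655] 333 5))) (.node (nat_lit 1) (.leaf (XRule.rot (nat_lit 295049502186850) [354, 311, 268, 354, 268] 234 2)) (.leaf (XRule.rot (nat_lit 58700717894029) [397, 10, 311, 397, 53] 62 4)))))) (.node (nat_lit 8) (.node (nat_lit 4) (.node (nat_lit 2) (.node (nat_lit 1) (.leaf (XRule.rot (nat_lit 153304889221259) [139, 440, 311, 440, 139] 225 2)) (.leaf (XRule.rot (nat_lit 106025889226848) [96, 440, 311, 440, 96] 224 1))) (.node (nat_lit 1) (.leaf (XRule.rot (nat_lit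 625956241379553) [225, 612, 182, 311, 569] 349 3)) (.leaf (XRule.rot (nat_lit 447088150482922635) [139, 139, 397, 311, 96, 397] 81 3)))) (.node (nat_lit 2) (.node (nat_lit 1) (.leaf (XRule.rot (nat_lit 156936927201821069) [397, 96, 96, 311, 397, 139] 80 5)) (.leaf (XRule.rot (nat_lit 436655692854411) [139, 397, 311, 139, 397] 65 2))) (.node (nat_lit 1) (.leaf (XRule.rot (nat_lit 195612171618) [354, 311, 182, 182] 286 2)) (.leaf (XRule.rot (nat_lit 437163662827108) [612, 311, 397, 612, 397] 189 5))))) (.node (nat_lit 4) (.node (nat_lit 2) (.node (nat_lit 1) (.leaf (XRule.rot (nat_lit 495832937944986892) [268, 397, 354, 440, 397, 440] 39 4)) (.leaf (XRule.rot (nat_lit 625956466779533) [397, 569, 397, 311, 569] 188 4))) (.node (nat_lit 1) (.leaf (XRule.rot (nat_lit 703988030861) [397, 311, 655, 655] 302 2)) (.leaf (XRule.rot (nat_lit 149576319072) [96, 96, 311, 139] 140 4)))) (.node (nat_lit 2) (.node (nat_lit 1) (.leaf (XRule.rot (nat_lit 673189205697976)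 [440, 569, 311, 268, 612] 195 0)) (.leaf (XRule.rot (nat_lit 436978889187725) [397, 440, 311, 440, 397] 244 1))) (.node (nat_lit 1) (.leaf (XRule.rot (nat_lit 389838446845540) [612, 311, 354, 569, 354] 184 2)) (.leaf (XRule.rot (nat_lit 389653718206861) [397, 354, 311, 397, 354] 74 0)))))))) (.node (nat_lit 32) (.node (nat_lit 16) (.node (nat_lit 8) (.node (nat_lit 4) (.node (nat_lit 2) (.node (nat_lit 1) (.leaf (XRule.rot (nat_lit 295280401900132) [612, 440, 311, 569, 268] 194 2)) (.leaf (XRule.rot (nat_lit 673373889159737) [569, 440, 311, 440, 612] 206 5))) (.node (nat_lit 1) (.leaf (XRule.rot (nat_lit 248001266507364) [612, 311, 182, 569, 225] 352 2)) (.leaf (XRule.rot (nat_lit 436840331359500) [268, 397, 268, 311, 397] 242 4)))) (.node (nat_lit 2) (.node (nat_lit 1) (.leaf (XRule.rot (nat_lit 720883743866511) [655, 655, 311, 655, 655] 384 2)) (.leaf (XRule.rot (nat_lit 437117491928633) [569, 311, 397, 569, 397] 188 2))) (.node (nat_lit 1) (.leaf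 (XRule.rot (nat_lit 399336775936739725) [397, 354, 311, 698, 698, 354] 417 6)) (.leaf (XRule.rot (nat_lit 11467889238069) [53, 440, 311, 440, 10] 172 1))))) (.node (nat_lit 4) (.node (nat_lit 2) (.node (nat_lit 1) (.leaf (XRule.rot (nat_lit 58746889232394) [10, 440, 311, 440, 53] 174 5)) (.leaf (XRule.rot (nat_lit 58608466274701) [397, 10, 397, 311, 53] 166 4))) (.node (nat_lit 1) (.leaf (XRule.rot (nat_lit 11329466324365) [397, 53, 397, 311, 10] 167 3)) (.leaf (XRule.rot (nat_lit 153581914304186) [698, 139, 311, 698, 139] 373 0)))) (.node (nat_lit 2) (.node (nat_lit 1) (.leaf (XRule.rot (nat_lit 153535743405711) [655, 139, 311, 655, 139] 375 0)) (.leaf (XRule.rot (nat_lit 105795034382561) [225, 96, 311, 225, 96] 378 1))) (.node (nat_lit 1) (.leaf (XRule.rot (nat_lit 673235241329889) [225, 569, 182, 311, 612] 348 4)) (.leaf (XRule.rot (nat_lit 673235286418614) [182, 569, 225, 311, 612] 352 4)))))) (.node (nat_lit 8) (.node (nat_lit 4) (.node (nat_lit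 2) (.node (nat_lit 1) (.leaf (XRule.rot (nat_lit 720283522186336) [96, 655, 311, 96, 655] 372 2)) (.leaf (XRule.rot (nat_lit 389330521917536) [96, 354, 311, 96, 354] 399 2))) (.node (nat_lit 1) (.leaf (XRule.rot (nat_lit 248047437405753) [569, 311, 182, 612, 225] 353 5)) (.leaf (XRule.rot (nat_lit 626094889341196) [268, 612, 311, 440, 569] 195 3)))) (.node (nat_lit 2) (.node (nat_lit 1) (.leaf (XRule.rot (nat_lit 436517180159029) [53, 397, 311, 10, 397] 63 2)) (.leaf (XRule.rot (nat_lit 436563351057418) [10, 397, 311, 53, 397] 63 5))) (.node (nat_lit 1) (.leaf (XRule.rot (nat_lit 625956286468278) [182, 612, 225, 311, 569] 353 3)) (.leaf (XRule.rot (nat_lit 767470540741685) [53, 311, 655, 10, 698] 336 2))))) (.node (nat_lit 4) (.node (nat_lit 2) (.node (nat_lit 1) (.leaf (XRule.rot (nat_lit 767516711640074) [10, 311, 655, 53, 698] 337 5)) (.leaf (XRule.rot (nat_lit 389330566962272) [96, 311, 354, 96, 354] 214 2))) (.node (nat_lit 1) (.leaf (XRule.rot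 (nat_lit 295095673085325) [397, 311, 268, 397, 268] 242 2)) (.leaf (XRule.rot (nat_lit 483842350655928) [440, 10, 311, 53, 440] 172 4)))) (.node (nat_lit 2) (.node (nat_lit 1) (.leaf (XRule.rot (nat_lit 483796179801528) [440, 53, 311, 10, 440] 174 2)) (.leaf (XRule.rot (nat_lit 58608691718713) [569, 10, 612, 311, 53] 154 4))) (.node (nat_lit 1) (.leaf (XRule.rot (nat_lit 11329691768377) [569, 53, 612, 311, 10] 155 3)) (.leaf (XRule.rot (nat_lit 767793196361824) [96, 698, 139, 311, 698] 371 4))))))) (.node (nat_lit 16) (.node (nat_lit 8) (.node (nat_lit 4) (.node (nat_lit 2) (.node (nat_lit 1) (.leaf (XRule.rot (nat_lit 153212547116386) [354, 139, 311, 354, 139] 398 1)) (.leaf (XRule.rot (nat_lit 399005407263250829) [397, 182, 182, 311, 397, 354] 84 5))) (.node (nat_lit 1) (.leaf (XRule.rot (nat_lit 484442572599865) [569, 268, 311, 612, 440] 194 5)) (.leaf (XRule.rot (nat_lit 636211837780395621251167586) [354, 397, 268, 526, 311, 354, 397, 268, 526]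 404 0)))) (.node (nat_lit 2) (.node (nat_lit 1) (.leaf (XRule.rot (nat_lit 447371824753950050) [354, 655, 655, 311, 354, 397] 416 5)) (.leaf (XRule.rot (nat_lit 58608421229922) [354, 53, 354, 311, 53] 163 3))) (.node (nat_lit 1) (.leaf (XRule.rot (nat_lit 11695839128856973) [397, 10, 10, 311, 397, 10] 78 5)) (.leaf (XRule.rot (nat_lit 10748222474) [10, 311, 10, 10] 126 2))))) (.node (nat_lit 4) (.node (nat_lit 2) (.node (nat_lit 1) (.leaf (XRule.rot (nat_lit 389561466587533) [397, 354, 397, 311, 354] 230 4)) (.leaf (XRule.rot (nat_lit 389376737860747) [139, 311, 354, 139, 354] 215 5))) (.node (nat_lit 1) (.leaf (XRule.rot (nat_lit 673235466817933) [397, 612, 397, 311, 612] 189 3)) (.leaf (XRule.rot (nat_lit 380430943457) [225, 225, 311, 354] 287 3)))) (.node (nat_lit 2) (.node (nat_lit 1) (.leaf (XRule.rot (nat_lit 484165682519394) [354, 311, 440, 354, 440] 238 5)) (.leaf (XRule.rot (nat_lit 436517270248501) [53, 311, 397, 10, 397] 166 2))) (.node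 (nat_lit 1) (.leaf (XRule.rot (nat_lit 672958621473802) [10, 311, 569, 53, 612] 155 5)) (.leaf (XRule.rot (nat_lit 528051846977409290330650938861723028533) [53, 483, 10, 397, 311, 268, 354, 53, 483, 10, 354, 268, 397] 95 3)))))) (.node (nat_lit 8) (.node (nat_lit 4) (.node (nat_lit 2) (.node (nat_lit 1) (.leaf (XRule.rot (nat_lit 389561511676344) [440, 354, 440, 311, 354] 238 1)) (.leaf (XRule.rot (nat_lit 105887421268322) [354, 96, 354, 311, 96] 214 4))) (.node (nat_lit 1) (.leaf (XRule.rot (nat_lit 389284396063797) [53, 311, 354, 53, 354] 163 5)) (.leaf (XRule.rot (nat_lit 247632034453686) [182, 182, 311, 225, 225] 382 5)))) (.node (nat_lit 2) (.node (nat_lit 1) (.leaf (XRule.rot (nat_lit 380430899382) [182, 182, 311, 354] 286 4)) (.leaf (XRule.rot (nat_lit 389238225165322) [10, 311, 354, 10, 354] 162 2))) (.node (nat_lit 1) (.leaf (XRule.rot (nat_lit 57234478133) [53, 53, 311, 53] 127 3)) (.leaf (XRule.rot (nat_lit 625956421734754) [354, 612,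 354, 311, 569] 185 3))))) (.node (nat_lit 2) (.node (nat_lit 1) (.leaf (XRule.rot (nat_lit 436886547346786) [354, 397, 311, 354, 397] 75 1)) (.leaf (XRule.rot (nat_lit 56964209717) [53, 311, 53, 53] 127 0))) (.node (nat_lit 1) (.leaf (XRule.rot (nat_lit 447040594367624245) [53, 397, 311, 53, 53, 397] 79 6)) (.leaf (XRule.rot (nat_lit 484073340722444) [268, 311, 440, 268, 440] 246 5))))))))⟩
noncomputable def ci354 : CI := ⟨[8], (nat_lit 354), true, (.node (nat_lit 16) (.node (nat_lit 8) (.node (nat_lit 4) (.node (nat_lit 2) (.node (nat_lit 1) (.leaf Rule.defn) (.leaf Rule.copy)) (.node (nat_lit 1) (.leaf (Rule.fwd [nat_lit 612, nat_lit 354, nat_lit 569] 110 1)) (.leaf (Rule.fwd [nat_lit 569, nat_lit 354, nat_lit 612] 110 3)))) (.node (nat_lit 2) (.node (nat_lit 1) (.leaf (Rule.fwd [nat_lit 698, nat_lit 354, nat_lit 655] 256 1)) (.leaf (Rule.fwd [nat_lit 483, nat_lit 354, nat_lit 483] 76 1))) (.node (nat_lit 1) (.leaf (Rule.fwd [nat_lit 526, nat_lit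 354, nat_lit 526] 392 1)) (.leaf (Rule.fwd [nat_lit 655, nat_lit 354, nat_lit 698] 256 3))))) (.node (nat_lit 4) (.node (nat_lit 2) (.node (nat_lit 1) (.leaf (Rule.fwd [nat_lit 139, nat_lit 354, nat_lit 96] 10 1)) (.leaf (Rule.fwd [nat_lit 96, nat_lit 354, nat_lit 139] 10 3))) (.node (nat_lit 1) (.leaf (Rule.fwd [nat_lit 268, nat_lit 354, nat_lit 268] 18 0)) (.leaf (Rule.fwd [nat_lit 440, nat_lit 354, nat_lit 440] 22 0)))) (.node (nat_lit 2) (.node (nat_lit 1) (.leaf (Rule.fwd [nat_lit 53, nat_lit 354, nat_lit 53] 5 0)) (.leaf (Rule.fwd [nat_lit 354] 434 0))) (.node (nat_lit 1) (.leaf (Rule.fwd [nat_lit 182, nat_lit 182] 46 2)) (.leaf (Rule.fwd [nat_lit 311, nat_lit 354, nat_lit 311] 20 0)))))) (.node (nat_lit 8) (.node (nat_lit 4) (.node (nat_lit 2) (.node (nat_lit 1) (.leaf (Rule.fwd [nat_lit 397, nat_lit 354, nat_lit 397] 16 0)) (.leaf (Rule.fwd [nat_lit 225, nat_lit 225] 47 0))) (.node (nat_lit 1) (.leaf (Rule.fwd [nat_lit 10, nat_lit 354, nat_lit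 10] 4 1)) (.leaf (Rule.fwd [nat_lit 96, nat_lit 354, nat_lit 311, nat_lit 96, nat_lit 311] 214 5)))) (.node (nat_lit 2) (.node (nat_lit 1) (.leaf (Rule.fwd [nat_lit 268, nat_lit 612, nat_lit 440, nat_lit 354, nat_lit 569] 182 1)) (.leaf (Rule.fwd [nat_lit 311, nat_lit 397, nat_lit 354, nat_lit 311, nat_lit 397] 74 2))) (.node (nat_lit 1) (.leaf (Rule.fwd [nat_lit 569, nat_lit 354, nat_lit 268, nat_lit 612, nat_lit 440] 182 5)) (.leaf (Rule.fwd [nat_lit 311, nat_lit 440, nat_lit 354, nat_lit 440, nat_lit 311] 238 0))))) (.node (nat_lit 4) (.node (nat_lit 2) (.node (nat_lit 1) (.leaf (Rule.fwd [nat_lit 139, nat_lit 139, nat_lit 354, nat_lit 139] 137 3)) (.leaf (Rule.fwd [nat_lit 397, nat_lit 268, nat_lit 354, nat_lit 268, nat_lit 397] 228 0))) (.node (nat_lit 1) (.leaf (Rule.fwd [nat_lit 10, nat_lit 182, nat_lit 182, nat_lit 10] 262 4)) (.leaf (Rule.fwd [nat_lit 311, nat_lit 268, nat_lit 354, nat_lit 268, nat_lit 311] 234 3)))) (.node (nat_lit 2)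 (.node (nat_lit 1) (.leaf (Rule.fwd [nat_lit 483, nat_lit 225, nat_lit 483, nat_lit 225] 89 0)) (.leaf (Rule.fwd [nat_lit 526, nat_lit 311, nat_lit 354, nat_lit 526, nat_lit 311] 406 1))) (.leaf (Rule.fwd [nat_lit 397, nat_lit 440, nat_lit 354, nat_lit 440, nat_lit 397] 232 0)))))), (.node (nat_lit 16) (.node (nat_lit 8) (.node (nat_lit 4) (.node (nat_lit 2) (.node (nat_lit 1) (.leaf XRule.defn) (.leaf XRule.ax)) (.node (nat_lit 1) (.leaf (XRule.rot (nat_lit 506825187) [483, 354, 483] 76 1)) (.leaf (XRule.rot (nat_lit 551913998) [526, 354, 526] 392 1)))) (.node (nat_lit 2) (.node (nat_lit 1) (.leaf (XRule.rot (nat_lit 55937077) [53, 354, 53] 5 0)) (.leaf (XRule.rot (nat_lit 186550) [182, 182] 46 2))) (.node (nat_lit 1) (.leaf (XRule.rot (nat_lit 101025931) [139, 354, 96] 10 1)) (.leaf (XRule.rot (nat_lit 281381132) [268, 354, 268] 18 0))))) (.node (nat_lit 4) (.node (nat_lit 2) (.node (nat_lit 1) (.leaf (XRule.rot (nat_lit 326469943) [311, 354,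 311] 20 0)) (.leaf (XRule.rot (nat_lit 146114656) [96, 354, 139] 10 3))) (.node (nat_lit 1) (.leaf (XRule.rot (nat_lit 687180474) [698, 354, 655] 256 1)) (.leaf (XRule.rot (nat_lit 10848266) [10, 354, 10] 4 1)))) (.node (nat_lit 2) (.node (nat_lit 1) (.leaf (XRule.rot (nat_lit 597002852) [612, 354, 569] 110 1)) (.leaf (XRule.rot (nat_lit 642091577) [569, 354, 612] 110 3))) (.node (nat_lit 1) (.leaf (XRule.rot (nat_lit 732269199) [655, 354, 698] 256 3)) (.leaf (XRule.rot (nat_lit 461736376) [440, 354, 440] 22 0)))))) (.node (nat_lit 2) (.node (nat_lit 1) (.leaf (XRule.rot (nat_lit 354) [354] 434 0)) (.leaf (XRule.rot (nat_lit 230625) [225, 225] 47 0))) (.leaf (XRule.rot (nat_lit 416647565) [397, 354, 397] 16 0))))⟩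
noncomputable def ci397 : CI := ⟨[9], (nat_lit 397), true, (.node (nat_lit 64) (.node (nat_lit 32) (.node (nat_lit 16) (.node (nat_lit 8) (.node (nat_lit 4) (.node (nat_lit 2) (.node (nat_lit 1) (.leaf Rule.defn) (.leaf Rule.copy)) (.node (nat_lit 1) (.leaf (Rule.fwd [nat_lit 612, nat_lit 397, nat_lit 612] 113 0)) (.leaf (Rule.fwd [nat_lit 397] 434 0)))) (.node (nat_lit 2) (.node (nat_lit 1) (.leaf (Rule.fwd [nat_lit 655, nat_lit 655] 248 2)) (.leaf (Rule.fwd [nat_lit 698, nat_lit 698] 249 0))) (.node (nat_lit 1) (.leaf (Rule.fwd [nat_lit 483, nat_lit 397, nat_lit 483] 100 1)) (.leaf (Rule.fwd [nat_lit 526, nat_lit 397, nat_lit 526] 408 1))))) (.node (nat_lit 4) (.node (nat_lit 2) (.node (nat_lit 1) (.leaf (Rule.fwd [nat_lit 139, nat_lit 397, nat_lit 96] 12 1)) (.leaf (Rule.fwd [nat_lit 96, nat_lit 397, nat_lit 139] 12 3))) (.node (nat_lit 1) (.leaf (Rule.fwd [nat_lit 268, nat_lit 397, nat_lit 268] 24 0)) (.leaf (Rule.fwd [nat_lit 311, nat_lit 397,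 nat_lit 311] 26 0)))) (.node (nat_lit 2) (.node (nat_lit 1) (.leaf (Rule.fwd [nat_lit 53, nat_lit 397, nat_lit 10] 6 1)) (.leaf (Rule.fwd [nat_lit 10, nat_lit 397, nat_lit 53] 6 3))) (.node (nat_lit 1) (.leaf (Rule.fwd [nat_lit 569, nat_lit 397, nat_lit 569] 112 1)) (.leaf (Rule.fwd [nat_lit 225, nat_lit 397, nat_lit 182] 48 1)))))) (.node (nat_lit 8) (.node (nat_lit 4) (.node (nat_lit 2) (.node (nat_lit 1) (.leaf (Rule.fwd [nat_lit 440, nat_lit 354, nat_lit 397, nat_lit 268, nat_lit 311, nat_lit 440] 38 5)) (.leaf (Rule.fwd [nat_lit 268, nat_lit 569, nat_lit 397, nat_lit 440, nat_lit 569] 186 1))) (.node (nat_lit 1) (.leaf (Rule.fwd [nat_lit 612, nat_lit 268, nat_lit 397, nat_lit 612, nat_lit 440] 187 5)) (.leaf (Rule.fwd [nat_lit 182, nat_lit 397, nat_lit 225] 48 3)))) (.node (nat_lit 2) (.node (nat_lit 1) (.leaf (Rule.fwd [nat_lit 268, nat_lit 311, nat_lit 397, nat_lit 268, nat_lit 311] 68 2)) (.leaf (Rule.fwd [nat_lit 311, nat_lit 397, nat_lit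 440, nat_lit 311, nat_lit 440] 244 0))) (.node (nat_lit 1) (.leaf (Rule.fwd [nat_lit 268, nat_lit 397, nat_lit 440, nat_lit 268, nat_lit 440] 240 0)) (.leaf (Rule.fwd [nat_lit 569, nat_lit 440, nat_lit 612, nat_lit 397, nat_lit 440] 196 5))))) (.node (nat_lit 4) (.node (nat_lit 2) (.node (nat_lit 1) (.leaf (Rule.fwd [nat_lit 612, nat_lit 268, nat_lit 569, nat_lit 397, nat_lit 440] 192 3)) (.leaf (Rule.fwd [nat_lit 354, nat_lit 397, nat_lit 440, nat_lit 354, nat_lit 440] 232 5))) (.node (nat_lit 1) (.leaf (Rule.fwd [nat_lit 96, nat_lit 397, nat_lit 96, nat_lit 96] 138 2)) (.leaf (Rule.fwd [nat_lit 440, nat_lit 397, nat_lit 612, nat_lit 268, nat_lit 569] 192 1)))) (.node (nat_lit 2) (.node (nat_lit 1) (.leaf (Rule.fwd [nat_lit 53, nat_lit 397, nat_lit 53, nat_lit 53] 125 0)) (.leaf (Rule.fwd [nat_lit 569, nat_lit 655, nat_lit 655, nat_lit 569] 270 4))) (.node (nat_lit 1) (.leaf (Rule.fwd [nat_lit 354, nat_lit 397, nat_lit 225, nat_lit 225] 289 0))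 (.leaf (Rule.fwd [nat_lit 440, nat_lit 311, nat_lit 268, nat_lit 397, nat_lit 354, nat_lit 440] 39 6))))))) (.node (nat_lit 16) (.node (nat_lit 8) (.node (nat_lit 4) (.node (nat_lit 2) (.node (nat_lit 1) (.leaf (Rule.fwd [nat_lit 440, nat_lit 354, nat_lit 440, nat_lit 397, nat_lit 354] 232 1)) (.leaf (Rule.fwd [nat_lit 354, nat_lit 139, nat_lit 354, nat_lit 397, nat_lit 96] 213 3))) (.node (nat_lit 1) (.leaf (Rule.fwd [nat_lit 311, nat_lit 268, nat_lit 397, nat_lit 311, nat_lit 268] 69 0)) (.leaf (Rule.fwd [nat_lit 354, nat_lit 311, nat_lit 397, nat_lit 354, nat_lit 311] 74 1)))) (.node (nat_lit 2) (.node (nat_lit 1) (.leaf (Rule.fwd [nat_lit 354, nat_lit 397, nat_lit 354] 16 1)) (.leaf (Rule.fwd [nat_lit 139, nat_lit 397, nat_lit 311, nat_lit 139, nat_lit 311] 219 2))) (.node (nat_lit 1) (.leaf (Rule.fwd [nat_lit 569, nat_lit 397, nat_lit 311, nat_lit 569, nat_lit 311] 188 5)) (.leaf (Rule.fwd [nat_lit 53, nat_lit 311, nat_lit 397, nat_lit 10,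 nat_lit 311] 62 2))))) (.node (nat_lit 4) (.node (nat_lit 2) (.node (nat_lit 1) (.leaf (Rule.fwd [nat_lit 311, nat_lit 10, nat_lit 397, nat_lit 311, nat_lit 53] 63 0)) (.leaf (Rule.fwd [nat_lit 612, nat_lit 440, nat_lit 397, nat_lit 612, nat_lit 268] 187 2))) (.node (nat_lit 1) (.leaf (Rule.fwd [nat_lit 10, nat_lit 397, nat_lit 10, nat_lit 10] 124 2)) (.leaf (Rule.fwd [nat_lit 612, nat_lit 53, nat_lit 569, nat_lit 397, nat_lit 10] 147 3)))) (.node (nat_lit 2) (.node (nat_lit 1) (.leaf (Rule.fwd [nat_lit 10, nat_lit 311, nat_lit 397, nat_lit 53, nat_lit 311] 62 5)) (.leaf (Rule.fwd [nat_lit 96, nat_lit 311, nat_lit 397, nat_lit 96, nat_lit 311] 64 2))) (.node (nat_lit 1) (.leaf (Rule.fwd [nat_lit 311, nat_lit 354, nat_lit 311, nat_lit 397, nat_lit 354] 230 1)) (.leaf (Rule.fwd [nat_lit 268, nat_lit 10, nat_lit 397, nat_lit 53, nat_lit 268] 164 4)))))) (.node (nat_lit 8) (.node (nat_lit 4) (.node (nat_lit 2) (.node (nat_lit 1) (.leaf (Rule.fwd [nat_lit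 268, nat_lit 53, nat_lit 397, nat_lit 10, nat_lit 268] 170 2)) (.leaf (Rule.fwd [nat_lit 53, nat_lit 397, nat_lit 612, nat_lit 10, nat_lit 569] 146 2))) (.node (nat_lit 1) (.leaf (Rule.fwd [nat_lit 53, nat_lit 397, nat_lit 569, nat_lit 10, nat_lit 612] 152 2)) (.leaf (Rule.fwd [nat_lit 10, nat_lit 397, nat_lit 612, nat_lit 53, nat_lit 569] 147 5)))) (.node (nat_lit 2) (.node (nat_lit 1) (.leaf (Rule.fwd [nat_lit 10, nat_lit 397, nat_lit 569, nat_lit 53, nat_lit 612] 153 5)) (.leaf (Rule.fwd [nat_lit 139, nat_lit 268, nat_lit 397, nat_lit 268, nat_lit 96] 216 1))) (.node (nat_lit 1) (.leaf (Rule.fwd [nat_lit 53, nat_lit 268, nat_lit 397, nat_lit 268, nat_lit 10] 164 1)) (.leaf (Rule.fwd [nat_lit 225, nat_lit 569, nat_lit 182, nat_lit 397, nat_lit 569] 350 4))))) (.node (nat_lit 4) (.node (nat_lit 2) (.node (nat_lit 1) (.leaf (Rule.fwd [nat_lit 569, nat_lit 440, nat_lit 397, nat_lit 569, nat_lit 440] 202 2)) (.leaf (Rule.fwd [nat_lit 311, nat_lit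 139, nat_lit 397, nat_lit 311, nat_lit 139] 65 0))) (.node (nat_lit 1) (.leaf (Rule.fwd [nat_lit 440, nat_lit 311, nat_lit 440, nat_lit 397, nat_lit 311] 244 2)) (.leaf (Rule.fwd [nat_lit 311, nat_lit 354, nat_lit 397, nat_lit 311, nat_lit 354] 75 2)))) (.node (nat_lit 2) (.node (nat_lit 1) (.leaf (Rule.fwd [nat_lit 96, nat_lit 268, nat_lit 397, nat_lit 268, nat_lit 139] 222 5)) (.leaf (Rule.fwd [nat_lit 10, nat_lit 268, nat_lit 397, nat_lit 268, nat_lit 53] 170 5))) (.node (nat_lit 1) (.leaf (Rule.fwd [nat_lit 182, nat_lit 182, nat_lit 397, nat_lit 354] 288 4)) (.leaf (Rule.fwd [nat_lit 139, nat_lit 397, nat_lit 354, nat_lit 96, nat_lit 354] 212 2)))))))) (.node (nat_lit 32) (.node (nat_lit 16) (.node (nat_lit 8) (.node (nat_lit 4) (.node (nat_lit 2) (.node (nat_lit 1) (.leaf (Rule.fwd [nat_lit 354, nat_lit 10, nat_lit 354, nat_lit 397, nat_lit 10] 160 4)) (.leaf (Rule.fwd [nat_lit 440, nat_lit 569, nat_lit 397, nat_lit 268, nat_lit 569] 186 4)))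 (.node (nat_lit 1) (.leaf (Rule.fwd [nat_lit 354, nat_lit 440, nat_lit 397, nat_lit 440, nat_lit 311, nat_lit 268] 39 2)) (.leaf (Rule.fwd [nat_lit 612, nat_lit 10, nat_lit 569, nat_lit 397, nat_lit 53] 146 4)))) (.node (nat_lit 2) (.node (nat_lit 1) (.leaf (Rule.fwd [nat_lit 612, nat_lit 397, nat_lit 225, nat_lit 612, nat_lit 182] 351 5)) (.leaf (Rule.fwd [nat_lit 612, nat_lit 397, nat_lit 182, nat_lit 612, nat_lit 225] 355 5))) (.node (nat_lit 1) (.leaf (Rule.fwd [nat_lit 311, nat_lit 53, nat_lit 397, nat_lit 311, nat_lit 10] 63 3)) (.leaf (Rule.fwd [nat_lit 96, nat_lit 397, nat_lit 354, nat_lit 139, nat_lit 354] 213 5))))) (.node (nat_lit 4) (.node (nat_lit 2) (.node (nat_lit 1) (.leaf (Rule.fwd [nat_lit 311, nat_lit 268, nat_lit 397, nat_lit 268, nat_lit 311] 242 3)) (.leaf (Rule.fwd [nat_lit 354, nat_lit 569, nat_lit 354, nat_lit 397, nat_lit 569] 180 4))) (.node (nat_lit 1) (.leaf (Rule.fwd [nat_lit 139, nat_lit 397, nat_lit 139, nat_lit 139]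 139 0)) (.leaf (Rule.fwd [nat_lit 354, nat_lit 397, nat_lit 268, nat_lit 354, nat_lit 268] 228 5)))) (.node (nat_lit 2) (.node (nat_lit 1) (.leaf (Rule.fwd [nat_lit 53, nat_lit 483, nat_lit 10, nat_lit 311, nat_lit 397, nat_lit 268, nat_lit 354, nat_lit 53, nat_lit 483, nat_lit 10, nat_lit 354, nat_lit 268, nat_lit 311] 94 12)) (.leaf (Rule.fwd [nat_lit 569, nat_lit 53, nat_lit 612, nat_lit 397, nat_lit 10] 153 3))) (.node (nat_lit 1) (.leaf (Rule.fwd [nat_lit 655, nat_lit 526, nat_lit 655, nat_lit 526] 420 4)) (.leaf (Rule.fwd [nat_lit 10, nat_lit 397, nat_lit 354, nat_lit 10, nat_lit 354] 160 2)))))) (.node (nat_lit 8) (.node (nat_lit 4) (.node (nat_lit 2) (.node (nat_lit 1) (.leaf (Rule.fwd [nat_lit 354, nat_lit 397, nat_lit 182, nat_lit 182] 288 2)) (.leaf (Rule.fwd [nat_lit 483, nat_lit 311, nat_lit 397, nat_lit 483, nat_lit 311] 72 1))) (.node (nat_lit 1) (.leaf (Rule.fwd [nat_lit 354, nat_lit 311, nat_lit 397, nat_lit 182, nat_lit 182, nat_lit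 311] 84 3)) (.leaf (Rule.fwd [nat_lit 311, nat_lit 225, nat_lit 225, nat_lit 397, nat_lit 311, nat_lit 354] 85 4)))) (.node (nat_lit 2) (.node (nat_lit 1) (.leaf (Rule.fwd [nat_lit 225, nat_lit 612, nat_lit 182, nat_lit 397, nat_lit 612] 351 3)) (.leaf (Rule.fwd [nat_lit 182, nat_lit 612, nat_lit 225, nat_lit 397, nat_lit 612] 355 3))) (.node (nat_lit 1) (.leaf (Rule.fwd [nat_lit 96, nat_lit 96, nat_lit 311, nat_lit 397, nat_lit 139, nat_lit 311] 80 6)) (.leaf (Rule.fwd [nat_lit 354, nat_lit 96, nat_lit 354, nat_lit 397, nat_lit 139] 212 4))))) (.node (nat_lit 4) (.node (nat_lit 2) (.node (nat_lit 1) (.leaf (Rule.fwd [nat_lit 354, nat_lit 53, nat_lit 354, nat_lit 397, nat_lit 53] 161 3)) (.leaf (Rule.fwd [nat_lit 53, nat_lit 397, nat_lit 354, nat_lit 53, nat_lit 354] 161 5))) (.node (nat_lit 1) (.leaf (Rule.fwd [nat_lit 612, nat_lit 397, nat_lit 311, nat_lit 612, nat_lit 311] 189 2)) (.leaf (Rule.fwd [nat_lit 440, nat_lit 268, nat_lit 440, nat_lit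 397, nat_lit 268] 240 2)))) (.node (nat_lit 2) (.node (nat_lit 1) (.leaf (Rule.fwd [nat_lit 569, nat_lit 397, nat_lit 182, nat_lit 569, nat_lit 225] 354 2)) (.leaf (Rule.fwd [nat_lit 354, nat_lit 698, nat_lit 698, nat_lit 354] 305 4))) (.node (nat_lit 1) (.leaf (Rule.fwd [nat_lit 53, nat_lit 397, nat_lit 311, nat_lit 10, nat_lit 311] 167 2)) (.leaf (Rule.fwd [nat_lit 311, nat_lit 10, nat_lit 311, nat_lit 397, nat_lit 53] 167 0))))))) (.node (nat_lit 8) (.node (nat_lit 4) (.node (nat_lit 2) (.node (nat_lit 1) (.leaf (Rule.fwd [nat_lit 10, nat_lit 10, nat_lit 397, nat_lit 10] 124 4)) (.leaf (Rule.fwd [nat_lit 311, nat_lit 96, nat_lit 311, nat_lit 397, nat_lit 96] 218 1))) (.node (nat_lit 1) (.leaf (Rule.fwd [nat_lit 311, nat_lit 655, nat_lit 655, nat_lit 311] 302 3)) (.leaf (Rule.fwd [nat_lit 440, nat_lit 397, nat_lit 569, nat_lit 440, nat_lit 612] 196 3)))) (.node (nat_lit 2) (.node (nat_lit 1) (.leaf (Rule.fwd [nat_lit 569, nat_lit 397, nat_lit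 440, nat_lit 569, nat_lit 268] 190 5)) (.leaf (Rule.fwd [nat_lit 440, nat_lit 569, nat_lit 268, nat_lit 397, nat_lit 569] 190 1))) (.node (nat_lit 1) (.leaf (Rule.fwd [nat_lit 53, nat_lit 53, nat_lit 397, nat_lit 53] 125 3)) (.leaf (Rule.fwd [nat_lit 569, nat_lit 397, nat_lit 354, nat_lit 569, nat_lit 354] 180 2))))) (.node (nat_lit 4) (.node (nat_lit 2) (.node (nat_lit 1) (.leaf (Rule.fwd [nat_lit 311, nat_lit 569, nat_lit 311, nat_lit 397, nat_lit 569] 188 1)) (.leaf (Rule.fwd [nat_lit 569, nat_lit 569, nat_lit 397, nat_lit 612] 130 4))) (.node (nat_lit 1) (.leaf (Rule.fwd [nat_lit 612, nat_lit 397, nat_lit 268, nat_lit 612, nat_lit 440] 191 2)) (.leaf (Rule.fwd [nat_lit 311, nat_lit 139, nat_lit 139, nat_lit 397, nat_lit 311, nat_lit 96] 81 4)))) (.leaf (Rule.fwd [nat_lit 182, nat_lit 397, nat_lit 354, nat_lit 182] 300 1)))))), (.node (nat_lit 64) (.node (nat_lit 32) (.node (nat_lit 16) (.node (nat_lit 8) (.node (nat_lit 4) (.node (nat_lit 2)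 (.node (nat_lit 1) (.leaf XRule.defn) (.leaf XRule.ax)) (.node (nat_lit 1) (.leaf (XRule.rot (nat_lit 506869219) [483, 397, 483] 100 1)) (.leaf (XRule.rot (nat_lit 551958030) [526, 397, 526] 408 1)))) (.node (nat_lit 2) (.node (nat_lit 1) (.leaf (XRule.rot (nat_lit 642135652) [612, 397, 612] 113 0)) (.leaf (XRule.rot (nat_lit 146158688) [96, 397, 139] 12 3))) (.node (nat_lit 1) (.leaf (XRule.rot (nat_lit 10892341) [53, 397, 10] 6 1)) (.leaf (XRule.rot (nat_lit 55981066) [10, 397, 53] 6 3))))) (.node (nat_lit 4) (.node (nat_lit 2) (.node (nat_lit 1) (.leaf (XRule.rot (nat_lit 191247585) [225, 397, 182] 48 1)) (.leaf (XRule.rot (nat_lit 281425164) [268, 397, 268] 24 0))) (.node (nat_lit 1) (.leaf (XRule.rot (nat_lit 101069963) [139, 397, 96] 12 1)) (.leaf (XRule.rot (nat_lit 326513975) [311, 397, 311] 26 0)))) (.node (nat_lit 2) (.node (nat_lit 1) (.leaf (XRule.rot (nat_lit 671375) [655, 655] 248 2)) (.leaf (XRule.rot (nat_lit 715450) [698, 698] 249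 0))) (.node (nat_lit 1) (.leaf (XRule.rot (nat_lit 597046841) [569, 397, 569] 112 1)) (.leaf (XRule.rot (nat_lit 484442662777444) [612, 268, 397, 612, 440] 187 5)))))) (.node (nat_lit 8) (.node (nat_lit 4) (.node (nat_lit 2) (.node (nat_lit 1) (.leaf (XRule.rot (nat_lit 484119511708983) [311, 397, 440, 311, 440] 244 0)) (.leaf (XRule.rot (nat_lit 484073340810508) [268, 397, 440, 268, 440] 240 0))) (.node (nat_lit 1) (.leaf (XRule.rot (nat_lit 397) [397] 434 0)) (.leaf (XRule.rot (nat_lit 342374853434808) [440, 311, 440, 397, 311] 244 2)))) (.node (nat_lit 2) (.node (nat_lit 1) (.leaf (XRule.rot (nat_lit 626094979474700) [268, 569, 397, 440, 569] 186 1)) (.leaf (XRule.rot (nat_lit 495738195306449336) [440, 354, 397, 268, 311, 440] 38 5))) (.node (nat_lit 1) (.leaf (XRule.rot (nat_lit 484212033905209) [569, 440, 612, 397, 440] 196 5)) (.leaf (XRule.rot (nat_lit 484211988640356) [612, 268, 569, 397, 440] 192 3))))) (.node (nat_lit 4) (.node (nat_lit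 2) (.node (nat_lit 1) (.leaf (XRule.rot (nat_lit 295003466510647) [311, 268, 397, 311, 268] 69 0)) (.leaf (XRule.rot (nat_lit 103811836043) [139, 698, 698, 96] 281 2))) (.node (nat_lit 1) (.leaf (XRule.rot (nat_lit 626048673310136) [440, 569, 268, 397, 569] 190 1)) (.leaf (XRule.rot (nat_lit 295095853396408) [440, 268, 440, 397, 268] 240 2)))) (.node (nat_lit 2) (.node (nat_lit 1) (.leaf (XRule.rot (nat_lit 295326662976100) [612, 440, 397, 612, 268] 187 2)) (.leaf (XRule.rot (nat_lit 342559401850425) [569, 397, 311, 569, 311] 188 5))) (.node (nat_lit 1) (.leaf (XRule.rot (nat_lit 673374159648184) [440, 397, 569, 440, 612] 196 3)) (.leaf (XRule.rot (nat_lit 484396492055097) [569, 440, 397, 569, 440] 202 2))))))) (.node (nat_lit 16) (.node (nat_lit 8) (.node (nat_lit 4) (.node (nat_lit 2) (.node (nat_lit 1) (.leaf (XRule.rot (nat_lit 611556144740) [612, 397, 569, 569] 130 2)) (.leaf (XRule.rot (nat_lit 484165682607458) [354, 397, 440, 354, 440] 232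 5))) (.node (nat_lit 1) (.leaf (XRule.rot (nat_lit 872778057616649814278845805353687297972051197602658923788) [268, 397, 354, 311, 354, 311, 612, 526, 569, 354, 311, 268, 397, 354, 311, 397, 612, 526, 569] 427 9)) (.leaf (XRule.rot (nat_lit 236336310) [182, 397, 225] 48 3)))) (.node (nat_lit 2) (.node (nat_lit 1) (.leaf (XRule.rot (nat_lit 294818782740748) [268, 96, 397, 139, 268] 216 4)) (.leaf (XRule.rot (nat_lit 342236295650572) [268, 311, 397, 268, 311] 68 2))) (.node (nat_lit 1) (.leaf (XRule.rot (nat_lit 350355177981926754) [354, 311, 397, 182, 182, 311] 84 3)) (.leaf (XRule.rot (nat_lit 191159780301845898778314936311866814076969763580449500330217620663831097442454526133593614) [526, 569, 139, 569, 96, 612, 139, 612, 96, 96, 526, 569, 139, 569, 96, 612, 139, 612, 96, 96, 526, 569, 139, 569, 96, 612, 139, 612, 96, 96] 430 30))))) (.node (nat_lit 4) (.node (nat_lit 2) (.node (nat_lit 1) (.leaf (XRule.rot (nat_lit 495785612683828664) [440, 311,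 268, 397, 354, 440] 39 6)) (.leaf (XRule.rot (nat_lit 342051612056672) [96, 311, 397, 96, 311] 64 2))) (.node (nat_lit 1) (.leaf (XRule.rot (nat_lit 105979717976375) [311, 96, 311, 397, 96] 218 1)) (.leaf (XRule.rot (nat_lit 302083596013199714) [354, 440, 397, 440, 311, 268] 39 2)))) (.node (nat_lit 2) (.node (nat_lit 1) (.leaf (XRule.rot (nat_lit 153166466395447) [311, 139, 397, 311, 139] 65 0)) (.leaf (XRule.rot (nat_lit 105841295634571) [139, 268, 397, 268, 96] 216 1))) (.node (nat_lit 1) (.leaf (XRule.rot (nat_lit 11283295645749) [53, 268, 397, 268, 10] 164 1)) (.leaf (XRule.rot (nat_lit 58562295640074) [10, 268, 397, 268, 53] 170 5)))))) (.node (nat_lit 8) (.node (nat_lit 4) (.node (nat_lit 2) (.node (nat_lit 1) (.leaf (XRule.rot (nat_lit 11329466324279) [311, 53, 397, 311, 10] 63 3)) (.leaf (XRule.rot (nat_lit 389284396151861) [53, 397, 354, 53, 354] 161 5))) (.node (nat_lit 1) (.leaf (XRule.rot (nat_lit 389653673117964) [268, 354, 268, 397,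 354] 228 1)) (.leaf (XRule.rot (nat_lit 334666328375) [311, 698, 698, 311] 303 4)))) (.node (nat_lit 2) (.node (nat_lit 1) (.leaf (XRule.rot (nat_lit 149396272267) [139, 397, 139, 139] 139 0)) (.leaf (XRule.rot (nat_lit 103180285024) [96, 397, 96, 96] 138 2))) (.node (nat_lit 1) (.leaf (XRule.rot (nat_lit 342328637447522) [354, 311, 397, 354, 311] 74 1)) (.leaf (XRule.rot (nat_lit 399052778875706636) [268, 311, 440, 397, 440, 354] 38 1))))) (.node (nat_lit 4) (.node (nat_lit 2) (.node (nat_lit 1) (.leaf (XRule.rot (nat_lit 380295853238) [182, 397, 182, 354] 298 2)) (.leaf (XRule.rot (nat_lit 342467150142947) [483, 311, 397, 483, 311] 72 1))) (.node (nat_lit 1) (.leaf (XRule.rot (nat_lit 531398466702647) [311, 483, 397, 311, 483] 73 2)) (.leaf (XRule.rot (nat_lit 565520820750) [526, 698, 698, 526] 419 4)))) (.node (nat_lit 2) (.node (nat_lit 1) (.leaf (XRule.rot (nat_lit 58700763026786) [354, 53, 354, 397, 53] 161 3)) (.leaf (XRule.rot (nat_lit 200722311689785)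 [569, 397, 225, 569, 182] 350 2))) (.node (nat_lit 1) (.leaf (XRule.rot (nat_lit 153258763059554) [354, 96, 354, 397, 139] 212 4)) (.leaf (XRule.rot (nat_lit 341959270259765) [53, 311, 397, 10, 311] 62 2)))))))) (.node (nat_lit 8) (.node (nat_lit 4) (.node (nat_lit 2) (.node (nat_lit 1) (.leaf (XRule.rot (nat_lit 350165877298355210) [10, 311, 397, 10, 10, 311] 78 3)) (.leaf (XRule.rot (nat_lit 149666540683) [139, 139, 397, 139] 139 3))) (.node (nat_lit 1) (.leaf (XRule.rot (nat_lit 371602786) [354, 397, 354] 16 1)) (.leaf (XRule.rot (nat_lit 195837659318) [182, 354, 397, 182] 298 4)))) (.node (nat_lit 2) (.node (nat_lit 1) (.leaf (XRule.rot (nat_lit 625910521148856) [440, 397, 612, 268, 569] 192 1)) (.leaf (XRule.rot (nat_lit 342097692865675) [139, 397, 311, 139, 311] 219 2))) (.node (nat_lit 1) (.leaf (XRule.rot (nat_lit 153120295628896) [96, 268, 397, 268, 139] 222 5)) (.leaf (XRule.rot (nat_lit 342005441158154) [10, 311, 397, 53, 311] 62 5)))))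 (.node (nat_lit 2) (.node (nat_lit 1) (.leaf (XRule.rot (nat_lit 1047557186027530516706620604463315300417350000301494814099830756728018981016067049904024715) [139, 139, 569, 96, 569, 139, 612, 96, 612, 526, 139, 139, 569, 96, 569, 139, 612, 96, 612, 526, 139, 139, 569, 96, 569, 139, 612, 96, 612, 526] 431 0)) (.leaf (XRule.rot (nat_lit 195612259682) [354, 397, 182, 182] 288 2))) (.node (nat_lit 1) (.leaf (XRule.rot (nat_lit 484442527643236) [612, 397, 268, 612, 440] 191 2)) (.leaf (XRule.rot (nat_lit 56964297781) [53, 397, 53, 53] 125 0))))))⟩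
noncomputable def ci440 : CI := ⟨[10], (nat_lit 440), true, (.node (nat_lit 64) (.node (nat_lit 32) (.node (nat_lit 16) (.node (nat_lit 8) (.node (nat_lit 4) (.node (nat_lit 2) (.node (nat_lit 1) (.leaf Rule.defn) (.leaf Rule.copy)) (.node (nat_lit 1) (.leaf (Rule.fwd [nat_lit 612, nat_lit 397, nat_lit 440, nat_lit 397, nat_lit 569] 196 1)) (.leaf (Rule.fwd [nat_lit 569, nat_lit 268, nat_lit 612] 114 3)))) (.node (nat_lit 2) (.node (nat_lit 1) (.leaf (Rule.fwd [nat_lit 483, nat_lit 440, nat_lit 483] 104 1)) (.leaf (Rule.fwd [nat_lit 440] 434 0))) (.node (nat_lit 1) (.leaf (Rule.fwd [nat_lit 96, nat_lit 268, nat_lit 139, nat_lit 440, nat_lit 96, nat_lit 268, nat_lit 139] 44 3)) (.leaf (Rule.fwd [nat_lit 268, nat_lit 440, nat_lit 268] 30 1))))) (.node (nat_lit 4) (.node (nat_lit 2) (.node (nat_lit 1) (.leaf (Rule.fwd [nat_lit 10, nat_lit 440, nat_lit 483, nat_lit 440, nat_lit 53, nat_lit 440, nat_lit 53, nat_lit 397, nat_lit 311, nat_lit 397, nat_lit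 268, nat_lit 354, nat_lit 526, nat_lit 10] 390 2)) (.leaf (Rule.fwd [nat_lit 354, nat_lit 440, nat_lit 53, nat_lit 354, nat_lit 53] 159 0))) (.node (nat_lit 1) (.leaf (Rule.fwd [nat_lit 53, nat_lit 440, nat_lit 10, nat_lit 354, nat_lit 440, nat_lit 10] 36 4)) (.leaf (Rule.fwd [nat_lit 354, nat_lit 397, nat_lit 268, nat_lit 311, nat_lit 440, nat_lit 397] 38 6)))) (.node (nat_lit 2) (.node (nat_lit 1) (.leaf (Rule.fwd [nat_lit 311, nat_lit 440, nat_lit 139, nat_lit 311, nat_lit 139] 225 0)) (.leaf (Rule.fwd [nat_lit 397, nat_lit 440, nat_lit 354, nat_lit 397, nat_lit 268, nat_lit 311] 38 4))) (.node (nat_lit 1) (.leaf (Rule.fwd [nat_lit 612, nat_lit 96, nat_lit 569, nat_lit 440, nat_lit 96] 198 3)) (.leaf (Rule.fwd [nat_lit 268, nat_lit 440, nat_lit 397, nat_lit 268, nat_lit 397] 240 3)))))) (.node (nat_lit 8) (.node (nat_lit 4) (.node (nat_lit 2) (.node (nat_lit 1) (.leaf (Rule.fwd [nat_lit 612, nat_lit 139, nat_lit 569, nat_lit 440, nat_lit 139]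 199 2)) (.leaf (Rule.fwd [nat_lit 569, nat_lit 311, nat_lit 268, nat_lit 612, nat_lit 311] 195 5))) (.node (nat_lit 1) (.leaf (Rule.fwd [nat_lit 569, nat_lit 268, nat_lit 53, nat_lit 612, nat_lit 10] 169 4)) (.leaf (Rule.fwd [nat_lit 569, nat_lit 268, nat_lit 10, nat_lit 612, nat_lit 53] 143 0)))) (.node (nat_lit 2) (.node (nat_lit 1) (.leaf (Rule.fwd [nat_lit 311, nat_lit 440, nat_lit 53, nat_lit 311, nat_lit 10] 174 1)) (.leaf (Rule.fwd [nat_lit 139, nat_lit 440, nat_lit 612, nat_lit 139, nat_lit 569] 199 4))) (.node (nat_lit 1) (.leaf (Rule.fwd [nat_lit 354, nat_lit 440, nat_lit 612, nat_lit 354, nat_lit 569] 200 1)) (.leaf (Rule.fwd [nat_lit 53, nat_lit 569, nat_lit 10, nat_lit 268, nat_lit 612] 168 3))))) (.node (nat_lit 4) (.node (nat_lit 2) (.node (nat_lit 1) (.leaf (Rule.fwd [nat_lit 10, nat_lit 440, nat_lit 53, nat_lit 440, nat_lit 10, nat_lit 354] 36 2)) (.leaf (Rule.fwd [nat_lit 569, nat_lit 397, nat_lit 268, nat_lit 569, nat_lit 397]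 186 5))) (.node (nat_lit 1) (.leaf (Rule.fwd [nat_lit 311, nat_lit 569, nat_lit 268, nat_lit 311, nat_lit 612] 194 4)) (.leaf (Rule.fwd [nat_lit 569, nat_lit 440, nat_lit 268, nat_lit 440, nat_lit 612] 204 5)))) (.node (nat_lit 2) (.node (nat_lit 1) (.leaf (Rule.fwd [nat_lit 10, nat_lit 354, nat_lit 440, nat_lit 10, nat_lit 440, nat_lit 53] 36 6)) (.leaf (Rule.fwd [nat_lit 96, nat_lit 440, nat_lit 612, nat_lit 96, nat_lit 569] 198 1))) (.node (nat_lit 1) (.leaf (Rule.fwd [nat_lit 569, nat_lit 268, nat_lit 569, nat_lit 569] 134 2)) (.leaf (Rule.fwd [nat_lit 311, nat_lit 440, nat_lit 96, nat_lit 311, nat_lit 96] 224 3))))))) (.node (nat_lit 16) (.node (nat_lit 8) (.node (nat_lit 4) (.node (nat_lit 2) (.node (nat_lit 1) (.leaf (Rule.fwd [nat_lit 53, nat_lit 397, nat_lit 311, nat_lit 397, nat_lit 268, nat_lit 354, nat_lit 526, nat_lit 10, nat_lit 440, nat_lit 10, nat_lit 440, nat_lit 483, nat_lit 440, nat_lit 53] 390 8)) (.leaf (Rule.fwd [nat_lit 354,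 nat_lit 440, nat_lit 354] 22 1))) (.node (nat_lit 1) (.leaf (Rule.fwd [nat_lit 397, nat_lit 612, nat_lit 268, nat_lit 569, nat_lit 397] 192 2)) (.leaf (Rule.fwd [nat_lit 354, nat_lit 569, nat_lit 354, nat_lit 268, nat_lit 612] 182 4)))) (.node (nat_lit 2) (.node (nat_lit 1) (.leaf (Rule.fwd [nat_lit 397, nat_lit 440, nat_lit 311, nat_lit 268, nat_lit 397, nat_lit 354] 39 0)) (.leaf (Rule.fwd [nat_lit 354, nat_lit 440, nat_lit 96, nat_lit 354, nat_lit 139] 210 3))) (.node (nat_lit 1) (.leaf (Rule.fwd [nat_lit 397, nat_lit 569, nat_lit 440, nat_lit 612, nat_lit 397] 196 4)) (.leaf (Rule.fwd [nat_lit 397, nat_lit 268, nat_lit 397, nat_lit 440, nat_lit 268] 240 5))))) (.node (nat_lit 4) (.node (nat_lit 2) (.node (nat_lit 1) (.leaf (Rule.fwd [nat_lit 354, nat_lit 440, nat_lit 10, nat_lit 354, nat_lit 10] 158 3)) (.leaf (Rule.fwd [nat_lit 53, nat_lit 354, nat_lit 53, nat_lit 440, nat_lit 354] 159 4))) (.node (nat_lit 1) (.leaf (Rule.fwd [nat_lit 311,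 nat_lit 440, nat_lit 311] 32 1)) (.leaf (Rule.fwd [nat_lit 139, nat_lit 311, nat_lit 139, nat_lit 440, nat_lit 311] 225 4)))) (.node (nat_lit 2) (.node (nat_lit 1) (.leaf (Rule.fwd [nat_lit 354, nat_lit 440, nat_lit 139, nat_lit 354, nat_lit 96] 226 1)) (.leaf (Rule.fwd [nat_lit 354, nat_lit 440, nat_lit 397, nat_lit 354, nat_lit 397] 232 2))) (.node (nat_lit 1) (.leaf (Rule.fwd [nat_lit 225, nat_lit 440, nat_lit 225, nat_lit 440, nat_lit 182, nat_lit 440, nat_lit 182] 58 3)) (.leaf (Rule.fwd [nat_lit 225, nat_lit 440, nat_lit 182, nat_lit 440, nat_lit 182, nat_lit 440, nat_lit 225] 58 5)))))) (.node (nat_lit 8) (.node (nat_lit 4) (.node (nat_lit 2) (.node (nat_lit 1) (.leaf (Rule.fwd [nat_lit 182, nat_lit 440, nat_lit 225, nat_lit 440, nat_lit 225, nat_lit 440, nat_lit 182] 58 1)) (.leaf (Rule.fwd [nat_lit 354, nat_lit 440, nat_lit 311, nat_lit 354, nat_lit 311] 238 2))) (.node (nat_lit 1) (.leaf (Rule.fwd [nat_lit 96, nat_lit 268, nat_lit 96,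 nat_lit 440, nat_lit 268, nat_lit 225, nat_lit 268, nat_lit 440, nat_lit 139, nat_lit 268, nat_lit 139, nat_lit 440, nat_lit 182] 61 7)) (.leaf (Rule.fwd [nat_lit 268, nat_lit 225, nat_lit 268, nat_lit 440, nat_lit 139, nat_lit 268, nat_lit 139, nat_lit 440, nat_lit 182, nat_lit 440, nat_lit 96, nat_lit 268, nat_lit 96] 61 3)))) (.node (nat_lit 2) (.node (nat_lit 1) (.leaf (Rule.fwd [nat_lit 311, nat_lit 268, nat_lit 397, nat_lit 354, nat_lit 440, nat_lit 397] 39 5)) (.leaf (Rule.fwd [nat_lit 612, nat_lit 354, nat_lit 569, nat_lit 440, nat_lit 354] 200 3))) (.node (nat_lit 1) (.leaf (Rule.fwd [nat_lit 311, nat_lit 440, nat_lit 397, nat_lit 311, nat_lit 397] 244 3)) (.leaf (Rule.fwd [nat_lit 10, nat_lit 569, nat_lit 53, nat_lit 268, nat_lit 612] 142 5))))) (.node (nat_lit 4) (.node (nat_lit 2) (.node (nat_lit 1) (.leaf (Rule.fwd [nat_lit 397, nat_lit 612, nat_lit 268, nat_lit 397, nat_lit 612] 187 0)) (.leaf (Rule.fwd [nat_lit 612, nat_lit 612, nat_lit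 268, nat_lit 612] 135 3))) (.node (nat_lit 1) (.leaf (Rule.fwd [nat_lit 311, nat_lit 440, nat_lit 612, nat_lit 311, nat_lit 569] 206 1)) (.leaf (Rule.fwd [nat_lit 96, nat_lit 311, nat_lit 96, nat_lit 440, nat_lit 311] 224 5)))) (.node (nat_lit 2) (.node (nat_lit 1) (.leaf (Rule.fwd [nat_lit 612, nat_lit 311, nat_lit 569, nat_lit 440, nat_lit 311] 206 3)) (.leaf (Rule.fwd [nat_lit 311, nat_lit 440, nat_lit 10, nat_lit 311, nat_lit 53] 172 3))) (.node (nat_lit 1) (.leaf (Rule.fwd [nat_lit 182, nat_lit 440, nat_lit 182, nat_lit 440, nat_lit 225, nat_lit 440, nat_lit 225] 58 7)) (.leaf (Rule.fwd [nat_lit 268, nat_lit 354, nat_lit 268, nat_lit 440, nat_lit 354] 236 4)))))))) (.node (nat_lit 32) (.node (nat_lit 16) (.node (nat_lit 8) (.node (nat_lit 4) (.node (nat_lit 2) (.node (nat_lit 1) (.leaf (Rule.fwd [nat_lit 354, nat_lit 440, nat_lit 268, nat_lit 354, nat_lit 268] 236 2)) (.leaf (Rule.fwd [nat_lit 268, nat_lit 440, nat_lit 311, nat_lit 268, nat_lit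 311] 246 2))) (.node (nat_lit 1) (.leaf (Rule.fwd [nat_lit 483, nat_lit 440, nat_lit 53, nat_lit 440, nat_lit 53, nat_lit 397, nat_lit 311, nat_lit 397, nat_lit 268, nat_lit 354, nat_lit 526, nat_lit 10, nat_lit 440, nat_lit 10] 390 4)) (.leaf (Rule.fwd [nat_lit 53, nat_lit 526, nat_lit 354, nat_lit 268, nat_lit 397, nat_lit 311, nat_lit 397, nat_lit 10, nat_lit 440, nat_lit 10, nat_lit 440, nat_lit 483, nat_lit 440, nat_lit 53] 391 3)))) (.node (nat_lit 2) (.node (nat_lit 1) (.leaf (Rule.fwd [nat_lit 397, nat_lit 354, nat_lit 397, nat_lit 440, nat_lit 354] 232 4)) (.leaf (Rule.fwd [nat_lit 311, nat_lit 268, nat_lit 311, nat_lit 440, nat_lit 268] 246 4))) (.node (nat_lit 1) (.leaf (Rule.fwd [nat_lit 569, nat_lit 268, nat_lit 354, nat_lit 612, nat_lit 354] 183 5)) (.leaf (Rule.fwd [nat_lit 96, nat_lit 354, nat_lit 139, nat_lit 440, nat_lit 354] 210 5))))) (.node (nat_lit 4) (.node (nat_lit 2) (.node (nat_lit 1) (.leaf (Rule.fwd [nat_lit 53, nat_lit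 440, nat_lit 354, nat_lit 53, nat_lit 440, nat_lit 10] 37 5)) (.leaf (Rule.fwd [nat_lit 569, nat_lit 268, nat_lit 397, nat_lit 569, nat_lit 397] 190 2))) (.node (nat_lit 1) (.leaf (Rule.fwd [nat_lit 612, nat_lit 440, nat_lit 569, nat_lit 440, nat_lit 268] 204 3)) (.leaf (Rule.fwd [nat_lit 268, nat_lit 440, nat_lit 612, nat_lit 440, nat_lit 569] 204 1)))) (.node (nat_lit 2) (.node (nat_lit 1) (.leaf (Rule.fwd [nat_lit 311, nat_lit 354, nat_lit 311, nat_lit 440, nat_lit 354] 238 4)) (.leaf (Rule.fwd [nat_lit 354, nat_lit 53, nat_lit 440, nat_lit 10, nat_lit 440, nat_lit 53] 37 3))) (.node (nat_lit 1) (.leaf (Rule.fwd [nat_lit 10, nat_lit 311, nat_lit 53, nat_lit 440, nat_lit 311] 172 5)) (.leaf (Rule.fwd [nat_lit 268, nat_lit 182, nat_lit 268, nat_lit 440, nat_lit 139, nat_lit 268, nat_lit 139, nat_lit 440, nat_lit 225, nat_lit 440, nat_lit 96, nat_lit 268, nat_lit 96] 60 12)))))) (.node (nat_lit 8) (.node (nat_lit 4) (.node (nat_lit 2) (.node (nat_lit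 1) (.leaf (Rule.fwd [nat_lit 53, nat_lit 311, nat_lit 10, nat_lit 440, nat_lit 311] 174 3)) (.leaf (Rule.fwd [nat_lit 397, nat_lit 612, nat_lit 397, nat_lit 268, nat_lit 612] 191 3))) (.node (nat_lit 1) (.leaf (Rule.fwd [nat_lit 612, nat_lit 397, nat_lit 440, nat_lit 612, nat_lit 397] 203 2)) (.leaf (Rule.fwd [nat_lit 397, nat_lit 311, nat_lit 397, nat_lit 440, nat_lit 311] 244 5)))) (.node (nat_lit 2) (.node (nat_lit 1) (.leaf (Rule.fwd [nat_lit 10, nat_lit 354, nat_lit 10, nat_lit 440, nat_lit 354] 158 5)) (.leaf (Rule.fwd [nat_lit 53, nat_lit 440, nat_lit 53, nat_lit 397, nat_lit 311, nat_lit 397, nat_lit 268, nat_lit 354, nat_lit 526, nat_lit 10, nat_lit 440, nat_lit 10, nat_lit 440, nat_lit 483] 390 6))) (.node (nat_lit 1) (.leaf (Rule.fwd [nat_lit 483, nat_lit 440, nat_lit 96, nat_lit 268, nat_lit 96, nat_lit 440, nat_lit 268, nat_lit 483, nat_lit 268, nat_lit 440, nat_lit 139, nat_lit 268, nat_lit 139] 102 6)) (.leaf (Rule.fwd [nat_lit 96,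 nat_lit 268, nat_lit 96, nat_lit 440, nat_lit 268, nat_lit 483, nat_lit 268, nat_lit 440, nat_lit 139, nat_lit 268, nat_lit 139, nat_lit 440, nat_lit 483] 102 8))))) (.node (nat_lit 4) (.node (nat_lit 2) (.node (nat_lit 1) (.leaf (Rule.fwd [nat_lit 139, nat_lit 268, nat_lit 139, nat_lit 440, nat_lit 483, nat_lit 440, nat_lit 96, nat_lit 268, nat_lit 96, nat_lit 440, nat_lit 268, nat_lit 483, nat_lit 268] 102 2)) (.leaf (Rule.fwd [nat_lit 10, nat_lit 440, nat_lit 53, nat_lit 440, nat_lit 354, nat_lit 53] 37 0))) (.node (nat_lit 1) (.leaf (Rule.fwd [nat_lit 182, nat_lit 440, nat_lit 96, nat_lit 268, nat_lit 96, nat_lit 440, nat_lit 268, nat_lit 225, nat_lit 268, nat_lit 440, nat_lit 139, nat_lit 268, nat_lit 139] 61 9)) (.leaf (Rule.fwd [nat_lit 268, nat_lit 483, nat_lit 268, nat_lit 440, nat_lit 139, nat_lit 268, nat_lit 139, nat_lit 440, nat_lit 483, nat_lit 440, nat_lit 96, nat_lit 268, nat_lit 96] 102 12)))) (.node (nat_lit 2) (.node (nat_lit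 1) (.leaf (Rule.fwd [nat_lit 139, nat_lit 354, nat_lit 96, nat_lit 440, nat_lit 354] 226 3)) (.leaf (Rule.fwd [nat_lit 225, nat_lit 440, nat_lit 96, nat_lit 268, nat_lit 96, nat_lit 440, nat_lit 268, nat_lit 182, nat_lit 268, nat_lit 440, nat_lit 139, nat_lit 268, nat_lit 139] 60 6))) (.node (nat_lit 1) (.leaf (Rule.fwd [nat_lit 397, nat_lit 569, nat_lit 440, nat_lit 397, nat_lit 569] 202 1)) (.leaf (Rule.fwd [nat_lit 96, nat_lit 268, nat_lit 96, nat_lit 440, nat_lit 268, nat_lit 182, nat_lit 268, nat_lit 440, nat_lit 139, nat_lit 268, nat_lit 139, nat_lit 440, nat_lit 225] 60 8))))))) (.node (nat_lit 2) (.node (nat_lit 1) (.leaf (Rule.fwd [nat_lit 139, nat_lit 268, nat_lit 139, nat_lit 440, nat_lit 225, nat_lit 440, nat_lit 96, nat_lit 268, nat_lit 96, nat_lit 440, nat_lit 268, nat_lit 182, nat_lit 268] 60 2)) (.leaf (Rule.fwd [nat_lit 139, nat_lit 268, nat_lit 139, nat_lit 440, nat_lit 182, nat_lit 440, nat_lit 96, nat_lit 268, nat_lit 96, nat_lit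 440, nat_lit 268, nat_lit 225, nat_lit 268] 61 13))) (.leaf (Rule.fwd [nat_lit 483, nat_lit 440, nat_lit 53, nat_lit 440, nat_lit 53, nat_lit 526, nat_lit 354, nat_lit 268, nat_lit 397, nat_lit 311, nat_lit 397, nat_lit 10, nat_lit 440, nat_lit 10] 391 7))))), (.node (nat_lit 64) (.node (nat_lit 32) (.node (nat_lit 16) (.node (nat_lit 8) (.node (nat_lit 4) (.node (nat_lit 2) (.node (nat_lit 1) (.leaf XRule.defn) (.leaf XRule.ax)) (.node (nat_lit 1) (.leaf (XRule.rot (nat_lit 506913251) [483, 440, 483] 104 1)) (.leaf (XRule.rot (nat_lit 72725349633009160759336409619885293188149) [53, 397, 311, 397, 268, 354, 526, 10, 440, 10, 440, 483, 440, 53] 390 8)))) (.node (nat_lit 2) (.node (nat_lit 1) (.leaf (XRule.rot (nat_lit 371646818) [354, 440, 354] 22 1)) (.leaf (XRule.rot (nat_lit 440) [440] 434 0))) (.node (nat_lit 1) (.leaf (XRule.rot (nat_lit 153305159446116) [612, 139, 569, 440, 139] 199 2)) (.leaf (XRule.rot (nat_lit 625725837598816) [96, 440,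 612, 96, 569] 198 1))))) (.node (nat_lit 4) (.node (nat_lit 2) (.node (nat_lit 1) (.leaf (XRule.rot (nat_lit 447466382347875682) [354, 397, 268, 311, 440, 397] 38 6)) (.leaf (XRule.rot (nat_lit 626048853489252) [612, 397, 440, 397, 569] 196 1))) (.node (nat_lit 1) (.leaf (XRule.rot (nat_lit 160557936341094248544) [96, 268, 139, 440, 96, 268, 139] 44 3)) (.leaf (XRule.rot (nat_lit 14310928461114584121375661199090601353226) [10, 440, 483, 440, 53, 440, 53, 397, 311, 397, 268, 354, 526, 10] 390 2)))) (.node (nat_lit 2) (.node (nat_lit 1) (.leaf (XRule.rot (nat_lit 58654276903266) [354, 440, 53, 354, 53] 159 0)) (.leaf (XRule.rot (nat_lit 642003513) [569, 268, 612] 114 3))) (.node (nat_lit 1) (.leaf (XRule.rot (nat_lit 281469196) [268, 440, 268] 30 1)) (.leaf (XRule.rot (nat_lit 350449966791451021) [397, 440, 354, 397, 268, 311] 38 4)))))) (.node (nat_lit 8) (.node (nat_lit 4) (.node (nat_lit 2) (.node (nat_lit 1) (.leaf (XRule.rot (nat_lit 436794295771404)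 [268, 440, 397, 268, 397] 240 3)) (.leaf (XRule.rot (nat_lit 105887151087927) [311, 440, 96, 311, 96] 224 3))) (.node (nat_lit 1) (.leaf (XRule.rot (nat_lit 399005361227882893) [397, 440, 311, 268, 397, 354] 39 0)) (.leaf (XRule.rot (nat_lit 295141979206029) [397, 268, 397, 440, 268] 240 5)))) (.node (nat_lit 2) (.node (nat_lit 1) (.leaf (XRule.rot (nat_lit 437117356750393) [569, 397, 268, 569, 397] 186 5)) (.leaf (XRule.rot (nat_lit 673189250786658) [354, 569, 354, 268, 612] 182 4))) (.node (nat_lit 1) (.leaf (XRule.rot (nat_lit 447466428653908279) [311, 268, 397, 354, 440, 397] 39 5)) (.leaf (XRule.rot (nat_lit 611556012601) [569, 268, 569, 569] 134 2))))) (.node (nat_lit 4) (.node (nat_lit 2) (.node (nat_lit 1) (.leaf (XRule.rot (nat_lit 673235331507511) [311, 569, 268, 311, 612] 194 4)) (.leaf (XRule.rot (nat_lit 625772008497291) [139, 440, 612, 139, 569] 199 4))) (.node (nat_lit 1) (.leaf (XRule.rot (nat_lit 153166196171063) [311, 440, 139,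 311, 139] 225 0)) (.leaf (XRule.rot (nat_lit 106026159407716) [612, 96, 569, 440, 96] 198 3)))) (.node (nat_lit 2) (.node (nat_lit 1) (.leaf (XRule.rot (nat_lit 326558007) [311, 440, 311] 32 1)) (.leaf (XRule.rot (nat_lit 342605527572025) [569, 311, 268, 612, 311] 195 5))) (.node (nat_lit 1) (.leaf (XRule.rot (nat_lit 11742841464610869) [53, 440, 354, 53, 440, 10] 37 5)) (.leaf (XRule.rot (nat_lit 60062394681319434) [10, 440, 53, 440, 354, 53] 37 0))))))) (.node (nat_lit 16) (.node (nat_lit 8) (.node (nat_lit 4) (.node (nat_lit 2) (.node (nat_lit 1) (.leaf (XRule.rot (nat_lit 11743164300189749) [53, 440, 10, 354, 440, 10] 36 4)) (.leaf (XRule.rot (nat_lit 11375231820130) [354, 440, 10, 354, 10] 158 3))) (.node (nat_lit 1) (.leaf (XRule.rot (nat_lit 11329106010423) [311, 440, 53, 311, 10] 174 1)) (.leaf (XRule.rot (nat_lit 673373844070969) [569, 440, 268, 440, 612] 204 5)))) (.node (nat_lit 2) (.node (nat_lit 1) (.leaf (XRule.rot (nat_lit 626095204786444)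 [268, 440, 612, 440, 569] 204 1)) (.leaf (XRule.rot (nat_lit 342420663622752) [96, 311, 96, 440, 311] 224 5))) (.node (nat_lit 1) (.leaf (XRule.rot (nat_lit 437163708179853) [397, 569, 440, 612, 397] 196 4)) (.leaf (XRule.rot (nat_lit 437117491884601) [569, 268, 397, 569, 397] 190 2))))) (.node (nat_lit 4) (.node (nat_lit 2) (.node (nat_lit 1) (.leaf (XRule.rot (nat_lit 625956692091191) [311, 440, 612, 311, 569] 206 1)) (.leaf (XRule.rot (nat_lit 389699618572341) [53, 354, 53, 440, 354] 159 4))) (.node (nat_lit 1) (.leaf (XRule.rot (nat_lit 342236205605132) [268, 440, 311, 268, 311] 246 2)) (.leaf (XRule.rot (nat_lit 60156491378034698) [10, 354, 440, 10, 440, 53] 36 6)))) (.node (nat_lit 2) (.node (nat_lit 1) (.leaf (XRule.rot (nat_lit 436886637568354) [354, 440, 397, 354, 397] 232 2)) (.leaf (XRule.rot (nat_lit 58931257029177) [569, 268, 10, 612, 53] 143 0))) (.node (nat_lit 1) (.leaf (XRule.rot (nat_lit 673188890076213) [53, 569, 10, 268, 612]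 168 3)) (.leaf (XRule.rot (nat_lit 673327673348493) [397, 612, 268, 397, 612] 187 0)))))) (.node (nat_lit 8) (.node (nat_lit 4) (.node (nat_lit 2) (.node (nat_lit 1) (.leaf (XRule.rot (nat_lit 342420708711563) [139, 311, 139, 440, 311] 225 4)) (.leaf (XRule.rot (nat_lit 153212321980770) [354, 440, 96, 354, 139] 210 3))) (.node (nat_lit 1) (.leaf (XRule.rot (nat_lit 58608060916023) [311, 440, 10, 311, 53] 172 3)) (.leaf (XRule.rot (nat_lit 210327357660255936694) [182, 440, 225, 440, 225, 440, 182] 58 1)))) (.node (nat_lit 2) (.node (nat_lit 1) (.leaf (XRule.rot (nat_lit 259902982358305267894) [182, 440, 182, 440, 225, 440, 225] 58 7)) (.leaf (XRule.rot (nat_lit 210327310381255942369) [225, 440, 225, 440, 182, 440, 182] 58 3))) (.node (nat_lit 1) (.leaf (XRule.rot (nat_lit 259902935079305273569) [225, 440, 182, 440, 182, 440, 225] 58 5)) (.leaf (XRule.rot (nat_lit 342421159599716) [612, 311, 569, 440, 311] 206 3))))) (.node (nat_lit 4) (.node (nat_lit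 2) (.node (nat_lit 1) (.leaf (XRule.rot (nat_lit 626002862989666) [354, 440, 612, 354, 569] 200 1)) (.leaf (XRule.rot (nat_lit 72725349633009160759187634473793548204085) [53, 526, 354, 268, 397, 311, 397, 10, 440, 10, 440, 483, 440, 53] 391 3))) (.node (nat_lit 1) (.leaf (XRule.rot (nat_lit 437163708003940) [612, 397, 440, 612, 397] 203 2)) (.leaf (XRule.rot (nat_lit 295049502318946) [354, 440, 268, 354, 268] 236 2)))) (.node (nat_lit 2) (.node (nat_lit 1) (.leaf (XRule.rot (nat_lit 105933367075170) [354, 440, 139, 354, 96] 226 1)) (.leaf (XRule.rot (nat_lit 11652302123577) [569, 268, 53, 612, 10] 169 4))) (.node (nat_lit 1) (.leaf (XRule.rot (nat_lit 342420979244429) [397, 311, 397, 440, 311] 244 5)) (.leaf (XRule.rot (nat_lit 437117356970381) [397, 612, 268, 569, 397] 192 2)))))))) (.node (nat_lit 16) (.node (nat_lit 8) (.node (nat_lit 4) (.node (nat_lit 2) (.node (nat_lit 1) (.leaf (XRule.rot (nat_lit 657411641956) [612, 612, 268, 612] 135 3))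 (.leaf (XRule.rot (nat_lit 295141889028407) [311, 268, 311, 440, 268] 246 4))) (.node (nat_lit 1) (.leaf (XRule.rot (nat_lit 295142159737444) [612, 440, 569, 440, 268] 204 3)) (.leaf (XRule.rot (nat_lit 436840466669879) [311, 440, 397, 311, 397] 244 3)))) (.node (nat_lit 2) (.node (nat_lit 1) (.leaf (XRule.rot (nat_lit 398580034640994314) [10, 440, 53, 440, 10, 354] 36 2)) (.leaf (XRule.rot (nat_lit 389699889105207) [311, 354, 311, 440, 354] 238 4))) (.node (nat_lit 1) (.leaf (XRule.rot (nat_lit 185110752052076396091005009852690260193) [225, 440, 96, 268, 96, 440, 268, 182, 268, 440, 139, 268, 139] 60 6)) (.leaf (XRule.rot (nat_lit 342328547402082) [354, 440, 311, 354, 311] 238 2))))) (.node (nat_lit 4) (.node (nat_lit 2) (.node (nat_lit 1) (.leaf (XRule.rot (nat_lit 60156491377726818) [354, 53, 440, 10, 440, 53] 37 3)) (.leaf (XRule.rot (nat_lit 389699844016396) [268, 354, 268, 440, 354] 236 4))) (.node (nat_lit 1) (.leaf (XRule.rot (nat_lit 299647628241414825153291386149604175968)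 [96, 268, 96, 440, 268, 182, 268, 440, 139, 268, 139, 440, 225] 60 8)) (.leaf (XRule.rot (nat_lit 127953893724297524375751276525605017868) [268, 182, 268, 440, 139, 268, 139, 440, 225, 440, 96, 268, 96] 60 12)))) (.node (nat_lit 2) (.node (nat_lit 1) (.leaf (XRule.rot (nat_lit 342420573445173) [53, 311, 10, 440, 311] 174 3)) (.leaf (XRule.rot (nat_lit 389699979282829) [397, 354, 397, 440, 354] 232 4))) (.node (nat_lit 1) (.leaf (XRule.rot (nat_lit 127953893724245540565507847471092696332) [268, 225, 268, 440, 139, 268, 139, 440, 182, 440, 96, 268, 96] 61 3)) (.leaf (XRule.rot (nat_lit 658010406747919900546420259769020356943925) [53, 440, 53, 397, 311, 397, 268, 354, 526, 10, 440, 10, 440, 483] 390 6)))))) (.node (nat_lit 4) (.node (nat_lit 2) (.node (nat_lit 1) (.leaf (XRule.rot (nat_lit 342420618533898) [10, 311, 53, 440, 311] 172 5)) (.leaf (XRule.rot (nat_lit 389700159638116) [612, 354, 569, 440, 354] 200 3))) (.node (nat_lit 1) (.leaf (XRule.rot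 (nat_lit 389699708749920) [96, 354, 139, 440, 354] 210 5)) (.leaf (XRule.rot (nat_lit 673188935164938) [10, 569, 53, 268, 612] 142 5)))) (.node (nat_lit 2) (.node (nat_lit 1) (.leaf (XRule.rot (nat_lit 389699663661195) [139, 354, 96, 440, 354] 226 3)) (.leaf (XRule.rot (nat_lit 185110752052076751449082845793492591075) [483, 440, 96, 268, 96, 440, 268, 483, 268, 440, 139, 268, 139] 102 6))) (.leaf (XRule.rot (nat_lit 242490824422663442618476096253543592032) [96, 268, 96, 440, 268, 225, 268, 440, 139, 268, 139, 440, 182] 61 7))))))⟩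
noncomputable def ci483 : CI := ⟨[11], (nat_lit 483), true, (.node (nat_lit 32) (.node (nat_lit 16) (.node (nat_lit 8) (.node (nat_lit 4) (.node (nat_lit 2) (.node (nat_lit 1) (.leaf Rule.defn) (.leaf Rule.copy)) (.node (nat_lit 1) (.leaf (Rule.fwd [nat_lit 483] 434 0)) (.leaf (Rule.fwd [nat_lit 10, nat_lit 354, nat_lit 268, nat_lit 311, nat_lit 397, nat_lit 53, nat_lit 483, nat_lit 10, nat_lit 311, nat_lit 397, nat_lit 268, nat_lit 354, nat_lit 53] 94 7)))) (.node (nat_lit 2) (.node (nat_lit 1) (.leaf (Rule.fwd [nat_lit 182, nat_lit 483, nat_lit 225] 66 3)) (.leaf (Rule.fwd [nat_lit 440, nat_lit 483, nat_lit 440] 104 0))) (.node (nat_lit 1) (.leaf (Rule.fwd [nat_lit 268, nat_lit 440, nat_lit 139, nat_lit 268, nat_lit 139, nat_lit 440, nat_lit 483, nat_lit 440, nat_lit 96, nat_lit 268, nat_lit 96, nat_lit 440, nat_lit 268] 102 0)) (.leaf (Rule.fwd [nat_lit 397, nat_lit 483, nat_lit 397] 100 0))))) (.node (nat_lit 4) (.node (nat_lit 2) (.node (nat_lit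 1) (.leaf (Rule.fwd [nat_lit 225, nat_lit 483, nat_lit 182] 66 1)) (.leaf (Rule.fwd [nat_lit 354, nat_lit 483, nat_lit 354] 76 0))) (.node (nat_lit 1) (.leaf (Rule.fwd [nat_lit 311, nat_lit 397, nat_lit 483, nat_lit 311, nat_lit 397] 72 2)) (.leaf (Rule.fwd [nat_lit 397, nat_lit 311, nat_lit 483, nat_lit 397, nat_lit 311] 73 0)))) (.node (nat_lit 2) (.node (nat_lit 1) (.leaf (Rule.fwd [nat_lit 440, nat_lit 53, nat_lit 440, nat_lit 53, nat_lit 397, nat_lit 311, nat_lit 397, nat_lit 268, nat_lit 354, nat_lit 526, nat_lit 10, nat_lit 440, nat_lit 10, nat_lit 440] 390 5)) (.leaf (Rule.fwd [nat_lit 354, nat_lit 182, nat_lit 483, nat_lit 182] 88 3))) (.node (nat_lit 1) (.leaf (Rule.fwd [nat_lit 268, nat_lit 483, nat_lit 268] 70 1)) (.leaf (Rule.fwd [nat_lit 10, nat_lit 96, nat_lit 10, nat_lit 139, nat_lit 53, nat_lit 96, nat_lit 53, nat_lit 483, nat_lit 10, nat_lit 139, nat_lit 10, nat_lit 96, nat_lit 53, nat_lit 139, nat_lit 53] 92 0)))))) (.node (nat_lit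 8) (.node (nat_lit 4) (.node (nat_lit 2) (.node (nat_lit 1) (.leaf (Rule.fwd [nat_lit 440, nat_lit 96, nat_lit 268, nat_lit 96, nat_lit 440, nat_lit 268, nat_lit 483, nat_lit 268, nat_lit 440, nat_lit 139, nat_lit 268, nat_lit 139, nat_lit 440] 102 7)) (.leaf (Rule.fwd [nat_lit 225, nat_lit 225, nat_lit 483, nat_lit 354] 87 3))) (.node (nat_lit 1) (.leaf (Rule.fwd [nat_lit 10, nat_lit 311, nat_lit 397, nat_lit 268, nat_lit 354, nat_lit 53, nat_lit 483, nat_lit 10, nat_lit 354, nat_lit 268, nat_lit 311, nat_lit 397, nat_lit 53] 94 0)) (.leaf (Rule.fwd [nat_lit 182, nat_lit 483, nat_lit 354, nat_lit 182] 88 1)))) (.node (nat_lit 2) (.node (nat_lit 1) (.leaf (Rule.fwd [nat_lit 225, nat_lit 354, nat_lit 483, nat_lit 225] 89 2)) (.leaf (Rule.fwd [nat_lit 354, nat_lit 483, nat_lit 225, nat_lit 225] 87 0))) (.node (nat_lit 1) (.leaf (Rule.fwd [nat_lit 354, nat_lit 483, nat_lit 182, nat_lit 182] 86 2)) (.leaf (Rule.fwd [nat_lit 182, nat_lit 182, nat_lit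 483, nat_lit 354] 86 4))))) (.node (nat_lit 4) (.node (nat_lit 2) (.node (nat_lit 1) (.leaf (Rule.fwd [nat_lit 10, nat_lit 354, nat_lit 268, nat_lit 397, nat_lit 311, nat_lit 53, nat_lit 483, nat_lit 10, nat_lit 397, nat_lit 311, nat_lit 268, nat_lit 354, nat_lit 53] 95 8)) (.leaf (Rule.fwd [nat_lit 10, nat_lit 139, nat_lit 10, nat_lit 96, nat_lit 53, nat_lit 139, nat_lit 53, nat_lit 483, nat_lit 10, nat_lit 96, nat_lit 10, nat_lit 139, nat_lit 53, nat_lit 96, nat_lit 53] 92 8))) (.node (nat_lit 1) (.leaf (Rule.fwd [nat_lit 440, nat_lit 53, nat_lit 440, nat_lit 53, nat_lit 526, nat_lit 354, nat_lit 268, nat_lit 397, nat_lit 311, nat_lit 397, nat_lit 10, nat_lit 440, nat_lit 10, nat_lit 440] 391 6)) (.leaf (Rule.fwd [nat_lit 10, nat_lit 397, nat_lit 311, nat_lit 268, nat_lit 354, nat_lit 53, nat_lit 483, nat_lit 10, nat_lit 354, nat_lit 268, nat_lit 397, nat_lit 311, nat_lit 53] 95 1)))) (.node (nat_lit 2) (.node (nat_lit 1) (.leaf (Rule.fwd [nat_lit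 225, nat_lit 483, nat_lit 225, nat_lit 354] 89 4)) (.leaf (Rule.fwd [nat_lit 354, nat_lit 225, nat_lit 483, nat_lit 225] 91 0))) (.node (nat_lit 1) (.leaf (Rule.fwd [nat_lit 10, nat_lit 10, nat_lit 139, nat_lit 10, nat_lit 96, nat_lit 53, nat_lit 139, nat_lit 53, nat_lit 354, nat_lit 268, nat_lit 397, nat_lit 311, nat_lit 53, nat_lit 483, nat_lit 10, nat_lit 10, nat_lit 139, nat_lit 10, nat_lit 96, nat_lit 53, nat_lit 139, nat_lit 53, nat_lit 354, nat_lit 268, nat_lit 397, nat_lit 311, nat_lit 53, nat_lit 483, nat_lit 10, nat_lit 10, nat_lit 139, nat_lit 10, nat_lit 96, nat_lit 53, nat_lit 139, nat_lit 53, nat_lit 354, nat_lit 268, nat_lit 397, nat_lit 311, nat_lit 53] 97 1)) (.leaf (Rule.fwd [nat_lit 225, nat_lit 483, nat_lit 354, nat_lit 225] 91 2))))))) (.node (nat_lit 4) (.node (nat_lit 2) (.node (nat_lit 1) (.leaf (Rule.fwd [nat_lit 182, nat_lit 354, nat_lit 483, nat_lit 182] 90 1)) (.leaf (Rule.fwd [nat_lit 182, nat_lit 483, nat_lit 182, nat_lit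 354] 90 4))) (.node (nat_lit 1) (.leaf (Rule.fwd [nat_lit 10, nat_lit 96, nat_lit 10, nat_lit 139, nat_lit 53, nat_lit 96, nat_lit 53, nat_lit 139, nat_lit 139, nat_lit 483, nat_lit 10, nat_lit 96, nat_lit 10, nat_lit 139, nat_lit 53, nat_lit 96, nat_lit 53, nat_lit 139, nat_lit 139, nat_lit 354, nat_lit 483, nat_lit 10, nat_lit 96, nat_lit 10, nat_lit 139, nat_lit 53, nat_lit 96, nat_lit 53, nat_lit 139, nat_lit 139] 98 10)) (.leaf (Rule.fwd [nat_lit 10, nat_lit 311, nat_lit 397, nat_lit 268, nat_lit 354, nat_lit 10, nat_lit 96, nat_lit 10, nat_lit 139, nat_lit 53, nat_lit 96, nat_lit 53, nat_lit 53, nat_lit 483, nat_lit 10, nat_lit 311, nat_lit 397, nat_lit 268, nat_lit 354, nat_lit 10, nat_lit 96, nat_lit 10, nat_lit 139, nat_lit 53, nat_lit 96, nat_lit 53, nat_lit 53, nat_lit 483, nat_lit 10, nat_lit 311, nat_lit 397, nat_lit 268, nat_lit 354, nat_lit 10, nat_lit 96, nat_lit 10, nat_lit 139, nat_lit 53, nat_lit 96, nat_lit 53, nat_lit 53] 96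 0)))) (.node (nat_lit 2) (.node (nat_lit 1) (.leaf (Rule.fwd [nat_lit 354, nat_lit 96, nat_lit 96, nat_lit 10, nat_lit 139, nat_lit 10, nat_lit 96, nat_lit 53, nat_lit 139, nat_lit 53, nat_lit 483, nat_lit 96, nat_lit 96, nat_lit 10, nat_lit 139, nat_lit 10, nat_lit 96, nat_lit 53, nat_lit 139, nat_lit 53, nat_lit 483, nat_lit 96, nat_lit 96, nat_lit 10, nat_lit 139, nat_lit 10, nat_lit 96, nat_lit 53, nat_lit 139, nat_lit 53] 99 1)) (.leaf (Rule.fwd [nat_lit 96, nat_lit 96, nat_lit 10, nat_lit 139, nat_lit 10, nat_lit 96, nat_lit 53, nat_lit 139, nat_lit 53, nat_lit 483, nat_lit 96, nat_lit 96, nat_lit 10, nat_lit 139, nat_lit 10, nat_lit 96, nat_lit 53, nat_lit 139, nat_lit 53, nat_lit 483, nat_lit 354, nat_lit 96, nat_lit 96, nat_lit 10, nat_lit 139, nat_lit 10, nat_lit 96, nat_lit 53, nat_lit 139, nat_lit 53] 99 21))) (.leaf (Rule.fwd [nat_lit 10, nat_lit 96, nat_lit 10, nat_lit 139, nat_lit 53, nat_lit 96, nat_lit 53, nat_lit 139, nat_lit 139,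 nat_lit 483, nat_lit 10, nat_lit 96, nat_lit 10, nat_lit 139, nat_lit 53, nat_lit 96, nat_lit 53, nat_lit 139, nat_lit 139, nat_lit 483, nat_lit 10, nat_lit 96, nat_lit 10, nat_lit 139, nat_lit 53, nat_lit 96, nat_lit 53, nat_lit 139, nat_lit 139, nat_lit 354] 98 0))))), (.node (nat_lit 16) (.node (nat_lit 8) (.node (nat_lit 4) (.node (nat_lit 2) (.node (nat_lit 1) (.leaf XRule.defn) (.leaf XRule.ax)) (.node (nat_lit 1) (.leaf (XRule.rot (nat_lit 483) [483] 434 0)) (.leaf (XRule.rot (nat_lit 74001957528559217321839125521482805955144714) [10, 139, 10, 96, 53, 139, 53, 483, 10, 96, 10, 139, 53, 96, 53] 92 8)))) (.node (nat_lit 2) (.node (nat_lit 1) (.leaf (XRule.rot (nat_lit 195927660898) [354, 182, 483, 182] 88 3)) (.leaf (XRule.rot (nat_lit 342374898523533) [397, 311, 483, 397, 311] 73 0))) (.node (nat_lit 1) (.leaf (XRule.rot (nat_lit 436840556803383) [311, 397, 483, 311, 397] 72 2)) (.leaf (XRule.rot (nat_lit 191335649) [225, 483, 182] 66 1)))))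 (.node (nat_lit 4) (.node (nat_lit 2) (.node (nat_lit 1) (.leaf (XRule.rot (nat_lit 380611254454) [182, 182, 483, 354] 86 4)) (.leaf (XRule.rot (nat_lit 416779661) [397, 483, 397] 100 0))) (.node (nat_lit 1) (.leaf (XRule.rot (nat_lit 281513228) [268, 483, 268] 70 1)) (.leaf (XRule.rot (nat_lit 236424374) [182, 483, 225] 66 3)))) (.node (nat_lit 2) (.node (nat_lit 1) (.leaf (XRule.rot (nat_lit 598910829226632328328120231173900818503096) [440, 53, 440, 53, 526, 354, 268, 397, 311, 397, 10, 440, 10, 440] 391 6)) (.leaf (XRule.rot (nat_lit 461868472) [440, 483, 440] 104 0))) (.node (nat_lit 1) (.leaf (XRule.rot (nat_lit 585041090364163840280262101489946821048) [440, 96, 268, 96, 440, 268, 483, 268, 440, 139, 268, 139, 440] 102 7)) (.leaf (XRule.rot (nat_lit 70908942270779918563539846479353317386) [10, 354, 268, 311, 397, 53, 483, 10, 311, 397, 268, 354, 53] 94 7)))))) (.node (nat_lit 8) (.node (nat_lit 4) (.node (nat_lit 2) (.node (nat_lit 1) (.leaf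 (XRule.rot (nat_lit 371690850) [354, 483, 354] 76 0)) (.leaf (XRule.rot (nat_lit 356804377551138414312215859973707981068) [268, 440, 139, 268, 139, 440, 483, 440, 96, 268, 96, 440, 268] 102 0))) (.node (nat_lit 1) (.leaf (XRule.rot (nat_lit 380611298529) [225, 225, 483, 354] 87 3)) (.leaf (XRule.rot (nat_lit 598910829226792074424850647904432548795832) [440, 53, 440, 53, 397, 311, 397, 268, 354, 526, 10, 440, 10, 440] 390 5)))) (.node (nat_lit 2) (.node (nat_lit 1) (.leaf (XRule.rot (nat_lit 241828334946) [354, 483, 225, 225] 87 0)) (.leaf (XRule.rot (nat_lit 195612347746) [354, 483, 182, 182] 86 2))) (.node (nat_lit 1) (.leaf (XRule.rot (nat_lit 70908942164421042805483906481395173386) [10, 354, 268, 397, 311, 53, 483, 10, 397, 311, 268, 354, 53] 95 8)) (.leaf (XRule.rot (nat_lit 74060486039852480739727118170196405387362314) [10, 96, 10, 139, 53, 96, 53, 483, 10, 139, 10, 96, 53, 139, 53] 92 0))))) (.node (nat_lit 2) (.node (nat_lit 1) (.leaf (XRule.rot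 (nat_lit 70853288446835817350555262985927275530) [10, 397, 311, 268, 354, 53, 483, 10, 354, 268, 397, 311, 53] 95 1)) (.leaf (XRule.rot (nat_lit 70964813811342696516840139940619934730) [10, 311, 397, 268, 354, 53, 483, 10, 354, 268, 311, 397, 53] 94 0))) (.leaf (XRule.rot (nat_lit 195792702646) [182, 483, 354, 182] 88 1)))))⟩
noncomputable def ci526 : CI := ⟨[12], (nat_lit 526), true, (.node (nat_lit 32) (.node (nat_lit 16) (.node (nat_lit 8) (.node (nat_lit 4) (.node (nat_lit 2) (.node (nat_lit 1) (.leaf Rule.defn) (.leaf Rule.copy)) (.node (nat_lit 1) (.leaf (Rule.fwd [nat_lit 698, nat_lit 526, nat_lit 655] 400 1)) (.leaf (Rule.fwd [nat_lit 526] 434 0)))) (.node (nat_lit 2) (.node (nat_lit 1) (.leaf (Rule.fwd [nat_lit 311, nat_lit 354, nat_lit 526, nat_lit 311, nat_lit 354] 406 2)) (.leaf (Rule.fwd [nat_lit 655, nat_lit 526, nat_lit 397, nat_lit 655] 420 1))) (.node (nat_lit 1) (.leaf (Rule.fwd [nat_lit 655, nat_lit 526, nat_lit 698] 400 3)) (.leaf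 (Rule.fwd [nat_lit 311, nat_lit 354, nat_lit 397, nat_lit 268, nat_lit 526, nat_lit 311, nat_lit 354, nat_lit 397, nat_lit 268] 404 4))))) (.node (nat_lit 4) (.node (nat_lit 2) (.node (nat_lit 1) (.leaf (Rule.fwd [nat_lit 268, nat_lit 397, nat_lit 354, nat_lit 311, nat_lit 526, nat_lit 268, nat_lit 397, nat_lit 354, nat_lit 311] 405 0)) (.leaf (Rule.fwd [nat_lit 569, nat_lit 311, nat_lit 354, nat_lit 311, nat_lit 354, nat_lit 397, nat_lit 268, nat_lit 397, nat_lit 612, nat_lit 526, nat_lit 569, nat_lit 397, nat_lit 311, nat_lit 354, nat_lit 397, nat_lit 268, nat_lit 311, nat_lit 354, nat_lit 612] 426 0))) (.node (nat_lit 1) (.leaf (Rule.fwd [nat_lit 397, nat_lit 526, nat_lit 397] 408 0)) (.leaf (Rule.fwd [nat_lit 569, nat_lit 96, nat_lit 569, nat_lit 139, nat_lit 612, nat_lit 96, nat_lit 612, nat_lit 526, nat_lit 569, nat_lit 139, nat_lit 569, nat_lit 96, nat_lit 612, nat_lit 139, nat_lit 612] 424 8)))) (.node (nat_lit 2) (.node (nat_lit 1) (.leaf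 (Rule.fwd [nat_lit 569, nat_lit 397, nat_lit 311, nat_lit 354, nat_lit 397, nat_lit 268, nat_lit 311, nat_lit 354, nat_lit 612, nat_lit 526, nat_lit 569, nat_lit 311, nat_lit 354, nat_lit 311, nat_lit 354, nat_lit 397, nat_lit 268, nat_lit 397, nat_lit 612] 426 10)) (.leaf (Rule.fwd [nat_lit 698, nat_lit 698, nat_lit 526, nat_lit 397] 419 3))) (.node (nat_lit 1) (.leaf (Rule.fwd [nat_lit 53, nat_lit 96, nat_lit 53, nat_lit 139, nat_lit 53, nat_lit 526, nat_lit 10, nat_lit 96, nat_lit 10, nat_lit 139, nat_lit 10] 394 6)) (.leaf (Rule.fwd [nat_lit 354, nat_lit 526, nat_lit 354] 392 0)))))) (.node (nat_lit 8) (.node (nat_lit 4) (.node (nat_lit 2) (.node (nat_lit 1) (.leaf (Rule.fwd [nat_lit 10, nat_lit 440, nat_lit 10, nat_lit 440, nat_lit 483, nat_lit 440, nat_lit 53, nat_lit 440, nat_lit 53, nat_lit 397, nat_lit 311, nat_lit 397, nat_lit 268, nat_lit 354] 390 0)) (.leaf (Rule.fwd [nat_lit 10, nat_lit 96, nat_lit 10, nat_lit 139, nat_lit 10, nat_lit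 526, nat_lit 53, nat_lit 96, nat_lit 53, nat_lit 139, nat_lit 53] 394 0))) (.node (nat_lit 1) (.leaf (Rule.fwd [nat_lit 569, nat_lit 569, nat_lit 96, nat_lit 569, nat_lit 139, nat_lit 612, nat_lit 96, nat_lit 612, nat_lit 397, nat_lit 268, nat_lit 397, nat_lit 354, nat_lit 311, nat_lit 354, nat_lit 311, nat_lit 612, nat_lit 526, nat_lit 569, nat_lit 569, nat_lit 96, nat_lit 569, nat_lit 139, nat_lit 612, nat_lit 96, nat_lit 612, nat_lit 397, nat_lit 268, nat_lit 397, nat_lit 354, nat_lit 311, nat_lit 354, nat_lit 311, nat_lit 612, nat_lit 526, nat_lit 569, nat_lit 569, nat_lit 96, nat_lit 569, nat_lit 139, nat_lit 612, nat_lit 96, nat_lit 612, nat_lit 397, nat_lit 268, nat_lit 397, nat_lit 354, nat_lit 311, nat_lit 354, nat_lit 311, nat_lit 612] 429 1)) (.leaf (Rule.fwd [nat_lit 569, nat_lit 139, nat_lit 569, nat_lit 96, nat_lit 612, nat_lit 139, nat_lit 612, nat_lit 96, nat_lit 96, nat_lit 526, nat_lit 569, nat_lit 139, nat_lit 569, nat_lit 96,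 nat_lit 612, nat_lit 139, nat_lit 612, nat_lit 96, nat_lit 96, nat_lit 526, nat_lit 569, nat_lit 139, nat_lit 569, nat_lit 96, nat_lit 612, nat_lit 139, nat_lit 612, nat_lit 96, nat_lit 96, nat_lit 397] 430 0)))) (.node (nat_lit 2) (.node (nat_lit 1) (.leaf (Rule.fwd [nat_lit 354, nat_lit 268, nat_lit 397, nat_lit 311, nat_lit 397, nat_lit 10, nat_lit 440, nat_lit 10, nat_lit 440, nat_lit 483, nat_lit 440, nat_lit 53, nat_lit 440, nat_lit 53] 391 1)) (.leaf (Rule.fwd [nat_lit 655, nat_lit 655, nat_lit 526, nat_lit 397] 418 4))) (.node (nat_lit 1) (.leaf (Rule.fwd [nat_lit 354, nat_lit 311, nat_lit 526, nat_lit 354, nat_lit 311] 407 0)) (.leaf (Rule.fwd [nat_lit 569, nat_lit 139, nat_lit 569, nat_lit 96, nat_lit 612, nat_lit 139, nat_lit 612, nat_lit 526, nat_lit 569, nat_lit 96, nat_lit 569, nat_lit 139, nat_lit 612, nat_lit 96, nat_lit 612] 424 0))))) (.node (nat_lit 4) (.node (nat_lit 2) (.node (nat_lit 1) (.leaf (Rule.fwd [nat_lit 397, nat_lit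 655, nat_lit 526, nat_lit 655] 420 3)) (.leaf (Rule.fwd [nat_lit 569, nat_lit 139, nat_lit 569, nat_lit 96, nat_lit 612, nat_lit 139, nat_lit 612, nat_lit 96, nat_lit 96, nat_lit 397, nat_lit 526, nat_lit 569, nat_lit 139, nat_lit 569, nat_lit 96, nat_lit 612, nat_lit 139, nat_lit 612, nat_lit 96, nat_lit 96, nat_lit 526, nat_lit 569, nat_lit 139, nat_lit 569, nat_lit 96, nat_lit 612, nat_lit 139, nat_lit 612, nat_lit 96, nat_lit 96] 430 20))) (.node (nat_lit 1) (.leaf (Rule.fwd [nat_lit 569, nat_lit 397, nat_lit 268, nat_lit 397, nat_lit 354, nat_lit 311, nat_lit 354, nat_lit 311, nat_lit 612, nat_lit 526, nat_lit 569, nat_lit 354, nat_lit 311, nat_lit 268, nat_lit 397, nat_lit 354, nat_lit 311, nat_lit 397, nat_lit 612] 427 11)) (.leaf (Rule.fwd [nat_lit 698, nat_lit 397, nat_lit 526, nat_lit 698] 421 2)))) (.node (nat_lit 2) (.node (nat_lit 1) (.leaf (Rule.fwd [nat_lit 397, nat_lit 526, nat_lit 655, nat_lit 655] 418 2)) (.leaf (Rule.fwd [nat_lit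 397, nat_lit 526, nat_lit 698, nat_lit 698] 419 0))) (.node (nat_lit 1) (.leaf (Rule.fwd [nat_lit 698, nat_lit 526, nat_lit 698, nat_lit 397] 421 4)) (.leaf (Rule.fwd [nat_lit 569, nat_lit 354, nat_lit 311, nat_lit 268, nat_lit 397, nat_lit 354, nat_lit 311, nat_lit 397, nat_lit 612, nat_lit 526, nat_lit 569, nat_lit 397, nat_lit 268, nat_lit 397, nat_lit 354, nat_lit 311, nat_lit 354, nat_lit 311, nat_lit 612] 427 1))))))) (.node (nat_lit 4) (.node (nat_lit 2) (.node (nat_lit 1) (.leaf (Rule.fwd [nat_lit 569, nat_lit 139, nat_lit 569, nat_lit 96, nat_lit 612, nat_lit 139, nat_lit 612, nat_lit 96, nat_lit 96, nat_lit 526, nat_lit 569, nat_lit 139, nat_lit 569, nat_lit 96, nat_lit 612, nat_lit 139, nat_lit 612, nat_lit 96, nat_lit 96, nat_lit 397, nat_lit 526, nat_lit 569, nat_lit 139, nat_lit 569, nat_lit 96, nat_lit 612, nat_lit 139, nat_lit 612, nat_lit 96, nat_lit 96] 430 10)) (.leaf (Rule.fwd [nat_lit 569, nat_lit 311, nat_lit 354, nat_lit 311,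 nat_lit 354, nat_lit 397, nat_lit 268, nat_lit 397, nat_lit 569, nat_lit 139, nat_lit 569, nat_lit 96, nat_lit 612, nat_lit 139, nat_lit 612, nat_lit 612, nat_lit 526, nat_lit 569, nat_lit 311, nat_lit 354, nat_lit 311, nat_lit 354, nat_lit 397, nat_lit 268, nat_lit 397, nat_lit 569, nat_lit 139, nat_lit 569, nat_lit 96, nat_lit 612, nat_lit 139, nat_lit 612, nat_lit 612, nat_lit 526, nat_lit 569, nat_lit 311, nat_lit 354, nat_lit 311, nat_lit 354, nat_lit 397, nat_lit 268, nat_lit 397, nat_lit 569, nat_lit 139, nat_lit 569, nat_lit 96, nat_lit 612, nat_lit 139, nat_lit 612, nat_lit 612] 428 0))) (.node (nat_lit 1) (.leaf (Rule.fwd [nat_lit 397, nat_lit 698, nat_lit 526, nat_lit 698] 423 0)) (.leaf (Rule.fwd [nat_lit 698, nat_lit 526, nat_lit 397, nat_lit 698] 423 2)))) (.node (nat_lit 2) (.node (nat_lit 1) (.leaf (Rule.fwd [nat_lit 655, nat_lit 526, nat_lit 655, nat_lit 397] 422 4)) (.leaf (Rule.fwd [nat_lit 139, nat_lit 139, nat_lit 569, nat_lit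 96, nat_lit 569, nat_lit 139, nat_lit 612, nat_lit 96, nat_lit 612, nat_lit 526, nat_lit 139, nat_lit 139, nat_lit 569, nat_lit 96, nat_lit 569, nat_lit 139, nat_lit 612, nat_lit 96, nat_lit 612, nat_lit 526, nat_lit 397, nat_lit 139, nat_lit 139, nat_lit 569, nat_lit 96, nat_lit 569, nat_lit 139, nat_lit 612, nat_lit 96, nat_lit 612] 431 21))) (.node (nat_lit 1) (.leaf (Rule.fwd [nat_lit 655, nat_lit 397, nat_lit 526, nat_lit 655] 422 1)) (.leaf (Rule.fwd [nat_lit 139, nat_lit 139, nat_lit 569, nat_lit 96, nat_lit 569, nat_lit 139, nat_lit 612, nat_lit 96, nat_lit 612, nat_lit 526, nat_lit 397, nat_lit 139, nat_lit 139, nat_lit 569, nat_lit 96, nat_lit 569, nat_lit 139, nat_lit 612, nat_lit 96, nat_lit 612, nat_lit 526, nat_lit 139, nat_lit 139, nat_lit 569, nat_lit 96, nat_lit 569, nat_lit 139, nat_lit 612, nat_lit 96, nat_lit 612] 431 11)))))), (.node (nat_lit 32) (.node (nat_lit 16) (.node (nat_lit 8) (.node (nat_lit 4) (.node (nat_lit 2) (.node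 (nat_lit 1) (.leaf XRule.defn) (.leaf XRule.ax)) (.node (nat_lit 1) (.leaf (XRule.rot (nat_lit 526) [526] 434 0)) (.leaf (XRule.rot (nat_lit 389561601853751) [311, 354, 526, 311, 354] 406 2)))) (.node (nat_lit 2) (.node (nat_lit 1) (.leaf (XRule.rot (nat_lit 687356602) [698, 526, 655] 400 1)) (.leaf (XRule.rot (nat_lit 732445327) [655, 526, 698] 400 3))) (.node (nat_lit 1) (.leaf (XRule.rot (nat_lit 376394317346040818308625676) [268, 397, 354, 311, 526, 268, 397, 354, 311] 405 0)) (.leaf (XRule.rot (nat_lit 426827726479) [655, 655, 526, 397] 418 4))))) (.node (nat_lit 4) (.node (nat_lit 2) (.node (nat_lit 1) (.leaf (XRule.rot (nat_lit 703853116813) [397, 655, 526, 655] 420 3)) (.leaf (XRule.rot (nat_lit 67357619664023758375993531793418) [10, 96, 10, 139, 10, 526, 53, 96, 53, 139, 53] 394 0))) (.node (nat_lit 1) (.leaf (XRule.rot (nat_lit 482196580393113294758884789360156224184330) [10, 440, 10, 440, 483, 440, 53, 440, 53, 397, 311, 397, 268, 354]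 390 0)) (.leaf (XRule.rot (nat_lit 342328772713826) [354, 311, 526, 354, 311] 407 0)))) (.node (nat_lit 2) (.node (nat_lit 1) (.leaf (XRule.rot (nat_lit 324461223015091564256266551) [311, 354, 397, 268, 526, 311, 354, 397, 268] 404 4)) (.leaf (XRule.rot (nat_lit 416823693) [397, 526, 397] 408 0))) (.node (nat_lit 1) (.leaf (XRule.rot (nat_lit 371734882) [354, 526, 354] 392 0)) (.leaf (XRule.rot (nat_lit 938417514417515295349526418255683516076492596753920745017) [569, 311, 354, 311, 354, 397, 268, 397, 612, 526, 569, 397, 311, 354, 397, 268, 311, 354, 612] 426 0)))))) (.node (nat_lit 8) (.node (nat_lit 4) (.node (nat_lit 2) (.node (nat_lit 1) (.leaf (XRule.rot (nat_lit 853193514452674387876472751872436149467316793) [569, 96, 569, 139, 612, 96, 612, 526, 569, 139, 569, 96, 612, 139, 612] 424 8)) (.leaf (XRule.rot (nat_lit 853134985941381124458584759223722550035099193) [569, 139, 569, 96, 612, 139, 612, 526, 569, 96, 569, 139, 612, 96, 612] 424 0)))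 (.node (nat_lit 1) (.leaf (XRule.rot (nat_lit 72724791461682413903848789044337793315170) [354, 268, 397, 311, 397, 10, 440, 10, 440, 483, 440, 53, 440, 53] 391 1)) (.leaf (XRule.rot (nat_lit 12848591870350075105161732259893) [53, 96, 53, 139, 53, 526, 10, 96, 10, 139, 10] 394 6)))) (.node (nat_lit 2) (.node (nat_lit 1) (.leaf (XRule.rot (nat_lit 938481804597094805072821112789493002790779931435776489017) [569, 397, 311, 354, 397, 268, 311, 354, 612, 526, 569, 311, 354, 311, 354, 397, 268, 397, 612] 426 10)) (.leaf (XRule.rot (nat_lit 938481867380353434182343274683189490593374049539845404217) [569, 397, 268, 397, 354, 311, 354, 311, 612, 526, 569, 354, 311, 268, 397, 354, 311, 397, 612] 427 11))) (.node (nat_lit 1) (.leaf (XRule.rot (nat_lit 703717718671) [655, 526, 397, 655] 420 1)) (.leaf (XRule.rot (nat_lit 750023751354) [698, 397, 526, 698] 421 2))))) (.node (nat_lit 4) (.node (nat_lit 2) (.node (nat_lit 1) (.leaf (XRule.rot (nat_lit 938353224483302522266103086782054912161307533237160348217)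 [569, 354, 311, 268, 397, 354, 311, 397, 612, 526, 569, 397, 268, 397, 354, 311, 354, 311, 612] 427 1)) (.leaf (XRule.rot (nat_lit 191159780301845898778314936312339165211014146073330992537784290520697219095904493566570041) [569, 139, 569, 96, 612, 139, 612, 96, 96, 526, 569, 139, 569, 96, 612, 139, 612, 96, 96, 397, 526, 569, 139, 569, 96, 612, 139, 612, 96, 96] 430 10))) (.node (nat_lit 1) (.leaf (XRule.rot (nat_lit 426827770554) [698, 698, 526, 397] 419 3)) (.leaf (XRule.rot (nat_lit 1217634940251567730377066867101954914294025240448221803616818529086872884937551649254288781) [397, 139, 139, 569, 96, 569, 139, 612, 96, 612, 526, 139, 139, 569, 96, 569, 139, 612, 96, 612, 526, 139, 139, 569, 96, 569, 139, 612, 96, 612] 431 1)))) (.node (nat_lit 2) (.node (nat_lit 1) (.leaf (XRule.rot (nat_lit 1217634940251567730377066866894525738893460364142657520385595911246716391381382881451584651) [139, 139, 569, 96, 569, 139, 612, 96, 612, 526, 139, 139, 569,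 96, 569, 139, 612, 96, 612, 526, 397, 139, 139, 569, 96, 569, 139, 612, 96, 612] 431 21)) (.leaf (XRule.rot (nat_lit 750204238221) [397, 526, 698, 698] 419 0))) (.node (nat_lit 1) (.leaf (XRule.rot (nat_lit 703988251021) [397, 526, 655, 655] 418 2)) (.leaf (XRule.rot (nat_lit 1217634940251567730377066867101954914294025240448221803616654896319797147295167683799166091) [139, 139, 569, 96, 569, 139, 612, 96, 612, 526, 397, 139, 139, 569, 96, 569, 139, 612, 96, 612, 526, 139, 139, 569, 96, 569, 139, 612, 96, 612] 431 11))))))) (.node (nat_lit 1) (.leaf (XRule.rot (nat_lit 703852852879) [655, 397, 526, 655] 422 1)) (.leaf (XRule.rot (nat_lit 789935978891692209128272708237143551515146408250934708010623023451516803811999147344670265) [569, 139, 569, 96, 612, 139, 612, 96, 96, 526, 569, 139, 569, 96, 612, 139, 612, 96, 96, 526, 569, 139, 569, 96, 612, 139, 612, 96, 96, 397] 430 0))))⟩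
noncomputable def ci569 : CI := ⟨[13], (nat_lit 612), false, (.node (nat_lit 128) (.node (nat_lit 64) (.node (nat_lit 32) (.node (nat_lit 16) (.node (nat_lit 8) (.node (nat_lit 4) (.node (nat_lit 2) (.node (nat_lit 1) (.leaf Rule.defn) (.leaf Rule.copy)) (.node (nat_lit 1) (.leaf (Rule.fwd [nat_lit 612] 434 0)) (.leaf (Rule.fwd [nat_lit 397, nat_lit 569, nat_lit 698, nat_lit 698] 272 3)))) (.node (nat_lit 2) (.node (nat_lit 1) (.leaf (Rule.fwd [nat_lit 96, nat_lit 655, nat_lit 612, nat_lit 698, nat_lit 139] 340 0)) (.leaf (Rule.fwd [nat_lit 311, nat_lit 612, nat_lit 311] 116 0))) (.node (nat_lit 1) (.leaf (Rule.fwd [nat_lit 268, nat_lit 612, nat_lit 440] 114 0)) (.leaf (Rule.fwd [nat_lit 569, nat_lit 569] 106 0))))) (.node (nat_lit 4) (.node (nat_lit 2) (.node (nat_lit 1) (.leaf (Rule.fwd [nat_lit 354, nat_lit 268, nat_lit 612, nat_lit 440, nat_lit 354] 182 0)) (.leaf (Rule.fwd [nat_lit 569, nat_lit 397, nat_lit 612, nat_lit 397] 130 0))) (.node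 (nat_lit 1) (.leaf (Rule.fwd [nat_lit 698, nat_lit 139, nat_lit 612, nat_lit 96, nat_lit 655] 341 4)) (.leaf (Rule.fwd [nat_lit 440, nat_lit 96, nat_lit 440, nat_lit 612, nat_lit 96] 198 0)))) (.node (nat_lit 2) (.node (nat_lit 1) (.leaf (Rule.fwd [nat_lit 440, nat_lit 139, nat_lit 440, nat_lit 612, nat_lit 139] 199 5)) (.leaf (Rule.fwd [nat_lit 397, nat_lit 440, nat_lit 569, nat_lit 397, nat_lit 268] 186 3))) (.node (nat_lit 1) (.leaf (Rule.fwd [nat_lit 53, nat_lit 612, nat_lit 10] 108 1)) (.leaf (Rule.fwd [nat_lit 10, nat_lit 612, nat_lit 53] 109 0)))))) (.node (nat_lit 8) (.node (nat_lit 4) (.node (nat_lit 2) (.node (nat_lit 1) (.leaf (Rule.fwd [nat_lit 225, nat_lit 612, nat_lit 182] 253 3)) (.leaf (Rule.fwd [nat_lit 268, nat_lit 311, nat_lit 612, nat_lit 440, nat_lit 311] 194 0))) (.node (nat_lit 1) (.leaf (Rule.fwd [nat_lit 655, nat_lit 139, nat_lit 569, nat_lit 96, nat_lit 698] 342 3)) (.leaf (Rule.fwd [nat_lit 354, nat_lit 569, nat_lit 354,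 nat_lit 569] 128 1)))) (.node (nat_lit 2) (.node (nat_lit 1) (.leaf (Rule.fwd [nat_lit 569, nat_lit 440, nat_lit 569, nat_lit 268] 134 0)) (.leaf (Rule.fwd [nat_lit 354, nat_lit 311, nat_lit 612, nat_lit 311, nat_lit 354] 184 0))) (.node (nat_lit 1) (.leaf (Rule.fwd [nat_lit 354, nat_lit 612, nat_lit 354] 110 0)) (.leaf (Rule.fwd [nat_lit 225, nat_lit 53, nat_lit 612, nat_lit 10, nat_lit 182] 324 2))))) (.node (nat_lit 4) (.node (nat_lit 2) (.node (nat_lit 1) (.leaf (Rule.fwd [nat_lit 182, nat_lit 53, nat_lit 612, nat_lit 10, nat_lit 225] 328 2)) (.leaf (Rule.fwd [nat_lit 311, nat_lit 182, nat_lit 612, nat_lit 225, nat_lit 311] 353 4))) (.node (nat_lit 1) (.leaf (Rule.fwd [nat_lit 311, nat_lit 225, nat_lit 612, nat_lit 182, nat_lit 311] 349 4)) (.leaf (Rule.fwd [nat_lit 311, nat_lit 569, nat_lit 569, nat_lit 311] 132 3)))) (.node (nat_lit 2) (.node (nat_lit 1) (.leaf (Rule.fwd [nat_lit 311, nat_lit 354, nat_lit 569, nat_lit 569, nat_lit 311, nat_lit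 354] 410 4)) (.leaf (Rule.fwd [nat_lit 397, nat_lit 440, nat_lit 569, nat_lit 268, nat_lit 397] 190 0))) (.node (nat_lit 1) (.leaf (Rule.fwd [nat_lit 440, nat_lit 397, nat_lit 569, nat_lit 440, nat_lit 397] 202 0)) (.leaf (Rule.fwd [nat_lit 397, nat_lit 612, nat_lit 397, nat_lit 569] 130 1))))))) (.node (nat_lit 16) (.node (nat_lit 8) (.node (nat_lit 4) (.node (nat_lit 2) (.node (nat_lit 1) (.leaf (Rule.fwd [nat_lit 53, nat_lit 612, nat_lit 698, nat_lit 10, nat_lit 655] 321 2)) (.leaf (Rule.fwd [nat_lit 10, nat_lit 612, nat_lit 698, nat_lit 53, nat_lit 655] 320 5))) (.node (nat_lit 1) (.leaf (Rule.fwd [nat_lit 440, nat_lit 612, nat_lit 397, nat_lit 440, nat_lit 397] 196 0)) (.leaf (Rule.fwd [nat_lit 354, nat_lit 10, nat_lit 354, nat_lit 612, nat_lit 10] 144 1)))) (.node (nat_lit 2) (.node (nat_lit 1) (.leaf (Rule.fwd [nat_lit 311, nat_lit 53, nat_lit 311, nat_lit 612, nat_lit 10] 148 1)) (.leaf (Rule.fwd [nat_lit 53, nat_lit 612, nat_lit 655, nat_lit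 10, nat_lit 698] 319 2))) (.node (nat_lit 1) (.leaf (Rule.fwd [nat_lit 10, nat_lit 612, nat_lit 655, nat_lit 53, nat_lit 698] 318 5)) (.leaf (Rule.fwd [nat_lit 182, nat_lit 612, nat_lit 655, nat_lit 225, nat_lit 698] 344 0))))) (.node (nat_lit 4) (.node (nat_lit 2) (.node (nat_lit 1) (.leaf (Rule.fwd [nat_lit 182, nat_lit 612, nat_lit 225] 252 0)) (.leaf (Rule.fwd [nat_lit 397, nat_lit 569, nat_lit 397] 112 0))) (.node (nat_lit 1) (.leaf (Rule.fwd [nat_lit 354, nat_lit 397, nat_lit 569, nat_lit 397, nat_lit 354] 180 0)) (.leaf (Rule.fwd [nat_lit 182, nat_lit 612, nat_lit 698, nat_lit 225, nat_lit 655] 346 0)))) (.node (nat_lit 2) (.node (nat_lit 1) (.leaf (Rule.fwd [nat_lit 655, nat_lit 655, nat_lit 569, nat_lit 655, nat_lit 655] 358 0)) (.leaf (Rule.fwd [nat_lit 53, nat_lit 268, nat_lit 612, nat_lit 440, nat_lit 10] 142 1))) (.node (nat_lit 1) (.leaf (Rule.fwd [nat_lit 268, nat_lit 10, nat_lit 612, nat_lit 53, nat_lit 440] 143 5)) (.leaf (Rule.fwd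 [nat_lit 10, nat_lit 268, nat_lit 612, nat_lit 440, nat_lit 53] 168 5)))))) (.node (nat_lit 8) (.node (nat_lit 4) (.node (nat_lit 2) (.node (nat_lit 1) (.leaf (Rule.fwd [nat_lit 268, nat_lit 53, nat_lit 612, nat_lit 10, nat_lit 440] 169 3)) (.leaf (Rule.fwd [nat_lit 225, nat_lit 10, nat_lit 612, nat_lit 53, nat_lit 182] 311 5))) (.node (nat_lit 1) (.leaf (Rule.fwd [nat_lit 182, nat_lit 10, nat_lit 612, nat_lit 53, nat_lit 225] 313 5)) (.leaf (Rule.fwd [nat_lit 53, nat_lit 182, nat_lit 612, nat_lit 225, nat_lit 10] 310 1)))) (.node (nat_lit 2) (.node (nat_lit 1) (.leaf (Rule.fwd [nat_lit 10, nat_lit 225, nat_lit 612, nat_lit 182, nat_lit 53] 329 0)) (.leaf (Rule.fwd [nat_lit 182, nat_lit 311, nat_lit 612, nat_lit 311, nat_lit 225] 348 0))) (.node (nat_lit 1) (.leaf (Rule.fwd [nat_lit 225, nat_lit 311, nat_lit 612, nat_lit 311, nat_lit 182] 352 0)) (.leaf (Rule.fwd [nat_lit 53, nat_lit 612, nat_lit 397, nat_lit 10, nat_lit 397] 153 2))))) (.node (nat_lit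 4) (.node (nat_lit 2) (.node (nat_lit 1) (.leaf (Rule.fwd [nat_lit 10, nat_lit 612, nat_lit 397, nat_lit 53, nat_lit 397] 152 5)) (.leaf (Rule.fwd [nat_lit 440, nat_lit 569, nat_lit 268, nat_lit 569] 134 1))) (.node (nat_lit 1) (.leaf (Rule.fwd [nat_lit 139, nat_lit 612, nat_lit 96, nat_lit 612, nat_lit 526, nat_lit 569, nat_lit 139, nat_lit 569, nat_lit 96, nat_lit 612, nat_lit 139, nat_lit 612, nat_lit 526, nat_lit 569, nat_lit 96] 424 11)) (.leaf (Rule.fwd [nat_lit 397, nat_lit 354, nat_lit 569, nat_lit 354, nat_lit 397] 180 3)))) (.node (nat_lit 2) (.node (nat_lit 1) (.leaf (Rule.fwd [nat_lit 397, nat_lit 569, nat_lit 655, nat_lit 655] 270 3)) (.leaf (Rule.fwd [nat_lit 10, nat_lit 612, nat_lit 311, nat_lit 53, nat_lit 311] 154 5))) (.node (nat_lit 1) (.leaf (Rule.fwd [nat_lit 53, nat_lit 612, nat_lit 311, nat_lit 10, nat_lit 311] 155 2)) (.leaf (Rule.fwd [nat_lit 698, nat_lit 53, nat_lit 655, nat_lit 612, nat_lit 10] 316 1)))))))) (.node (nat_lit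 32) (.node (nat_lit 16) (.node (nat_lit 8) (.node (nat_lit 4) (.node (nat_lit 2) (.node (nat_lit 1) (.leaf (Rule.fwd [nat_lit 698, nat_lit 10, nat_lit 655, nat_lit 612, nat_lit 53] 317 0)) (.leaf (Rule.fwd [nat_lit 311, nat_lit 569, nat_lit 311, nat_lit 569] 132 1))) (.node (nat_lit 1) (.leaf (Rule.fwd [nat_lit 96, nat_lit 698, nat_lit 569, nat_lit 655, nat_lit 139] 342 0)) (.leaf (Rule.fwd [nat_lit 655, nat_lit 655, nat_lit 569, nat_lit 397] 270 0)))) (.node (nat_lit 2) (.node (nat_lit 1) (.leaf (Rule.fwd [nat_lit 53, nat_lit 612, nat_lit 53, nat_lit 53] 119 0)) (.leaf (Rule.fwd [nat_lit 397, nat_lit 53, nat_lit 397, nat_lit 612, nat_lit 10] 146 1))) (.node (nat_lit 1) (.leaf (Rule.fwd [nat_lit 397, nat_lit 10, nat_lit 397, nat_lit 612, nat_lit 53] 147 0)) (.leaf (Rule.fwd [nat_lit 311, nat_lit 10, nat_lit 311, nat_lit 612, nat_lit 53] 149 0))))) (.node (nat_lit 4) (.node (nat_lit 2) (.node (nat_lit 1) (.leaf (Rule.fwd [nat_lit 397, nat_lit 311,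 nat_lit 569, nat_lit 311, nat_lit 397] 188 0)) (.leaf (Rule.fwd [nat_lit 569, nat_lit 311, nat_lit 569, nat_lit 311] 132 0))) (.node (nat_lit 1) (.leaf (Rule.fwd [nat_lit 225, nat_lit 569, nat_lit 569, nat_lit 182] 266 3)) (.leaf (Rule.fwd [nat_lit 268, nat_lit 397, nat_lit 569, nat_lit 397, nat_lit 440] 190 3)))) (.node (nat_lit 2) (.node (nat_lit 1) (.leaf (Rule.fwd [nat_lit 10, nat_lit 10, nat_lit 612, nat_lit 10] 120 4)) (.leaf (Rule.fwd [nat_lit 354, nat_lit 612, nat_lit 268, nat_lit 354, nat_lit 268] 178 0))) (.node (nat_lit 1) (.leaf (Rule.fwd [nat_lit 397, nat_lit 182, nat_lit 569, nat_lit 225, nat_lit 397] 354 3)) (.leaf (Rule.fwd [nat_lit 397, nat_lit 225, nat_lit 569, nat_lit 182, nat_lit 397] 350 3)))))) (.node (nat_lit 8) (.node (nat_lit 4) (.node (nat_lit 2) (.node (nat_lit 1) (.leaf (Rule.fwd [nat_lit 354, nat_lit 569, nat_lit 569, nat_lit 354] 128 3)) (.leaf (Rule.fwd [nat_lit 354, nat_lit 53, nat_lit 354, nat_lit 612, nat_lit 53]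 145 0))) (.node (nat_lit 1) (.leaf (Rule.fwd [nat_lit 397, nat_lit 268, nat_lit 569, nat_lit 397, nat_lit 440] 186 0)) (.leaf (Rule.fwd [nat_lit 440, nat_lit 268, nat_lit 440, nat_lit 612, nat_lit 440] 204 0)))) (.node (nat_lit 2) (.node (nat_lit 1) (.leaf (Rule.fwd [nat_lit 311, nat_lit 268, nat_lit 612, nat_lit 311, nat_lit 440] 195 4)) (.leaf (Rule.fwd [nat_lit 10, nat_lit 612, nat_lit 10, nat_lit 10] 118 2))) (.node (nat_lit 1) (.leaf (Rule.fwd [nat_lit 569, nat_lit 311, nat_lit 354, nat_lit 569, nat_lit 311, nat_lit 354] 410 0)) (.leaf (Rule.fwd [nat_lit 397, nat_lit 311, nat_lit 354, nat_lit 397, nat_lit 268, nat_lit 311, nat_lit 354, nat_lit 612, nat_lit 526, nat_lit 569, nat_lit 311, nat_lit 354, nat_lit 311, nat_lit 354, nat_lit 397, nat_lit 268, nat_lit 397, nat_lit 612, nat_lit 526] 426 11))))) (.node (nat_lit 4) (.node (nat_lit 2) (.node (nat_lit 1) (.leaf (Rule.fwd [nat_lit 311, nat_lit 397, nat_lit 569, nat_lit 397, nat_lit 311] 188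 3)) (.leaf (Rule.fwd [nat_lit 698, nat_lit 698, nat_lit 569, nat_lit 698, nat_lit 698] 362 0))) (.node (nat_lit 1) (.leaf (Rule.fwd [nat_lit 655, nat_lit 225, nat_lit 698, nat_lit 612, nat_lit 182] 357 5)) (.leaf (Rule.fwd [nat_lit 53, nat_lit 225, nat_lit 612, nat_lit 182, nat_lit 10] 312 1)))) (.node (nat_lit 2) (.node (nat_lit 1) (.leaf (Rule.fwd [nat_lit 10, nat_lit 182, nat_lit 612, nat_lit 225, nat_lit 53] 325 0)) (.leaf (Rule.fwd [nat_lit 698, nat_lit 698, nat_lit 569, nat_lit 397] 272 0))) (.node (nat_lit 1) (.leaf (Rule.fwd [nat_lit 311, nat_lit 354, nat_lit 612, nat_lit 311, nat_lit 354] 396 0)) (.leaf (Rule.fwd [nat_lit 698, nat_lit 182, nat_lit 655, nat_lit 612, nat_lit 225] 360 0))))))) (.node (nat_lit 16) (.node (nat_lit 8) (.node (nat_lit 4) (.node (nat_lit 2) (.node (nat_lit 1) (.leaf (Rule.fwd [nat_lit 225, nat_lit 569, nat_lit 182, nat_lit 569] 268 1)) (.leaf (Rule.fwd [nat_lit 182, nat_lit 569, nat_lit 225, nat_lit 569] 266 1)))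 (.node (nat_lit 1) (.leaf (Rule.fwd [nat_lit 655, nat_lit 182, nat_lit 698, nat_lit 612, nat_lit 225] 356 0)) (.leaf (Rule.fwd [nat_lit 569, nat_lit 182, nat_lit 569, nat_lit 225] 266 0)))) (.node (nat_lit 2) (.node (nat_lit 1) (.leaf (Rule.fwd [nat_lit 655, nat_lit 53, nat_lit 698, nat_lit 612, nat_lit 10] 314 1)) (.leaf (Rule.fwd [nat_lit 655, nat_lit 10, nat_lit 698, nat_lit 612, nat_lit 53] 315 0))) (.node (nat_lit 1) (.leaf (Rule.fwd [nat_lit 268, nat_lit 569, nat_lit 569, nat_lit 440] 134 3)) (.leaf (Rule.fwd [nat_lit 182, nat_lit 397, nat_lit 569, nat_lit 397, nat_lit 225] 350 0))))) (.node (nat_lit 4) (.node (nat_lit 2) (.node (nat_lit 1) (.leaf (Rule.fwd [nat_lit 225, nat_lit 397, nat_lit 569, nat_lit 397, nat_lit 182] 354 0)) (.leaf (Rule.fwd [nat_lit 397, nat_lit 612, nat_lit 612, nat_lit 397] 131 4))) (.node (nat_lit 1) (.leaf (Rule.fwd [nat_lit 182, nat_lit 569, nat_lit 569, nat_lit 225] 268 3)) (.leaf (Rule.fwd [nat_lit 397, nat_lit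 440, nat_lit 397, nat_lit 612, nat_lit 268] 192 0)))) (.node (nat_lit 2) (.node (nat_lit 1) (.leaf (Rule.fwd [nat_lit 225, nat_lit 612, nat_lit 698, nat_lit 182, nat_lit 655] 347 3)) (.leaf (Rule.fwd [nat_lit 569, nat_lit 440, nat_lit 612, nat_lit 612, nat_lit 268] 176 0))) (.node (nat_lit 1) (.leaf (Rule.fwd [nat_lit 440, nat_lit 354, nat_lit 440, nat_lit 612, nat_lit 354] 200 0)) (.leaf (Rule.fwd [nat_lit 311, nat_lit 354, nat_lit 311, nat_lit 354, nat_lit 397, nat_lit 268, nat_lit 397, nat_lit 612, nat_lit 526, nat_lit 569, nat_lit 397, nat_lit 311, nat_lit 354, nat_lit 397, nat_lit 268, nat_lit 311, nat_lit 354, nat_lit 612, nat_lit 526] 426 1)))))) (.node (nat_lit 8) (.node (nat_lit 4) (.node (nat_lit 2) (.node (nat_lit 1) (.leaf (Rule.fwd [nat_lit 10, nat_lit 612, nat_lit 354, nat_lit 10, nat_lit 354] 150 5)) (.leaf (Rule.fwd [nat_lit 569, nat_lit 225, nat_lit 569, nat_lit 182] 268 0))) (.node (nat_lit 1) (.leaf (Rule.fwd [nat_lit 53, nat_lit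 612, nat_lit 354, nat_lit 53, nat_lit 354] 151 2)) (.leaf (Rule.fwd [nat_lit 397, nat_lit 268, nat_lit 397, nat_lit 354, nat_lit 311, nat_lit 354, nat_lit 311, nat_lit 612, nat_lit 526, nat_lit 569, nat_lit 354, nat_lit 311, nat_lit 268, nat_lit 397, nat_lit 354, nat_lit 311, nat_lit 397, nat_lit 612, nat_lit 526] 427 10)))) (.node (nat_lit 2) (.node (nat_lit 1) (.leaf (Rule.fwd [nat_lit 440, nat_lit 311, nat_lit 440, nat_lit 612, nat_lit 311] 206 0)) (.leaf (Rule.fwd [nat_lit 311, nat_lit 354, nat_lit 569, nat_lit 311, nat_lit 354, nat_lit 569] 410 1))) (.node (nat_lit 1) (.leaf (Rule.fwd [nat_lit 440, nat_lit 612, nat_lit 612, nat_lit 268, nat_lit 569] 176 1)) (.leaf (Rule.fwd [nat_lit 698, nat_lit 225, nat_lit 655, nat_lit 612, nat_lit 182] 361 5))))) (.node (nat_lit 4) (.node (nat_lit 2) (.node (nat_lit 1) (.leaf (Rule.fwd [nat_lit 268, nat_lit 354, nat_lit 612, nat_lit 354, nat_lit 440] 183 4)) (.leaf (Rule.fwd [nat_lit 225, nat_lit 612, nat_lit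 655, nat_lit 182, nat_lit 698] 345 3))) (.node (nat_lit 1) (.leaf (Rule.fwd [nat_lit 354, nat_lit 311, nat_lit 612, nat_lit 354, nat_lit 311] 397 4)) (.leaf (Rule.fwd [nat_lit 569, nat_lit 354, nat_lit 569, nat_lit 354] 128 0)))) (.node (nat_lit 2) (.node (nat_lit 1) (.leaf (Rule.fwd [nat_lit 569, nat_lit 96, nat_lit 569, nat_lit 139, nat_lit 612, nat_lit 96, nat_lit 612, nat_lit 397, nat_lit 268, nat_lit 397, nat_lit 354, nat_lit 311, nat_lit 354, nat_lit 311, nat_lit 612, nat_lit 526, nat_lit 569, nat_lit 569, nat_lit 96, nat_lit 569, nat_lit 139, nat_lit 612, nat_lit 96, nat_lit 612, nat_lit 397, nat_lit 268, nat_lit 397, nat_lit 354, nat_lit 311, nat_lit 354, nat_lit 311, nat_lit 612, nat_lit 526, nat_lit 569, nat_lit 569, nat_lit 96, nat_lit 569, nat_lit 139, nat_lit 612, nat_lit 96, nat_lit 612, nat_lit 397, nat_lit 268, nat_lit 397, nat_lit 354, nat_lit 311, nat_lit 354, nat_lit 311, nat_lit 612, nat_lit 526] 429 0)) (.leaf (Rule.fwd [nat_lit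 53, nat_lit 53, nat_lit 612, nat_lit 53] 121 3))) (.node (nat_lit 1) (.leaf (Rule.fwd [nat_lit 311, nat_lit 354, nat_lit 612, nat_lit 354, nat_lit 311] 185 4)) (.leaf (Rule.fwd [nat_lit 354, nat_lit 311, nat_lit 268, nat_lit 397, nat_lit 354, nat_lit 311, nat_lit 397, nat_lit 612, nat_lit 526, nat_lit 569, nat_lit 397, nat_lit 268, nat_lit 397, nat_lit 354, nat_lit 311, nat_lit 354, nat_lit 311, nat_lit 612, nat_lit 526] 427 0))))))))) (.node (nat_lit 1) (.leaf (Rule.fwd [nat_lit 96, nat_lit 569, nat_lit 139, nat_lit 612, nat_lit 96, nat_lit 612, nat_lit 526, nat_lit 569, nat_lit 139, nat_lit 569, nat_lit 96, nat_lit 612, nat_lit 139, nat_lit 612, nat_lit 526] 424 9)) (.leaf (Rule.fwd [nat_lit 139, nat_lit 569, nat_lit 96, nat_lit 612, nat_lit 139, nat_lit 612, nat_lit 526, nat_lit 569, nat_lit 96, nat_lit 569, nat_lit 139, nat_lit 612, nat_lit 96, nat_lit 612, nat_lit 526] 424 1)))), (.node (nat_lit 64) (.node (nat_lit 32) (.node (nat_lit 16) (.node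 (nat_lit 8) (.node (nat_lit 4) (.node (nat_lit 2) (.node (nat_lit 1) (.leaf XRule.defn) (.leaf XRule.defn)) (.node (nat_lit 1) (.leaf (XRule.rot (nat_lit 153489707773368) [440, 139, 440, 612, 139] 199 5)) (.leaf (XRule.rot (nat_lit 612) [612] 434 0)))) (.node (nat_lit 2) (.node (nat_lit 1) (.leaf (XRule.rot (nat_lit 288359899705) [569, 440, 569, 268] 134 0)) (.leaf (XRule.rot (nat_lit 191467745) [225, 612, 182] 253 3))) (.node (nat_lit 1) (.leaf (XRule.rot (nat_lit 436978979541432) [440, 612, 397, 440, 397] 196 0)) (.leaf (XRule.rot (nat_lit 462000396) [268, 612, 440] 114 0))))) (.node (nat_lit 4) (.node (nat_lit 2) (.node (nat_lit 1) (.leaf (XRule.rot (nat_lit 295049502495074) [354, 612, 268, 354, 268] 178 0)) (.leaf (XRule.rot (nat_lit 389561691987298) [354, 311, 612, 311, 354] 184 0))) (.node (nat_lit 1) (.leaf (XRule.rot (nat_lit 326734135) [311, 612, 311] 116 0)) (.leaf (XRule.rot (nat_lit 583225) [569, 569] 106 0)))) (.node (nat_lit 2) (.node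 (nat_lit 1) (.leaf (XRule.rot (nat_lit 389653988783458) [354, 397, 569, 397, 354] 180 0)) (.leaf (XRule.rot (nat_lit 767562792185487) [655, 139, 569, 96, 698] 342 3))) (.node (nat_lit 1) (.leaf (XRule.rot (nat_lit 106210707734968) [440, 96, 440, 612, 96] 198 0)) (.leaf (XRule.rot (nat_lit 334530666041) [569, 311, 569, 311] 132 0)))))) (.node (nat_lit 8) (.node (nat_lit 4) (.node (nat_lit 2) (.node (nat_lit 1) (.leaf (XRule.rot (nat_lit 436840646892941) [397, 311, 569, 311, 397] 188 0)) (.leaf (XRule.rot (nat_lit 720283837279930) [698, 139, 612, 96, 655] 341 4))) (.node (nat_lit 1) (.leaf (XRule.rot (nat_lit 426917639737) [569, 397, 612, 397] 130 0)) (.leaf (XRule.rot (nat_lit 295095988838797) [397, 440, 569, 397, 268] 186 3)))) (.node (nat_lit 2) (.node (nat_lit 1) (.leaf (XRule.rot (nat_lit 153582230453344) [96, 655, 612, 698, 139] 340 0)) (.leaf (XRule.rot (nat_lit 342605707926968) [440, 311, 440, 612, 311] 206 0))) (.node (nat_lit 1) (.leaf (XRule.rot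 (nat_lit 750204282253) [397, 569, 698, 698] 272 3)) (.leaf (XRule.rot (nat_lit 389700204638562) [354, 268, 612, 440, 354] 182 0))))) (.node (nat_lit 4) (.node (nat_lit 2) (.node (nat_lit 1) (.leaf (XRule.rot (nat_lit 473043625228) [268, 569, 569, 440] 134 3)) (.leaf (XRule.rot (nat_lit 342421204688140) [268, 311, 612, 440, 311] 194 0))) (.node (nat_lit 1) (.leaf (XRule.rot (nat_lit 247724692004022) [182, 311, 612, 311, 225] 348 0)) (.leaf (XRule.rot (nat_lit 416867725) [397, 569, 397] 112 0)))) (.node (nat_lit 2) (.node (nat_lit 1) (.leaf (XRule.rot (nat_lit 767701395542198) [182, 612, 655, 225, 698] 344 0)) (.leaf (XRule.rot (nat_lit 334530929975) [311, 569, 569, 311] 132 3))) (.node (nat_lit 1) (.leaf (XRule.rot (nat_lit 436979159676344) [440, 397, 569, 440, 397] 202 0)) (.leaf (XRule.rot (nat_lit 426872859322) [698, 698, 569, 397] 272 0))))))) (.node (nat_lit 16) (.node (nat_lit 8) (.node (nat_lit 4) (.node (nat_lit 2) (.node (nat_lit 1) (.leaf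 (XRule.rot (nat_lit 342374988789047) [311, 397, 569, 397, 311] 188 3)) (.leaf (XRule.rot (nat_lit 295326662975885) [397, 440, 397, 612, 268] 192 0))) (.node (nat_lit 1) (.leaf (XRule.rot (nat_lit 484119691931959) [311, 268, 612, 311, 440] 195 4)) (.leaf (XRule.rot (nat_lit 611330876770) [354, 569, 354, 569] 128 1)))) (.node (nat_lit 2) (.node (nat_lit 1) (.leaf (XRule.rot (nat_lit 611376009613) [397, 612, 397, 569] 130 1)) (.leaf (XRule.rot (nat_lit 484211988772108) [268, 397, 569, 397, 440] 190 3))) (.node (nat_lit 1) (.leaf (XRule.rot (nat_lit 11112501) [53, 612, 10] 108 1)) (.leaf (XRule.rot (nat_lit 56201226) [10, 612, 53] 109 0))))) (.node (nat_lit 4) (.node (nat_lit 2) (.node (nat_lit 1) (.leaf (XRule.rot (nat_lit 236556470) [182, 612, 225] 252 0)) (.leaf (XRule.rot (nat_lit 720191586144309) [53, 612, 698, 10, 655] 321 2))) (.node (nat_lit 1) (.leaf (XRule.rot (nat_lit 720237757042698) [10, 612, 698, 53, 655] 320 5)) (.leaf (XRule.rot (nat_lit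 484442707866040) [440, 268, 440, 612, 440] 204 0)))) (.node (nat_lit 2) (.node (nat_lit 1) (.leaf (XRule.rot (nat_lit 371822946) [354, 612, 354] 110 0)) (.leaf (XRule.rot (nat_lit 484211988640141) [397, 268, 569, 397, 440] 186 0))) (.node (nat_lit 1) (.leaf (XRule.rot (nat_lit 720884014399119) [655, 655, 569, 655, 655] 358 0)) (.leaf (XRule.rot (nat_lit 380701828450) [354, 569, 569, 354] 128 3)))))) (.node (nat_lit 8) (.node (nat_lit 4) (.node (nat_lit 2) (.node (nat_lit 1) (.leaf (XRule.rot (nat_lit 56964517941) [53, 612, 53, 53] 119 0)) (.leaf (XRule.rot (nat_lit 767470541049909) [53, 612, 655, 10, 698] 319 2))) (.node (nat_lit 1) (.leaf (XRule.rot (nat_lit 342190350063927) [311, 182, 612, 225, 311] 353 4)) (.leaf (XRule.rot (nat_lit 10748530698) [10, 612, 10, 10] 118 2)))) (.node (nat_lit 2) (.node (nat_lit 1) (.leaf (XRule.rot (nat_lit 767516711948298) [10, 612, 655, 53, 698] 318 5)) (.leaf (XRule.rot (nat_lit 11652617480546) [354, 10, 354,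 612, 10] 144 1))) (.node (nat_lit 1) (.leaf (XRule.rot (nat_lit 380701608505) [569, 354, 569, 354] 128 0)) (.leaf (XRule.rot (nat_lit 426917859725) [397, 612, 612, 397] 131 4))))) (.node (nat_lit 4) (.node (nat_lit 2) (.node (nat_lit 1) (.leaf (XRule.rot (nat_lit 436517270556725) [53, 612, 397, 10, 397] 153 2)) (.leaf (XRule.rot (nat_lit 436563441455114) [10, 612, 397, 53, 397] 152 5))) (.node (nat_lit 1) (.leaf (XRule.rot (nat_lit 703988295053) [397, 569, 655, 655] 270 3)) (.leaf (XRule.rot (nat_lit 196017882681) [569, 225, 569, 182] 268 0)))) (.node (nat_lit 2) (.node (nat_lit 1) (.leaf (XRule.rot (nat_lit 242188737081) [569, 182, 569, 225] 266 0)) (.leaf (XRule.rot (nat_lit 611240699320) [440, 569, 268, 569] 134 1))) (.node (nat_lit 1) (.leaf (XRule.rot (nat_lit 153536014510176) [96, 698, 569, 655, 139] 342 0)) (.leaf (XRule.rot (nat_lit 483842666277132) [268, 10, 612, 53, 440] 143 5)))))))) (.node (nat_lit 32) (.node (nat_lit 16) (.node (nat_lit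 8) (.node (nat_lit 4) (.node (nat_lit 2) (.node (nat_lit 1) (.leaf (XRule.rot (nat_lit 483796495422732) [268, 53, 612, 10, 440] 169 3)) (.leaf (XRule.rot (nat_lit 768209185335994) [698, 698, 569, 698, 698] 362 0))) (.node (nat_lit 1) (.leaf (XRule.rot (nat_lit 720422440636598) [182, 612, 698, 225, 655] 346 0)) (.leaf (XRule.rot (nat_lit 11468204683317) [53, 268, 612, 440, 10] 142 1)))) (.node (nat_lit 2) (.node (nat_lit 1) (.leaf (XRule.rot (nat_lit 58747204677642) [10, 268, 612, 440, 53] 168 5)) (.leaf (XRule.rot (nat_lit 807009077849380894277105308173890446517125228070092245303) [311, 354, 311, 354, 397, 268, 397, 612, 526, 569, 397, 311, 354, 397, 268, 311, 354, 612, 526] 426 1))) (.node (nat_lit 1) (.leaf (XRule.rot (nat_lit 436702134109581) [397, 225, 569, 182, 397] 350 3)) (.leaf (XRule.rot (nat_lit 11652933146298) [698, 53, 655, 612, 10] 316 1))))) (.node (nat_lit 4) (.node (nat_lit 2) (.node (nat_lit 1) (.leaf (XRule.rot (nat_lit 58931933096634)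 [698, 10, 655, 612, 53] 317 0)) (.leaf (XRule.rot (nat_lit 342005351288842) [10, 612, 311, 53, 311] 154 5))) (.node (nat_lit 1) (.leaf (XRule.rot (nat_lit 341959180390453) [53, 612, 311, 10, 311] 155 2)) (.leaf (XRule.rot (nat_lit 611150521569) [225, 569, 182, 569] 268 1)))) (.node (nat_lit 2) (.node (nat_lit 1) (.leaf (XRule.rot (nat_lit 611195610294) [182, 569, 225, 569] 266 1)) (.leaf (XRule.rot (nat_lit 611285787959) [311, 569, 311, 569] 132 1))) (.node (nat_lit 1) (.leaf (XRule.rot (nat_lit 641026608640395575) [311, 354, 569, 311, 354, 569] 410 1)) (.leaf (XRule.rot (nat_lit 11652662613389) [397, 53, 397, 612, 10] 146 1)))))) (.node (nat_lit 8) (.node (nat_lit 4) (.node (nat_lit 2) (.node (nat_lit 1) (.leaf (XRule.rot (nat_lit 342144179209527) [311, 225, 612, 182, 311] 349 4)) (.leaf (XRule.rot (nat_lit 200122495456481) [225, 53, 612, 10, 182] 324 2))) (.node (nat_lit 1) (.leaf (XRule.rot (nat_lit 200168666310881) [225, 10, 612, 53, 182] 311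 5)) (.leaf (XRule.rot (nat_lit 247816988800182) [182, 397, 569, 397, 225] 350 0)))) (.node (nat_lit 2) (.node (nat_lit 1) (.leaf (XRule.rot (nat_lit 196018234593) [225, 569, 569, 182] 266 3)) (.leaf (XRule.rot (nat_lit 767655224643809) [225, 612, 655, 182, 698] 345 3))) (.node (nat_lit 1) (.leaf (XRule.rot (nat_lit 720376269738209) [225, 612, 698, 182, 655] 347 3)) (.leaf (XRule.rot (nat_lit 58516350097418) [10, 182, 612, 225, 53] 325 0))))) (.node (nat_lit 4) (.node (nat_lit 2) (.node (nat_lit 1) (.leaf (XRule.rot (nat_lit 248047933250234) [698, 182, 655, 612, 225] 360 0)) (.leaf (XRule.rot (nat_lit 200445692009697) [225, 311, 612, 311, 182] 352 0))) (.node (nat_lit 1) (.leaf (XRule.rot (nat_lit 398911126694627639) [311, 354, 569, 569, 311, 354] 410 4)) (.leaf (XRule.rot (nat_lit 389561692031287) [311, 354, 612, 311, 354] 396 0)))) (.node (nat_lit 2) (.node (nat_lit 1) (.leaf (XRule.rot (nat_lit 58931572386103) [311, 10, 311, 612, 53] 149 0)) (.leaf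 (XRule.rot (nat_lit 248047978338959) [655, 182, 698, 612, 225] 356 0))) (.node (nat_lit 1) (.leaf (XRule.rot (nat_lit 733970195193151925609897356135065310436320352) [96, 569, 139, 612, 96, 612, 526, 569, 139, 569, 96, 612, 139, 612, 526] 424 9)) (.leaf (XRule.rot (nat_lit 807009140694071165897059230885245432820364370113828499853) [397, 268, 397, 354, 311, 354, 311, 612, 526, 569, 354, 311, 268, 397, 354, 311, 397, 612, 526] 427 10))))))) (.node (nat_lit 8) (.node (nat_lit 4) (.node (nat_lit 2) (.node (nat_lit 1) (.leaf (XRule.rot (nat_lit 436748304963981) [397, 182, 569, 225, 397] 354 3)) (.leaf (XRule.rot (nat_lit 58931617518946) [354, 53, 354, 612, 53] 145 0))) (.node (nat_lit 1) (.leaf (XRule.rot (nat_lit 389284396372021) [53, 612, 354, 53, 354] 151 2)) (.leaf (XRule.rot (nat_lit 398911126469140025) [569, 311, 354, 569, 311, 354] 410 0)))) (.node (nat_lit 2) (.node (nat_lit 1) (.leaf (XRule.rot (nat_lit 436794476126605) [397, 440, 569, 268, 397]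 190 0)) (.leaf (XRule.rot (nat_lit 11652978235023) [655, 53, 698, 612, 10] 314 1))) (.node (nat_lit 1) (.leaf (XRule.rot (nat_lit 11191179248693) [53, 225, 612, 182, 10] 312 1)) (.leaf (XRule.rot (nat_lit 58931662563725) [397, 10, 397, 612, 53] 147 0))))) (.node (nat_lit 4) (.node (nat_lit 2) (.node (nat_lit 1) (.leaf (XRule.rot (nat_lit 247401495450806) [182, 53, 612, 10, 225] 328 2)) (.leaf (XRule.rot (nat_lit 11652572435767) [311, 53, 311, 612, 10] 148 1))) (.node (nat_lit 1) (.leaf (XRule.rot (nat_lit 436886817835405) [397, 354, 569, 354, 397] 180 3)) (.leaf (XRule.rot (nat_lit 389884707965368) [440, 354, 440, 612, 354] 200 0)))) (.node (nat_lit 2) (.node (nat_lit 1) (.leaf (XRule.rot (nat_lit 57550099509) [53, 53, 612, 53] 121 3)) (.leaf (XRule.rot (nat_lit 807009140632759389892069463149021119843994649295367495053) [397, 311, 354, 397, 268, 311, 354, 612, 526, 569, 311, 354, 311, 354, 397, 268, 397, 612, 526] 426 11))) (.leaf (XRule.rot (nat_lit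 807009015066242014615891027576748231083614305156501658978) [354, 311, 268, 397, 354, 311, 397, 612, 526, 569, 397, 268, 397, 354, 311, 354, 311, 612, 526] 427 0)))))))⟩
noncomputable def ci612 : CI := ⟨[14], (nat_lit 569), false, (.node (nat_lit 64) (.node (nat_lit 32) (.node (nat_lit 16) (.node (nat_lit 8) (.node (nat_lit 4) (.node (nat_lit 2) (.node (nat_lit 1) (.leaf Rule.defn) (.leaf Rule.copy)) (.node (nat_lit 1) (.leaf (Rule.fwd [nat_lit 569] 434 0)) (.leaf (Rule.fwd [nat_lit 612, nat_lit 612] 107 0)))) (.node (nat_lit 2) (.node (nat_lit 1) (.leaf (Rule.fwd [nat_lit 698, nat_lit 139, nat_lit 569, nat_lit 96, nat_lit 655] 340 3)) (.leaf (Rule.fwd [nat_lit 655, nat_lit 139, nat_lit 612, nat_lit 96, nat_lit 698] 343 4))) (.node (nat_lit 1) (.leaf (Rule.fwd [nat_lit 440, nat_lit 569, nat_lit 268] 114 2)) (.leaf (Rule.fwd [nat_lit 311, nat_lit 569, nat_lit 311] 116 2))))) (.node (nat_lit 4) (.node (nat_lit 2) (.node (nat_lit 1) (.leaf (Rule.fwd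 [nat_lit 397, nat_lit 612, nat_lit 397] 113 1)) (.leaf (Rule.fwd [nat_lit 397, nat_lit 612, nat_lit 698, nat_lit 698] 271 1))) (.node (nat_lit 1) (.leaf (Rule.fwd [nat_lit 53, nat_lit 569, nat_lit 10] 109 2)) (.leaf (Rule.fwd [nat_lit 10, nat_lit 569, nat_lit 53] 108 3)))) (.node (nat_lit 2) (.node (nat_lit 1) (.leaf (Rule.fwd [nat_lit 225, nat_lit 569, nat_lit 182] 252 2)) (.leaf (Rule.fwd [nat_lit 612, nat_lit 268, nat_lit 612, nat_lit 440] 135 2))) (.node (nat_lit 1) (.leaf (Rule.fwd [nat_lit 225, nat_lit 612, nat_lit 612, nat_lit 182] 267 4)) (.leaf (Rule.fwd [nat_lit 311, nat_lit 440, nat_lit 569, nat_lit 311, nat_lit 268] 195 1)))))) (.node (nat_lit 8) (.node (nat_lit 4) (.node (nat_lit 2) (.node (nat_lit 1) (.leaf (Rule.fwd [nat_lit 397, nat_lit 440, nat_lit 397, nat_lit 569, nat_lit 440] 196 2)) (.leaf (Rule.fwd [nat_lit 53, nat_lit 569, nat_lit 698, nat_lit 10, nat_lit 655] 317 2))) (.node (nat_lit 1) (.leaf (Rule.fwd [nat_lit 10, nat_lit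 569, nat_lit 698, nat_lit 53, nat_lit 655] 316 5)) (.leaf (Rule.fwd [nat_lit 612, nat_lit 182, nat_lit 612, nat_lit 225] 267 2)))) (.node (nat_lit 2) (.node (nat_lit 1) (.leaf (Rule.fwd [nat_lit 612, nat_lit 225, nat_lit 612, nat_lit 182] 269 2)) (.leaf (Rule.fwd [nat_lit 440, nat_lit 569, nat_lit 440, nat_lit 268, nat_lit 440] 204 4))) (.node (nat_lit 1) (.leaf (Rule.fwd [nat_lit 96, nat_lit 569, nat_lit 440, nat_lit 96, nat_lit 440] 198 4)) (.leaf (Rule.fwd [nat_lit 96, nat_lit 655, nat_lit 569, nat_lit 698, nat_lit 139] 341 1))))) (.node (nat_lit 4) (.node (nat_lit 2) (.node (nat_lit 1) (.leaf (Rule.fwd [nat_lit 440, nat_lit 311, nat_lit 569, nat_lit 268, nat_lit 311] 194 3)) (.leaf (Rule.fwd [nat_lit 268, nat_lit 397, nat_lit 612, nat_lit 440, nat_lit 397] 187 4))) (.node (nat_lit 1) (.leaf (Rule.fwd [nat_lit 182, nat_lit 569, nat_lit 225] 253 1)) (.leaf (Rule.fwd [nat_lit 225, nat_lit 569, nat_lit 698, nat_lit 182, nat_lit 655] 360 4)))) (.node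 (nat_lit 2) (.node (nat_lit 1) (.leaf (Rule.fwd [nat_lit 354, nat_lit 569, nat_lit 354] 110 2)) (.leaf (Rule.fwd [nat_lit 440, nat_lit 397, nat_lit 612, nat_lit 268, nat_lit 397] 187 1))) (.node (nat_lit 1) (.leaf (Rule.fwd [nat_lit 397, nat_lit 10, nat_lit 397, nat_lit 569, nat_lit 53] 153 0)) (.leaf (Rule.fwd [nat_lit 268, nat_lit 354, nat_lit 268, nat_lit 569, nat_lit 354] 178 2))))))) (.node (nat_lit 16) (.node (nat_lit 8) (.node (nat_lit 4) (.node (nat_lit 2) (.node (nat_lit 1) (.leaf (Rule.fwd [nat_lit 311, nat_lit 569, nat_lit 440, nat_lit 311, nat_lit 440] 206 4)) (.leaf (Rule.fwd [nat_lit 311, nat_lit 612, nat_lit 311, nat_lit 612] 133 1))) (.node (nat_lit 1) (.leaf (Rule.fwd [nat_lit 311, nat_lit 354, nat_lit 569, nat_lit 311, nat_lit 354] 396 3)) (.leaf (Rule.fwd [nat_lit 182, nat_lit 397, nat_lit 612, nat_lit 397, nat_lit 225] 351 1)))) (.node (nat_lit 2) (.node (nat_lit 1) (.leaf (Rule.fwd [nat_lit 397, nat_lit 225, nat_lit 612, nat_lit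 182, nat_lit 397] 351 4)) (.leaf (Rule.fwd [nat_lit 225, nat_lit 53, nat_lit 569, nat_lit 10, nat_lit 182] 325 3))) (.node (nat_lit 1) (.leaf (Rule.fwd [nat_lit 182, nat_lit 53, nat_lit 569, nat_lit 10, nat_lit 225] 329 3)) (.leaf (Rule.fwd [nat_lit 53, nat_lit 225, nat_lit 569, nat_lit 182, nat_lit 10] 313 2))))) (.node (nat_lit 4) (.node (nat_lit 2) (.node (nat_lit 1) (.leaf (Rule.fwd [nat_lit 10, nat_lit 182, nat_lit 569, nat_lit 225, nat_lit 53] 324 5)) (.leaf (Rule.fwd [nat_lit 440, nat_lit 53, nat_lit 569, nat_lit 10, nat_lit 268] 168 2))) (.node (nat_lit 1) (.leaf (Rule.fwd [nat_lit 225, nat_lit 311, nat_lit 569, nat_lit 311, nat_lit 182] 353 1)) (.leaf (Rule.fwd [nat_lit 440, nat_lit 10, nat_lit 569, nat_lit 53, nat_lit 268] 142 4)))) (.node (nat_lit 2) (.node (nat_lit 1) (.leaf (Rule.fwd [nat_lit 139, nat_lit 612, nat_lit 526, nat_lit 569, nat_lit 96, nat_lit 569, nat_lit 139, nat_lit 612, nat_lit 96, nat_lit 612, nat_lit 526, nat_lit 569,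 nat_lit 139, nat_lit 569, nat_lit 96] 424 5)) (.leaf (Rule.fwd [nat_lit 354, nat_lit 397, nat_lit 612, nat_lit 397, nat_lit 354] 181 1))) (.node (nat_lit 1) (.leaf (Rule.fwd [nat_lit 53, nat_lit 569, nat_lit 311, nat_lit 10, nat_lit 311] 149 2)) (.leaf (Rule.fwd [nat_lit 10, nat_lit 569, nat_lit 311, nat_lit 53, nat_lit 311] 148 5)))))) (.node (nat_lit 8) (.node (nat_lit 4) (.node (nat_lit 2) (.node (nat_lit 1) (.leaf (Rule.fwd [nat_lit 53, nat_lit 569, nat_lit 397, nat_lit 10, nat_lit 397] 147 2)) (.leaf (Rule.fwd [nat_lit 10, nat_lit 569, nat_lit 397, nat_lit 53, nat_lit 397] 146 5))) (.node (nat_lit 1) (.leaf (Rule.fwd [nat_lit 397, nat_lit 612, nat_lit 655, nat_lit 655] 273 1)) (.leaf (Rule.fwd [nat_lit 139, nat_lit 569, nat_lit 440, nat_lit 139, nat_lit 440] 199 1)))) (.node (nat_lit 2) (.node (nat_lit 1) (.leaf (Rule.fwd [nat_lit 225, nat_lit 612, nat_lit 182, nat_lit 612] 269 1)) (.leaf (Rule.fwd [nat_lit 96, nat_lit 612, nat_lit 526, nat_lit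 139, nat_lit 139, nat_lit 569, nat_lit 96, nat_lit 569, nat_lit 139, nat_lit 612, nat_lit 96, nat_lit 612, nat_lit 526, nat_lit 139, nat_lit 139, nat_lit 569, nat_lit 96, nat_lit 569, nat_lit 139, nat_lit 612, nat_lit 96, nat_lit 612, nat_lit 526, nat_lit 397, nat_lit 139, nat_lit 139, nat_lit 569, nat_lit 96, nat_lit 569, nat_lit 139] 431 24))) (.node (nat_lit 1) (.leaf (Rule.fwd [nat_lit 10, nat_lit 569, nat_lit 655, nat_lit 53, nat_lit 698] 314 5)) (.leaf (Rule.fwd [nat_lit 53, nat_lit 569, nat_lit 655, nat_lit 10, nat_lit 698] 315 2))))) (.node (nat_lit 4) (.node (nat_lit 2) (.node (nat_lit 1) (.leaf (Rule.fwd [nat_lit 655, nat_lit 655, nat_lit 612, nat_lit 655, nat_lit 655] 363 1)) (.leaf (Rule.fwd [nat_lit 53, nat_lit 569, nat_lit 53, nat_lit 53] 121 0))) (.node (nat_lit 1) (.leaf (Rule.fwd [nat_lit 397, nat_lit 53, nat_lit 397, nat_lit 569, nat_lit 10] 152 1)) (.leaf (Rule.fwd [nat_lit 96, nat_lit 698, nat_lit 612, nat_lit 655, nat_lit 139]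 343 1)))) (.node (nat_lit 2) (.node (nat_lit 1) (.leaf (Rule.fwd [nat_lit 655, nat_lit 225, nat_lit 698, nat_lit 569, nat_lit 182] 344 2)) (.leaf (Rule.fwd [nat_lit 225, nat_lit 10, nat_lit 569, nat_lit 53, nat_lit 182] 310 4))) (.node (nat_lit 1) (.leaf (Rule.fwd [nat_lit 311, nat_lit 53, nat_lit 311, nat_lit 569, nat_lit 10] 154 1)) (.leaf (Rule.fwd [nat_lit 53, nat_lit 440, nat_lit 569, nat_lit 268, nat_lit 10] 143 2)))))))) (.node (nat_lit 32) (.node (nat_lit 16) (.node (nat_lit 8) (.node (nat_lit 4) (.node (nat_lit 2) (.node (nat_lit 1) (.leaf (Rule.fwd [nat_lit 10, nat_lit 440, nat_lit 569, nat_lit 268, nat_lit 53] 169 0)) (.leaf (Rule.fwd [nat_lit 225, nat_lit 569, nat_lit 655, nat_lit 182, nat_lit 698] 356 4))) (.node (nat_lit 1) (.leaf (Rule.fwd [nat_lit 397, nat_lit 182, nat_lit 612, nat_lit 225, nat_lit 397] 355 4)) (.leaf (Rule.fwd [nat_lit 397, nat_lit 311, nat_lit 612, nat_lit 311, nat_lit 397] 189 1)))) (.node (nat_lit 2) (.node (nat_lit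 1) (.leaf (Rule.fwd [nat_lit 354, nat_lit 53, nat_lit 354, nat_lit 569, nat_lit 53] 151 0)) (.leaf (Rule.fwd [nat_lit 440, nat_lit 397, nat_lit 612, nat_lit 397, nat_lit 268] 191 4))) (.node (nat_lit 1) (.leaf (Rule.fwd [nat_lit 10, nat_lit 569, nat_lit 10, nat_lit 10] 120 2)) (.leaf (Rule.fwd [nat_lit 53, nat_lit 569, nat_lit 354, nat_lit 53, nat_lit 354] 145 2))))) (.node (nat_lit 4) (.node (nat_lit 2) (.node (nat_lit 1) (.leaf (Rule.fwd [nat_lit 397, nat_lit 569, nat_lit 397, nat_lit 612] 131 1)) (.leaf (Rule.fwd [nat_lit 698, nat_lit 698, nat_lit 612, nat_lit 698, nat_lit 698] 359 1))) (.node (nat_lit 1) (.leaf (Rule.fwd [nat_lit 397, nat_lit 569, nat_lit 569, nat_lit 397] 130 3)) (.leaf (Rule.fwd [nat_lit 698, nat_lit 53, nat_lit 655, nat_lit 569, nat_lit 10] 320 1)))) (.node (nat_lit 2) (.node (nat_lit 1) (.leaf (Rule.fwd [nat_lit 698, nat_lit 10, nat_lit 655, nat_lit 569, nat_lit 53] 321 0)) (.leaf (Rule.fwd [nat_lit 10, nat_lit 569, nat_lit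 354, nat_lit 10, nat_lit 354] 144 5))) (.node (nat_lit 1) (.leaf (Rule.fwd [nat_lit 612, nat_lit 397, nat_lit 569, nat_lit 397] 131 2)) (.leaf (Rule.fwd [nat_lit 311, nat_lit 397, nat_lit 612, nat_lit 397, nat_lit 311] 189 4)))))) (.node (nat_lit 8) (.node (nat_lit 4) (.node (nat_lit 2) (.node (nat_lit 1) (.leaf (Rule.fwd [nat_lit 354, nat_lit 311, nat_lit 569, nat_lit 311, nat_lit 354] 185 1)) (.leaf (Rule.fwd [nat_lit 354, nat_lit 569, nat_lit 440, nat_lit 354, nat_lit 440] 200 4))) (.node (nat_lit 1) (.leaf (Rule.fwd [nat_lit 397, nat_lit 440, nat_lit 612, nat_lit 397, nat_lit 440] 203 1)) (.leaf (Rule.fwd [nat_lit 354, nat_lit 311, nat_lit 612, nat_lit 612, nat_lit 354, nat_lit 311] 411 5)))) (.node (nat_lit 2) (.node (nat_lit 1) (.leaf (Rule.fwd [nat_lit 655, nat_lit 53, nat_lit 698, nat_lit 569, nat_lit 10] 318 1)) (.leaf (Rule.fwd [nat_lit 655, nat_lit 10, nat_lit 698, nat_lit 569, nat_lit 53] 319 0))) (.node (nat_lit 1) (.leaf (Rule.fwd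 [nat_lit 698, nat_lit 182, nat_lit 655, nat_lit 569, nat_lit 225] 347 1)) (.leaf (Rule.fwd [nat_lit 311, nat_lit 225, nat_lit 569, nat_lit 182, nat_lit 311] 348 3))))) (.node (nat_lit 4) (.node (nat_lit 2) (.node (nat_lit 1) (.leaf (Rule.fwd [nat_lit 311, nat_lit 182, nat_lit 569, nat_lit 225, nat_lit 311] 352 3)) (.leaf (Rule.fwd [nat_lit 612, nat_lit 268, nat_lit 569, nat_lit 569, nat_lit 440] 176 3))) (.node (nat_lit 1) (.leaf (Rule.fwd [nat_lit 182, nat_lit 10, nat_lit 569, nat_lit 53, nat_lit 225] 312 4)) (.leaf (Rule.fwd [nat_lit 354, nat_lit 311, nat_lit 569, nat_lit 354, nat_lit 311] 397 1)))) (.node (nat_lit 2) (.node (nat_lit 1) (.leaf (Rule.fwd [nat_lit 354, nat_lit 440, nat_lit 569, nat_lit 268, nat_lit 354] 183 1)) (.leaf (Rule.fwd [nat_lit 10, nat_lit 225, nat_lit 569, nat_lit 182, nat_lit 53] 328 5))) (.node (nat_lit 1) (.leaf (Rule.fwd [nat_lit 53, nat_lit 182, nat_lit 569, nat_lit 225, nat_lit 10] 311 2)) (.leaf (Rule.fwd [nat_lit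 698, nat_lit 225, nat_lit 655, nat_lit 569, nat_lit 182] 346 2))))))) (.node (nat_lit 16) (.node (nat_lit 8) (.node (nat_lit 4) (.node (nat_lit 2) (.node (nat_lit 1) (.leaf (Rule.fwd [nat_lit 311, nat_lit 10, nat_lit 311, nat_lit 569, nat_lit 53] 155 0)) (.leaf (Rule.fwd [nat_lit 311, nat_lit 354, nat_lit 569, nat_lit 354, nat_lit 311] 184 3))) (.node (nat_lit 1) (.leaf (Rule.fwd [nat_lit 225, nat_lit 397, nat_lit 612, nat_lit 397, nat_lit 182] 355 1)) (.leaf (Rule.fwd [nat_lit 397, nat_lit 268, nat_lit 612, nat_lit 440, nat_lit 397] 191 1)))) (.node (nat_lit 2) (.node (nat_lit 1) (.leaf (Rule.fwd [nat_lit 268, nat_lit 612, nat_lit 440, nat_lit 612] 135 1)) (.leaf (Rule.fwd [nat_lit 526, nat_lit 569, nat_lit 139, nat_lit 569, nat_lit 96, nat_lit 612, nat_lit 139, nat_lit 612, nat_lit 526, nat_lit 569, nat_lit 96, nat_lit 569, nat_lit 139, nat_lit 612, nat_lit 96] 424 15))) (.node (nat_lit 1) (.leaf (Rule.fwd [nat_lit 268, nat_lit 569, nat_lit 397,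 nat_lit 440, nat_lit 397] 192 4)) (.leaf (Rule.fwd [nat_lit 182, nat_lit 311, nat_lit 569, nat_lit 311, nat_lit 225] 349 1))))) (.node (nat_lit 4) (.node (nat_lit 2) (.node (nat_lit 1) (.leaf (Rule.fwd [nat_lit 182, nat_lit 612, nat_lit 225, nat_lit 612] 267 1)) (.leaf (Rule.fwd [nat_lit 268, nat_lit 569, nat_lit 569, nat_lit 440, nat_lit 612] 176 4))) (.node (nat_lit 1) (.leaf (Rule.fwd [nat_lit 612, nat_lit 311, nat_lit 612, nat_lit 311] 133 2)) (.leaf (Rule.fwd [nat_lit 526, nat_lit 569, nat_lit 311, nat_lit 354, nat_lit 311, nat_lit 354, nat_lit 397, nat_lit 268, nat_lit 397, nat_lit 612, nat_lit 526, nat_lit 569, nat_lit 397, nat_lit 311, nat_lit 354, nat_lit 397, nat_lit 268, nat_lit 311, nat_lit 354] 426 19)))) (.node (nat_lit 2) (.node (nat_lit 1) (.leaf (Rule.fwd [nat_lit 440, nat_lit 354, nat_lit 569, nat_lit 354, nat_lit 268] 182 3)) (.leaf (Rule.fwd [nat_lit 397, nat_lit 354, nat_lit 612, nat_lit 354, nat_lit 397] 181 4))) (.node (nat_lit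 1) (.leaf (Rule.fwd [nat_lit 655, nat_lit 655, nat_lit 612, nat_lit 397] 273 4)) (.leaf (Rule.fwd [nat_lit 698, nat_lit 698, nat_lit 612, nat_lit 397] 271 4)))))) (.node (nat_lit 8) (.node (nat_lit 4) (.node (nat_lit 2) (.node (nat_lit 1) (.leaf (Rule.fwd [nat_lit 612, nat_lit 354, nat_lit 612, nat_lit 354] 129 2)) (.leaf (Rule.fwd [nat_lit 182, nat_lit 569, nat_lit 655, nat_lit 225, nat_lit 698] 357 1))) (.node (nat_lit 1) (.leaf (Rule.fwd [nat_lit 354, nat_lit 311, nat_lit 612, nat_lit 354, nat_lit 311, nat_lit 612] 411 1)) (.leaf (Rule.fwd [nat_lit 526, nat_lit 569, nat_lit 397, nat_lit 311, nat_lit 354, nat_lit 397, nat_lit 268, nat_lit 311, nat_lit 354, nat_lit 612, nat_lit 526, nat_lit 569, nat_lit 311, nat_lit 354, nat_lit 311, nat_lit 354, nat_lit 397, nat_lit 268, nat_lit 397] 426 9)))) (.node (nat_lit 2) (.node (nat_lit 1) (.leaf (Rule.fwd [nat_lit 354, nat_lit 612, nat_lit 354, nat_lit 612] 129 1)) (.leaf (Rule.fwd [nat_lit 182, nat_lit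 612, nat_lit 612, nat_lit 225] 269 4))) (.node (nat_lit 1) (.leaf (Rule.fwd [nat_lit 354, nat_lit 10, nat_lit 354, nat_lit 569, nat_lit 10] 150 1)) (.leaf (Rule.fwd [nat_lit 10, nat_lit 10, nat_lit 569, nat_lit 10] 118 4))))) (.node (nat_lit 4) (.node (nat_lit 2) (.node (nat_lit 1) (.leaf (Rule.fwd [nat_lit 440, nat_lit 612, nat_lit 612, nat_lit 268] 135 4)) (.leaf (Rule.fwd [nat_lit 612, nat_lit 354, nat_lit 311, nat_lit 612, nat_lit 354, nat_lit 311] 411 2))) (.node (nat_lit 1) (.leaf (Rule.fwd [nat_lit 655, nat_lit 182, nat_lit 698, nat_lit 569, nat_lit 225] 345 1)) (.leaf (Rule.fwd [nat_lit 311, nat_lit 612, nat_lit 612, nat_lit 311] 133 4)))) (.node (nat_lit 2) (.node (nat_lit 1) (.leaf (Rule.fwd [nat_lit 182, nat_lit 569, nat_lit 698, nat_lit 225, nat_lit 655] 361 1)) (.leaf (Rule.fwd [nat_lit 53, nat_lit 53, nat_lit 569, nat_lit 53] 119 3))) (.node (nat_lit 1) (.leaf (Rule.fwd [nat_lit 354, nat_lit 612, nat_lit 612, nat_lit 354] 129 4)) (.leaf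 (Rule.fwd [nat_lit 526, nat_lit 569, nat_lit 96, nat_lit 569, nat_lit 139, nat_lit 612, nat_lit 96, nat_lit 612, nat_lit 526, nat_lit 569, nat_lit 139, nat_lit 569, nat_lit 96, nat_lit 612, nat_lit 139] 424 7))))))))), (.node (nat_lit 64) (.node (nat_lit 32) (.node (nat_lit 16) (.node (nat_lit 8) (.node (nat_lit 4) (.node (nat_lit 2) (.node (nat_lit 1) (.leaf XRule.defn) (.leaf XRule.defn)) (.node (nat_lit 1) (.leaf (XRule.rot (nat_lit 627300) [612, 612] 107 0)) (.leaf (XRule.rot (nat_lit 484396492054925) [397, 440, 397, 569, 440] 196 2)))) (.node (nat_lit 2) (.node (nat_lit 1) (.leaf (XRule.rot (nat_lit 569) [569] 434 0)) (.leaf (XRule.rot (nat_lit 281601464) [440, 569, 268] 114 2))) (.node (nat_lit 1) (.leaf (XRule.rot (nat_lit 191423713) [225, 569, 182] 252 2)) (.leaf (XRule.rot (nat_lit 436979204764940) [268, 397, 612, 440, 397] 187 4))))) (.node (nat_lit 4) (.node (nat_lit 2) (.node (nat_lit 1) (.leaf (XRule.rot (nat_lit 473088406116) [612,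 268, 612, 440] 135 2)) (.leaf (XRule.rot (nat_lit 326690103) [311, 569, 311] 116 2))) (.node (nat_lit 1) (.leaf (XRule.rot (nat_lit 153536059598944) [96, 698, 612, 655, 139] 343 1)) (.leaf (XRule.rot (nat_lit 483888657392736) [96, 569, 440, 96, 440] 198 4)))) (.node (nat_lit 2) (.node (nat_lit 1) (.leaf (XRule.rot (nat_lit 720283792191162) [698, 139, 569, 96, 655] 340 3)) (.leaf (XRule.rot (nat_lit 436840691981709) [397, 311, 612, 311, 397] 189 1))) (.node (nat_lit 1) (.leaf (XRule.rot (nat_lit 767562837274255) [655, 139, 612, 96, 698] 343 4)) (.leaf (XRule.rot (nat_lit 416911757) [397, 612, 397] 113 1)))))) (.node (nat_lit 8) (.node (nat_lit 4) (.node (nat_lit 2) (.node (nat_lit 1) (.leaf (XRule.rot (nat_lit 56157194) [10, 569, 53] 108 3)) (.leaf (XRule.rot (nat_lit 371778914) [354, 569, 354] 110 2))) (.node (nat_lit 1) (.leaf (XRule.rot (nat_lit 750204326285) [397, 612, 698, 698] 271 1)) (.leaf (XRule.rot (nat_lit 153582185364576) [96, 655, 569,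 698, 139] 341 1)))) (.node (nat_lit 2) (.node (nat_lit 1) (.leaf (XRule.rot (nat_lit 673374159824140) [268, 569, 569, 440, 612] 176 4)) (.leaf (XRule.rot (nat_lit 436794521171384) [440, 397, 612, 268, 397] 187 1))) (.node (nat_lit 1) (.leaf (XRule.rot (nat_lit 342190304975159) [311, 182, 569, 225, 311] 352 3)) (.leaf (XRule.rot (nat_lit 11068469) [53, 569, 10] 109 2))))) (.node (nat_lit 4) (.node (nat_lit 2) (.node (nat_lit 1) (.leaf (XRule.rot (nat_lit 295096033883576) [440, 397, 612, 397, 268] 191 4)) (.leaf (XRule.rot (nat_lit 342236476005816) [440, 311, 569, 268, 311] 194 3))) (.node (nat_lit 1) (.leaf (XRule.rot (nat_lit 247817033888950) [182, 397, 612, 397, 225] 351 1)) (.leaf (XRule.rot (nat_lit 767655224599777) [225, 569, 655, 182, 698] 356 4)))) (.node (nat_lit 2) (.node (nat_lit 1) (.leaf (XRule.rot (nat_lit 247724646915254) [182, 311, 569, 311, 225] 349 1)) (.leaf (XRule.rot (nat_lit 436517270512693) [53, 569, 397, 10, 397] 147 2))) (.node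 (nat_lit 1) (.leaf (XRule.rot (nat_lit 436563441411082) [10, 569, 397, 53, 397] 146 5)) (.leaf (XRule.rot (nat_lit 657366552758) [182, 612, 225, 612] 267 1))))))) (.node (nat_lit 16) (.node (nat_lit 8) (.node (nat_lit 4) (.node (nat_lit 2) (.node (nat_lit 1) (.leaf (XRule.rot (nat_lit 295003647041847) [311, 440, 569, 311, 268] 195 1)) (.leaf (XRule.rot (nat_lit 436978979497228) [268, 569, 397, 440, 397] 192 4))) (.node (nat_lit 1) (.leaf (XRule.rot (nat_lit 484073340986808) [440, 569, 440, 268, 440] 204 4)) (.leaf (XRule.rot (nat_lit 484119511885111) [311, 569, 440, 311, 440] 206 4)))) (.node (nat_lit 2) (.node (nat_lit 1) (.leaf (XRule.rot (nat_lit 236512438) [182, 569, 225] 253 1)) (.leaf (XRule.rot (nat_lit 657546864013) [397, 569, 397, 612] 131 1))) (.node (nat_lit 1) (.leaf (XRule.rot (nat_lit 426872726925) [397, 569, 569, 397] 130 3)) (.leaf (XRule.rot (nat_lit 342375033877815) [311, 397, 612, 397, 311] 189 4))))) (.node (nat_lit 4) (.node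 (nat_lit 2) (.node (nat_lit 1) (.leaf (XRule.rot (nat_lit 720191586100277) [53, 569, 698, 10, 655] 317 2)) (.leaf (XRule.rot (nat_lit 720237756998666) [10, 569, 698, 53, 655] 316 5))) (.node (nat_lit 1) (.leaf (XRule.rot (nat_lit 657591996684) [268, 612, 440, 612] 135 1)) (.leaf (XRule.rot (nat_lit 10748486666) [10, 569, 10, 10] 120 2)))) (.node (nat_lit 2) (.node (nat_lit 1) (.leaf (XRule.rot (nat_lit 720376269694177) [225, 569, 698, 182, 655] 360 4)) (.leaf (XRule.rot (nat_lit 768209230424762) [698, 698, 612, 698, 698] 359 1))) (.node (nat_lit 1) (.leaf (XRule.rot (nat_lit 703988339085) [397, 612, 655, 655] 273 1)) (.leaf (XRule.rot (nat_lit 342005351244810) [10, 569, 311, 53, 311] 148 5)))))) (.node (nat_lit 8) (.node (nat_lit 4) (.node (nat_lit 2) (.node (nat_lit 1) (.leaf (XRule.rot (nat_lit 58885491665293) [397, 10, 397, 569, 53] 153 0)) (.leaf (XRule.rot (nat_lit 11606446582114) [354, 10, 354, 569, 10] 150 1))) (.node (nat_lit 1) (.leaf (XRule.rot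 (nat_lit 294726621211064) [440, 10, 569, 53, 268] 142 4)) (.leaf (XRule.rot (nat_lit 56964473909) [53, 569, 53, 53] 121 0)))) (.node (nat_lit 2) (.node (nat_lit 1) (.leaf (XRule.rot (nat_lit 484165682783586) [354, 569, 440, 354, 440] 200 4)) (.leaf (XRule.rot (nat_lit 389838356711692) [268, 354, 268, 569, 354] 178 2))) (.node (nat_lit 1) (.leaf (XRule.rot (nat_lit 294680450356664) [440, 53, 569, 10, 268] 168 2)) (.leaf (XRule.rot (nat_lit 58885401487671) [311, 10, 311, 569, 53] 155 0))))) (.node (nat_lit 4) (.node (nat_lit 2) (.node (nat_lit 1) (.leaf (XRule.rot (nat_lit 542969249373505571039270543046958798668036073017562424846) [526, 569, 311, 354, 311, 354, 397, 268, 397, 612, 526, 569, 397, 311, 354, 397, 268, 311, 354] 426 19)) (.leaf (XRule.rot (nat_lit 342328817802594) [354, 311, 569, 354, 311] 397 1))) (.node (nat_lit 1) (.leaf (XRule.rot (nat_lit 436979204632973) [397, 268, 612, 440, 397] 191 1)) (.leaf (XRule.rot (nat_lit 483934828291211)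 [139, 569, 440, 139, 440] 199 1)))) (.node (nat_lit 2) (.node (nat_lit 1) (.leaf (XRule.rot (nat_lit 720884059487887) [655, 655, 612, 655, 655] 363 1)) (.leaf (XRule.rot (nat_lit 608802393262923527693037745667873194098266787237844280846) [526, 569, 397, 311, 354, 397, 268, 311, 354, 612, 526, 569, 311, 354, 311, 354, 397, 268, 397] 426 9))) (.node (nat_lit 1) (.leaf (XRule.rot (nat_lit 426872551012) [612, 397, 569, 397] 131 2)) (.leaf (XRule.rot (nat_lit 341959180346421) [53, 569, 311, 10, 311] 149 2)))))))) (.node (nat_lit 32) (.node (nat_lit 16) (.node (nat_lit 8) (.node (nat_lit 4) (.node (nat_lit 2) (.node (nat_lit 1) (.leaf (XRule.rot (nat_lit 767470541005877) [53, 569, 655, 10, 698] 315 2)) (.leaf (XRule.rot (nat_lit 11283476176949) [53, 440, 569, 268, 10] 143 2))) (.node (nat_lit 1) (.leaf (XRule.rot (nat_lit 58562476171274) [10, 440, 569, 268, 53] 169 0)) (.leaf (XRule.rot (nat_lit 196063367393) [225, 612, 612, 182] 267 4)))) (.node (nat_lit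 2) (.node (nat_lit 1) (.leaf (XRule.rot (nat_lit 200168621222113) [225, 10, 569, 53, 182] 310 4)) (.leaf (XRule.rot (nat_lit 247447621216438) [182, 10, 569, 53, 225] 312 4))) (.node (nat_lit 1) (.leaf (XRule.rot (nat_lit 200445646920929) [225, 311, 569, 311, 182] 353 1)) (.leaf (XRule.rot (nat_lit 11191134159925) [53, 225, 569, 182, 10] 313 2))))) (.node (nat_lit 4) (.node (nat_lit 2) (.node (nat_lit 1) (.leaf (XRule.rot (nat_lit 389654033872226) [354, 397, 612, 397, 354] 181 1)) (.leaf (XRule.rot (nat_lit 436702179198349) [397, 225, 612, 182, 397] 351 4))) (.node (nat_lit 1) (.leaf (XRule.rot (nat_lit 484212033905037) [397, 440, 612, 397, 440] 203 1)) (.leaf (XRule.rot (nat_lit 288405164472) [440, 612, 612, 268] 135 4)))) (.node (nat_lit 2) (.node (nat_lit 1) (.leaf (XRule.rot (nat_lit 11237305014325) [53, 182, 569, 225, 10] 311 2)) (.leaf (XRule.rot (nat_lit 58516305008650) [10, 182, 569, 225, 53] 324 5))) (.node (nat_lit 1) (.leaf (XRule.rot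 (nat_lit 200722807490191) [655, 225, 698, 569, 182] 344 2)) (.leaf (XRule.rot (nat_lit 436748350052749) [397, 182, 612, 225, 397] 355 4)))))) (.node (nat_lit 8) (.node (nat_lit 4) (.node (nat_lit 2) (.node (nat_lit 1) (.leaf (XRule.rot (nat_lit 657321464033) [225, 612, 182, 612] 269 1)) (.leaf (XRule.rot (nat_lit 389561646942519) [311, 354, 569, 311, 354] 396 3))) (.node (nat_lit 1) (.leaf (XRule.rot (nat_lit 242234265782) [182, 612, 612, 225] 269 4)) (.leaf (XRule.rot (nat_lit 767701395498166) [182, 569, 655, 225, 698] 357 1)))) (.node (nat_lit 2) (.node (nat_lit 1) (.leaf (XRule.rot (nat_lit 295049817852344) [440, 354, 569, 354, 268] 182 3)) (.leaf (XRule.rot (nat_lit 342144134120759) [311, 225, 569, 182, 311] 348 3))) (.node (nat_lit 1) (.leaf (XRule.rot (nat_lit 389515476132194) [354, 440, 569, 268, 354] 183 1)) (.leaf (XRule.rot (nat_lit 380746961250) [354, 612, 612, 354] 129 4))))) (.node (nat_lit 4) (.node (nat_lit 2) (.node (nat_lit 1) (.leaf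 (XRule.rot (nat_lit 200722762401466) [698, 225, 655, 569, 182] 346 2)) (.leaf (XRule.rot (nat_lit 11606807336591) [655, 53, 698, 569, 10] 318 1))) (.node (nat_lit 1) (.leaf (XRule.rot (nat_lit 342328817846583) [311, 354, 569, 354, 311] 184 3)) (.leaf (XRule.rot (nat_lit 426917948090) [698, 698, 612, 397] 271 4)))) (.node (nat_lit 2) (.node (nat_lit 1) (.leaf (XRule.rot (nat_lit 767516711904266) [10, 569, 655, 53, 698] 314 5)) (.leaf (XRule.rot (nat_lit 11606491714957) [397, 53, 397, 569, 10] 152 1))) (.node (nat_lit 1) (.leaf (XRule.rot (nat_lit 657501819234) [354, 612, 354, 612] 129 1)) (.leaf (XRule.rot (nat_lit 11606401537335) [311, 53, 311, 569, 10] 154 1))))))) (.node (nat_lit 8) (.node (nat_lit 4) (.node (nat_lit 2) (.node (nat_lit 1) (.leaf (XRule.rot (nat_lit 484396672234084) [612, 268, 569, 569, 440] 176 3)) (.leaf (XRule.rot (nat_lit 389284396327989) [53, 569, 354, 53, 354] 145 2))) (.node (nat_lit 1) (.leaf (XRule.rot (nat_lit 389561646898530)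 [354, 311, 569, 311, 354] 185 1)) (.leaf (XRule.rot (nat_lit 389238225429514) [10, 569, 354, 10, 354] 144 5)))) (.node (nat_lit 2) (.node (nat_lit 1) (.leaf (XRule.rot (nat_lit 380746697316) [612, 354, 612, 354] 129 2)) (.leaf (XRule.rot (nat_lit 58885807286927) [655, 10, 698, 569, 53] 319 0))) (.node (nat_lit 1) (.leaf (XRule.rot (nat_lit 242233825892) [612, 182, 612, 225] 267 2)) (.leaf (XRule.rot (nat_lit 248001807440527) [655, 182, 698, 569, 225] 345 1))))) (.leaf (XRule.rot (nat_lit 58885446620514) [354, 53, 354, 569, 53] 151 0)))))⟩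
noncomputable def ci655 : CI := ⟨[15], (nat_lit 698), false, (.node (nat_lit 64) (.node (nat_lit 32) (.node (nat_lit 16) (.node (nat_lit 8) (.node (nat_lit 4) (.node (nat_lit 2) (.node (nat_lit 1) (.leaf Rule.defn) (.leaf Rule.copy)) (.node (nat_lit 1) (.leaf (Rule.fwd [nat_lit 698] 434 0)) (.leaf (Rule.fwd [nat_lit 397, nat_lit 655] 248 1)))) (.node (nat_lit 2) (.node (nat_lit 1) (.leaf (Rule.fwd [nat_lit 139, nat_lit 698, nat_lit 139, nat_lit 655, nat_lit 139] 369 4)) (.leaf (Rule.fwd [nat_lit 655, nat_lit 139, nat_lit 397, nat_lit 96] 276 1))) (.node (nat_lit 1) (.leaf (Rule.fwd [nat_lit 655, nat_lit 569, nat_lit 397, nat_lit 569] 270 1)) (.leaf (Rule.fwd [nat_lit 655, nat_lit 612, nat_lit 397, nat_lit 612] 273 3))))) (.node (nat_lit 4) (.node (nat_lit 2) (.node (nat_lit 1) (.leaf (Rule.fwd [nat_lit 526, nat_lit 698, nat_lit 526] 400 0)) (.leaf (Rule.fwd [nat_lit 139, nat_lit 569, nat_lit 96, nat_lit 698, nat_lit 569] 342 4))) (.node (nat_lit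 1) (.leaf (Rule.fwd [nat_lit 53, nat_lit 698, nat_lit 612, nat_lit 10, nat_lit 569] 314 2)) (.leaf (Rule.fwd [nat_lit 53, nat_lit 698, nat_lit 569, nat_lit 10, nat_lit 612] 318 2)))) (.node (nat_lit 2) (.node (nat_lit 1) (.leaf (Rule.fwd [nat_lit 96, nat_lit 655, nat_lit 96, nat_lit 655, nat_lit 96] 366 1)) (.leaf (Rule.fwd [nat_lit 139, nat_lit 612, nat_lit 96, nat_lit 698, nat_lit 612] 343 3))) (.node (nat_lit 1) (.leaf (Rule.fwd [nat_lit 655, nat_lit 311, nat_lit 397, nat_lit 311] 302 0)) (.leaf (Rule.fwd [nat_lit 612, nat_lit 698, nat_lit 139, nat_lit 569, nat_lit 96] 340 2)))))) (.node (nat_lit 8) (.node (nat_lit 4) (.node (nat_lit 2) (.node (nat_lit 1) (.leaf (Rule.fwd [nat_lit 655, nat_lit 96, nat_lit 397, nat_lit 139] 280 3)) (.leaf (Rule.fwd [nat_lit 53, nat_lit 698, nat_lit 10] 250 1))) (.node (nat_lit 1) (.leaf (Rule.fwd [nat_lit 10, nat_lit 698, nat_lit 53] 251 0)) (.leaf (Rule.fwd [nat_lit 354, nat_lit 397, nat_lit 354, nat_lit 655]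 304 1)))) (.node (nat_lit 2) (.node (nat_lit 1) (.leaf (Rule.fwd [nat_lit 655, nat_lit 354, nat_lit 397, nat_lit 354] 304 0)) (.leaf (Rule.fwd [nat_lit 569, nat_lit 698, nat_lit 139, nat_lit 612, nat_lit 96] 341 5))) (.node (nat_lit 1) (.leaf (Rule.fwd [nat_lit 182, nat_lit 698, nat_lit 612, nat_lit 225, nat_lit 569] 356 1)) (.leaf (Rule.fwd [nat_lit 526, nat_lit 397, nat_lit 526, nat_lit 655] 418 1))))) (.node (nat_lit 4) (.node (nat_lit 2) (.node (nat_lit 1) (.leaf (Rule.fwd [nat_lit 10, nat_lit 698, nat_lit 612, nat_lit 53, nat_lit 569] 315 5)) (.leaf (Rule.fwd [nat_lit 612, nat_lit 10, nat_lit 569, nat_lit 698, nat_lit 53] 316 4))) (.node (nat_lit 1) (.leaf (Rule.fwd [nat_lit 354, nat_lit 698, nat_lit 354] 256 0)) (.leaf (Rule.fwd [nat_lit 53, nat_lit 698, nat_lit 311, nat_lit 10, nat_lit 311] 337 2)))) (.node (nat_lit 2) (.node (nat_lit 1) (.leaf (Rule.fwd [nat_lit 10, nat_lit 698, nat_lit 311, nat_lit 53, nat_lit 311] 336 5)) (.leaf (Rule.fwd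 [nat_lit 225, nat_lit 698, nat_lit 182] 254 1))) (.node (nat_lit 1) (.leaf (Rule.fwd [nat_lit 182, nat_lit 698, nat_lit 225] 255 0)) (.leaf (Rule.fwd [nat_lit 655, nat_lit 311, nat_lit 698, nat_lit 698, nat_lit 311] 386 0))))))) (.node (nat_lit 16) (.node (nat_lit 8) (.node (nat_lit 4) (.node (nat_lit 2) (.node (nat_lit 1) (.leaf (Rule.fwd [nat_lit 311, nat_lit 96, nat_lit 655, nat_lit 139, nat_lit 311] 370 4)) (.leaf (Rule.fwd [nat_lit 225, nat_lit 698, nat_lit 569, nat_lit 182, nat_lit 612] 344 3))) (.node (nat_lit 1) (.leaf (Rule.fwd [nat_lit 569, nat_lit 53, nat_lit 612, nat_lit 698, nat_lit 10] 321 3)) (.leaf (Rule.fwd [nat_lit 311, nat_lit 53, nat_lit 311, nat_lit 698, nat_lit 10] 332 1)))) (.node (nat_lit 2) (.node (nat_lit 1) (.leaf (Rule.fwd [nat_lit 139, nat_lit 655, nat_lit 139, nat_lit 698, nat_lit 139] 369 0)) (.leaf (Rule.fwd [nat_lit 612, nat_lit 53, nat_lit 569, nat_lit 698, nat_lit 10] 317 3))) (.node (nat_lit 1) (.leaf (Rule.fwd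 [nat_lit 10, nat_lit 698, nat_lit 10, nat_lit 10] 258 2)) (.leaf (Rule.fwd [nat_lit 139, nat_lit 397, nat_lit 96, nat_lit 655] 276 2))))) (.node (nat_lit 4) (.node (nat_lit 2) (.node (nat_lit 1) (.leaf (Rule.fwd [nat_lit 569, nat_lit 182, nat_lit 612, nat_lit 698, nat_lit 225] 346 5)) (.leaf (Rule.fwd [nat_lit 354, nat_lit 397, nat_lit 655, nat_lit 354] 306 2))) (.node (nat_lit 1) (.leaf (Rule.fwd [nat_lit 139, nat_lit 311, nat_lit 655, nat_lit 139, nat_lit 311] 375 2)) (.leaf (Rule.fwd [nat_lit 139, nat_lit 311, nat_lit 655, nat_lit 311, nat_lit 96] 370 1)))) (.node (nat_lit 2) (.node (nat_lit 1) (.leaf (Rule.fwd [nat_lit 354, nat_lit 698, nat_lit 182, nat_lit 182] 282 2)) (.leaf (Rule.fwd [nat_lit 10, nat_lit 698, nat_lit 569, nat_lit 53, nat_lit 612] 319 5))) (.node (nat_lit 1) (.leaf (Rule.fwd [nat_lit 655, nat_lit 526, nat_lit 397, nat_lit 526] 418 0)) (.leaf (Rule.fwd [nat_lit 311, nat_lit 96, nat_lit 655, nat_lit 311, nat_lit 96] 372 1))))))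 (.node (nat_lit 8) (.node (nat_lit 4) (.node (nat_lit 2) (.node (nat_lit 1) (.leaf (Rule.fwd [nat_lit 655, nat_lit 311, nat_lit 354, nat_lit 397, nat_lit 311, nat_lit 354] 416 0)) (.leaf (Rule.fwd [nat_lit 311, nat_lit 397, nat_lit 311, nat_lit 655] 302 1))) (.node (nat_lit 1) (.leaf (Rule.fwd [nat_lit 96, nat_lit 698, nat_lit 96, nat_lit 698, nat_lit 96] 368 1)) (.leaf (Rule.fwd [nat_lit 569, nat_lit 655, nat_lit 655, nat_lit 569, nat_lit 655] 358 2)))) (.node (nat_lit 2) (.node (nat_lit 1) (.leaf (Rule.fwd [nat_lit 311, nat_lit 354, nat_lit 397, nat_lit 268, nat_lit 698, nat_lit 311, nat_lit 354, nat_lit 397, nat_lit 268, nat_lit 698, nat_lit 311, nat_lit 354, nat_lit 397, nat_lit 268, nat_lit 655, nat_lit 311, nat_lit 354, nat_lit 397, nat_lit 268] 432 5)) (.leaf (Rule.fwd [nat_lit 612, nat_lit 182, nat_lit 569, nat_lit 698, nat_lit 225] 361 2))) (.node (nat_lit 1) (.leaf (Rule.fwd [nat_lit 655, nat_lit 397] 248 0)) (.leaf (Rule.fwd [nat_lit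 53, nat_lit 698, nat_lit 53, nat_lit 53] 259 0))))) (.node (nat_lit 4) (.node (nat_lit 2) (.node (nat_lit 1) (.leaf (Rule.fwd [nat_lit 526, nat_lit 397, nat_lit 655, nat_lit 526] 420 2)) (.leaf (Rule.fwd [nat_lit 526, nat_lit 655, nat_lit 526, nat_lit 397] 420 0))) (.node (nat_lit 1) (.leaf (Rule.fwd [nat_lit 311, nat_lit 655, nat_lit 655, nat_lit 311, nat_lit 655] 384 1)) (.leaf (Rule.fwd [nat_lit 569, nat_lit 225, nat_lit 612, nat_lit 698, nat_lit 182] 347 4)))) (.node (nat_lit 2) (.node (nat_lit 1) (.leaf (Rule.fwd [nat_lit 655, nat_lit 311, nat_lit 655, nat_lit 655, nat_lit 311] 384 0)) (.leaf (Rule.fwd [nat_lit 182, nat_lit 182, nat_lit 698, nat_lit 354] 284 4))) (.node (nat_lit 1) (.leaf (Rule.fwd [nat_lit 569, nat_lit 10, nat_lit 612, nat_lit 698, nat_lit 53] 320 4)) (.leaf (Rule.fwd [nat_lit 526, nat_lit 655, nat_lit 397, nat_lit 526] 422 0)))))))) (.node (nat_lit 16) (.node (nat_lit 8) (.node (nat_lit 4) (.node (nat_lit 2) (.node (nat_lit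 1) (.leaf (Rule.fwd [nat_lit 612, nat_lit 655, nat_lit 655, nat_lit 612, nat_lit 655] 363 2)) (.leaf (Rule.fwd [nat_lit 311, nat_lit 354, nat_lit 397, nat_lit 268, nat_lit 655, nat_lit 311, nat_lit 354, nat_lit 397, nat_lit 268, nat_lit 698, nat_lit 311, nat_lit 354, nat_lit 397, nat_lit 268, nat_lit 698, nat_lit 311, nat_lit 354, nat_lit 397, nat_lit 268] 432 0))) (.node (nat_lit 1) (.leaf (Rule.fwd [nat_lit 354, nat_lit 698, nat_lit 225, nat_lit 225] 283 0)) (.leaf (Rule.fwd [nat_lit 96, nat_lit 397, nat_lit 139, nat_lit 655] 280 4)))) (.node (nat_lit 2) (.node (nat_lit 1) (.leaf (Rule.fwd [nat_lit 225, nat_lit 698, nat_lit 612, nat_lit 182, nat_lit 569] 357 4)) (.leaf (Rule.fwd [nat_lit 612, nat_lit 225, nat_lit 569, nat_lit 698, nat_lit 182] 360 3))) (.node (nat_lit 1) (.leaf (Rule.fwd [nat_lit 225, nat_lit 225, nat_lit 698, nat_lit 354] 285 3)) (.leaf (Rule.fwd [nat_lit 354, nat_lit 655, nat_lit 354, nat_lit 397] 306 0))))) (.node (nat_lit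 4) (.node (nat_lit 2) (.node (nat_lit 1) (.leaf (Rule.fwd [nat_lit 311, nat_lit 698, nat_lit 698, nat_lit 311, nat_lit 655] 386 1)) (.leaf (Rule.fwd [nat_lit 182, nat_lit 698, nat_lit 569, nat_lit 225, nat_lit 612] 345 0))) (.node (nat_lit 1) (.leaf (Rule.fwd [nat_lit 354, nat_lit 10, nat_lit 354, nat_lit 698, nat_lit 10] 334 1)) (.leaf (Rule.fwd [nat_lit 655, nat_lit 612, nat_lit 655, nat_lit 655, nat_lit 612] 363 0)))) (.node (nat_lit 2) (.node (nat_lit 1) (.leaf (Rule.fwd [nat_lit 354, nat_lit 53, nat_lit 354, nat_lit 698, nat_lit 53] 335 0)) (.leaf (Rule.fwd [nat_lit 655, nat_lit 569, nat_lit 655, nat_lit 655, nat_lit 569] 358 1))) (.node (nat_lit 1) (.leaf (Rule.fwd [nat_lit 311, nat_lit 10, nat_lit 311, nat_lit 698, nat_lit 53] 333 0)) (.leaf (Rule.fwd [nat_lit 10, nat_lit 698, nat_lit 354, nat_lit 10, nat_lit 354] 338 5)))))) (.node (nat_lit 8) (.node (nat_lit 4) (.node (nat_lit 2) (.node (nat_lit 1) (.leaf (Rule.fwd [nat_lit 53, nat_lit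 698, nat_lit 354, nat_lit 53, nat_lit 354] 339 2)) (.leaf (Rule.fwd [nat_lit 354, nat_lit 655, nat_lit 397, nat_lit 354] 308 0))) (.node (nat_lit 1) (.leaf (Rule.fwd [nat_lit 53, nat_lit 53, nat_lit 698, nat_lit 53] 261 3)) (.leaf (Rule.fwd [nat_lit 268, nat_lit 397, nat_lit 354, nat_lit 311, nat_lit 698, nat_lit 268, nat_lit 397, nat_lit 354, nat_lit 311, nat_lit 698, nat_lit 268, nat_lit 397, nat_lit 354, nat_lit 311, nat_lit 655, nat_lit 268, nat_lit 397, nat_lit 354, nat_lit 311] 433 11)))) (.node (nat_lit 2) (.node (nat_lit 1) (.leaf (Rule.fwd [nat_lit 311, nat_lit 354, nat_lit 397, nat_lit 311, nat_lit 354, nat_lit 655] 416 1)) (.leaf (Rule.fwd [nat_lit 569, nat_lit 397, nat_lit 569, nat_lit 655] 270 2))) (.node (nat_lit 1) (.leaf (Rule.fwd [nat_lit 612, nat_lit 397, nat_lit 612, nat_lit 655] 273 2)) (.leaf (Rule.fwd [nat_lit 10, nat_lit 10, nat_lit 698, nat_lit 10] 260 4))))) (.node (nat_lit 4) (.node (nat_lit 2) (.node (nat_lit 1) (.leaf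 (Rule.fwd [nat_lit 268, nat_lit 397, nat_lit 354, nat_lit 311, nat_lit 655, nat_lit 268, nat_lit 397, nat_lit 354, nat_lit 311, nat_lit 698, nat_lit 268, nat_lit 397, nat_lit 354, nat_lit 311, nat_lit 698, nat_lit 268, nat_lit 397, nat_lit 354, nat_lit 311] 433 16)) (.leaf (Rule.fwd [nat_lit 354, nat_lit 225, nat_lit 698, nat_lit 225] 293 0))) (.node (nat_lit 1) (.leaf (Rule.fwd [nat_lit 397, nat_lit 354, nat_lit 655, nat_lit 354] 308 2)) (.leaf (Rule.fwd [nat_lit 397, nat_lit 526, nat_lit 655, nat_lit 526] 422 2)))) (.node (nat_lit 2) (.node (nat_lit 1) (.leaf (Rule.fwd [nat_lit 182, nat_lit 698, nat_lit 354, nat_lit 182] 290 1)) (.leaf (Rule.fwd [nat_lit 354, nat_lit 182, nat_lit 698, nat_lit 182] 294 1))) (.leaf (Rule.fwd [nat_lit 225, nat_lit 354, nat_lit 698, nat_lit 225] 295 0))))))), (.node (nat_lit 64) (.node (nat_lit 32) (.node (nat_lit 16) (.node (nat_lit 8) (.node (nat_lit 4) (.node (nat_lit 2) (.node (nat_lit 1) (.leaf XRule.defn) (.leaf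 XRule.defn)) (.node (nat_lit 1) (.leaf (XRule.rot (nat_lit 671117) [397, 655] 248 1)) (.leaf (XRule.rot (nat_lit 626371689243787) [139, 569, 96, 698, 569] 342 4)))) (.node (nat_lit 2) (.node (nat_lit 1) (.leaf (XRule.rot (nat_lit 657546908303) [655, 612, 397, 612] 273 3)) (.leaf (XRule.rot (nat_lit 552266254) [526, 698, 526] 400 0))) (.node (nat_lit 1) (.leaf (XRule.rot (nat_lit 191555809) [225, 698, 182] 254 1)) (.leaf (XRule.rot (nat_lit 153535563622539) [139, 698, 139, 655, 139] 369 4))))) (.node (nat_lit 4) (.node (nat_lit 2) (.node (nat_lit 1) (.leaf (XRule.rot (nat_lit 103495642767) [655, 139, 397, 96] 276 1)) (.leaf (XRule.rot (nat_lit 149666497167) [655, 96, 397, 139] 280 3))) (.node (nat_lit 1) (.leaf (XRule.rot (nat_lit 106164221831780) [612, 698, 139, 569, 96] 340 2)) (.leaf (XRule.rot (nat_lit 106210392730169) [569, 698, 139, 612, 96] 341 5)))) (.node (nat_lit 2) (.node (nat_lit 1) (.leaf (XRule.rot (nat_lit 342098053267767) [311, 96,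 655, 139, 311] 370 4)) (.leaf (XRule.rot (nat_lit 477136482306443033738951598015252953713501060519621440780) [268, 397, 354, 311, 655, 268, 397, 354, 311, 698, 268, 397, 354, 311, 698, 268, 397, 354, 311] 433 16))) (.node (nat_lit 1) (.leaf (XRule.rot (nat_lit 11200565) [53, 698, 10] 250 1)) (.leaf (XRule.rot (nat_lit 56289290) [10, 698, 53] 251 0)))))) (.node (nat_lit 8) (.node (nat_lit 4) (.node (nat_lit 2) (.node (nat_lit 1) (.leaf (XRule.rot (nat_lit 106256518495328) [96, 655, 96, 655, 96] 366 1)) (.leaf (XRule.rot (nat_lit 673650689282187) [139, 612, 96, 698, 612] 343 3))) (.node (nat_lit 1) (.leaf (XRule.rot (nat_lit 611375965839) [655, 569, 397, 569] 270 1)) (.leaf (XRule.rot (nat_lit 698) [698] 434 0)))) (.node (nat_lit 2) (.node (nat_lit 1) (.leaf (XRule.rot (nat_lit 625633496066101) [53, 698, 612, 10, 569] 314 2)) (.leaf (XRule.rot (nat_lit 672912450971701) [53, 698, 569, 10, 612] 318 2))) (.node (nat_lit 1) (.leaf (XRule.rot (nat_lit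 342652104269455) [655, 311, 655, 655, 311] 384 0)) (.leaf (XRule.rot (nat_lit 625679666964490) [10, 698, 612, 53, 569] 315 5))))) (.node (nat_lit 4) (.node (nat_lit 2) (.node (nat_lit 1) (.leaf (XRule.rot (nat_lit 625864350558390) [182, 698, 612, 225, 569] 356 1)) (.leaf (XRule.rot (nat_lit 248140229958201) [569, 182, 612, 698, 225] 346 5))) (.node (nat_lit 1) (.leaf (XRule.rot (nat_lit 153581734476939) [139, 655, 139, 698, 139] 369 0)) (.leaf (XRule.rot (nat_lit 105887737109643) [139, 311, 655, 311, 96] 370 1)))) (.node (nat_lit 2) (.node (nat_lit 1) (.leaf (XRule.rot (nat_lit 565475423758) [526, 397, 655, 526] 420 2)) (.leaf (XRule.rot (nat_lit 11744914232631) [311, 53, 311, 698, 10] 332 1))) (.node (nat_lit 1) (.leaf (XRule.rot (nat_lit 703672497506) [354, 397, 354, 655] 304 1)) (.leaf (XRule.rot (nat_lit 380521253519) [655, 354, 397, 354] 304 0))))))) (.node (nat_lit 16) (.node (nat_lit 8) (.node (nat_lit 4) (.node (nat_lit 2) (.node (nat_lit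 1) (.leaf (XRule.rot (nat_lit 342005351376906) [10, 698, 311, 53, 311] 336 5)) (.leaf (XRule.rot (nat_lit 334350311055) [655, 311, 397, 311] 302 0))) (.node (nat_lit 1) (.leaf (XRule.rot (nat_lit 407183) [655, 397] 248 0)) (.leaf (XRule.rot (nat_lit 673097134565601) [225, 698, 569, 182, 612] 344 3)))) (.node (nat_lit 2) (.node (nat_lit 1) (.leaf (XRule.rot (nat_lit 10748618762) [10, 698, 10, 10] 258 2)) (.leaf (XRule.rot (nat_lit 565205155342) [526, 655, 397, 526] 422 0))) (.node (nat_lit 1) (.leaf (XRule.rot (nat_lit 411303464106105954232901743360432606234933051543386425655) [311, 354, 397, 268, 655, 311, 354, 397, 268, 698, 311, 354, 397, 268, 698, 311, 354, 397, 268] 432 0)) (.leaf (XRule.rot (nat_lit 371911010) [354, 698, 354] 256 0))))) (.node (nat_lit 4) (.node (nat_lit 2) (.node (nat_lit 1) (.leaf (XRule.rot (nat_lit 626326104499855) [655, 569, 655, 655, 569] 358 1)) (.leaf (XRule.rot (nat_lit 673605104538255) [655, 612, 655, 655, 612] 363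 0))) (.node (nat_lit 1) (.leaf (XRule.rot (nat_lit 625818179660001) [225, 698, 612, 182, 569] 357 4)) (.leaf (XRule.rot (nat_lit 703943030372) [612, 397, 612, 655] 273 2)))) (.node (nat_lit 2) (.node (nat_lit 1) (.leaf (XRule.rot (nat_lit 236644534) [182, 698, 225] 255 0)) (.leaf (XRule.rot (nat_lit 342098053487755) [139, 311, 655, 139, 311] 375 2))) (.node (nat_lit 1) (.leaf (XRule.rot (nat_lit 703852852750) [526, 397, 526, 655] 418 1)) (.leaf (XRule.rot (nat_lit 703627408695) [311, 397, 311, 655] 302 1)))))) (.node (nat_lit 8) (.node (nat_lit 4) (.node (nat_lit 2) (.node (nat_lit 1) (.leaf (XRule.rot (nat_lit 565205023375) [655, 526, 397, 526] 418 0)) (.leaf (XRule.rot (nat_lit 380791829858) [354, 397, 655, 354] 306 2))) (.node (nat_lit 1) (.leaf (XRule.rot (nat_lit 411303464106046020980180692310739728992075356350839097655) [311, 354, 397, 268, 698, 311, 354, 397, 268, 698, 311, 354, 397, 268, 655, 311, 354, 397, 268] 432 5)) (.leaf (XRule.rot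 (nat_lit 105887736889655) [311, 96, 655, 311, 96] 372 1)))) (.node (nat_lit 2) (.node (nat_lit 1) (.leaf (XRule.rot (nat_lit 59024184715876) [612, 10, 569, 698, 53] 316 4)) (.leaf (XRule.rot (nat_lit 11745184765540) [612, 53, 569, 698, 10] 317 3))) (.node (nat_lit 1) (.leaf (XRule.rot (nat_lit 426827726350) [526, 655, 526, 397] 420 0)) (.leaf (XRule.rot (nat_lit 672958621870090) [10, 698, 569, 53, 612] 319 5))))) (.node (nat_lit 4) (.node (nat_lit 2) (.node (nat_lit 1) (.leaf (XRule.rot (nat_lit 703401964683) [139, 397, 96, 655] 276 2)) (.leaf (XRule.rot (nat_lit 56964606005) [53, 698, 53, 53] 259 0))) (.node (nat_lit 1) (.leaf (XRule.rot (nat_lit 106302689437792) [96, 698, 96, 698, 96] 368 1)) (.leaf (XRule.rot (nat_lit 673143305463990) [182, 698, 569, 225, 612] 345 0)))) (.node (nat_lit 2) (.node (nat_lit 1) (.leaf (XRule.rot (nat_lit 59023914182967) [311, 10, 311, 698, 53] 333 0)) (.leaf (XRule.rot (nat_lit 380836698294) [182, 182, 698, 354]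 284 4))) (.node (nat_lit 1) (.leaf (XRule.rot (nat_lit 200861184919140) [612, 225, 569, 698, 182] 360 3)) (.leaf (XRule.rot (nat_lit 703447053408) [96, 397, 139, 655] 280 4)))))))) (.node (nat_lit 16) (.node (nat_lit 8) (.node (nat_lit 4) (.node (nat_lit 2) (.node (nat_lit 1) (.leaf (XRule.rot (nat_lit 720514737388855) [311, 655, 655, 311, 655] 384 1)) (.leaf (XRule.rot (nat_lit 703897941561) [569, 397, 569, 655] 270 2))) (.node (nat_lit 1) (.leaf (XRule.rot (nat_lit 248140184869476) [612, 182, 569, 698, 225] 361 2)) (.leaf (XRule.rot (nat_lit 565475555725) [397, 526, 655, 526] 422 2)))) (.node (nat_lit 2) (.node (nat_lit 1) (.leaf (XRule.rot (nat_lit 241828555106) [354, 698, 225, 225] 283 0)) (.leaf (XRule.rot (nat_lit 389284396460085) [53, 698, 354, 53, 354] 339 2))) (.node (nat_lit 1) (.leaf (XRule.rot (nat_lit 11744959277410) [354, 10, 354, 698, 10] 334 1)) (.leaf (XRule.rot (nat_lit 720837933678180) [612, 655, 655, 612, 655] 363 2))))) (.node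 (nat_lit 4) (.node (nat_lit 2) (.node (nat_lit 1) (.leaf (XRule.rot (nat_lit 426647371106) [354, 655, 354, 397] 306 0)) (.leaf (XRule.rot (nat_lit 200861230007865) [569, 225, 612, 698, 182] 347 4))) (.node (nat_lit 1) (.leaf (XRule.rot (nat_lit 389238225561610) [10, 698, 354, 10, 354] 338 5)) (.leaf (XRule.rot (nat_lit 195612567906) [354, 698, 182, 182] 282 2)))) (.node (nat_lit 2) (.node (nat_lit 1) (.leaf (XRule.rot (nat_lit 380836742369) [225, 225, 698, 354] 285 3)) (.leaf (XRule.rot (nat_lit 398910941785546383) [655, 311, 354, 397, 311, 354] 416 0))) (.node (nat_lit 1) (.leaf (XRule.rot (nat_lit 341959180478517) [53, 698, 311, 10, 311] 337 2)) (.leaf (XRule.rot (nat_lit 380791785869) [397, 354, 655, 354] 308 2)))))) (.node (nat_lit 2) (.node (nat_lit 1) (.leaf (XRule.rot (nat_lit 57640277045) [53, 53, 698, 53] 261 3)) (.leaf (XRule.rot (nat_lit 11469334538) [10, 10, 698, 10] 260 4))) (.node (nat_lit 1) (.leaf (XRule.rot (nat_lit 59023959315810)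 [354, 53, 354, 698, 53] 335 0)) (.leaf (XRule.rot (nat_lit 380521561442) [354, 655, 397, 354] 308 0))))))⟩
noncomputable def ci698 : CI := ⟨[16], (nat_lit 655), false, (.node (nat_lit 64) (.node (nat_lit 32) (.node (nat_lit 16) (.node (nat_lit 8) (.node (nat_lit 4) (.node (nat_lit 2) (.node (nat_lit 1) (.leaf Rule.defn) (.leaf Rule.copy)) (.node (nat_lit 1) (.leaf (Rule.fwd [nat_lit 655] 434 0)) (.leaf (Rule.fwd [nat_lit 397, nat_lit 698] 249 1)))) (.node (nat_lit 2) (.node (nat_lit 1) (.leaf (Rule.fwd [nat_lit 139, nat_lit 698, nat_lit 139, nat_lit 698, nat_lit 139] 367 0)) (.leaf (Rule.fwd [nat_lit 698, nat_lit 311, nat_lit 397, nat_lit 311] 303 2))) (.node (nat_lit 1) (.leaf (Rule.fwd [nat_lit 698, nat_lit 139, nat_lit 397, nat_lit 96] 277 3)) (.leaf (Rule.fwd [nat_lit 139, nat_lit 612, nat_lit 96, nat_lit 655, nat_lit 569] 341 3))))) (.node (nat_lit 4) (.node (nat_lit 2) (.node (nat_lit 1) (.leaf (Rule.fwd [nat_lit 139, nat_lit 569, nat_lit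 96, nat_lit 655, nat_lit 612] 340 4)) (.leaf (Rule.fwd [nat_lit 526, nat_lit 655, nat_lit 526] 400 2))) (.node (nat_lit 1) (.leaf (Rule.fwd [nat_lit 698, nat_lit 569, nat_lit 397, nat_lit 569] 272 1)) (.leaf (Rule.fwd [nat_lit 698, nat_lit 612, nat_lit 397, nat_lit 612] 271 3)))) (.node (nat_lit 2) (.node (nat_lit 1) (.leaf (Rule.fwd [nat_lit 53, nat_lit 655, nat_lit 612, nat_lit 10, nat_lit 569] 316 2)) (.leaf (Rule.fwd [nat_lit 53, nat_lit 655, nat_lit 569, nat_lit 10, nat_lit 612] 320 2))) (.node (nat_lit 1) (.leaf (Rule.fwd [nat_lit 96, nat_lit 698, nat_lit 96, nat_lit 655, nat_lit 96] 368 3)) (.leaf (Rule.fwd [nat_lit 569, nat_lit 655, nat_lit 139, nat_lit 569, nat_lit 96] 342 2)))))) (.node (nat_lit 8) (.node (nat_lit 4) (.node (nat_lit 2) (.node (nat_lit 1) (.leaf (Rule.fwd [nat_lit 698, nat_lit 96, nat_lit 397, nat_lit 139] 281 0)) (.leaf (Rule.fwd [nat_lit 53, nat_lit 655, nat_lit 10] 251 2))) (.node (nat_lit 1) (.leaf (Rule.fwd [nat_lit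 10, nat_lit 655, nat_lit 53] 250 3)) (.leaf (Rule.fwd [nat_lit 612, nat_lit 655, nat_lit 139, nat_lit 612, nat_lit 96] 343 5)))) (.node (nat_lit 2) (.node (nat_lit 1) (.leaf (Rule.fwd [nat_lit 182, nat_lit 655, nat_lit 612, nat_lit 225, nat_lit 569] 360 1)) (.leaf (Rule.fwd [nat_lit 526, nat_lit 397, nat_lit 526, nat_lit 698] 419 1))) (.node (nat_lit 1) (.leaf (Rule.fwd [nat_lit 10, nat_lit 655, nat_lit 612, nat_lit 53, nat_lit 569] 317 5)) (.leaf (Rule.fwd [nat_lit 612, nat_lit 10, nat_lit 569, nat_lit 655, nat_lit 53] 314 4))))) (.node (nat_lit 4) (.node (nat_lit 2) (.node (nat_lit 1) (.leaf (Rule.fwd [nat_lit 354, nat_lit 655, nat_lit 354] 256 2)) (.leaf (Rule.fwd [nat_lit 53, nat_lit 655, nat_lit 311, nat_lit 10, nat_lit 311] 333 2))) (.node (nat_lit 1) (.leaf (Rule.fwd [nat_lit 10, nat_lit 655, nat_lit 311, nat_lit 53, nat_lit 311] 332 5)) (.leaf (Rule.fwd [nat_lit 225, nat_lit 655, nat_lit 182] 255 2)))) (.node (nat_lit 2) (.node (nat_lit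 1) (.leaf (Rule.fwd [nat_lit 182, nat_lit 655, nat_lit 225] 254 3)) (.leaf (Rule.fwd [nat_lit 698, nat_lit 397] 249 2))) (.node (nat_lit 1) (.leaf (Rule.fwd [nat_lit 311, nat_lit 96, nat_lit 698, nat_lit 139, nat_lit 311] 371 5)) (.leaf (Rule.fwd [nat_lit 569, nat_lit 182, nat_lit 612, nat_lit 655, nat_lit 225] 344 5))))))) (.node (nat_lit 16) (.node (nat_lit 8) (.node (nat_lit 4) (.node (nat_lit 2) (.node (nat_lit 1) (.leaf (Rule.fwd [nat_lit 10, nat_lit 655, nat_lit 569, nat_lit 53, nat_lit 612] 321 5)) (.leaf (Rule.fwd [nat_lit 225, nat_lit 655, nat_lit 569, nat_lit 182, nat_lit 612] 346 3))) (.node (nat_lit 1) (.leaf (Rule.fwd [nat_lit 569, nat_lit 53, nat_lit 612, nat_lit 655, nat_lit 10] 319 3)) (.leaf (Rule.fwd [nat_lit 311, nat_lit 53, nat_lit 311, nat_lit 655, nat_lit 10] 336 1)))) (.node (nat_lit 2) (.node (nat_lit 1) (.leaf (Rule.fwd [nat_lit 139, nat_lit 655, nat_lit 139, nat_lit 655, nat_lit 139] 369 2)) (.leaf (Rule.fwd [nat_lit 612,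 nat_lit 53, nat_lit 569, nat_lit 655, nat_lit 10] 315 3))) (.node (nat_lit 1) (.leaf (Rule.fwd [nat_lit 10, nat_lit 655, nat_lit 10, nat_lit 10] 260 2)) (.leaf (Rule.fwd [nat_lit 698, nat_lit 311, nat_lit 698, nat_lit 698, nat_lit 311] 385 2))))) (.node (nat_lit 4) (.node (nat_lit 2) (.node (nat_lit 1) (.leaf (Rule.fwd [nat_lit 139, nat_lit 311, nat_lit 698, nat_lit 139, nat_lit 311] 373 2)) (.leaf (Rule.fwd [nat_lit 139, nat_lit 311, nat_lit 698, nat_lit 311, nat_lit 96] 371 2))) (.node (nat_lit 1) (.leaf (Rule.fwd [nat_lit 354, nat_lit 311, nat_lit 397, nat_lit 354, nat_lit 311, nat_lit 698] 417 1)) (.leaf (Rule.fwd [nat_lit 354, nat_lit 655, nat_lit 182, nat_lit 182] 284 2)))) (.node (nat_lit 2) (.node (nat_lit 1) (.leaf (Rule.fwd [nat_lit 698, nat_lit 526, nat_lit 397, nat_lit 526] 419 2)) (.leaf (Rule.fwd [nat_lit 354, nat_lit 182, nat_lit 655, nat_lit 182] 290 3))) (.node (nat_lit 1) (.leaf (Rule.fwd [nat_lit 182, nat_lit 655, nat_lit 182,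 nat_lit 354] 292 4)) (.leaf (Rule.fwd [nat_lit 311, nat_lit 96, nat_lit 698, nat_lit 311, nat_lit 96] 374 1)))))) (.node (nat_lit 8) (.node (nat_lit 4) (.node (nat_lit 2) (.node (nat_lit 1) (.leaf (Rule.fwd [nat_lit 96, nat_lit 655, nat_lit 96, nat_lit 698, nat_lit 96] 368 5)) (.leaf (Rule.fwd [nat_lit 569, nat_lit 698, nat_lit 698, nat_lit 569, nat_lit 698] 362 2))) (.node (nat_lit 1) (.leaf (Rule.fwd [nat_lit 311, nat_lit 354, nat_lit 397, nat_lit 268, nat_lit 698, nat_lit 311, nat_lit 354, nat_lit 397, nat_lit 268, nat_lit 655, nat_lit 311, nat_lit 354, nat_lit 397, nat_lit 268, nat_lit 655, nat_lit 311, nat_lit 354, nat_lit 397, nat_lit 268] 432 10)) (.leaf (Rule.fwd [nat_lit 53, nat_lit 655, nat_lit 53, nat_lit 53] 261 0)))) (.node (nat_lit 2) (.node (nat_lit 1) (.leaf (Rule.fwd [nat_lit 397, nat_lit 526, nat_lit 698, nat_lit 526] 421 1)) (.leaf (Rule.fwd [nat_lit 311, nat_lit 655, nat_lit 655, nat_lit 311, nat_lit 698] 386 4))) (.node (nat_lit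 1) (.leaf (Rule.fwd [nat_lit 53, nat_lit 53, nat_lit 655, nat_lit 53] 259 3)) (.leaf (Rule.fwd [nat_lit 698, nat_lit 311, nat_lit 655, nat_lit 655, nat_lit 311] 386 3))))) (.node (nat_lit 4) (.node (nat_lit 2) (.node (nat_lit 1) (.leaf (Rule.fwd [nat_lit 182, nat_lit 182, nat_lit 655, nat_lit 354] 282 4)) (.leaf (Rule.fwd [nat_lit 139, nat_lit 397, nat_lit 96, nat_lit 698] 277 2))) (.node (nat_lit 1) (.leaf (Rule.fwd [nat_lit 569, nat_lit 225, nat_lit 612, nat_lit 655, nat_lit 182] 345 4)) (.leaf (Rule.fwd [nat_lit 526, nat_lit 698, nat_lit 397, nat_lit 526] 421 3)))) (.node (nat_lit 2) (.node (nat_lit 1) (.leaf (Rule.fwd [nat_lit 311, nat_lit 698, nat_lit 698, nat_lit 311, nat_lit 698] 385 1)) (.leaf (Rule.fwd [nat_lit 96, nat_lit 397, nat_lit 139, nat_lit 698] 281 4))) (.node (nat_lit 1) (.leaf (Rule.fwd [nat_lit 182, nat_lit 655, nat_lit 569, nat_lit 225, nat_lit 612] 347 0)) (.leaf (Rule.fwd [nat_lit 612, nat_lit 182, nat_lit 569, nat_lit 655,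 nat_lit 225] 357 2)))))))) (.node (nat_lit 16) (.node (nat_lit 8) (.node (nat_lit 4) (.node (nat_lit 2) (.node (nat_lit 1) (.leaf (Rule.fwd [nat_lit 526, nat_lit 397, nat_lit 698, nat_lit 526] 423 1)) (.leaf (Rule.fwd [nat_lit 225, nat_lit 225, nat_lit 655, nat_lit 354] 283 3))) (.node (nat_lit 1) (.leaf (Rule.fwd [nat_lit 612, nat_lit 225, nat_lit 569, nat_lit 655, nat_lit 182] 356 3)) (.leaf (Rule.fwd [nat_lit 397, nat_lit 354, nat_lit 698, nat_lit 354] 307 1)))) (.node (nat_lit 2) (.node (nat_lit 1) (.leaf (Rule.fwd [nat_lit 311, nat_lit 397, nat_lit 311, nat_lit 698] 303 1)) (.leaf (Rule.fwd [nat_lit 569, nat_lit 10, nat_lit 612, nat_lit 655, nat_lit 53] 318 4))) (.node (nat_lit 1) (.leaf (Rule.fwd [nat_lit 612, nat_lit 698, nat_lit 698, nat_lit 612, nat_lit 698] 359 2)) (.leaf (Rule.fwd [nat_lit 698, nat_lit 354, nat_lit 397, nat_lit 354] 305 2))))) (.node (nat_lit 4) (.node (nat_lit 2) (.node (nat_lit 1) (.leaf (Rule.fwd [nat_lit 10, nat_lit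 655, nat_lit 354, nat_lit 10, nat_lit 354] 334 5)) (.leaf (Rule.fwd [nat_lit 225, nat_lit 655, nat_lit 612, nat_lit 182, nat_lit 569] 361 4))) (.node (nat_lit 1) (.leaf (Rule.fwd [nat_lit 698, nat_lit 569, nat_lit 698, nat_lit 698, nat_lit 569] 362 1)) (.leaf (Rule.fwd [nat_lit 612, nat_lit 397, nat_lit 612, nat_lit 698] 271 2)))) (.node (nat_lit 2) (.node (nat_lit 1) (.leaf (Rule.fwd [nat_lit 354, nat_lit 53, nat_lit 354, nat_lit 655, nat_lit 53] 339 0)) (.leaf (Rule.fwd [nat_lit 698, nat_lit 354, nat_lit 311, nat_lit 397, nat_lit 354, nat_lit 311] 417 2))) (.node (nat_lit 1) (.leaf (Rule.fwd [nat_lit 311, nat_lit 10, nat_lit 311, nat_lit 655, nat_lit 53] 337 0)) (.leaf (Rule.fwd [nat_lit 354, nat_lit 698, nat_lit 397, nat_lit 354] 307 3)))))) (.node (nat_lit 8) (.node (nat_lit 4) (.node (nat_lit 2) (.node (nat_lit 1) (.leaf (Rule.fwd [nat_lit 698, nat_lit 612, nat_lit 698, nat_lit 698, nat_lit 612] 359 0)) (.leaf (Rule.fwd [nat_lit 354, nat_lit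 655, nat_lit 225, nat_lit 225] 285 0))) (.node (nat_lit 1) (.leaf (Rule.fwd [nat_lit 526, nat_lit 698, nat_lit 526, nat_lit 397] 423 3)) (.leaf (Rule.fwd [nat_lit 354, nat_lit 10, nat_lit 354, nat_lit 655, nat_lit 10] 338 1)))) (.node (nat_lit 2) (.node (nat_lit 1) (.leaf (Rule.fwd [nat_lit 354, nat_lit 397, nat_lit 698, nat_lit 354] 309 1)) (.leaf (Rule.fwd [nat_lit 53, nat_lit 655, nat_lit 354, nat_lit 53, nat_lit 354] 335 2))) (.node (nat_lit 1) (.leaf (Rule.fwd [nat_lit 311, nat_lit 354, nat_lit 397, nat_lit 268, nat_lit 655, nat_lit 311, nat_lit 354, nat_lit 397, nat_lit 268, nat_lit 655, nat_lit 311, nat_lit 354, nat_lit 397, nat_lit 268, nat_lit 698, nat_lit 311, nat_lit 354, nat_lit 397, nat_lit 268] 432 15)) (.leaf (Rule.fwd [nat_lit 569, nat_lit 397, nat_lit 569, nat_lit 698] 272 2))))) (.node (nat_lit 4) (.node (nat_lit 2) (.node (nat_lit 1) (.leaf (Rule.fwd [nat_lit 10, nat_lit 10, nat_lit 655, nat_lit 10] 258 4)) (.leaf (Rule.fwd [nat_lit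 268, nat_lit 397, nat_lit 354, nat_lit 311, nat_lit 698, nat_lit 268, nat_lit 397, nat_lit 354, nat_lit 311, nat_lit 655, nat_lit 268, nat_lit 397, nat_lit 354, nat_lit 311, nat_lit 655, nat_lit 268, nat_lit 397, nat_lit 354, nat_lit 311] 433 6))) (.node (nat_lit 1) (.leaf (Rule.fwd [nat_lit 268, nat_lit 397, nat_lit 354, nat_lit 311, nat_lit 655, nat_lit 268, nat_lit 397, nat_lit 354, nat_lit 311, nat_lit 655, nat_lit 268, nat_lit 397, nat_lit 354, nat_lit 311, nat_lit 698, nat_lit 268, nat_lit 397, nat_lit 354, nat_lit 311] 433 1)) (.leaf (Rule.fwd [nat_lit 354, nat_lit 698, nat_lit 354, nat_lit 397] 309 3)))) (.node (nat_lit 2) (.node (nat_lit 1) (.leaf (Rule.fwd [nat_lit 182, nat_lit 655, nat_lit 354, nat_lit 182] 294 4)) (.leaf (Rule.fwd [nat_lit 354, nat_lit 397, nat_lit 354, nat_lit 698] 305 1))) (.leaf (Rule.fwd [nat_lit 225, nat_lit 354, nat_lit 655, nat_lit 225] 291 2))))))), (.node (nat_lit 64) (.node (nat_lit 32) (.node (nat_lit 16)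 (.node (nat_lit 8) (.node (nat_lit 4) (.node (nat_lit 2) (.node (nat_lit 1) (.leaf XRule.defn) (.leaf XRule.defn)) (.node (nat_lit 1) (.leaf (XRule.rot (nat_lit 626325518389387) [139, 612, 96, 655, 569] 341 3)) (.leaf (XRule.rot (nat_lit 657546908346) [698, 612, 397, 612] 271 3)))) (.node (nat_lit 2) (.node (nat_lit 1) (.leaf (XRule.rot (nat_lit 715149) [397, 698] 249 1)) (.leaf (XRule.rot (nat_lit 552222222) [526, 655, 526] 400 2))) (.node (nat_lit 1) (.leaf (XRule.rot (nat_lit 191511777) [225, 655, 182] 255 2)) (.leaf (XRule.rot (nat_lit 149666497210) [698, 96, 397, 139] 281 0))))) (.node (nat_lit 4) (.node (nat_lit 2) (.node (nat_lit 1) (.leaf (XRule.rot (nat_lit 106164221787705) [569, 655, 139, 569, 96] 342 2)) (.leaf (XRule.rot (nat_lit 103495642810) [698, 139, 397, 96] 277 3))) (.node (nat_lit 1) (.leaf (XRule.rot (nat_lit 673604518339723) [139, 569, 96, 655, 612] 340 4)) (.leaf (XRule.rot (nat_lit 106210392686180) [612, 655, 139, 612, 96]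 343 5)))) (.node (nat_lit 2) (.node (nat_lit 1) (.leaf (XRule.rot (nat_lit 342098098356535) [311, 96, 698, 139, 311] 371 5)) (.leaf (XRule.rot (nat_lit 477136482306443033738951597962021532024229708698959099148) [268, 397, 354, 311, 655, 268, 397, 354, 311, 655, 268, 397, 354, 311, 698, 268, 397, 354, 311] 433 1))) (.node (nat_lit 1) (.leaf (XRule.rot (nat_lit 105887782198411) [139, 311, 698, 311, 96] 371 2)) (.leaf (XRule.rot (nat_lit 11156533) [53, 655, 10] 251 2)))))) (.node (nat_lit 8) (.node (nat_lit 4) (.node (nat_lit 2) (.node (nat_lit 1) (.leaf (XRule.rot (nat_lit 56245258) [10, 655, 53] 250 3)) (.leaf (XRule.rot (nat_lit 106256518539360) [96, 698, 96, 655, 96] 368 3))) (.node (nat_lit 1) (.leaf (XRule.rot (nat_lit 153581734520971) [139, 698, 139, 698, 139] 367 0)) (.leaf (XRule.rot (nat_lit 611375965882) [698, 569, 397, 569] 272 1)))) (.node (nat_lit 2) (.node (nat_lit 1) (.leaf (XRule.rot (nat_lit 655) [655] 434 0)) (.leaf (XRule.rot (nat_lit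 625633496022069) [53, 655, 612, 10, 569] 316 2))) (.node (nat_lit 1) (.leaf (XRule.rot (nat_lit 672912450927669) [53, 655, 569, 10, 612] 320 2)) (.leaf (XRule.rot (nat_lit 334350311098) [698, 311, 397, 311] 303 2))))) (.node (nat_lit 4) (.node (nat_lit 2) (.node (nat_lit 1) (.leaf (XRule.rot (nat_lit 750113928804) [612, 397, 612, 698] 271 2)) (.leaf (XRule.rot (nat_lit 342652104269498) [698, 311, 655, 655, 311] 386 3))) (.node (nat_lit 1) (.leaf (XRule.rot (nat_lit 342005351332874) [10, 655, 311, 53, 311] 332 5)) (.leaf (XRule.rot (nat_lit 341959180434485) [53, 655, 311, 10, 311] 333 2)))) (.node (nat_lit 2) (.node (nat_lit 1) (.leaf (XRule.rot (nat_lit 236600502) [182, 655, 225] 254 3)) (.leaf (XRule.rot (nat_lit 106302689393760) [96, 655, 96, 698, 96] 368 5))) (.node (nat_lit 1) (.leaf (XRule.rot (nat_lit 153535563578507) [139, 655, 139, 655, 139] 369 2)) (.leaf (XRule.rot (nat_lit 248094059059769) [569, 182, 612, 655, 225] 344 5))))))) (.node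 (nat_lit 16) (.node (nat_lit 8) (.node (nat_lit 4) (.node (nat_lit 2) (.node (nat_lit 1) (.leaf (XRule.rot (nat_lit 625864350514358) [182, 655, 612, 225, 569] 360 1)) (.leaf (XRule.rot (nat_lit 11698743334199) [311, 53, 311, 655, 10] 336 1))) (.node (nat_lit 1) (.leaf (XRule.rot (nat_lit 749572863115) [139, 397, 96, 698] 277 2)) (.leaf (XRule.rot (nat_lit 342098098576523) [139, 311, 698, 139, 311] 373 2)))) (.node (nat_lit 2) (.node (nat_lit 1) (.leaf (XRule.rot (nat_lit 407226) [698, 397] 249 2)) (.leaf (XRule.rot (nat_lit 673097134521569) [225, 655, 569, 182, 612] 346 3))) (.node (nat_lit 1) (.leaf (XRule.rot (nat_lit 10748574730) [10, 655, 10, 10] 260 2)) (.leaf (XRule.rot (nat_lit 380836874637) [397, 354, 698, 354] 307 1))))) (.node (nat_lit 4) (.node (nat_lit 2) (.node (nat_lit 1) (.leaf (XRule.rot (nat_lit 750068839993) [569, 397, 569, 698] 272 2)) (.leaf (XRule.rot (nat_lit 411303464106105954232901743307201184545661699722724084023) [311,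 354, 397, 268, 655, 311, 354, 397, 268, 655, 311, 354, 397, 268, 698, 311, 354, 397, 268] 432 15))) (.node (nat_lit 1) (.leaf (XRule.rot (nat_lit 565520512526) [526, 397, 698, 526] 423 1)) (.leaf (XRule.rot (nat_lit 750023751182) [526, 397, 526, 698] 419 1)))) (.node (nat_lit 2) (.node (nat_lit 1) (.leaf (XRule.rot (nat_lit 749798307127) [311, 397, 311, 698] 303 1)) (.leaf (XRule.rot (nat_lit 411303464106046020980180692257508307302804004530176756023) [311, 354, 397, 268, 698, 311, 354, 397, 268, 655, 311, 354, 397, 268, 655, 311, 354, 397, 268] 432 10))) (.node (nat_lit 1) (.leaf (XRule.rot (nat_lit 625818179615969) [225, 655, 612, 182, 569] 361 4)) (.leaf (XRule.rot (nat_lit 58978013817444) [612, 10, 569, 655, 53] 314 4)))))) (.node (nat_lit 8) (.node (nat_lit 4) (.node (nat_lit 2) (.node (nat_lit 1) (.leaf (XRule.rot (nat_lit 11699013867108) [612, 53, 569, 655, 10] 315 3)) (.leaf (XRule.rot (nat_lit 342698320256698) [698, 311, 698, 698, 311] 385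 2))) (.node (nat_lit 1) (.leaf (XRule.rot (nat_lit 58978058906169) [569, 10, 612, 655, 53] 318 4)) (.leaf (XRule.rot (nat_lit 11699058955833) [569, 53, 612, 655, 10] 319 3)))) (.node (nat_lit 2) (.node (nat_lit 1) (.leaf (XRule.rot (nat_lit 673143305419958) [182, 655, 569, 225, 612] 347 0)) (.leaf (XRule.rot (nat_lit 672958621826058) [10, 655, 569, 53, 612] 321 5))) (.node (nat_lit 1) (.leaf (XRule.rot (nat_lit 58977743284535) [311, 10, 311, 655, 53] 337 0)) (.leaf (XRule.rot (nat_lit 380791609526) [182, 182, 655, 354] 282 4))))) (.node (nat_lit 4) (.node (nat_lit 2) (.node (nat_lit 1) (.leaf (XRule.rot (nat_lit 565205023418) [698, 526, 397, 526] 419 2)) (.leaf (XRule.rot (nat_lit 749617951840) [96, 397, 139, 698] 281 4))) (.node (nat_lit 1) (.leaf (XRule.rot (nat_lit 767793737383223) [311, 655, 655, 311, 698] 386 4)) (.leaf (XRule.rot (nat_lit 200815014020708) [612, 225, 569, 655, 182] 356 3)))) (.node (nat_lit 2) (.node (nat_lit 1) (.leaf (XRule.rot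 (nat_lit 105887781978423) [311, 96, 698, 311, 96] 374 1)) (.leaf (XRule.rot (nat_lit 625679666920458) [10, 655, 612, 53, 569] 317 5))) (.node (nat_lit 1) (.leaf (XRule.rot (nat_lit 565520644493) [397, 526, 698, 526] 421 1)) (.leaf (XRule.rot (nat_lit 200815059109433) [569, 225, 612, 655, 182] 345 4)))))))) (.node (nat_lit 16) (.node (nat_lit 8) (.node (nat_lit 4) (.node (nat_lit 2) (.node (nat_lit 1) (.leaf (XRule.rot (nat_lit 749843395938) [354, 397, 354, 698] 305 1)) (.leaf (XRule.rot (nat_lit 196108015970) [354, 182, 655, 182] 290 3))) (.node (nat_lit 1) (.leaf (XRule.rot (nat_lit 380296117430) [182, 655, 182, 354] 292 4)) (.leaf (XRule.rot (nat_lit 565205199374) [526, 698, 397, 526] 421 3)))) (.node (nat_lit 2) (.node (nat_lit 1) (.leaf (XRule.rot (nat_lit 426827770382) [526, 698, 526, 397] 423 3)) (.leaf (XRule.rot (nat_lit 241828511074) [354, 655, 225, 225] 285 0))) (.node (nat_lit 1) (.leaf (XRule.rot (nat_lit 768116978805348) [612, 698,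 698, 612, 698] 359 2)) (.leaf (XRule.rot (nat_lit 195612523874) [354, 655, 182, 182] 284 2))))) (.node (nat_lit 4) (.node (nat_lit 2) (.node (nat_lit 1) (.leaf (XRule.rot (nat_lit 371866978) [354, 655, 354] 256 2)) (.leaf (XRule.rot (nat_lit 11698788378978) [354, 10, 354, 655, 10] 338 1))) (.node (nat_lit 1) (.leaf (XRule.rot (nat_lit 380521605474) [354, 698, 397, 354] 307 3)) (.leaf (XRule.rot (nat_lit 389238225517578) [10, 655, 354, 10, 354] 334 5)))) (.node (nat_lit 2) (.node (nat_lit 1) (.leaf (XRule.rot (nat_lit 380791653601) [225, 225, 655, 354] 283 3)) (.leaf (XRule.rot (nat_lit 56964561973) [53, 655, 53, 53] 261 0))) (.node (nat_lit 1) (.leaf (XRule.rot (nat_lit 389284396416053) [53, 655, 354, 53, 354] 335 2)) (.leaf (XRule.rot (nat_lit 768070807906873) [569, 698, 698, 569, 698] 362 2)))))) (.node (nat_lit 2) (.node (nat_lit 1) (.leaf (XRule.rot (nat_lit 57595188277) [53, 53, 655, 53] 259 3)) (.leaf (XRule.rot (nat_lit 11424245770) [10,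 10, 655, 10] 258 4))) (.leaf (XRule.rot (nat_lit 58977788417378) [354, 53, 354, 655, 53] 339 0)))))⟩
noncomputable def outer : Tr CI := (.node (nat_lit 2) (.node (nat_lit 1) (.node (nat_lit 4) (.node (nat_lit 8) (.node (nat_lit 32) (.leaf ci0) (.leaf ci96)) (.leaf ci440)) (.node (nat_lit 8) (.leaf ci612) (.leaf ci268))) (.node (nat_lit 4) (.node (nat_lit 8) (.leaf ci225) (.leaf ci569)) (.node (nat_lit 8) (.leaf ci53) (.leaf ci397)))) (.node (nat_lit 1) (.node (nat_lit 4) (.node (nat_lit 8) (.leaf ci354) (.node (nat_lit 16) (.leaf ci10) (.leaf ci698))) (.node (nat_lit 8) (.leaf ci182) (.leaf ci526))) (.node (nat_lit 4) (.node (nat_lit 8) (.leaf ci483) (.leaf ci139)) (.node (nat_lit 8) (.leaf ci311) (.leaf ci655)))))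
def cols : List ℕ := [nat_lit 10, nat_lit 53, nat_lit 96, nat_lit 139, nat_lit 182, nat_lit 225, nat_lit 268, nat_lit 311, nat_lit 354, nat_lit 397, nat_lit 440, nat_lit 483, nat_lit 526, nat_lit 569, nat_lit 612, nat_lit 655, nat_lit 698]
def invL : List ℕ := [1, 0, 3, 2, 5, 4, 6, 7, 8, 9, 10, 11, 12, 14, 13, 16, 15]
def rels : List (List ℕ) := [[0, 0, 0], [2, 2, 2], [0, 8, 0, 8], [0, 9, 1, 9], [0, 7, 1, 7], [2, 8, 3, 8], [2, 9, 3, 9], [2, 7, 2, 7], [8, 9, 8, 9], [8, 6, 8, 6], [8, 7, 8, 7], [8, 10, 8, 10], [9, 6, 9, 6], [9, 7, 9, 7], [6, 7, 6, 7], [6, 10, 6, 10], [7, 10, 7, 10], [0, 8, 6, 0, 6, 1, 6], [0, 8, 10, 0, 10, 1, 10], [8, 9, 6, 7, 10, 9, 10], [0, 2, 1, 2, 0, 3, 1, 3], [0, 6, 2, 6, 1, 6, 3, 6], [2, 6, 3, 10, 2, 6, 3, 10], [4, 4, 8], [4, 9, 5, 9], [0, 3, 4, 1, 5, 2], [2, 4, 2, 4, 2, 5], [2, 7, 4, 2, 7, 4], [4, 6, 4, 6, 5, 6, 5, 6], [4, 10, 4, 10, 5, 10, 5, 10], [4, 6, 10, 3, 6, 3, 10, 5, 10, 2, 6, 2, 10, 6], [0, 7, 9, 1, 7, 9], [2, 7, 9,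 2, 7, 9], [4, 11, 5, 11], [6, 7, 9, 6, 7, 9], [6, 11, 6, 11], [7, 9, 11, 7, 9, 11], [7, 9, 8, 7, 9, 8], [11, 8, 11, 8], [0, 0, 7, 9, 0, 7, 9], [2, 2, 7, 9, 3, 7, 9], [4, 4, 6, 8, 6], [4, 4, 7, 9, 8, 7, 9], [4, 4, 11, 8, 11], [4, 11, 4, 11, 8], [4, 11, 4, 8, 11], [11, 0, 2, 0, 3, 1, 2, 1, 11, 0, 3, 0, 2, 1, 3, 1], [11, 0, 7, 9, 6, 8, 1, 11, 0, 8, 6, 7, 9, 1], [11, 0, 7, 9, 6, 8, 0, 2, 0, 3, 1, 2, 1, 1, 11, 0, 7, 9, 6, 8, 0, 2, 0, 3, 1, 2, 1, 1, 11, 0, 7, 9, 6, 8, 0, 2, 0, 3, 1, 2, 1, 1], [11, 0, 2, 0, 3, 1, 2, 1, 3, 3, 11, 0, 2, 0, 3, 1, 2, 1, 3, 3, 11, 0, 2, 0, 3, 1, 2, 1, 3, 3, 8], [11, 9, 11, 9], [11, 6, 10, 3, 6, 3, 10, 11, 10, 2, 6, 2, 10, 6], [11, 10, 11, 10], [13, 13, 13], [0, 13, 1, 14], [13, 8, 14, 8], [13, 9, 13, 9], [13, 6, 14, 10], [13, 7, 14, 7], [0, 0, 13, 0, 14], [0, 0, 14, 0, 13], [0, 0, 8, 1, 8], [0, 0, 9, 0, 9], [0, 0, 7, 0, 7], [13, 13, 8, 13, 8], [13, 13, 9, 14, 9], [13, 13, 7, 13, 7], [13, 13, 10, 13, 6], [2, 2, 8, 2, 8], [2,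 2, 9, 2, 9], [2, 2, 7, 3, 7], [0, 13, 1, 6, 14, 10], [0, 13, 8, 0, 8, 14], [0, 13, 9, 1, 9, 14], [0, 13, 7, 1, 7, 14], [0, 14, 8, 0, 8, 13], [0, 14, 9, 1, 9, 13], [0, 14, 7, 1, 7, 13], [0, 8, 0, 6, 8, 6], [0, 8, 0, 10, 8, 10], [0, 8, 9, 0, 9, 8], [0, 8, 7, 0, 7, 8], [0, 9, 1, 6, 9, 6], [0, 9, 7, 1, 7, 9], [0, 6, 14, 10, 1, 13], [0, 6, 9, 6, 1, 9], [0, 7, 1, 10, 7, 10], [0, 10, 7, 10, 1, 7], [13, 13, 10, 14, 14, 6], [13, 8, 14, 6, 8, 6], [13, 8, 9, 13, 9, 8], [13, 8, 6, 14, 10, 8], [13, 8, 7, 14, 7, 8], [13, 9, 6, 13, 9, 10], [13, 9, 7, 13, 7, 9], [13, 9, 10, 13, 6, 9], [13, 9, 10, 9, 14, 6], [13, 6, 7, 14, 10, 7], [13, 10, 14, 9, 10, 9], [13, 10, 2, 10, 14, 2], [13, 10, 8, 10, 14, 8], [13, 10, 9, 13, 10, 9], [13, 10, 6, 10, 14, 10], [13, 10, 7, 10, 14, 7], [2, 8, 3, 6, 8, 6], [2, 8, 3, 10, 8, 10], [2, 8, 9, 3, 9, 8], [2, 8, 7, 2, 7, 8], [2, 9, 3, 6, 9, 6], [2, 9, 7, 2, 7, 9], [2, 6, 8, 6, 3, 8], [2, 6, 9, 6, 3, 9], [2, 7, 2, 10, 7, 10], [2, 10,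 8, 10, 3, 8], [8, 9, 6, 8, 6, 9], [8, 9, 7, 8, 7, 9], [8, 9, 10, 8, 10, 9], [8, 6, 7, 8, 7, 6], [8, 6, 10, 8, 10, 6], [8, 7, 10, 8, 10, 7], [9, 6, 9, 10, 6, 10], [9, 6, 7, 9, 7, 6], [9, 7, 9, 10, 7, 10], [6, 7, 10, 6, 10, 7], [15, 15, 9], [0, 15, 1, 16], [13, 4, 14, 5], [4, 15, 5, 16], [15, 8, 16, 8], [0, 0, 15, 0, 16], [0, 0, 16, 0, 15], [0, 4, 4, 0, 8], [0, 5, 5, 0, 8], [13, 13, 4, 13, 5], [13, 13, 5, 13, 4], [13, 15, 15, 13, 9], [13, 16, 16, 13, 9], [2, 4, 4, 3, 8], [2, 15, 15, 3, 9], [2, 8, 3, 4, 4], [2, 9, 3, 15, 15], [4, 4, 15, 8, 16], [4, 4, 16, 8, 15], [4, 4, 7, 8, 7], [4, 4, 9, 8, 9], [4, 15, 4, 16, 8], [4, 15, 4, 8, 16], [4, 15, 8, 4, 16], [4, 16, 4, 8, 15], [4, 8, 9, 4, 9], [4, 9, 4, 9, 8], [15, 15, 7, 9, 7], [15, 15, 8, 9, 8], [15, 8, 15, 8, 9], [15, 8, 15, 9, 8], [0, 13, 1, 4, 14, 5], [0, 13, 1, 5, 14, 4], [0, 13, 15, 1, 16, 14], [0, 13, 16, 1, 15, 14], [0, 14, 15, 1, 16, 13], [0, 14, 16, 1, 15, 13], [0, 3, 5, 0, 4, 2], [0, 4, 13, 5,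 1, 14], [0, 4, 4, 0, 4, 4], [0, 5, 13, 4, 1, 14], [0, 5, 5, 0, 5, 5], [0, 15, 7, 1, 7, 16], [0, 15, 8, 0, 8, 16], [0, 16, 7, 1, 7, 15], [0, 16, 8, 0, 8, 15], [13, 2, 15, 14, 16, 3], [13, 2, 16, 13, 15, 3], [13, 4, 14, 15, 5, 16], [13, 4, 14, 16, 5, 15], [13, 4, 7, 14, 7, 5], [13, 4, 9, 13, 9, 5], [13, 5, 7, 14, 7, 4], [13, 5, 9, 13, 9, 4], [13, 15, 4, 16, 14, 5], [13, 15, 15, 13, 15, 15], [13, 16, 4, 15, 14, 5], [13, 16, 16, 13, 16, 16], [2, 5, 2, 5, 2, 5], [2, 15, 2, 15, 2, 15], [2, 15, 2, 16, 2, 16], [2, 15, 3, 7, 15, 7], [2, 15, 7, 2, 15, 7], [2, 16, 7, 2, 16, 7], [2, 7, 4, 7, 3, 4], [2, 7, 5, 2, 7, 5], [4, 4, 7, 4, 4, 7], [4, 4, 7, 5, 5, 7], [15, 15, 7, 15, 15, 7], [15, 15, 7, 16, 16, 7], [7, 8, 9, 7, 9, 8], [12, 0, 10, 0, 10, 11, 10, 1, 10, 1, 9, 7, 9, 6, 8], [12, 8, 12, 8], [12, 0, 2, 0, 3, 0, 12, 1, 2, 1, 3, 1], [13, 7, 8, 14, 7, 8], [3, 7, 8, 3, 7, 8], [15, 12, 16, 12], [7, 8, 9, 6, 7, 8, 7, 8, 9, 6, 7, 8], [7, 8, 9, 6, 12, 7, 8, 9, 6, 12],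 [7, 8, 12, 7, 8, 12], [12, 9, 12, 9], [13, 13, 7, 8, 13, 7, 8], [3, 3, 7, 8, 2, 7, 8], [15, 15, 7, 8, 9, 6, 9, 7, 8, 9, 6], [15, 15, 7, 8, 9, 7, 8], [15, 15, 12, 9, 12], [15, 12, 15, 12, 9], [15, 12, 15, 9, 12], [12, 13, 3, 13, 2, 14, 3, 14, 12, 13, 2, 13, 3, 14, 2, 14], [12, 13, 7, 8, 7, 8, 9, 6, 9, 14, 12, 13, 9, 7, 8, 9, 6, 7, 8, 14], [12, 13, 7, 8, 7, 8, 9, 6, 9, 13, 3, 13, 2, 14, 3, 14, 14, 12, 13, 7, 8, 7, 8, 9, 6, 9, 13, 3, 13, 2, 14, 3, 14, 14, 12, 13, 7, 8, 7, 8, 9, 6, 9, 13, 3, 13, 2, 14, 3, 14, 14], [12, 13, 3, 13, 2, 14, 3, 14, 2, 2, 12, 13, 3, 13, 2, 14, 3, 14, 2, 2, 12, 13, 3, 13, 2, 14, 3, 14, 2, 2, 9], [15, 7, 8, 9, 6, 15, 7, 8, 9, 6, 16, 7, 8, 9, 6, 16, 7, 8, 9, 6]]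
def subs : List (List ℕ) := [[0], [2], [4], [6], [7], [8], [9], [10], [11], [12]]
noncomputable def row (n : ℕ) : ℕ := rowOf (fun h => rows.get h) (nat_lit 4) (nat_lit 15) (nat_lit 741) (nat_lit 0x1fffffffffffffffffffffffffffffffffffffffffffffffffffffffffffffffffffffffffffffffffffffffffffffffffffffffffffffffffffffffffffffffffffffffffffffffffffffffffffffffffffffffffffffffffffffffff) n
noncomputable def xleaf (h : ℕ) : ℕ := recs.get h
noncomputable def mF : ℕ → ℕ := mainRow row (rowChk row xleaf outer (nat_lit 18) (nat_lit 262143) (nat_lit 255) (nat_lit 26) (nat_lit 67108863) (nat_lit 8796093022207) (nat_lit 131072) (nat_lit 69888) (nat_lit 196096) (nat_lit 10) (nat_lit 1023) (nat_lit 28) (nat_lit 268435455) (nat_lit 8) (nat_lit 255) cols)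
noncomputable def xF : ℕ → ℕ → ℕ := xLeaf row xleaf outer (nat_lit 262143) (nat_lit 26) (nat_lit 8796093022207) (nat_lit 131072) (nat_lit 69888) (nat_lit 10) (nat_lit 1023) (nat_lit 28) (nat_lit 268435455) (nat_lit 268434432) (nat_lit 8) (nat_lit 255) (nat_lit 18) (nat_lit 262143) (nat_lit 10) (nat_lit 1023) (nat_lit 698) (nat_lit 71565312) (nat_lit 128)
noncomputable def cert : Cert := ⟨row, xleaf, outer, cols, nat_lit 18, nat_lit 262143, nat_lit 255, nat_lit 26, nat_lit 67108863, nat_lit 8796093022207, nat_lit 131072, nat_lit 69888, nat_lit 196096, nat_lit 10, nat_lit 1023, nat_lit 28, nat_lit 268435455, nat_lit 268434432, nat_lit 8, nat_lit 255, nat_lit 18, nat_lit 262143, nat_lit 10, nat_lit 1023, nat_lit 698, nat_lit 71565312, nat_lit 128, nat_lit 43, nat_lit 98048, nat_lit 766⟩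
theorem tabok : tabOK (fun i => invL.getD i i) rels subs outer cols (nat_lit 10) (nat_lit 698) = true := by decide +kernel

end CL.TC.F4C
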